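import Cfsg.Agent.Lib.JanThom.Shape

/-!
Vectors of norm three against the two shapes, and the small combinatorial contradictions used for
the fixed-point case.
-/

set_option autoImplicit false
set_option linter.unusedSectionVars false

namespace Cfsg.Agent.JanThom

open scoped Classical

variable {X : Type*} [Fintype X]

/-- The support of an integer vector. -/
noncomputable def supp (a : X → ℤ) : Finset X := Finset.univ.filter fun i => a i ≠ 0

theorem mem_supp {a : X → ℤ} {i : X} : i ∈ supp a ↔ a i ≠ 0 := by simp [supp]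

theorem norm_three {a : X → ℤ} (h : ∑ i, a i * a i = 3) :
    (∀ i, a i = 0 ∨ a i = 1 ∨ a i = -1) ∧ (supp a).card = 3 := by
  have h1 : ∀ i, a i = 0 ∨ a i = 1 ∨ a i = -1 := fun i => by
    have h' := Cols.sq_le a i
    rw [h] at h'
    have : -2 < a i ∧ a i < 2 := by constructor <;> nlinarith
    omega
  refine ⟨h1, ?_⟩
  have h' := Cols.card_supp h1
  rw [h] at h'
  exact_mod_cast h'

theorem sum_supp {a f : X → ℤ} : ∑ i, a i * f i = ∑ i ∈ supp a, a i * f i :=
  (Finset.sum_subset (Finset.subset_univ _) fun i _ hi => by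
    rw [mem_supp, not_not] at hi; rw [hi, zero_mul]).symm

namespace Cols

variable (c : Cols X)

/-- A vector supported on a pair moved by `τ` and a fixed row. -/
def DType (a : X → ℤ) : Prop :=
  ∃ x F : X, c.w x ≠ 0 ∧ c.τ (c.τ x) = x ∧ c.τ F = F ∧ c.w F = 0 ∧ x ≠ c.τ x ∧ F ≠ x ∧ F ≠ c.τ x ∧
    a (c.τ x) = a x ∧ a x ≠ 0 ∧ a F ≠ 0 ∧ supp a = {x, c.τ x, F}

theorem dtype_of_mem {a : X → ℤ} (h3 : ∑ i, a i * a i = 3) (hτ : ∀ i, a (c.τ i) = a i) {x : X}
    (hx : a x ≠ 0) (hw : c.w x ≠ 0) : c.DType a := by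
  have hc := (norm_three h3).2
  have hne : x ≠ c.τ x := (c.τ_ne hw).symm
  have hx' : c.τ x ∈ supp a := mem_supp.2 (by rwa [hτ])
  obtain ⟨F, hF, hF'⟩ := Finset.exists_mem_notMem_of_card_lt_card
    (show ({x, c.τ x} : Finset X).card < (supp a).card by rw [Finset.card_pair hne, hc]; omega)
  simp only [Finset.mem_insert, Finset.mem_singleton, not_or] at hF'
  have hS : supp a = {x, c.τ x, F} := by
    refine (Finset.eq_of_subset_of_card_le ?_ ?_).symm
    · intro i hi
      simp only [Finset.mem_insert, Finset.mem_singleton] at hi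
      rcases hi with rfl | rfl | rfl
      exacts [mem_supp.2 hx, hx', hF]
    · rw [hc, Finset.card_insert_of_notMem (by simp [hne, Ne.symm hF'.1]),
        Finset.card_pair (Ne.symm hF'.2)]
  have hττ : c.τ (c.τ x) = x := by
    have hm : c.τ (c.τ x) ∈ supp a := mem_supp.2 (by rwa [hτ, hτ])
    rw [hS] at hm
    simp only [Finset.mem_insert, Finset.mem_singleton] at hm
    rcases hm with h | h | h
    · exact h
    · exact absurd (c.τ.injective h) hne.symm
    · exfalso
      have hm2 : c.τ (c.τ (c.τ x)) ∈ supp a := mem_supp.2 (by rwa [hτ, hτ, hτ])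
      rw [hS] at hm2
      simp only [Finset.mem_insert, Finset.mem_singleton] at hm2
      rcases hm2 with h' | h' | h'
      · have := congrArg c.w h'
        rw [c.τw, c.τw, c.τw] at this
        omega
      · have := c.τ.injective h'
        rw [h] at this; exact hF'.1 this
      · rw [← h] at h'
        exact hne (c.τ.injective (c.τ.injective h')).symm
  have hτF : c.τ F = F := by
    have hm : c.τ F ∈ supp a := mem_supp.2 (by rw [hτ]; exact mem_supp.1 hF)
    rw [hS] at hm
    simp only [Finset.mem_insert, Finset.mem_singleton] at hm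
    rcases hm with h | h | h
    · exact absurd (c.τ.injective (h.trans hττ.symm)) hF'.2
    · exact absurd (c.τ.injective h) hF'.1
    · exact h
  have hwF : c.w F = 0 := by
    by_contra h; exact c.τ_ne h hτF
  exact ⟨x, F, hw, hττ, hτF, hwF, hne, hF'.1, hF'.2, hτ x, hx, mem_supp.1 hF, hS⟩

theorem sum_pair_zero {a : X → ℤ} (hτ : ∀ i, a (c.τ i) = a i) : ∑ i, a i * c.w i = 0 := by
  have h := Equiv.sum_comp c.τ fun i => a i * c.w i
  simp only [hτ, c.τw, mul_neg, Finset.sum_neg_distrib] at h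
  omega

variable {c}

/-- Norm three vectors in the shape with eight rows. -/
theorem Eight.test (E : c.Eight) {a : X → ℤ} {s : ℤ} (hs : s = 1 ∨ s = -1)
    (h3 : ∑ i, a i * a i = 3) (ho : a c.o = 0) (hτ : ∀ i, a (c.τ i) = a i)
    (he : ∑ i, a i * c.e i = 2 * s) (hb : ∑ i, a i * c.b i = 0) :
    c.DType a ∨ ∃ P F : X, (P = E.B ∨ P = E.C) ∧ a E.A * c.e E.A = s ∧ a P * c.e P = s ∧
      c.e F = 0 ∧ c.b F = 0 ∧ c.w F = 0 ∧ a F ≠ 0 ∧ supp a = {E.A, P, F} := by
  by_cases hx : ∃ x, a x ≠ 0 ∧ c.w x ≠ 0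
  · obtain ⟨x, h1, h2⟩ := hx
    exact Or.inl (c.dtype_of_mem h3 hτ h1 h2)
  push Not at hx
  right
  obtain ⟨hsmall, hcard⟩ := norm_three h3
  have hf : ∀ i, a i * c.e i = (if i ∈ c.bS then a i * c.e i else 0) := fun i => by
    split_ifs with h
    · rfl
    · by_cases ha : a i = 0
      · rw [ha, zero_mul]
      · have := (E.e_ne i).not.2 (by simp [Finset.mem_union, h, c.mem_wS, hx i ha])
        rw [not_not] at this; rw [this, mul_zero]
  rw [Finset.sum_congr rfl fun i _ => hf i, Finset.sum_ite_mem, Finset.univ_inter] at he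
  have hb' : ∑ i ∈ c.bS, a i * c.b i = 0 := by
    rw [Finset.sum_subset (Finset.subset_univ _) fun i _ hi => by
      rw [c.mem_bS, not_not] at hi; rw [hi, mul_zero]]
    exact hb
  obtain ⟨noA, noB, noC, nAB, nAC, nBC, -⟩ := E.ne
  have hsum : ∀ f : X → ℤ, ∑ i ∈ c.bS, f i = f c.o + (f E.A + (f E.B + f E.C)) := fun f => by
    rw [E.bS_eq, Finset.sum_insert (by simp [noA, noB, noC]), Finset.sum_insert (by simp [nAB, nAC]),
      Finset.sum_pair nBC]
  rw [hsum, ho, zero_mul, zero_add] at he hb'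
  -- express everything through the products `a * b`
  have hconv : ∀ i σ, c.e i * c.b i = σ → (σ = 1 ∨ σ = -1) → a i * c.e i = σ * (a i * c.b i) := by
    intro i σ h hσ
    have hb0 := c.abs_b i
    rcases hb0 with hb0 | hb0 | hb0 <;> rw [hb0] at h ⊢ <;> first
      | (rw [mul_zero] at h; omega)
      | (have : c.e i = σ := by linarith
         rw [this]; ring)
      | (have : c.e i = -σ := by linarith
         rw [this]; ring)
  have eA := hconv _ _ E.eb_A (Or.inl rfl)
  have eB := hconv _ _ E.eb_B (Or.inr rfl)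
  have eC := hconv _ _ E.eb_C (Or.inr rfl)
  rw [eA, eB, eC] at he
  have bound : ∀ i, -1 ≤ a i * c.b i ∧ a i * c.b i ≤ 1 := fun i => by
    rcases hsmall i with h | h | h <;> rcases c.abs_b i with h' | h' | h' <;> rw [h, h'] <;> norm_num
  have b1 := bound E.A
  have b2 := bound E.B
  have b3 := bound E.C
  have hA : a E.A * c.e E.A = s := by rw [eA]; omega
  have hAne : a E.A ≠ 0 := fun h => by rw [h, zero_mul] at hA; omega
  have third : ∀ P : X, E.A ≠ P → a P ≠ 0 →
      ∃ F, a F ≠ 0 ∧ F ≠ E.A ∧ F ≠ P ∧ supp a = {E.A, P, F} := by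
    intro P hP hPne
    obtain ⟨F, hF, hF'⟩ := Finset.exists_mem_notMem_of_card_lt_card
      (show ({E.A, P} : Finset X).card < (supp a).card by rw [Finset.card_pair hP, hcard]; omega)
    simp only [Finset.mem_insert, Finset.mem_singleton, not_or] at hF'
    refine ⟨F, mem_supp.1 hF, hF'.1, hF'.2, (Finset.eq_of_subset_of_card_le ?_ ?_).symm⟩
    · intro i hi
      simp only [Finset.mem_insert, Finset.mem_singleton] at hi
      rcases hi with rfl | rfl | rfl
      exacts [mem_supp.2 hAne, mem_supp.2 hPne, hF]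
    · rw [hcard, Finset.card_insert_of_notMem (by simp [hP, Ne.symm hF'.1]),
        Finset.card_pair (Ne.symm hF'.2)]
  have finish : ∀ P P' : X, (P = E.B ∨ P = E.C) → E.A ≠ P → a P * c.e P = s → a P' = 0 →
      c.bS = {c.o, E.A, P, P'} → ∃ P F : X, (P = E.B ∨ P = E.C) ∧ a E.A * c.e E.A = s ∧
        a P * c.e P = s ∧ c.e F = 0 ∧ c.b F = 0 ∧ c.w F = 0 ∧ a F ≠ 0 ∧ supp a = {E.A, P, F} := by
    intro P P' hP hAP hval hP' hbS
    have hPne : a P ≠ 0 := fun h => by rw [h, zero_mul] at hval; omega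
    obtain ⟨F, hF, hFA, hFP, hS⟩ := third P hAP hPne
    have hFb : F ∉ c.bS := by
      rw [hbS]
      simp only [Finset.mem_insert, Finset.mem_singleton, not_or]
      exact ⟨fun h => hF (h ▸ ho), hFA, hFP, fun h => hF (h ▸ hP')⟩
    refine ⟨P, F, hP, hA, hval, ?_, ?_, hx F hF, hF, hS⟩
    · have := (E.e_ne F).not.2 (by simp [Finset.mem_union, hFb, c.mem_wS, hx F hF])
      rwa [not_not] at this
    · rwa [c.mem_bS, not_not] at hFb
  by_cases hBz : a E.B = 0
  · refine finish E.C E.B (Or.inr rfl) nAC ?_ hBz (by rw [E.bS_eq, Finset.pair_comm])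
    rw [eC]; rw [hBz, zero_mul] at he hb'; omega
  · refine finish E.B E.C (Or.inl rfl) nAB ?_ ?_ E.bS_eq
    · rw [eB]
      have : a E.B * c.b E.B ≠ 0 := mul_ne_zero hBz (fun h => by
        have := E.eb_B; rw [h, mul_zero] at this; omega)
      omega
    · have : a E.B * c.b E.B ≠ 0 := mul_ne_zero hBz (fun h => by
        have := E.eb_B; rw [h, mul_zero] at this; omega)
      have h0 : a E.C * c.b E.C = 0 := by omega
      exact (mul_eq_zero.1 h0).resolve_right fun h => by
        have := E.eb_C; rw [h, mul_zero] at this; omega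

/-- Norm three vectors in the shape with a row `e = ±2`. -/
theorem Four.test (E : c.Four) {a : X → ℤ} {s : ℤ} (h3 : ∑ i, a i * a i = 3) (ho : a c.o = 0)
    (hτ : ∀ i, a (c.τ i) = a i) (he : ∑ i, a i * c.e i = 2 * s) (hb : ∑ i, a i * c.b i = 0) :
    c.DType a ∨ (a E.X₀ * c.e E.X₀ = 2 * s ∧
      ∀ i, a i ≠ 0 → i ≠ E.X₀ → c.e i = 0 ∧ c.b i = 0 ∧ c.w i = 0) := by
  by_cases hx : ∃ x, a x ≠ 0 ∧ c.w x ≠ 0
  · obtain ⟨x, h1, h2⟩ := hx
    exact Or.inl (c.dtype_of_mem h3 hτ h1 h2)
  push Not at hx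
  right
  obtain ⟨noP, hwP, -, -, hwR, hwD⟩ := E.ne
  have hzero : ∀ i, c.w i ≠ 0 → a i = 0 := fun i h => by
    by_contra h'; exact h (hx i h')
  have hτ0 : ∀ i, c.w i ≠ 0 → a (c.τ i) = 0 := fun i h => by rw [hτ, hzero i h]
  have hb' : ∑ i, a i * c.b i = a E.P * c.b E.P := by
    refine Finset.sum_eq_single E.P (fun i _ hi => ?_) fun h => absurd (Finset.mem_univ _) h
    by_cases hbi : c.b i = 0
    · rw [hbi, mul_zero]
    have hm := c.mem_bS.2 hbi
    rw [E.bS_eq] at hm
    simp only [Finset.mem_insert, Finset.mem_singleton] at hm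
    rcases hm with h | h | h | h
    · rw [h, ho, zero_mul]
    · exact absurd h hi
    · rw [h, hzero _ hwR, zero_mul]
    · rw [h, hτ0 _ hwR, zero_mul]
  rw [hb'] at hb
  have haP : a E.P = 0 := (mul_eq_zero.1 hb).resolve_right fun h => by
    have := E.eb_P; rw [h, mul_zero] at this; omega
  refine ⟨?_, fun i hi hiX => ?_⟩
  · rw [← he]
    refine Eq.symm (Finset.sum_eq_single E.X₀ (fun i _ hi => ?_) fun h => absurd (Finset.mem_univ _) h)
    by_cases hei : c.e i = 0
    · rw [hei, mul_zero]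
    rcases (E.e_ne i).1 hei with h | h | h | h | h
    · rw [h, ho, zero_mul]
    · rw [h, haP, zero_mul]
    · exact absurd h hi
    · rw [h, hzero _ hwD, zero_mul]
    · rw [h, hτ0 _ hwD, zero_mul]
  · refine ⟨?_, ?_, hx i hi⟩
    · by_contra h
      rcases (E.e_ne i).1 h with h | h | h | h | h
      · exact hi (h ▸ ho)
      · exact hi (h ▸ haP)
      · exact hiX h
      · exact hi (h ▸ hzero _ hwD)
      · exact hi (h ▸ hτ0 _ hwD)
    · by_contra h
      have hm := c.mem_bS.2 h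
      rw [E.bS_eq] at hm
      simp only [Finset.mem_insert, Finset.mem_singleton] at hm
      rcases hm with h | h | h | h
      · exact hi (h ▸ ho)
      · exact hi (h ▸ haP)
      · exact hi (h ▸ hzero _ hwR)
      · exact hi (h ▸ hτ0 _ hwR)

variable (c)

/-- The row met by every norm three vector not of `DType`. -/
theorem exists_core : ∃ R₀ : X, ∃ κ : ℤ, (κ = 1 ∨ κ = -1) ∧ R₀ ≠ c.o ∧ c.τ R₀ = R₀ ∧
    (∀ σ : Equiv.Perm X, σ c.o = c.o → (∀ i, c.e (σ i) = c.e i) → (∀ i, c.b (σ i) = c.b i) →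
      σ R₀ = R₀) ∧
    ∀ (a : X → ℤ) (s : ℤ), (s = 1 ∨ s = -1) → ∑ i, a i * a i = 3 → a c.o = 0 →
      (∀ i, a (c.τ i) = a i) → ∑ i, a i * c.e i = 2 * s → ∑ i, a i * c.b i = 0 →
      c.DType a ∨ a R₀ = κ * s := by
  rcases c.shape with ⟨⟨E⟩⟩ | ⟨⟨E⟩⟩
  · have heA : c.e E.A = 1 ∨ c.e E.A = -1 := by
      have := E.eb_A
      rcases E.e_small E.A with h | h | h
      · rw [h, zero_mul] at this; omega
      exacts [Or.inl h, Or.inr h]
    obtain ⟨noA, noB, noC, -⟩ := E.ne
    have key : ∀ i, i ≠ c.o → c.e i = c.e E.A → c.b i = c.b E.A → i = E.A := by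
      intro i hio h1 h2
      have hm : i ∈ c.bS := c.mem_bS.2 (by
        rw [h2]; intro h; have := E.eb_A; rw [h, mul_zero] at this; omega)
      rw [E.bS_eq] at hm
      simp only [Finset.mem_insert, Finset.mem_singleton] at hm
      rcases hm with h | h | h | h
      · exact absurd h hio
      · exact h
      · have := E.eb_B; rw [← h, h1, h2, E.eb_A] at this; omega
      · have := E.eb_C; rw [← h, h1, h2, E.eb_A] at this; omega
    refine ⟨E.A, c.e E.A, heA, noA.symm,
      key _ (fun h => noA.symm (c.τ.injective (h.trans c.τo.symm))) (c.τe _) (c.τb _), fun σ h0 h1 h2 =>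
      key _ (fun h => noA.symm (σ.injective (h.trans h0.symm))) (h1 _) (h2 _),
      fun a s hs h3 ho hτ he hb => (E.test hs h3 ho hτ he hb).imp_right ?_⟩
    rintro ⟨P, F, -, hA, -⟩
    rcases heA with h | h <;> rw [h] at hA ⊢ <;> omega
  · obtain ⟨hbX, hwX, hτX⟩ := E.X_zero
    refine ⟨E.X₀, if c.e E.X₀ = 2 then 1 else -1, by split_ifs <;> simp, fun h => ?_, hτX,
      fun σ _ h1 _ => c.e_two_unique (by rw [h1]; exact E.e_X) E.e_X,
      fun a s hs h3 ho hτ he hb => (E.test h3 ho hτ he hb).imp_right ?_⟩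
    · have := E.e_X; rw [h, c.o_e] at this; omega
    · rintro ⟨hA, -⟩
      rcases E.e_X with h | h <;> rw [h] at hA ⊢
      · rw [if_pos rfl]; omega
      · rw [if_neg (by norm_num)]; omega

end Cols

/-- A norm three vector orthogonal to its image under an involution has no fixed row in its support. -/
theorem no_fixed_of_orth {a : X → ℤ} {σ : Equiv.Perm X} (hσ : ∀ i, σ (σ i) = i)
    (h3 : ∑ i, a i * a i = 3) (h0 : ∑ i, a i * a (σ i) = 0) {r : X} (hr : σ r = r) : a r = 0 := by
  by_contra ha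
  obtain ⟨hsmall, hcard⟩ := norm_three h3
  have hrm : r ∈ supp a := mem_supp.2 ha
  obtain ⟨x, y, hxy, hxy'⟩ := Finset.card_eq_two.1
    (show ((supp a).erase r).card = 2 by rw [Finset.card_erase_of_mem hrm, hcard])
  have hS : supp a = {r, x, y} := by rw [← Finset.insert_erase hrm, hxy']
  have hxr : x ≠ r := fun h => by
    have : x ∈ (supp a).erase r := by rw [hxy']; simp
    exact (Finset.mem_erase.1 this).1 h
  have hyr : y ≠ r := fun h => by
    have : y ∈ (supp a).erase r := by rw [hxy']; simp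
    exact (Finset.mem_erase.1 this).1 h
  rw [sum_supp, hS, Finset.sum_insert (by simp [hxr.symm, hyr.symm]), Finset.sum_pair hxy, hr] at h0
  have hz : ∀ i, i ≠ r → i ≠ x → i ≠ y → a i = 0 := fun i h1 h2 h3' => by
    by_contra h
    have hm := mem_supp.2 h
    rw [hS] at hm
    simp at hm
    tauto
  have hr2 : a r * a r = 1 := by rcases hsmall r with h | h | h <;> simp_all
  rw [hr2] at h0
  have hx0 : a x ≠ 0 := mem_supp.1 (by rw [hS]; simp)
  have hy0 : a y ≠ 0 := mem_supp.1 (by rw [hS]; simp)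
  have case : ∀ u v : X, u ≠ r → v ≠ r → σ u ≠ r → (∀ i, i ≠ r → i ≠ u → i ≠ v → a i = 0) →
      a u * a (σ u) = 1 ∨ a u * a (σ u) = 0 ∨ (σ u = v ∧ σ v = u) := by
    intro u v _ _ hσu hz'
    by_cases h1 : σ u = u
    · rw [h1]
      rcases hsmall u with h | h | h <;> rw [h] <;> simp
    by_cases h2 : σ u = v
    · exact Or.inr (Or.inr ⟨h2, by rw [← h2, hσ]⟩)
    · exact Or.inr (Or.inl (by rw [hz' _ hσu h1 h2, mul_zero]))
  have hσx : σ x ≠ r := fun h => hxr (by rw [← hσ x, h, hr])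
  have hσy : σ y ≠ r := fun h => hyr (by rw [← hσ y, h, hr])
  rcases case x y hxr hyr hσx hz with h | h | ⟨h, h'⟩
  · rcases case y x hyr hxr hσy (fun i a1 a2 a3 => hz i a1 a3 a2) with k | k | ⟨k, k'⟩
    · omega
    · omega
    · rw [k'] at h h0; rw [k] at h0
      have := mul_comm (a x) (a y)
      omega
  · rcases case y x hyr hxr hσy (fun i a1 a2 a3 => hz i a1 a3 a2) with k | k | ⟨k, k'⟩
    · omega
    · omega
    · rw [k'] at h
      exact (mul_ne_zero hx0 hy0) h
  · rw [h, h', mul_comm (a y)] at h0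
    omega

/-- Three norm three vectors through one row cannot be pairwise orthogonal and orthogonal to the degrees. -/
theorem no_three {a a' a'' : X → ℤ} (h : ∑ i, a i * a i = 3) (h' : ∑ i, a' i * a' i = 3)
    (h'' : ∑ i, a'' i * a'' i = 3) (o1 : ∑ i, a i * a' i = 0) (o2 : ∑ i, a i * a'' i = 0)
    (o3 : ∑ i, a' i * a'' i = 0) {r : X} (s1 : a r = a' r) (s2 : a'' r = -a r) (hr : a r ≠ 0)
    {d : X → ℤ} (d1 : ∑ i, a i * d i = 0) (d2 : ∑ i, a' i * d i = 0) (d3 : ∑ i, a'' i * d i = 0)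
    (hd : d r ≠ 0) : False := by
  obtain ⟨m, -⟩ := norm_three h
  obtain ⟨m', -⟩ := norm_three h'
  obtain ⟨m'', -⟩ := norm_three h''
  have sa : a r * a r = 1 := by
    rcases m r with e | e | e
    · exact absurd e hr
    all_goals rw [e]; norm_num
  have rest : ∀ (f g : X → ℤ), ∑ i, f i * g i = f r * g r + ∑ i ∈ Finset.univ.erase r, f i * g i :=
    fun f g => (Finset.add_sum_erase _ _ (Finset.mem_univ r)).symm
  have pick : ∀ (f g : X → ℤ), ∑ i ∈ Finset.univ.erase r, f i * g i ≠ 0 →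
      ∃ i, i ≠ r ∧ f i ≠ 0 ∧ g i ≠ 0 := fun f g hne => by
    obtain ⟨i, hi, hne'⟩ := Finset.exists_ne_zero_of_sum_ne_zero hne
    exact ⟨i, (Finset.mem_erase.1 hi).1, left_ne_zero_of_mul hne', right_ne_zero_of_mul hne'⟩
  rw [rest, ← s1, sa] at o1
  rw [rest, s2, mul_neg, sa] at o2
  rw [rest, s2, ← s1, mul_neg, sa] at o3
  obtain ⟨x, xr, xa, xa'⟩ := pick a a' (by omega)
  obtain ⟨y, yr, ya, ya''⟩ := pick a a'' (by omega)
  obtain ⟨z, zr, za', za''⟩ := pick a' a'' (by omega)
  have supp3 : ∀ {f : X → ℤ}, ∑ i, f i * f i = 3 → ∀ {u v : X}, f r ≠ 0 → f u ≠ 0 → f v ≠ 0 →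
      u ≠ r → v ≠ r → u ≠ v → supp f = {r, u, v} := by
    intro f hf u v h1 h2 h3 h4 h5 h6
    refine (Finset.eq_of_subset_of_card_le ?_ ?_).symm
    · intro i hi
      simp only [Finset.mem_insert, Finset.mem_singleton] at hi
      rcases hi with rfl | rfl | rfl <;> exact mem_supp.2 ‹_›
    · rw [(norm_three hf).2, Finset.card_insert_of_notMem (by simp [h4.symm, h5.symm]),
        Finset.card_pair h6]
  have ha' : a' r ≠ 0 := s1 ▸ hr
  have ha'' : a'' r ≠ 0 := by rw [s2]; exact neg_ne_zero.2 hr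
  -- a common row of all three is impossible
  have common : ∀ u, u ≠ r → a u ≠ 0 → a' u ≠ 0 → a'' u ≠ 0 → False := by
    intro u ur hu hu' hu''
    have only : ∀ {f g : X → ℤ}, (∑ i, f i * f i = 3) → (∑ i, g i * g i = 3) →
        ∀ {t : ℤ}, (t = 1 ∨ t = -1) → f r ≠ 0 → g r ≠ 0 → f u ≠ 0 → g u ≠ 0 →
        t + ∑ i ∈ Finset.univ.erase r, f i * g i = 0 → f u * g u = -t := by
      intro f g hf hg t ht hfr hgr hfu hgu hsum
      obtain ⟨mf, cf⟩ := norm_three hf
      obtain ⟨mg, -⟩ := norm_three hg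
      obtain ⟨v, hv⟩ := Finset.card_eq_one.1 (show (((supp f).erase r).erase u).card = 1 by
        rw [Finset.card_erase_of_mem (Finset.mem_erase.2 ⟨ur, mem_supp.2 hfu⟩),
          Finset.card_erase_of_mem (mem_supp.2 hfr), cf])
      have hsub : ∑ i ∈ Finset.univ.erase r, f i * g i = f u * g u + f v * g v := by
        have hvm : v ∈ ((supp f).erase r).erase u := by rw [hv]; simp
        obtain ⟨hvu, hvm⟩ := Finset.mem_erase.1 hvm
        rw [← Finset.sum_pair (f := fun i => f i * g i) hvu.symm]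
        refine (Finset.sum_subset ?_ fun i hi hi' => ?_).symm
        · intro i hi
          simp only [Finset.mem_insert, Finset.mem_singleton] at hi
          rcases hi with rfl | rfl
          exacts [Finset.mem_erase.2 ⟨ur, Finset.mem_univ _⟩,
            Finset.mem_erase.2 ⟨(Finset.mem_erase.1 hvm).1, Finset.mem_univ _⟩]
        · by_cases hfi : f i = 0
          · rw [hfi, zero_mul]
          exfalso
          simp only [Finset.mem_insert, Finset.mem_singleton, not_or] at hi'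
          have : i ∈ ((supp f).erase r).erase u := Finset.mem_erase.2 ⟨hi'.1,
            Finset.mem_erase.2 ⟨(Finset.mem_erase.1 hi).1, mem_supp.2 hfi⟩⟩
          rw [hv, Finset.mem_singleton] at this
          exact hi'.2 this
      rw [hsub] at hsum
      have bP : f u * g u = 1 ∨ f u * g u = -1 := Cols.unit_mul_cases (mf u) (mg u) hfu hgu
      have bQ : f v * g v = 0 ∨ f v * g v = 1 ∨ f v * g v = -1 := by
        rcases mf v with e | e | e <;> rcases mg v with e' | e' | e' <;> rw [e, e'] <;> norm_num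
      omega
    have k1 := only h h' (Or.inl rfl) hr ha' hu hu' o1
    have k2 := only h h'' (Or.inr rfl) hr ha'' hu hu'' o2
    have k3 := only h' h'' (Or.inr rfl) ha' ha'' hu' hu'' o3
    have k : (a u * a' u) * (a u * a'' u) * (a' u * a'' u) = -1 := by rw [k1, k2, k3]; norm_num
    nlinarith [mul_self_nonneg (a u * a' u * a'' u)]
  have xy : x ≠ y := fun e => common x xr xa xa' (e ▸ ya'')
  have xz : x ≠ z := fun e => common x xr xa xa' (e ▸ za'')
  have yz : y ≠ z := fun e => common y yr ya (e ▸ za') ya''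
  have S := supp3 h hr xa ya xr yr xy
  have S' := supp3 h' ha' xa' za' xr zr xz
  have S'' := supp3 h'' ha'' ya'' za'' yr zr yz
  have zero : ∀ {f : X → ℤ} {u v : X}, supp f = {r, u, v} → ∀ i, i ≠ r → i ≠ u → i ≠ v → f i = 0 := by
    intro f u v hS i h1 h2 h3
    by_contra hne
    have := mem_supp.2 hne
    rw [hS] at this
    simp [h1, h2, h3] at this
  have erest : ∀ {f : X → ℤ} {u v : X}, supp f = {r, u, v} → u ≠ r → v ≠ r → u ≠ v → ∀ g : X → ℤ,
      ∑ i ∈ Finset.univ.erase r, f i * g i = f u * g u + f v * g v := by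
    intro f u v hS h1 h2 h3 g
    rw [← Finset.sum_pair (f := fun i => f i * g i) h3]
    refine (Finset.sum_subset ?_ fun i hi hi' => ?_).symm
    · intro i hi
      simp only [Finset.mem_insert, Finset.mem_singleton] at hi
      rcases hi with rfl | rfl <;> exact Finset.mem_erase.2 ⟨‹_›, Finset.mem_univ _⟩
    · simp only [Finset.mem_insert, Finset.mem_singleton, not_or] at hi'
      rw [zero hS i (Finset.mem_erase.1 hi).1 hi'.1 hi'.2, zero_mul]
  rw [erest S xr yr xy, zero S' y yr xy.symm yz, mul_zero, add_zero] at o1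
  rw [erest S xr yr xy, zero S'' x xr xy xz, mul_zero, zero_add] at o2
  rw [erest S' xr zr xz, zero S'' x xr xy xz, mul_zero, zero_add] at o3
  rw [rest, erest S xr yr xy] at d1
  rw [rest, erest S' xr zr xz, ← s1] at d2
  rw [rest, erest S'' yr zr yz, s2] at d3
  have e1 : a' x = -a x := by rcases m x with e | e | e <;> rcases m' x with e' | e' | e' <;>
    rw [e, e'] at o1 ⊢ <;> omega
  have e2 : a'' y = a y := by rcases m y with e | e | e <;> rcases m'' y with e' | e' | e' <;>
    rw [e, e'] at o2 ⊢ <;> omega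
  have e3 : a'' z = a' z := by rcases m' z with e | e | e <;> rcases m'' z with e' | e' | e' <;>
    rw [e, e'] at o3 ⊢ <;> omega
  rw [e1] at d2
  rw [e2, e3] at d3
  have : a r * d r = 0 := by linarith
  exact (mul_ne_zero hr hd) this

/-- Three terms annihilated by the first three moments have equal ratios. -/
theorem equal_ratio {K : Type*} [Field K] {x₁ x₂ x₃ r₁ r₂ r₃ : K} (h1 : x₁ ≠ 0) (h2 : x₂ ≠ 0)
    (h3 : x₃ ≠ 0) (s0 : x₁ + x₂ + x₃ = 0) (s1 : x₁ * r₁ + x₂ * r₂ + x₃ * r₃ = 0)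
    (s2 : x₁ * r₁ ^ 2 + x₂ * r₂ ^ 2 + x₃ * r₃ ^ 2 = 0) : r₁ = r₂ ∧ r₂ = r₃ := by
  have k1 : x₁ * ((r₁ - r₂) * (r₁ - r₃)) = 0 := by linear_combination s2 - (r₂ + r₃) * s1 + r₂ * r₃ * s0
  have k2 : x₂ * ((r₂ - r₁) * (r₂ - r₃)) = 0 := by linear_combination s2 - (r₁ + r₃) * s1 + r₁ * r₃ * s0
  have k3 : x₃ * ((r₃ - r₁) * (r₃ - r₂)) = 0 := by linear_combination s2 - (r₁ + r₂) * s1 + r₁ * r₂ * s0
  simp only [mul_eq_zero, h1, h2, h3, false_or, sub_eq_zero] at k1 k2 k3
  rcases k1 with e | e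
  · refine ⟨e, ?_⟩
    rcases k3 with e' | e'
    · rw [← e, e']
    · exact e'.symm
  · rcases k2 with e' | e'
    · exact ⟨e'.symm, by rw [e', e]⟩
    · exact ⟨by rw [e, e'], e'⟩

end Cfsg.Agent.JanThom
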