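import Cfsg.Agent.Lib.JanThom.Cols2
import Cfsg.Agent.Lib.JanThom.Shape2
import Cfsg.Agent.Lib.Char.Galois
import Cfsg.Agent.Lib.Char.Basic

/-!
Galois conjugation of the rows: the automorphism fixing the roots of unity of order prime to `p`
and exchanging the two orbits on the characters of `U`, and complex conjugation.
-/

set_option autoImplicit false
set_option linter.unusedSectionVars false
set_option linter.style.haveILetI false

namespace Cfsg.Agent.JanThom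

open Cfsg Cfsg.Agent.Char
open scoped ComplexConjugate Classical

universe u v

variable {G : Type u} [Group G] {L : Type v} [Group L] {Q : ℤ} [Fintype L]

/-- The permutation `χ ↦ χ (· ^ j)` of the irreducible characters. -/
noncomputable def powPerm [Fintype G] {j : ℕ} (hj : j.Coprime (Nat.card G)) :
    Equiv.Perm (IrrCharacter G) :=
  Equiv.ofBijective (fun χ => ⟨fun g => (χ : G → ℂ) (g ^ j), CharGalois.IsIrrCharacter.powMap χ.2 hj⟩)
    (Finite.injective_iff_bijective.1 fun χ χ' h => by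
      refine Subtype.ext (funext fun g => ?_)
      obtain ⟨g', rfl⟩ := (powCoprime (Nat.Coprime.symm hj)).surjective g
      exact congrFun (congrArg Subtype.val h) g')

theorem powPerm_apply [Fintype G] {j : ℕ} (hj : j.Coprime (Nat.card G)) (χ : IrrCharacter G) (g : G) :
    ((powPerm hj χ : IrrCharacter G) : G → ℂ) g = (χ : G → ℂ) (g ^ j) := rfl

/-! Powers of linear characters, pointwise. -/

theorem hpow_mul {A : Type*} [Group A] (f : A →* ℂˣ) (a b : ℕ) : (f ^ a) ^ b = f ^ (a * b) :=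
  MonoidHom.ext fun x => (pow_mul (f x) a b).symm

theorem hpow_one {A : Type*} [Group A] (f : A →* ℂˣ) : f ^ 1 = f :=
  MonoidHom.ext fun x => pow_one (f x)

namespace LData

variable (D : LData L Q)

include D

theorem p_odd : Odd D.p := by
  have h := D.q_odd
  rw [D.abs_Q] at h
  exact (Nat.odd_pow_iff (by obtain ⟨m, hm⟩ := D.n_odd; omega)).1 h

theorem pow_psi {f : D.U →* ℂˣ} : f ^ D.p = 1 := MonoidHom.ext fun x => by
  show f x ^ D.p = 1
  rw [← map_pow, show x ^ D.p = 1 from Subtype.ext (D.U_exp x x.2), map_one]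

theorem exists_pow_of_mem_orbit {f : D.U →* ℂˣ} {g : Subgroup.normalizer (D.U : Set L)} {i : ℕ}
    (h : cjChar D.U g f = f ^ i) : ∀ m : ℕ, cjChar D.U (g ^ m) f = f ^ (i ^ m) := by
  intro m
  induction m with
  | zero => rw [pow_zero, cjChar_one, pow_zero, hpow_one]
  | succ m ih =>
    rw [pow_succ, cjChar_mul, ih]
    refine MonoidHom.ext fun x => ?_
    show (f _) ^ i ^ m = f x ^ i ^ (m + 1)
    rw [pow_succ', pow_mul]
    exact congrArg (· ^ i ^ m) (DFunLike.congr_fun h x)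

/-- A non-square power is not a conjugate. -/
theorem pow_not_mem_orbit {f : D.U →* ℂˣ} (hf : f ≠ 1) {i : ℕ}
    (hi : (i : ZMod D.p) ^ ((D.p - 1) / 2) = -1) (g : Subgroup.normalizer (D.U : Set L)) :
    cjChar D.U g f ≠ f ^ i := by
  intro h
  haveI := Fact.mk D.prime_p
  set UN : Subgroup (Subgroup.normalizer (D.U : Set L)) :=
    D.U.subgroupOf (Subgroup.normalizer (D.U : Set L)) with hUN
  haveI : UN.Normal := Subgroup.normal_in_normalizer
  set M := UN.index with hM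
  have hgM : g ^ M ∈ UN := Subgroup.pow_index_mem UN g
  have hMN : Nat.card D.U * M = Nat.card (Subgroup.normalizer (D.U : Set L)) := by
    rw [← Subgroup.card_mul_index UN,
      Nat.card_congr (Subgroup.subgroupOfEquivOfLe (Subgroup.le_normalizer (H := D.U))).toEquiv]
  have h2 : 2 * M = D.p ^ D.n - 1 := by
    have hc := D.card_NU
    rw [← hMN, D.card_U, D.abs_Q] at hc
    exact Nat.eq_of_mul_eq_mul_left (pow_pos D.prime_p.pos _) (by rw [← hc]; ring)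
  have hfix : cjChar D.U (g ^ M) f = f := cjChar_of_cent _ (fun x hx => by
    rw [D.U_comm _ (Subgroup.mem_subgroupOf.1 hgM) x hx, mul_inv_cancel_right]) f
  rw [D.exists_pow_of_mem_orbit h M] at hfix
  -- the order of `f` is `p`
  obtain ⟨x, hx⟩ : ∃ x, f x ≠ 1 := by
    by_contra hno; push Not at hno; exact hf (MonoidHom.ext hno)
  have hord : orderOf (f x) = D.p := orderOf_eq_prime (by
    have := DFunLike.congr_fun (D.pow_psi (f := f)) x
    exact this) hx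
  have hmod : ((i ^ M : ℕ) : ZMod D.p) = 1 := by
    have h1 : f x ^ (i ^ M) = f x ^ 1 := by rw [pow_one]; exact DFunLike.congr_fun hfix x
    have h2' := pow_eq_pow_iff_modEq.1 h1
    rw [hord] at h2'
    have := (ZMod.natCast_eq_natCast_iff _ _ _).2 h2'
    rwa [Nat.cast_one] at this
  -- `M` is an odd multiple of `(p - 1) / 2`
  obtain ⟨r, hr⟩ := D.p_odd
  set S := ∑ t ∈ Finset.range D.n, D.p ^ t with hS
  have hS1 : (D.p - 1) * S = D.p ^ D.n - 1 := by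
    rw [mul_comm, hS]; exact geom_sum_mul_of_one_le D.prime_p.one_le D.n
  have hSodd : Odd S := by
    rw [hS, Finset.odd_sum_iff_odd_card_odd, Finset.filter_true_of_mem fun t _ => D.p_odd.pow,
      Finset.card_range]
    exact D.n_odd
  have hMr : M = r * S := by
    have : 2 * M = 2 * (r * S) := by rw [h2, ← hS1, hr, Nat.add_sub_cancel, mul_assoc]
    omega
  have hr' : (D.p - 1) / 2 = r := by omega
  rw [hr'] at hi
  rw [Nat.cast_pow, hMr, pow_mul, hi, hSodd.neg_one_pow] at hmod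
  have h12 : (2 : ZMod D.p) = 0 := by linear_combination -hmod
  have : D.p ∣ 2 := (ZMod.natCast_eq_zero_iff 2 D.p).1 (by exact_mod_cast h12)
  have := (Nat.prime_dvd_prime_iff_eq D.prime_p Nat.prime_two).1 this
  omega

theorem psi_cases {f : D.U →* ℂˣ} (hf : f ≠ 1) :
    (∃ g, cjChar D.U g D.psi = f) ∨ ∃ g, cjChar D.U g D.psi' = f := by
  obtain ⟨g, h | h⟩ := D.psi_spec.2.2.2 f hf
  exacts [Or.inl ⟨g, h⟩, Or.inr ⟨g, h⟩]

theorem pow_ne_one {f : D.U →* ℂˣ} (hf : f ≠ 1) {i : ℕ} (hi : ¬ D.p ∣ i) : f ^ i ≠ 1 := fun h => hf (by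
  refine MonoidHom.ext fun x => ?_
  have h1 : f x ^ (Nat.gcd i D.p) = 1 :=
    pow_gcd_eq_one.2 ⟨DFunLike.congr_fun h x, DFunLike.congr_fun (D.pow_psi (f := f)) x⟩
  rw [show Nat.gcd i D.p = 1 from (D.prime_p.coprime_iff_not_dvd.2 hi).symm, pow_one] at h1
  exact h1)

theorem cjChar_pow (g : Subgroup.normalizer (D.U : Set L)) (f : D.U →* ℂˣ) (i : ℕ) :
    cjChar D.U g (f ^ i) = cjChar D.U g f ^ i := MonoidHom.ext fun _ => rfl

/-- A non-square power exchanges the orbits. -/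
theorem psi_nonsquare {i : ℕ} (hi : (i : ZMod D.p) ^ ((D.p - 1) / 2) = -1) :
    (∃ g, cjChar D.U g D.psi' = D.psi ^ i) ∧ ∃ g, cjChar D.U g D.psi = D.psi' ^ i := by
  obtain ⟨p1, p2, -, -⟩ := D.psi_spec
  have hnd : ¬ D.p ∣ i := fun h => by
    haveI := Fact.mk D.prime_p
    rw [(ZMod.natCast_eq_zero_iff i D.p).2 h] at hi
    rcases Nat.eq_zero_or_pos ((D.p - 1) / 2) with h0 | h0
    · have := D.prime_p.two_le
      obtain ⟨r, hr⟩ := D.p_odd
      omega
    · rw [zero_pow h0.ne'] at hi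
      exact one_ne_zero (neg_eq_zero.1 hi.symm)
  refine ⟨(D.psi_cases (D.pow_ne_one p1 hnd)).resolve_left fun ⟨g, h⟩ => D.pow_not_mem_orbit p1 hi g h,
    (D.psi_cases (D.pow_ne_one p2 hnd)).resolve_right fun ⟨g, h⟩ => D.pow_not_mem_orbit p2 hi g h⟩

/-- A square power fixes the orbits. -/
theorem psi_square {i : ℕ} (hi : ¬ D.p ∣ i) :
    (∃ g, cjChar D.U g D.psi = D.psi ^ (i * i)) ∧ ∃ g, cjChar D.U g D.psi' = D.psi' ^ (i * i) := by
  obtain ⟨p1, p2, -, -⟩ := D.psi_spec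
  have hii : ¬ D.p ∣ i * i := fun h => (D.prime_p.dvd_mul.1 h).elim hi hi
  -- two characters in different orbits cannot both be sent to the second one
  have key : ∀ f f' : D.U →* ℂˣ, f ≠ 1 →
      (∀ k, k ≠ 1 → (∃ g, cjChar D.U g f = k) ∨ ∃ g, cjChar D.U g f' = k) →
      ∃ g, cjChar D.U g f = f ^ (i * i) := by
    intro f f' hf cov
    rcases cov _ (D.pow_ne_one hf hi) with ⟨g, hg⟩ | ⟨g, hg⟩
    · refine ⟨g * g, ?_⟩
      rw [cjChar_mul, hg, D.cjChar_pow, hg, hpow_mul]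
    · rcases cov _ (D.pow_ne_one hf hii) with h | ⟨g', hg'⟩
      · exact h
      · -- both powers lie in the orbit of `f'`, so `f ^ i` is conjugate to `f ^ (i * i)`
        obtain ⟨w, hw⟩ : ∃ w, i * w % D.p = 1 := by
          obtain ⟨w, hw⟩ := Nat.exists_mul_mod_eq_one_of_coprime
            ((D.prime_p.coprime_iff_not_dvd.2 hi).symm) D.prime_p.one_lt
          exact ⟨w, hw.2⟩
        have hw1 : ∀ k : D.U →* ℂˣ, k ^ (i * w) = k := fun k => MonoidHom.ext fun x => by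
          show k x ^ (i * w) = k x
          rw [← Nat.mod_add_div (i * w) D.p, hw, pow_add, pow_one, pow_mul,
            show k x ^ D.p = 1 from DFunLike.congr_fun (D.pow_psi (f := k)) x, one_pow, mul_one]
        refine ⟨(g⁻¹ * g') * (g⁻¹ * g'), ?_⟩
        have h1 : cjChar D.U (g⁻¹ * g') (f ^ i) = f ^ (i * i) := by
          rw [← hg, ← cjChar_mul, ← mul_assoc, mul_inv_cancel, one_mul, hg']
        have h2 : cjChar D.U (g⁻¹ * g') f = f ^ i := by
          have h3 : cjChar D.U (g⁻¹ * g') (f ^ i) ^ w = (f ^ (i * i)) ^ w := by rw [h1]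
          rw [← D.cjChar_pow, hpow_mul, hw1, hpow_mul, mul_assoc, ← hpow_mul, hw1] at h3
          exact h3
        rw [cjChar_mul, h2, D.cjChar_pow, h2, hpow_mul]
  exact ⟨key _ D.psi' p1 fun k hk => D.psi_cases hk, key _ D.psi p2 fun k hk => (D.psi_cases hk).symm⟩

end LData

namespace Setup

variable (E : Setup G L Q) [Fintype G]

theorem z_pow {X : Subgroup L} [Fintype X] (hX : Odd (Nat.card X)) {lam lam' : X →* ℂˣ} {j : ℕ}
    (hj : Odd j) (hco : j.Coprime (Nat.card X)) (hl : ∀ x : X, lam' (x ^ j) = lam x)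
    {χ χ' : IrrCharacter G} (hχ : ∀ g, (χ' : G → ℂ) g = (χ : G → ℂ) (g ^ j)) :
    E.z hX lam χ' = E.z hX lam' χ := by
  refine Int.cast_injective (α := ℂ) (mul_right_cancel₀
    (Nat.cast_ne_zero.2 (Nat.card_pos (α := X)).ne' : (Nat.card X : ℂ) ≠ 0) ?_)
  rw [E.z_spec, E.z_spec]
  refine Fintype.sum_equiv (powCoprime (Nat.Coprime.symm hco)) _ _ fun x => ?_
  show _ = conj (lam' (x ^ j) : ℂ) * (χ : G → ℂ) (E.ι (c2, ((x ^ j : X) : L)))
  rw [hl, hχ, ← map_pow, Prod.pow_mk, Subgroup.coe_pow]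
  obtain ⟨r, rfl⟩ := hj
  rw [pow_succ c2, pow_mul, pow_two, c2_sq, one_pow, one_mul]

theorem z_fix {X : Subgroup L} [Fintype X] (hX : Odd (Nat.card X)) {lam : X →* ℂˣ} {j : ℕ}
    (hj : Odd j) (hm : j % Nat.card X = 1 % Nat.card X) {χ χ' : IrrCharacter G}
    (hχ : ∀ g, (χ' : G → ℂ) g = (χ : G → ℂ) (g ^ j)) :
    E.z hX lam χ' = E.z hX lam χ := by
  have hco : j.Coprime (Nat.card X) := by
    rw [Nat.coprime_iff_gcd_eq_one, Nat.gcd_comm, Nat.gcd_rec, hm, ← Nat.gcd_rec, Nat.gcd_one_right]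
  refine E.z_pow hX hj hco (fun x => congrArg lam ?_) hχ
  rw [← pow_mod_natCard, hm, pow_mod_natCard, pow_one]

variable [IsSimpleGroup G]

theorem tv_pow {j : ℕ} (hj : Odd j) {χ χ' : IrrCharacter G}
    (hχ : ∀ g, (χ' : G → ℂ) g = (χ : G → ℂ) (g ^ j)) : E.tv χ' = E.tv χ := by
  refine Int.cast_injective (α := ℂ) ?_
  rw [E.tv_cast, E.tv_cast, hχ]
  obtain ⟨r, rfl⟩ := hj
  rw [pow_succ, pow_mul, pow_two, E.τ_sq, one_pow, one_mul]

theorem deg_pow {j : ℕ} {χ χ' : IrrCharacter G}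
    (hχ : ∀ g, (χ' : G → ℂ) g = (χ : G → ℂ) (g ^ j)) : (χ' : G → ℂ) 1 = (χ : G → ℂ) 1 := by
  rw [hχ, one_pow]

/-- Behaviour of the columns under a row permutation. -/
structure RowPerm (σ : Equiv.Perm (IrrCharacter G)) (sgn : ℤ) : Prop where
  e : ∀ χ, E.ec (σ χ) = E.ec χ
  b : ∀ χ, E.bc (σ χ) = E.bc χ
  w : ∀ χ, E.wc (σ χ) = sgn * E.wc χ
  gh : ∀ lam χ, E.gh lam (σ χ) = E.gh lam χ
  gk : ∀ mu χ, E.gk mu (σ χ) = E.gk mu χ
  tv : ∀ χ, E.tv (σ χ) = E.tv χ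
  deg : ∀ χ : IrrCharacter G, ((σ χ : IrrCharacter G) : G → ℂ) 1 = (χ : G → ℂ) 1
  o : σ (principal G) = principal G

theorem rowPerm_of {σ : Equiv.Perm (IrrCharacter G)} {sgn : ℤ}
    (hh : ∀ lam χ, E.zh lam (σ χ) = E.zh lam χ) (hk : ∀ mu χ, E.zk mu (σ χ) = E.zk mu χ)
    (hu : (sgn = 1 ∧ ∀ χ, E.zu E.D.psi (σ χ) = E.zu E.D.psi χ ∧ E.zu E.D.psi' (σ χ) = E.zu E.D.psi' χ) ∨
      (sgn = -1 ∧ ∀ χ, E.zu E.D.psi (σ χ) = E.zu E.D.psi' χ ∧ E.zu E.D.psi' (σ χ) = E.zu E.D.psi χ))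
    (ht : ∀ χ, E.tv (σ χ) = E.tv χ)
    (hd : ∀ χ : IrrCharacter G, ((σ χ : IrrCharacter G) : G → ℂ) 1 = (χ : G → ℂ) 1)
    (ho : σ (principal G) = principal G) : E.RowPerm σ sgn := by
  have hrho : ∀ χ, E.rho (σ χ) = E.rho χ := fun χ => by
    rcases hu with ⟨-, h⟩ | ⟨-, h⟩ <;> unfold rho <;> rw [(h χ).1, (h χ).2]
    exact add_comm _ _
  refine ⟨fun χ => ?_, fun χ => ?_, fun χ => ?_, fun l χ => ?_, fun l χ => ?_, ht, hd, ho⟩
  · unfold ec; rw [hh, hrho]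
  · unfold bc; rw [hk, hrho]
  · unfold wc
    rcases hu with ⟨rfl, h⟩ | ⟨rfl, h⟩ <;> rw [(h χ).1, (h χ).2] <;> ring
  · unfold gh; rw [hh, hh]
  · unfold gk; rw [hk, hk]

/-- The exponent used for `τ`: it fixes the roots of unity of order prime to `p`. -/
theorem exists_galois_exp : ∃ j : ℕ, j.Coprime (Nat.card G) ∧ Odd j ∧
    (∀ m, m ∣ Nat.card G → ¬ E.D.p ∣ m → j % m = 1 % m) ∧
    (∃ i : ℕ, (i : ZMod E.D.p) ^ ((E.D.p - 1) / 2) = -1 ∧ i * j % E.D.p = 1) := by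
  haveI := Fact.mk E.D.prime_p
  have hp2 : E.D.p ≠ 2 := fun h => by have := E.D.p_odd; rw [h] at this; norm_num at this
  obtain ⟨c, hc⟩ := FiniteField.exists_nonsquare (F := ZMod E.D.p) (by rw [ZMod.ringChar_zmod_n]; exact hp2)
  have hc0 : c ≠ 0 := fun h => hc (h ▸ IsSquare.zero)
  set a := (Nat.card G).factorization E.D.p with ha
  set n' := Nat.card G / E.D.p ^ a with hn'
  have hn : E.D.p ^ a * n' = Nat.card G := Nat.ordProj_mul_ordCompl_eq_self _ _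
  have hpn' : ¬ E.D.p ∣ n' := Nat.not_dvd_ordCompl E.D.prime_p Nat.card_pos.ne'
  have hco : Nat.Coprime E.D.p n' := E.D.prime_p.coprime_iff_not_dvd.2 hpn'
  obtain ⟨j, hj1, hj2⟩ := Nat.chineseRemainder hco c.val 1
  have hjc : (j : ZMod E.D.p) = c := by
    rw [(ZMod.natCast_eq_natCast_iff j c.val E.D.p).2 hj1, ZMod.natCast_val, ZMod.cast_id]
  have hj0 : ¬ E.D.p ∣ j := fun h => hc0 (by rw [← hjc]; exact (ZMod.natCast_eq_zero_iff _ _).2 h)
  have hcop : j.Coprime (Nat.card G) := by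
    rw [← hn]
    refine Nat.Coprime.mul_right (Nat.Coprime.pow_right _ (E.D.prime_p.coprime_iff_not_dvd.2 hj0).symm) ?_
    rw [Nat.coprime_iff_gcd_eq_one, Nat.gcd_comm, Nat.gcd_rec, hj2, ← Nat.gcd_rec, Nat.gcd_one_right]
  have hm : ∀ m, m ∣ Nat.card G → ¬ E.D.p ∣ m → j % m = 1 % m := fun m hm hpm => by
    refine Nat.ModEq.of_dvd ?_ hj2
    rw [← hn] at hm
    exact (Nat.Coprime.pow_right _ (E.D.prime_p.coprime_iff_not_dvd.2 hpm).symm).dvd_of_dvd_mul_left hm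
  refine ⟨j, hcop, ?_, hm, (c⁻¹).val, ?_, ?_⟩
  · have h2 : 2 ∣ Nat.card G := by
      have h := orderOf_dvd_natCard E.τ
      rwa [orderOf_eq_prime (by rw [pow_two, E.τ_sq]) E.τ_ne] at h
    have := hm 2 h2 fun h => hp2 ((Nat.prime_dvd_prime_iff_eq E.D.prime_p Nat.prime_two).1 h)
    rw [Nat.odd_iff]; omega
  · rw [ZMod.natCast_val, ZMod.cast_id, inv_pow]
    have h2 : E.D.p / 2 = (E.D.p - 1) / 2 := by obtain ⟨r, hr⟩ := E.D.p_odd; omega
    rcases ZMod.pow_div_two_eq_neg_one_or_one E.D.p hc0 with h | h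
    · exact absurd ((ZMod.euler_criterion E.D.p hc0).2 h) hc
    · rw [← h2, h, inv_neg_one]
  · have h : (((c⁻¹).val * j : ℕ) : ZMod E.D.p) = ((1 : ℕ) : ZMod E.D.p) := by
      rw [Nat.cast_mul, ZMod.natCast_val, ZMod.cast_id, hjc, inv_mul_cancel₀ hc0, Nat.cast_one]
    have := (ZMod.natCast_eq_natCast_iff' _ _ _).1 h
    rwa [Nat.one_mod_eq_one.2 E.D.prime_p.one_lt.ne'] at this

/-- The exponent of `τ`. -/
noncomputable def gexp : ℕ := Classical.choose E.exists_galois_exp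

theorem gexp_spec : E.gexp.Coprime (Nat.card G) ∧ Odd E.gexp ∧
    (∀ m, m ∣ Nat.card G → ¬ E.D.p ∣ m → E.gexp % m = 1 % m) ∧
    (∃ i : ℕ, (i : ZMod E.D.p) ^ ((E.D.p - 1) / 2) = -1 ∧ i * E.gexp % E.D.p = 1) :=
  Classical.choose_spec E.exists_galois_exp

/-- The Galois conjugation `τ` on the rows. -/
noncomputable def gal : Equiv.Perm (IrrCharacter G) := powPerm E.gexp_spec.1

theorem gal_apply (χ : IrrCharacter G) (g : G) :
    ((E.gal χ : IrrCharacter G) : G → ℂ) g = (χ : G → ℂ) (g ^ E.gexp) := rfl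

include E in
theorem card_dvd_G (X : Subgroup L) : Nat.card X ∣ Nat.card G := by
  exact (Subgroup.card_subgroup_dvd_card X).trans
    (Subgroup.card_dvd_of_injective (E.ι.comp (MonoidHom.inr C2 L))
      fun a b h => congrArg Prod.snd (E.inj h))

theorem not_p_dvd : ¬ E.D.p ∣ E.D.h ∧ ¬ E.D.p ∣ E.D.k := by
  obtain ⟨-, h2, h3⟩ := E.D.coprime_orders
  have hp : E.D.p ∣ Q.natAbs := by
    rw [E.D.abs_Q]; exact dvd_pow_self _ (by obtain ⟨m, hm⟩ := E.D.n_odd; omega)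
  exact ⟨fun h => E.D.prime_p.not_dvd_one (h2 ▸ Nat.dvd_gcd h hp),
    fun h => E.D.prime_p.not_dvd_one (h3 ▸ Nat.dvd_gcd h hp)⟩

theorem zu_swap {j i : ℕ} (hj : Odd j) (hi : i * j % E.D.p = 1) {f f' : E.D.U →* ℂˣ}
    (hf' : f' ≠ 1) (hcj : ∃ g, cjChar E.D.U g f' = f ^ i) {χ χ' : IrrCharacter G}
    (hχ : ∀ g, (χ' : G → ℂ) g = (χ : G → ℂ) (g ^ j)) : E.zu f χ' = E.zu f' χ := by
  obtain ⟨g, hg⟩ := hcj
  rw [← E.zu_cj hf' g, hg]
  refine E.z_pow E.D.odd_U hj ?_ (fun x => ?_) hχ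
  · rw [E.D.card_U, E.D.abs_Q]
    refine (E.D.prime_p.coprime_iff_not_dvd.2 fun h => ?_).symm.pow_right _
    rw [Nat.mul_mod, Nat.mod_eq_zero_of_dvd h, mul_zero, Nat.zero_mod] at hi
    omega
  · show (f (x ^ j)) ^ i = f x
    rw [map_pow, ← pow_mul, mul_comm, ← Nat.mod_add_div (i * j) E.D.p, hi, pow_add, pow_one, pow_mul,
      show f x ^ E.D.p = 1 from DFunLike.congr_fun (E.D.pow_psi (f := f)) x, one_pow, mul_one]

theorem gal_row : E.RowPerm E.gal (-1) := by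
  obtain ⟨-, hodd, hm, i, hi1, hi2⟩ := E.gexp_spec
  obtain ⟨c1, c2'⟩ := E.D.psi_nonsquare hi1
  obtain ⟨p1, p2, -, -⟩ := E.D.psi_spec
  obtain ⟨nh, nk⟩ := E.not_p_dvd
  refine E.rowPerm_of (fun l χ => E.z_fix E.D.odd_Zh hodd ?_ (E.gal_apply χ))
    (fun l χ => E.z_fix E.D.odd_Zk hodd ?_ (E.gal_apply χ))
    (Or.inr ⟨rfl, fun χ => ⟨E.zu_swap hodd hi2 p2 c1 (E.gal_apply χ),
      E.zu_swap hodd hi2 p1 c2' (E.gal_apply χ)⟩⟩)
    (fun χ => E.tv_pow hodd (E.gal_apply χ)) (fun χ => deg_pow (E.gal_apply χ))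
    (Subtype.ext (funext fun g => rfl))
  · exact hm _ (E.card_dvd_G _) (E.D.card_Zh ▸ nh)
  · exact hm _ (E.card_dvd_G _) (E.D.card_Zk ▸ nk)

/-- The three columns as an abstract pattern. -/
noncomputable def rowCols : Cols (IrrCharacter G) where
  o := principal G
  e := E.ec
  b := E.bc
  w := E.wc
  τ := E.gal
  τe := E.gal_row.e
  τb := E.gal_row.b
  τw := fun χ => by rw [E.gal_row.w, neg_one_mul]
  τo := E.gal_row.o
  ee := E.gram_ec
  bb := E.gram_bc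
  ww := E.gram_wc
  eb := E.gram_ec_bc
  ew := E.gram_ec_wc
  o_e := E.cols_principal.1
  o_b := E.cols_principal.2.1
  o_w := E.cols_principal.2.2.1
  par := fun χ => (E.parity χ).2.2

/-- Complex conjugation on the rows. -/
noncomputable def cjPerm : Equiv.Perm (IrrCharacter G) :=
  powPerm (j := Nat.card G - 1) (by
    have h := Nat.card_pos (α := G)
    conv => arg 2; rw [show Nat.card G = Nat.card G - 1 + 1 by omega]
    exact Nat.coprime_self_add_right.2 (Nat.coprime_one_right _))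

theorem cjPerm_apply (χ : IrrCharacter G) (g : G) :
    ((cjPerm χ : IrrCharacter G) : G → ℂ) g = (χ : G → ℂ) g⁻¹ := by
  show (χ : G → ℂ) (g ^ (Nat.card G - 1)) = _
  refine congrArg _ (eq_inv_of_mul_eq_one_left ?_)
  rw [← pow_succ, Nat.sub_add_cancel Nat.card_pos, pow_card_eq_one']

theorem cjPerm_conj (χ : IrrCharacter G) (g : G) :
    ((cjPerm χ : IrrCharacter G) : G → ℂ) g = conj ((χ : G → ℂ) g) := by
  rw [cjPerm_apply, IsCharacter.inv (IsIrrCharacter.isCharacter χ.2)]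

theorem cjPerm_sq (χ : IrrCharacter G) : cjPerm (cjPerm χ) = χ :=
  Subtype.ext (funext fun g => by rw [cjPerm_conj, cjPerm_conj, Complex.conj_conj])

theorem z_cj {X : Subgroup L} [Fintype X] (hX : Odd (Nat.card X)) (lam : X →* ℂˣ) (χ : IrrCharacter G) :
    E.z hX lam (cjPerm χ) = E.z hX lam⁻¹ χ := by
  refine Int.cast_injective (α := ℂ) (mul_right_cancel₀
    (Nat.cast_ne_zero.2 (Nat.card_pos (α := X)).ne' : (Nat.card X : ℂ) ≠ 0) ?_)
  rw [E.z_spec, E.z_spec]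
  refine Fintype.sum_equiv (Equiv.inv X) _ _ fun x => ?_
  rw [cjPerm_apply, ← map_inv, Prod.inv_mk, inv_eq_of_mul_eq_one_right c2_sq]
  simp only [Equiv.inv_apply, MonoidHom.inv_apply, map_inv, inv_inv, Subgroup.coe_inv]

theorem cj_row : ∃ sgn : ℤ, ((sgn = 1 ∧ E.D.p % 4 = 1) ∨ (sgn = -1 ∧ E.D.p % 4 = 3)) ∧
    E.RowPerm cjPerm sgn := by
  haveI := Fact.mk E.D.prime_p
  obtain ⟨p1, p2, -, -⟩ := E.D.psi_spec
  have hh : ∀ l χ, E.zh l (cjPerm χ) = E.zh l χ := fun l χ => by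
    rw [← E.zh_inv l χ]; exact E.z_cj E.D.odd_Zh l χ
  have hk : ∀ l χ, E.zk l (cjPerm χ) = E.zk l χ := fun l χ => by
    rw [← E.zk_inv l χ]; exact E.z_cj E.D.odd_Zk l χ
  have ht : ∀ χ, E.tv (cjPerm χ) = E.tv χ := fun χ => by
    unfold tv; exact Finset.sum_congr rfl fun l _ => hh l χ
  have hd : ∀ χ : IrrCharacter G, ((cjPerm χ : IrrCharacter G) : G → ℂ) 1 = (χ : G → ℂ) 1 := fun χ => by
    rw [cjPerm_apply, inv_one]
  have ho : cjPerm (principal G) = principal G := Subtype.ext (funext fun g => rfl)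
  have hinvp : ∀ f : E.D.U →* ℂˣ, f⁻¹ = f ^ (E.D.p - 1) := fun f => MonoidHom.ext fun x =>
    inv_eq_of_mul_eq_one_left (by
      show f x ^ (E.D.p - 1) * f x = 1
      rw [← pow_succ, Nat.sub_add_cancel E.D.prime_p.one_le]
      exact DFunLike.congr_fun (E.D.pow_psi (f := f)) x)
  have hcast : ((E.D.p - 1 : ℕ) : ZMod E.D.p) = -1 := by
    rw [Nat.cast_sub E.D.prime_p.one_le, ZMod.natCast_self, Nat.cast_one, zero_sub]
  rcases Nat.odd_mod_four_iff.1 (Nat.odd_iff.1 E.D.p_odd) with h4 | h4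
  · obtain ⟨r, hr⟩ : IsSquare (-1 : ZMod E.D.p) := ZMod.exists_sq_eq_neg_one_iff.2 (by omega)
    have hr0 : ¬ E.D.p ∣ r.val := fun h => by
      have : r = 0 := by rw [← ZMod.natCast_zmod_val r]; exact (ZMod.natCast_eq_zero_iff _ _).2 h
      rw [this, mul_zero] at hr
      exact one_ne_zero (neg_eq_zero.1 hr)
    have hsq : ∀ f : E.D.U →* ℂˣ, f⁻¹ = f ^ (r.val * r.val) := fun f => by
      rw [hinvp]
      have h : ((E.D.p - 1 : ℕ) : ZMod E.D.p) = ((r.val * r.val : ℕ) : ZMod E.D.p) := by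
        rw [hcast, Nat.cast_mul, ZMod.natCast_zmod_val, hr]
      exact MonoidHom.ext fun y => pow_eq_pow_iff_modEq.2 (((ZMod.natCast_eq_natCast_iff _ _ _).1 h).of_dvd
        (orderOf_dvd_of_pow_eq_one (DFunLike.congr_fun (E.D.pow_psi (f := f)) y)))
    obtain ⟨⟨g, hg⟩, ⟨g', hg'⟩⟩ := E.D.psi_square hr0
    refine ⟨1, Or.inl ⟨rfl, h4⟩, E.rowPerm_of hh hk (Or.inl ⟨rfl, fun χ => ⟨?_, ?_⟩⟩) ht hd ho⟩
    · refine (E.z_cj E.D.odd_U _ χ).trans ?_
      rw [hsq, ← hg]; exact E.zu_cj p1 g χ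
    · refine (E.z_cj E.D.odd_U _ χ).trans ?_
      rw [hsq, ← hg']; exact E.zu_cj p2 g' χ
  · have hi : ((E.D.p - 1 : ℕ) : ZMod E.D.p) ^ ((E.D.p - 1) / 2) = -1 := by
      rw [hcast]; exact Odd.neg_one_pow (Nat.odd_iff.2 (by omega))
    obtain ⟨⟨g, hg⟩, ⟨g', hg'⟩⟩ := E.D.psi_nonsquare hi
    refine ⟨-1, Or.inr ⟨rfl, h4⟩, E.rowPerm_of hh hk (Or.inr ⟨rfl, fun χ => ⟨?_, ?_⟩⟩) ht hd ho⟩
    · refine (E.z_cj E.D.odd_U _ χ).trans ?_
      rw [hinvp, ← hg]; exact E.zu_cj p2 g χ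
    · refine (E.z_cj E.D.odd_U _ χ).trans ?_
      rw [hinvp, ← hg']; exact E.zu_cj p1 g' χ

/-- A real row fixed by every symmetry of `e` and `b`. -/
theorem core_real {R₀ : IrrCharacter G}
    (h : ∀ σ : Equiv.Perm (IrrCharacter G), σ E.rowCols.o = E.rowCols.o →
      (∀ i, E.rowCols.e (σ i) = E.rowCols.e i) → (∀ i, E.rowCols.b (σ i) = E.rowCols.b i) → σ R₀ = R₀) :
    cjPerm R₀ = R₀ := by
  obtain ⟨sgn, -, hr⟩ := E.cj_row
  exact h _ hr.o hr.e hr.b

/-- A vector of `DType` orthogonal to degrees and values at `τ` has zero weighted sum. -/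
theorem dtype_wsum {a : IrrCharacter G → ℤ} (h : E.rowCols.DType a) (hd : dsum a = 0)
    (ht : ∑ χ, a χ * E.tv χ = 0) : E.wsum a = 0 := by
  obtain ⟨x, F, -, -, -, -, hxx, hFx, hFx', hax, hx0, -, hS⟩ := h
  have hS' : supp a = {x, E.gal x, F} := by convert hS; rfl
  have hsum : ∀ f : IrrCharacter G → ℂ, (∑ χ, (a χ : ℂ) * f χ) =
      (a x : ℂ) * f x + ((a x : ℂ) * f (E.gal x) + (a F : ℂ) * f F) := by
    intro f
    rw [← Finset.sum_subset (Finset.subset_univ (supp a)) fun i _ hi => by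
      rw [mem_supp, not_not] at hi; rw [hi, Int.cast_zero, zero_mul], hS',
      Finset.sum_insert (by simp only [Finset.mem_insert, Finset.mem_singleton, not_or]; exact ⟨hxx, hFx.symm⟩),
      Finset.sum_pair (show E.gal x ≠ F from hFx'.symm)]
    show _ + ((a (E.gal x) : ℂ) * _ + _) = _
    rw [show a (E.gal x) = a x from hax]
  unfold dsum at hd
  rw [hsum] at hd
  have ht' : (∑ χ, (a χ : ℂ) * (χ : G → ℂ) E.τ) = 0 := by
    simp only [← E.tv_cast]
    exact_mod_cast ht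
  rw [hsum] at ht'
  unfold wsum
  rw [hsum]
  have e1 : ((E.gal x : IrrCharacter G) : G → ℂ) 1 = (x : G → ℂ) 1 := E.gal_row.deg x
  have e2 : ((E.gal x : IrrCharacter G) : G → ℂ) E.τ = (x : G → ℂ) E.τ := by
    rw [← E.tv_cast, ← E.tv_cast, E.gal_row.tv]
  rw [e1] at hd ⊢
  rw [e2] at ht' ⊢
  set dx := (x : G → ℂ) 1 with hdx
  set df := (F : G → ℂ) 1 with hdf
  set tx := (x : G → ℂ) E.τ
  set tf := (F : G → ℂ) E.τ
  have hdx0 : dx ≠ 0 := IsIrrCharacter.one_ne_zero x.2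
  have hdf0 : df ≠ 0 := IsIrrCharacter.one_ne_zero F.2
  have hax0 : (a x : ℂ) ≠ 0 := Int.cast_ne_zero.2 hx0
  have haF : (a F : ℂ) ≠ 0 := fun h => by
    rw [h, zero_mul, add_zero, ← two_mul] at hd
    exact mul_ne_zero two_ne_zero (mul_ne_zero hax0 hdx0) hd
  have hr : tf * dx = tx * df :=
    mul_left_cancel₀ haF (by linear_combination dx * ht' - tx * hd)
  have hr' : tf ^ 2 / df = tx / dx * tf := by
    rw [div_mul_eq_mul_div, div_eq_div_iff hdf0 hdx0]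
    linear_combination tf * hr
  rw [hr']
  linear_combination (tx / dx) * ht'

end Setup

end Cfsg.Agent.JanThom
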