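import Cfsg.Agent.Lib.Char.LocalTI
import Cfsg.Agent.Lib.Char.Galois

/-!
Complex valued generalised characters supported on a TI-like set of a local group: multiplicities,
orthogonality, vanishing and weighted sums.
-/

set_option autoImplicit false
set_option linter.unusedSectionVars false

namespace Cfsg.Agent.JanThom

open Cfsg Cfsg.Agent.Char Cfsg.Agent.LocalTI
open scoped ComplexConjugate

universe u v

variable {G : Type u} [Group G] {H : Type v} [Group H]

/-- A virtual character of `H` supported on `D`. -/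
structure GenVanish (D : H → Prop) (f : H → ℂ) : Prop where
  supp : ∀ h, f h ≠ 0 → D h
  gen : Cfsg.IsGeneralizedCharacter H f

variable {ι : H →* G} {D : H → Prop}

theorem GenVanish.cls [Fintype H] {f : H → ℂ} (hf : GenVanish D f) (g h : H) : f (h * g * h⁻¹) = f g :=
  IsGeneralizedCharacter.isClassFunction hf.gen g h

variable [Fintype G] [Fintype H]

theorem exists_gcoef {f : H → ℂ} (hf : GenVanish D f) (ι : H →* G) (χ : IrrCharacter G) :
    ∃ n : ℤ, (n : ℂ) * (Fintype.card H : ℂ) = ∑ h, conj (f h) * (χ : G → ℂ) (ι h) := by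
  obtain ⟨n, hn⟩ := IsGeneralizedCharacter.exists_classInner_int
    (IsGeneralizedCharacter.of_isCharacter
      (IsCharacter.comp (IsIrrCharacter.isCharacter χ.2) ι)) hf.gen
  refine ⟨n, ?_⟩
  rw [← hn, Cfsg.classInner, Nat.card_eq_fintype_card]
  field_simp
  exact Finset.sum_congr rfl fun x _ => mul_comm _ _

/-- The multiplicity of `χ` in the virtual character induced by `f`. -/
noncomputable def gcoef {f : H → ℂ} (hf : GenVanish D f) (ι : H →* G) (χ : IrrCharacter G) : ℤ :=
  Classical.choose (exists_gcoef hf ι χ)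

theorem gcoef_spec {f : H → ℂ} (hf : GenVanish D f) (ι : H →* G) (χ : IrrCharacter G) :
    (gcoef hf ι χ : ℂ) * (Fintype.card H : ℂ) = ∑ h, conj (f h) * (χ : G → ℂ) (ι h) :=
  Classical.choose_spec (exists_gcoef hf ι χ)

theorem gcoef_eq {f : H → ℂ} (hf : GenVanish D f) (ι : H →* G) (χ : IrrCharacter G) {z : ℤ}
    (h : (z : ℂ) * (Fintype.card H : ℂ) = ∑ h, conj (f h) * (χ : G → ℂ) (ι h)) :
    gcoef hf ι χ = z := by
  have h1 := (gcoef_spec hf ι χ).trans h.symm
  exact_mod_cast mul_right_cancel₀ (Nat.cast_ne_zero.2 Fintype.card_ne_zero) h1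

/-- Orthogonality. -/
theorem gorth (E : Emb ι D) {f f' : H → ℂ} (hf : GenVanish D f) (hf' : GenVanish D f') :
    ((∑ χ, gcoef hf ι χ * gcoef hf' ι χ : ℤ) : ℂ) * (Fintype.card H : ℂ) =
      ∑ h, conj (f h) * f' h := by
  classical
  have key : ∀ h h' : H, conj (f h) * f' h' * ∑ χ : IrrCharacter G,
      (χ : G → ℂ) (ι h) * conj ((χ : G → ℂ) (ι h')) =
      conj (f h) * f' h' *
        ((Finset.univ.filter fun x : H => x * h' * x⁻¹ = h).card : ℂ) := by
    intro h h'
    by_cases h0 : f h = 0
    · simp [h0]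
    by_cases h1 : f' h' = 0
    · simp [h1]
    rw [column_orth_count, E.fibre (hf'.supp h' h1) (hf.supp h h0)]
  have hH : (Fintype.card H : ℂ) ≠ 0 := Nat.cast_ne_zero.2 Fintype.card_ne_zero
  refine mul_right_cancel₀ hH ?_
  push_cast
  calc (∑ χ, (gcoef hf ι χ : ℂ) * (gcoef hf' ι χ : ℂ)) * (Fintype.card H : ℂ) *
        (Fintype.card H : ℂ)
      = ∑ χ, ((gcoef hf ι χ : ℂ) * (Fintype.card H : ℂ)) *
          conj ((gcoef hf' ι χ : ℂ) * (Fintype.card H : ℂ)) := by
        rw [Finset.sum_mul, Finset.sum_mul]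
        refine Finset.sum_congr rfl fun χ _ => ?_
        rw [map_mul, map_intCast, map_natCast]
        ring
    _ = ∑ χ : IrrCharacter G, ∑ h, ∑ h', conj (f h) * f' h' *
          ((χ : G → ℂ) (ι h) * conj ((χ : G → ℂ) (ι h'))) := by
        refine Finset.sum_congr rfl fun χ _ => ?_
        rw [gcoef_spec, gcoef_spec, map_sum, Finset.sum_mul_sum]
        refine Finset.sum_congr rfl fun h _ => Finset.sum_congr rfl fun h' _ => ?_
        rw [map_mul, Complex.conj_conj]
        ring
    _ = ∑ h', ∑ h, conj (f h) * f' h' *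
          ((Finset.univ.filter fun x : H => x * h' * x⁻¹ = h).card : ℂ) := by
        rw [Finset.sum_comm]
        rw [Finset.sum_congr rfl fun h _ => Finset.sum_comm, Finset.sum_comm]
        exact Finset.sum_congr rfl fun h' _ => Finset.sum_congr rfl fun h _ => by
          rw [← key, Finset.mul_sum]
    _ = ∑ h', f' h' * ∑ x : H, conj (f (x * h' * x⁻¹)) := by
        refine Finset.sum_congr rfl fun h' _ => ?_
        rw [← Finset.sum_fiberwise Finset.univ (fun x : H => x * h' * x⁻¹)
          (fun x => conj (f (x * h' * x⁻¹))), Finset.mul_sum]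
        refine Finset.sum_congr rfl fun h _ => ?_
        rw [Finset.sum_congr rfl (fun x hx => by rw [(Finset.mem_filter.1 hx).2] : ∀ x ∈ _,
          conj (f (x * h' * x⁻¹)) = conj (f h)), Finset.sum_const, nsmul_eq_mul]
        ring
    _ = _ := by
        simp only [hf.cls, Finset.sum_const, Finset.card_univ, nsmul_eq_mul]
        rw [Finset.sum_mul]
        exact Finset.sum_congr rfl fun h _ => by ring

/-- The induced virtual character vanishes on classes missing `D`. -/
theorem gvanish {f : H → ℂ} (hf : GenVanish D f) {y : G} (hy : ∀ h, D h → ¬ IsConj y (ι h)) :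
    ∑ χ, (gcoef hf ι χ : ℂ) * (χ : G → ℂ) y = 0 := by
  have hH : (Fintype.card H : ℂ) ≠ 0 := Nat.cast_ne_zero.2 Fintype.card_ne_zero
  refine (mul_left_inj' hH).1 ?_
  rw [zero_mul, Finset.sum_mul]
  have hint : ∀ χ : IrrCharacter G, (gcoef hf ι χ : ℂ) * (Fintype.card H : ℂ) =
      ∑ h, f h * conj ((χ : G → ℂ) (ι h)) := fun χ => by
    have h1 := congrArg conj (gcoef_spec hf ι χ)
    rw [map_mul, map_intCast, map_natCast, map_sum] at h1
    rw [h1]
    exact Finset.sum_congr rfl fun h _ => by rw [map_mul, Complex.conj_conj]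
  calc ∑ χ, (gcoef hf ι χ : ℂ) * (χ : G → ℂ) y * (Fintype.card H : ℂ)
      = ∑ χ : IrrCharacter G, ∑ h, f h * ((χ : G → ℂ) y * conj ((χ : G → ℂ) (ι h))) := by
        refine Finset.sum_congr rfl fun χ _ => ?_
        rw [mul_right_comm, hint, Finset.sum_mul]
        exact Finset.sum_congr rfl fun h _ => by ring
    _ = 0 := by
        rw [Finset.sum_comm]
        refine Finset.sum_eq_zero fun h _ => ?_
        rw [← Finset.mul_sum]
        by_cases h0 : f h = 0
        · simp [h0]
        rw [column_orth_of_not_isConj (hy h (hf.supp h h0)), mul_zero]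

/-- A weighted column sum against an arbitrary class-count function. -/
theorem gweight {f : H → ℂ} (hf : GenVanish D f) (ι : H →* G) (wt : IrrCharacter G → ℂ)
    (k : H → ℂ) (hk : ∀ h, f h ≠ 0 → ∑ χ : IrrCharacter G, wt χ * (χ : G → ℂ) (ι h) = k h) :
    (∑ χ, (gcoef hf ι χ : ℂ) * wt χ) * (Fintype.card H : ℂ) = ∑ h, conj (f h) * k h := by
  rw [Finset.sum_mul]
  calc ∑ χ, (gcoef hf ι χ : ℂ) * wt χ * (Fintype.card H : ℂ)
      = ∑ χ : IrrCharacter G, ∑ h, conj (f h) * (wt χ * (χ : G → ℂ) (ι h)) := by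
        refine Finset.sum_congr rfl fun χ _ => ?_
        rw [mul_right_comm, gcoef_spec, Finset.sum_mul]
        exact Finset.sum_congr rfl fun h _ => by ring
    _ = _ := by
        rw [Finset.sum_comm]
        refine Finset.sum_congr rfl fun h _ => ?_
        rw [← Finset.mul_sum]
        by_cases h0 : f h = 0
        · simp [h0]
        rw [hk h h0]

end Cfsg.Agent.JanThom
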