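import Cfsg.Agent.Lib.JanThom.FusionBound

/-!
No centraliser of a torus element is `Zg × A₅`.
-/

set_option autoImplicit false
set_option linter.unusedSectionVars false
set_option linter.style.haveILetI false

namespace Cfsg.Agent.JanThom

open Subgroup
open scoped Pointwise

universe u v

namespace Setup

variable {G : Type u} [Group G] [Finite G] [IsSimpleGroup G] {L : Type v} [Group L] {Q : ℤ}
  {E : Setup G L Q} {y u : G}

/-- The exceptional case does not occur. -/
theorem A5Data.false_case (hy : E.IsY y) (hu2 : u * u = 1) (hu1 : u ≠ 1)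
    (hinv : ∀ z ∈ E.Zg, u * z * u⁻¹ = z⁻¹) (hyu : y * u = u * y) (A : A5Data E y u)
    (hp3 : E.D.p ≠ 3) (hp5 : E.D.p ≠ 5) : False := by
  classical
  haveI := E.finite_L
  obtain ⟨l, hl, hlh⟩ := Nat.exists_prime_and_dvd (n := E.D.h) (by have := E.D.h_three'; omega)
  haveI : Fact l.Prime := ⟨hl⟩
  haveI : Fact (Nat.Prime 5) := ⟨Nat.prime_five⟩
  haveI : Fact (Nat.Prime 3) := ⟨Nat.prime_three⟩
  have h3h := A.not_dvd hu2 hu1 hinv (Or.inl rfl)
  have h5h := A.not_dvd hu2 hu1 hinv (Or.inr rfl)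
  have hl2 : l ≠ 2 := by
    rintro rfl
    obtain ⟨r, hr⟩ := E.D.h_odd'
    omega
  have hl7 : 7 ≤ l := by
    by_contra h7
    push Not at h7
    interval_cases l <;> first | exact h3h hlh | exact h5h hlh | exact hl2 rfl | norm_num at hl
  have hl30 : l.Coprime 30 := (hl.coprime_iff_not_dvd).2 fun h => by
    have h30 : l ≤ 30 := Nat.le_of_dvd (by norm_num) h
    interval_cases l <;> first | omega | (revert hl h; norm_num)
  obtain ⟨z0, hz0⟩ := exists_prime_orderOf_dvd_card' (G := E.Zg) l (E.card_Zg.symm ▸ hlh)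
  set z : G := (z0 : G) with hzdef
  have hz : z ∈ E.Zg := z0.2
  have hzl : orderOf z = l := by rw [hzdef, Subgroup.orderOf_coe, hz0]
  have hz1 : z ≠ 1 := fun h => hl.ne_one (by rw [← hzl, h, orderOf_one])
  -- `y` and an element of order five of `X` are conjugate into `Zk`
  have hy3 : orderOf y = 3 := orderOf_eq_prime hy.cube fun h => hy.not_mem_T (h ▸ one_mem _)
  obtain ⟨c, a, haK, hcu, hcy, ha3⟩ := exists_conj_sub (E := E) hu2 hu1 hyu Nat.prime_three
    (by norm_num) hy3 (fun b hb => E.D.conj_Zk Nat.prime_three (by norm_num) h3h hp3.symm hb)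
  obtain ⟨g0, hg0⟩ := exists_prime_orderOf_dvd_card' (G := A.X) 5 (by
    rw [Nat.card_congr A.iso.toEquiv, card_a5]; norm_num)
  obtain ⟨-, b5, hb5K, -, -, hb5⟩ := exists_conj_sub (E := E) hu2 hu1 (A.u_comm g0 g0.2).symm
    Nat.prime_five (by norm_num) (by rw [Subgroup.orderOf_coe, hg0])
    (fun b hb => E.D.conj_Zk Nat.prime_five (by norm_num) h5h hp5.symm hb)
  have ha1 : a ≠ 1 := fun h => by rw [h, orderOf_one] at ha3; norm_num at ha3
  set w := c * z * c⁻¹ with hw
  set g := E.ι (1, a) with hgdef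
  have hwl : orderOf w = l := by rw [hw]; exact (MulEquiv.orderOf_eq (MulAut.conj c) z).trans hzl
  have hwg : w * g = g * w := by
    rw [hw, ← hcy]
    calc c * z * c⁻¹ * (c * y * c⁻¹) = c * (z * y) * c⁻¹ := by group
      _ = c * (y * z) * c⁻¹ := by rw [A.fused z hz]
      _ = c * y * c⁻¹ * (c * z * c⁻¹) := by group
  have hτw : E.τ * w * E.τ⁻¹ = w⁻¹ := by
    rw [← hcu, hw]
    calc c * u * c⁻¹ * (c * z * c⁻¹) * (c * u * c⁻¹)⁻¹ = c * (u * z * u⁻¹) * c⁻¹ := by group
      _ = (c * z * c⁻¹)⁻¹ := by rw [hinv z hz]; group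
  obtain ⟨Mg, memM⟩ := exists_kernel hy (fun b hb => E.D.cent_k a haK ha1 b hb) E.D.odd_Zk hl hl30
    hz hzl hw hwg (A.fused z hz)
  have hModd : Odd (Nat.card Mg) := by
    rw [← Nat.not_even_iff_odd, even_iff_two_dvd]
    intro h2
    haveI : Fact (Nat.Prime 2) := ⟨Nat.prime_two⟩
    obtain ⟨x, hx⟩ := exists_prime_orderOf_dvd_card' (G := Mg) 2 h2
    have ho := ((memM _).1 x.2).2.1
    rw [Subgroup.orderOf_coe, hx] at ho
    exact absurd ho (by decide)
  have hMl : (Nat.card Mg).Coprime l := by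
    rw [Nat.coprime_comm, hl.coprime_iff_not_dvd]
    intro h2
    obtain ⟨x, hx⟩ := exists_prime_orderOf_dvd_card' (G := Mg) l h2
    have ho := ((memM _).1 x.2).2.2
    rw [Subgroup.orderOf_coe, hx, Nat.coprime_self] at ho
    exact hl.ne_one ho
  obtain ⟨hinf, hUn, hfpf, hcardA⟩ := dihedral_facts E hl hl2 hwl hτw
  set Ad := zpowers w ⊔ zpowers E.τ with hAd
  have hAg : Ad ≤ centralizer ({g} : Set G) := sup_le (zpowers_le.2 (mem_centralizer_singleton_iff.2 hwg))
    (zpowers_le.2 (mem_centralizer_singleton_iff.2 (E.τ_comm (1, a)).symm))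
  have hnormM : ∀ q : G, q * g = g * q → ∀ x ∈ Mg, q * x * q⁻¹ ∈ Mg := by
    intro q hq x hx
    obtain ⟨h1, h2, h3⟩ := (memM x).1 hx
    have ho : orderOf (q * x * q⁻¹) = orderOf x := MulEquiv.orderOf_eq (MulAut.conj q) x
    refine (memM _).2 ⟨?_, ho ▸ h2, ho ▸ h3⟩
    exact (((show Commute q g from hq).mul_left h1).mul_left (show Commute q g from hq).inv_left).eq
  have hAM : Ad ≤ normalizer (Mg : Set G) := fun q hq => by
    have hq' := mem_centralizer_singleton_iff.1 (hAg hq)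
    have hq'' := mem_centralizer_singleton_iff.1 (inv_mem (hAg hq))
    refine mem_normalizer_iff.2 fun x => ⟨hnormM q hq' x, fun hx => ?_⟩
    have h := hnormM q⁻¹ hq'' _ hx
    simpa [mul_assoc] using h
  have hMsol : Group.IsSolvable Mg := S0205.result hModd
  have hcopA : (Nat.card Ad).Coprime (Nat.card Mg) := by
    rw [hcardA]
    exact hMl.symm.mul_left (Nat.coprime_two_left.2 hModd)
  obtain ⟨Rp, hRp⟩ := CoprimeAct.exists_invariant_sylow hAM hcopA (Or.inr hMsol) 5
  set R := (Rp : Subgroup Mg).map Mg.subtype with hR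
  have hRM : R ≤ Mg := map_subtype_le _
  have hRp' : IsPGroup 5 R := Rp.2.map _
  have h5M : 5 ∣ Nat.card Mg := by
    have hb : orderOf (E.ι (1, b5)) = 5 := by
      rw [orderOf_injective E.ι E.inj, Prod.orderOf_mk, orderOf_one, Nat.lcm_one_left, hb5]
    have hm : E.ι (1, b5) ∈ Mg := (memM _).2 ⟨by
      show E.ι (1, b5) * g = g * E.ι (1, b5)
      rw [hgdef, ← map_mul, ← map_mul]
      exact congrArg E.ι (Prod.ext rfl (E.D.Zk_comm b5 hb5K a haK)), hb.symm ▸ (by decide), by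
        rw [hb]; exact (Nat.coprime_primes Nat.prime_five hl).2 (by omega)⟩
    exact hb ▸ orderOf_dvd_natCard _ hm
  -- the elements of order five in the centre
  let V : Subgroup G :=
    { carrier := {x | x ∈ R ∧ (∀ q ∈ R, q * x = x * q) ∧ x ^ 5 = 1}
      one_mem' := ⟨one_mem _, fun q _ => by simp, one_pow 5⟩
      mul_mem' := fun {x x'} hx hx' => ⟨mul_mem hx.1 hx'.1, fun q hq =>
        ((show Commute q x from hx.2.1 q hq).mul_right (hx'.2.1 q hq)).eq, by
          rw [(show Commute x x' from hx'.2.1 x hx.1).mul_pow, hx.2.2, hx'.2.2, mul_one]⟩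
      inv_mem' := fun {x} hx => ⟨inv_mem hx.1, fun q hq =>
        (show Commute q x from hx.2.1 q hq).inv_right.eq, by rw [_root_.inv_pow, hx.2.2, inv_one]⟩ }
  have hmemV : ∀ {x}, x ∈ V ↔ x ∈ R ∧ (∀ q ∈ R, q * x = x * q) ∧ x ^ 5 = 1 := Iff.rfl
  have hVR : V ≤ R := fun x hx => (hmemV.1 hx).1
  have hRnorm : ∀ q ∈ Ad, ∀ x ∈ R, q * x * q⁻¹ ∈ R := fun q hq x hx =>
    (mem_normalizer_iff.1 (hRp hq) x).1 hx
  have hVnorm : ∀ q ∈ Ad, ∀ x ∈ V, q * x * q⁻¹ ∈ V := by
    intro q hq x hx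
    obtain ⟨h1, h2, h3⟩ := hmemV.1 hx
    refine hmemV.2 ⟨hRnorm q hq x h1, fun r hr => ?_, by rw [conj_pow, h3, mul_one, mul_inv_cancel]⟩
    have hr' : q⁻¹ * r * q ∈ R := by
      have := hRnorm q⁻¹ (inv_mem hq) r hr
      rwa [inv_inv] at this
    calc r * (q * x * q⁻¹) = q * ((q⁻¹ * r * q) * x) * q⁻¹ := by group
      _ = q * (x * (q⁻¹ * r * q)) * q⁻¹ := by rw [h2 _ hr']
      _ = q * x * q⁻¹ * r := by group
  have hV1 : V ≠ ⊥ := by
    have h5R : 5 ∣ Nat.card R := by
      rw [hR, card_map_of_injective Mg.subtype_injective, Rp.card_eq_multiplicity]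
      exact dvd_pow_self _ ((Nat.prime_five.factorization_pos_of_dvd Nat.card_pos.ne' h5M).ne')
    haveI : Nontrivial R := Finite.one_lt_card_iff_nontrivial.1 (by
      have := Nat.le_of_dvd Nat.card_pos h5R; omega)
    haveI := hRp'.center_nontrivial
    obtain ⟨m, hm⟩ := (hRp'.to_subgroup (center R)).exists_card_eq
    have hm0 : m ≠ 0 := by
      rintro rfl
      exact (Finite.one_lt_card (α := center R)).ne' (by simpa using hm)
    obtain ⟨v, hv⟩ := exists_prime_orderOf_dvd_card' (G := center R) 5 (hm ▸ dvd_pow_self 5 hm0)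
    intro hbot
    have hmem : ((v : R) : G) ∈ V := hmemV.2 ⟨(v : R).2, fun q hq =>
      congrArg Subtype.val (mem_center_iff.1 v.2 ⟨q, hq⟩), by
        have h := congrArg (fun q : center R => ((q : R) : G)) (pow_orderOf_eq_one v)
        rw [hv] at h
        simpa using h⟩
    rw [hbot, mem_bot] at hmem
    have h' : v = 1 := Subtype.ext (Subtype.ext hmem)
    rw [h', orderOf_one] at hv
    norm_num at hv
  obtain ⟨m, hm⟩ := (hRp'.to_le hVR).exists_card_eq
  have hVM : V ≤ Mg := hVR.trans hRM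
  -- fixed points
  have hVw : V ⊓ centralizer ((zpowers w : Subgroup G) : Set G) = ⊥ := by
    refine (eq_bot_iff_forall _).2 fun x hx => ?_
    obtain ⟨hxV, hxw⟩ := mem_inf.1 hx
    have hxw' : x * w = w * x := (mem_centralizer_iff.1 hxw w (mem_zpowers w)).symm
    have hxg : x * g = g * x := ((memM x).1 (hVM hxV)).1
    set x' := c⁻¹ * x * c with hx'
    have hxz : x' * z = z * x' := by
      calc c⁻¹ * x * c * z = c⁻¹ * (x * (c * z * c⁻¹)) * c := by group
        _ = c⁻¹ * (c * z * c⁻¹ * x) * c := by rw [← hw, hxw']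
        _ = z * (c⁻¹ * x * c) := by group
    have hxy : x' * y = y * x' := by
      calc c⁻¹ * x * c * y = c⁻¹ * (x * (c * y * c⁻¹)) * c := by group
        _ = c⁻¹ * (c * y * c⁻¹ * x) * c := by rw [hcy, hxg]
        _ = y * (c⁻¹ * x * c) := by group
    have hx5 : x' ^ 5 = 1 := by
      rw [hx', show c⁻¹ * x * c = c⁻¹ * x * c⁻¹⁻¹ by rw [inv_inv], conj_pow, (hmemV.1 hxV).2.2, mul_one,
        mul_inv_cancel]
    obtain ⟨v, hv, c0, hc0, hvc⟩ := A.dec z hz hz1 x' hxz
    have hc05 : c0 = 1 := by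
      rw [hvc, (show Commute v c0 from A.comm v hv c0 hc0).mul_pow] at hx5
      have h1 : c0 ^ 5 = 1 := mem_bot.1 (A.inf ▸ mem_inf.2 ⟨by
        rw [← inv_eq_of_mul_eq_one_right hx5]; exact inv_mem (pow_mem hv 5), pow_mem hc0 5⟩)
      by_contra hne
      exact h5h (orderOf_eq_prime h1 hne ▸ E.card_Zg ▸ orderOf_dvd_natCard _ hc0)
    rw [hvc, hc05, mul_one] at hxy hx5
    let vX : A.X := ⟨v, hv⟩
    let yX : A.X := ⟨y, A.y_mem⟩
    have h3 : (A.iso vX) ^ 3 = 1 := a5_cent_three (A.iso yX)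
      (by rw [← map_pow, show yX ^ 3 = 1 from Subtype.ext hy.cube, map_one])
      (fun h => hy.not_mem_T (by
        rw [show y = 1 from congrArg Subtype.val (A.iso.injective (h.trans (map_one _).symm))]
        exact one_mem _))
      (A.iso vX) (by rw [← map_mul, ← map_mul]; exact congrArg A.iso (Subtype.ext hxy))
    have h3' : v ^ 3 = 1 :=
      congrArg Subtype.val (A.iso.injective (((map_pow A.iso vX 3).trans h3).trans (map_one _).symm))
    have hv1 : v = 1 := by
      calc v = (v ^ 3) ^ 2 * (v ^ 5)⁻¹ := by group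
        _ = 1 := by rw [h3', hx5, one_pow, inv_one, one_mul]
    calc x = c * x' * c⁻¹ := by rw [hx']; group
      _ = 1 := by rw [hvc, hc05, hv1, mul_one, mul_one, mul_inv_cancel]
  have hVτ : Nat.card ↥(V ⊓ centralizer ((zpowers E.τ : Subgroup G) : Set G)) ∣ 5 := by
    have hb : orderOf (E.ι (1, b5)) = 5 := by
      rw [orderOf_injective E.ι E.inj, Prod.orderOf_mk, orderOf_one, Nat.lcm_one_left, hb5]
    rw [← hb, ← Nat.card_zpowers]
    refine card_dvd_of_le fun x hx => ?_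
    obtain ⟨hxV, hxτ⟩ := mem_inf.1 hx
    obtain ⟨⟨e, b⟩, rfl⟩ := E.cent x (mem_centralizer_iff.1 hxτ E.τ (mem_zpowers _)).symm
    have hxg := ((memM _).1 (hVM hxV)).1
    rw [← map_mul, ← map_mul] at hxg
    have hbK : b ∈ E.D.Zk := E.D.cent_k a haK ha1 b (congrArg Prod.snd (E.inj hxg))
    have h5 := (hmemV.1 hxV).2.2
    rw [← map_pow, Prod.pow_mk] at h5
    have h5' := E.inj (h5.trans (map_one E.ι).symm)
    have he : e = 1 := by
      have h : e ^ 5 = 1 := congrArg Prod.fst h5'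
      rwa [show 5 = 2 * 2 + 1 from rfl, pow_succ, pow_mul, pow_two e, C2_sq, one_pow, one_mul] at h
    obtain ⟨n, hn⟩ := mem_zpowers_iff.1 (mem_zpowers_cyclic E.D.Zk_cyclic hb5K hbK
      (by rw [hb5]; exact congrArg Prod.snd h5') : b ∈ zpowers b5)
    refine mem_zpowers_iff.2 ⟨n, ?_⟩
    rw [← map_zpow, he]
    exact congrArg E.ι (Prod.ext (one_zpow n) hn)
  have hVA : V ⊓ centralizer ((Ad : Subgroup G) : Set G) = ⊥ :=
    le_bot_iff.1 (hVw ▸ inf_le_inf_left V (centralizer_le fun x hx =>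
      (le_sup_left : zpowers w ≤ Ad) hx))
  have hVodd : Odd (Nat.card V) := hModd.of_dvd_nat (card_dvd_of_le hVM)
  have hform := Char.Wielandt.frobenius_formula (zpowers w) (zpowers E.τ) V hinf hUn hfpf hVnorm
    (S0205.result hVodd) ((hcopA.coprime_dvd_right (card_dvd_of_le hVM)).symm)
  rw [← hAd, hVA, hVw, card_bot, one_pow, one_mul, mul_one, Nat.card_zpowers,
    orderOf_eq_prime (by rw [pow_two]; exact E.τ_sq) E.τ_ne] at hform
  have h25 : Nat.card V = 25 := by
    have hV : Nat.card V ≠ 1 := fun h => hV1 (card_eq_one.1 h)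
    rcases (Nat.dvd_prime Nat.prime_five).1 hVτ with h | h <;> rw [h] at hform
    · exact absurd hform hV
    · exact hform
  -- the congruence
  letI : MulAction (zpowers w) V :=
    { smul := fun x q => ⟨(x : G) * q * (x : G)⁻¹,
        hVnorm x ((le_sup_left : zpowers w ≤ Ad) x.2) q q.2⟩
      one_smul := fun q => Subtype.ext (by show (1 : G) * q * (1 : G)⁻¹ = q; simp)
      mul_smul := fun x x' q => Subtype.ext (by
        show (x : G) * x' * q * ((x : G) * x')⁻¹ = x * (x' * q * (x' : G)⁻¹) * (x : G)⁻¹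
        group) }
  have hfix : Nat.card (MulAction.fixedPoints (zpowers w) V) = 1 := by
    refine Nat.card_eq_one_iff_unique.2 ⟨⟨fun q q' => Subtype.ext ?_⟩, ⟨⟨1, fun x => Subtype.ext ?_⟩⟩⟩
    · have key : ∀ r : MulAction.fixedPoints (zpowers w) V, (r.1 : G) = 1 := fun r => by
        refine mem_bot.1 (hVw ▸ mem_inf.2 ⟨r.1.2, mem_centralizer_iff.2 fun x hx => ?_⟩)
        exact mul_inv_eq_iff_eq_mul.1 (congrArg Subtype.val (r.2 ⟨x, hx⟩))
      exact Subtype.ext ((key q).trans (key q').symm)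
    · show (x : G) * ((1 : V) : G) * (x : G)⁻¹ = ((1 : V) : G)
      simp
  have hcong := (IsPGroup.of_card (n := 1) (G := zpowers w) (by
    rw [Nat.card_zpowers, hwl, pow_one]) : IsPGroup l (zpowers w)).card_modEq_card_fixedPoints V
  rw [hfix, h25] at hcong
  have h24 : l ∣ 2 ^ 3 * 3 := (Nat.modEq_iff_dvd' (by norm_num)).1 hcong.symm
  rcases hl.dvd_mul.1 h24 with h | h
  · have := (Nat.prime_dvd_prime_iff_eq hl Nat.prime_two).1 (hl.dvd_of_dvd_pow h)
    omega
  · have := (Nat.prime_dvd_prime_iff_eq hl Nat.prime_three).1 h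
    omega

/-- No centraliser of a torus element is `Zg × A₅`. -/
theorem not_A5 (hy : E.IsY y) (hu2 : u * u = 1) (hu1 : u ≠ 1) (huτ : u * E.τ = E.τ * u)
    (hinv : ∀ z ∈ E.Zg, u * z * u⁻¹ = z⁻¹) (hyu : y * u = u * y) {z : G} (hz : z ∈ E.Zg)
    (hz1 : z ≠ 1) (hyz : y * z = z * y) : ¬ E.IsA5Case z := fun hA => by
  obtain ⟨A⟩ := exists_A5Data hy hu2 huτ hinv hyu hz hz1 hyz hA
  exact A.false_case hy hu2 hu1 hinv hyu (p_ne_three hy hu2 hu1 hinv hyu hz hz1 hyz)
    (p_ne_five hy hu2 hu1 huτ hinv hyu hz hz1 hyz hA)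

end Setup

end Cfsg.Agent.JanThom
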