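import Cfsg.Agent.Lib.JanThom.FixData
import Cfsg.Agent.Lib.JanThom.NoA5
import Cfsg.Agent.Lib.JanThom.GenTI
import Cfsg.Agent.Lib.JanThom.Galois

/-!
`y` fixes no element of the torus: the virtual characters induced from the local group of a fixed
element of prime order would meet a real row of the section columns.
-/

set_option autoImplicit false
set_option linter.unusedSectionVars false
set_option linter.style.haveILetI false

namespace Cfsg.Agent.JanThom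

open Subgroup Cfsg Cfsg.Agent.Char Cfsg.Agent.LocalTI
open scoped ComplexConjugate Classical

universe u v

namespace Setup

variable {G : Type u} [Group G] [Fintype G] {L : Type v} [Group L] {Q : ℤ} {E : Setup G L Q}

namespace FixData

variable (F : E.FixData)

/-- `2 - Λ - Λ⁻¹`. -/
noncomputable def g2 (x : G) : ℂ := 2 - F.Lam x - conj (F.Lam x)

/-- The local function, as a function on `G`. -/
noncomputable def fval (ω : ℂ) (x : G) : ℂ := if x ∈ F.M then F.psi ω x * F.g2 x else 0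

/-- The local function. -/
noncomputable def f (ω : ℂ) (n : F.N) : ℂ := F.fval ω (n : G)

/-- The set carrying the local functions. -/
def D (n : F.N) : Prop := (n : G) ∈ F.M ∧ (n : G) ^ F.e ≠ 1

theorem g2_real (x : G) : conj (F.g2 x) = F.g2 x := by
  simp only [g2, map_sub, map_ofNat, Complex.conj_conj]; ring

theorem g2_inv {x : G} (hx : x ∈ F.M) : F.g2 x⁻¹ = F.g2 x := by
  rw [g2, g2, F.Lam_inv hx, Complex.conj_conj]; ring

theorem fval_supp {ω : ℂ} {x : G} (h : F.fval ω x ≠ 0) : x ∈ F.M ∧ x ^ F.e ≠ 1 := by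
  unfold fval at h
  split_ifs at h with hx
  · refine ⟨hx, fun he => h ?_⟩
    rw [g2, (F.Lam_eq_one hx).2 he, map_one]; ring
  · exact absurd rfl h

theorem fval_conj (ω : ℂ) (x : G) : conj (F.fval ω x) = F.fval (conj ω) x := by
  unfold fval
  split_ifs with hx
  · rw [map_mul, F.psi_conj, F.g2_real]
  · exact map_zero _

theorem fval_inv {ω : ℂ} (hω : ω ^ 3 = 1) (x : G) : F.fval ω x⁻¹ = F.fval (conj ω) x := by
  unfold fval
  by_cases hx : x ∈ F.M
  · rw [if_pos (inv_mem hx), if_pos hx, F.psi_inv hω hx, F.g2_inv hx]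
  · rw [if_neg fun h => hx (by simpa using inv_mem h), if_neg hx]

theorem sum_N_ite (X : Subgroup G) (hX : X ≤ F.N) (Φ : G → ℂ) :
    ∑ n : F.N, (if (n : G) ∈ X then Φ n else 0) = ∑ x : X, Φ x := by
  rw [← Finset.sum_filter]
  refine Finset.sum_bij' (fun n hn => ⟨(n : G), (Finset.mem_filter.1 hn).2⟩)
    (fun x _ => ⟨(x : G), hX x.2⟩) (fun _ _ => Finset.mem_univ _)
    (fun x _ => Finset.mem_filter.2 ⟨Finset.mem_univ _, x.2⟩) (fun _ _ => rfl) (fun _ _ => rfl)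
    (fun _ _ => rfl)

theorem sum_zero {H : Type*} [Group H] [Fintype H] (Φ : H → ℂ)
    (hm : ∀ a b, Φ (a * b) = Φ a * Φ b) {a : H} (ha : Φ a ≠ 1) : ∑ x, Φ x = 0 := by
  have h : ∑ x, Φ x = Φ a * ∑ x, Φ x := by
    rw [Finset.mul_sum]
    exact (Fintype.sum_equiv (Equiv.mulLeft a) _ _ fun x => (hm a x).symm).symm
  by_contra h0
  exact ha ((mul_eq_right₀ h0).1 h.symm)

theorem sum_g2 {H : Type*} [Group H] [Fintype H] (ρ : H →* G) (hρ : ∀ a, ρ a ∈ F.M) {a : H}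
    (ha : ρ a ^ F.e ≠ 1) : ∑ x, F.g2 (ρ x) = 2 * (Fintype.card H : ℂ) := by
  have h1 : F.Lam (ρ a) ≠ 1 := fun h => ha ((F.Lam_eq_one (hρ a)).1 h)
  have hz := sum_zero (fun x => F.Lam (ρ x))
    (fun b c => by simp only [map_mul]; exact F.Lam_mul (hρ b) (hρ c)) h1
  simp only [g2, Finset.sum_sub_distrib, Finset.sum_const, Finset.card_univ, nsmul_eq_mul, ← map_sum,
    hz, map_zero]
  ring

theorem exists_M_ne : ∃ a : F.M, (a : G) ^ F.e ≠ 1 ∧ (a : G) ∈ E.T := by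
  obtain ⟨z, hz, hz1⟩ := F.exists_pow_e_ne
  exact ⟨⟨z, F.T_le_M (E.Zg_le_T hz)⟩, hz1, E.Zg_le_T hz⟩

/-- Sums of `ψ·Λ^±` over `M`. -/
theorem sum_psi_lam {ω : ℂ} (hω : ω ^ 3 = 1) (Φ : G → ℂ)
    (hm : ∀ a ∈ F.M, ∀ b ∈ F.M, Φ (a * b) = Φ a * Φ b) (hy : Φ F.y = 1)
    (hz : ω = 1 → ∃ a : F.M, Φ a ≠ 1) : ∑ x : F.M, F.psi ω x * Φ x = 0 := by
  have hm' : ∀ a b : F.M, F.psi ω ((a * b : F.M) : G) * Φ ((a * b : F.M) : G) =
      (F.psi ω a * Φ a) * (F.psi ω b * Φ b) := fun a b => by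
    rw [Subgroup.coe_mul, F.psi_mul hω a.2 b.2, hm _ a.2 _ b.2]; ring
  by_cases h1 : ω = 1
  · obtain ⟨a, ha⟩ := hz h1
    exact sum_zero _ hm' (a := a) (by rw [h1, F.psi_triv, one_mul]; exact ha)
  · exact sum_zero _ hm' (a := ⟨F.y, F.y_mem⟩) (by
      show F.psi ω F.y * Φ F.y ≠ 1
      rw [F.psi_y hω, hy, mul_one]; exact h1)

theorem Lam_y : F.Lam F.y = 1 := (F.Lam_eq_one F.y_mem).2 F.y_pow_e

theorem sum_M_lin {ω : ℂ} (hω : ω ^ 3 = 1) (h1 : ω ≠ 1) :
    ∑ x : F.M, F.psi ω x * F.g2 x = 0 := by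
  have a0 := F.sum_psi_lam hω (fun _ => 1) (fun _ _ _ _ => (one_mul 1).symm) rfl fun h => absurd h h1
  have a1 := F.sum_psi_lam hω F.Lam (fun _ ha _ hb => F.Lam_mul ha hb) F.Lam_y fun h => absurd h h1
  have a2 := F.sum_psi_lam hω (fun x => conj (F.Lam x))
    (fun _ ha _ hb => by rw [F.Lam_mul ha hb, map_mul]) (by rw [F.Lam_y, map_one]) fun h => absurd h h1
  simp only [mul_one] at a0
  simp only [g2, mul_sub, Finset.sum_sub_distrib, ← Finset.sum_mul, a0, a1, a2]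
  ring

theorem sum_M_sq {ω : ℂ} (hω : ω ^ 3 = 1) :
    ∑ x : F.M, F.psi ω x * (F.g2 x * F.g2 x) = if ω = 1 then 6 * (Fintype.card F.M : ℂ) else 0 := by
  obtain ⟨a, ha, -⟩ := F.exists_M_ne
  have hne : F.Lam a ≠ 1 := fun h => ha ((F.Lam_eq_one a.2).1 h)
  have hne2 : F.Lam a * F.Lam a ≠ 1 := F.Lam_sq_ne a.2 ha
  have hcne : ∀ z : ℂ, z ≠ 1 → conj z ≠ 1 := fun z hz h => hz (by
    have := congrArg conj h
    rwa [Complex.conj_conj, map_one] at this)
  have a1 := F.sum_psi_lam hω F.Lam (fun _ hb _ hc => F.Lam_mul hb hc) F.Lam_y fun _ => ⟨a, hne⟩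
  have a2 := F.sum_psi_lam hω (fun x => conj (F.Lam x))
    (fun _ hb _ hc => by rw [F.Lam_mul hb hc, map_mul]) (by rw [F.Lam_y, map_one])
    fun _ => ⟨a, hcne _ hne⟩
  have a3 := F.sum_psi_lam hω (fun x => F.Lam x * F.Lam x)
    (fun _ hb _ hc => by rw [F.Lam_mul hb hc]; ring) (by rw [F.Lam_y, one_mul]) fun _ => ⟨a, hne2⟩
  have a4 := F.sum_psi_lam hω (fun x => conj (F.Lam x * F.Lam x))
    (fun _ hb _ hc => by rw [F.Lam_mul hb hc]; simp only [map_mul]; ring)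
    (by rw [F.Lam_y, one_mul, map_one]) fun _ => ⟨a, hcne _ hne2⟩
  have hexp : ∀ x : F.M, F.psi ω x * (F.g2 x * F.g2 x) =
      6 * F.psi ω x - 4 * (F.psi ω x * F.Lam x) - 4 * (F.psi ω x * conj (F.Lam x)) +
        F.psi ω x * (F.Lam x * F.Lam x) + F.psi ω x * conj (F.Lam x * F.Lam x) := fun x => by
    rw [g2, map_mul]
    linear_combination (2 * F.psi ω x) * F.Lam_mul_conj x.2
  rw [Finset.sum_congr rfl fun x _ => hexp x]
  simp only [Finset.sum_add_distrib, Finset.sum_sub_distrib, ← Finset.mul_sum, a1, a2, a3, a4]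
  split_ifs with h1
  · subst h1
    simp only [F.psi_triv, Finset.sum_const, Finset.card_univ, nsmul_eq_mul, mul_one]
    ring
  · have a0 := F.sum_psi_lam hω (fun _ => 1) (fun _ _ _ _ => (one_mul 1).symm) rfl fun h => absurd h h1
    simp only [mul_one] at a0
    rw [a0]; ring

/-! ### The local functions are virtual characters -/

/-- A linear character of `M`, inside `N`. -/
noncomputable def linHom (Φ : G → ℂ) (h1 : Φ 1 = 1)
    (hm : ∀ a ∈ F.M, ∀ b ∈ F.M, Φ (a * b) = Φ a * Φ b) : F.M.subgroupOf F.N →* ℂˣ :=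
  MonoidHom.toHomUnits
    { toFun := fun m => Φ ((m : F.N) : G)
      map_one' := h1
      map_mul' := fun a b => hm _ (mem_subgroupOf.1 a.2) _ (mem_subgroupOf.1 b.2) }

theorem index_M : (F.M.subgroupOf F.N).index = 2 := by
  refine index_eq_two_iff.2 ⟨⟨F.u, F.u_mem⟩, fun b => ?_⟩
  rw [mem_subgroupOf, mem_subgroupOf, Subgroup.coe_mul]
  by_cases hb : (b : G) ∈ F.M
  · exact Or.inr ⟨hb, fun h => F.u_not_mem ((F.M.mul_mem_cancel_left hb).1 h)⟩
  · exact Or.inl ⟨F.mul_u_mem b.2 hb, hb⟩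

theorem card_Mn : Nat.card (F.M.subgroupOf F.N) = Nat.card F.M :=
  Nat.card_congr (subgroupOfEquivOfLe F.M_le_N).toEquiv

theorem card_N : (Fintype.card F.N : ℂ) = 2 * (Fintype.card F.M : ℂ) := by
  rw [← Nat.card_eq_fintype_card, ← Nat.card_eq_fintype_card, ← card_mul_index (F.M.subgroupOf F.N),
    F.index_M, F.card_Mn, Nat.cast_mul, Nat.cast_ofNat, mul_comm]

theorem f_gen {ω : ℂ} (hω : ω ^ 3 = 1) : Cfsg.IsGeneralizedCharacter F.N (F.f ω) := by
  set Mn := F.M.subgroupOf F.N with hMn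
  let χ₀ := F.linHom (F.psi ω) (F.psi_T ω (one_mem _)) fun _ ha _ hb => F.psi_mul hω ha hb
  let χ₁ := F.linHom (fun x => F.psi ω x * F.Lam x)
    (by rw [F.psi_T ω (one_mem _), F.Lam_one, one_mul])
    fun _ ha _ hb => by rw [F.psi_mul hω ha hb, F.Lam_mul ha hb]; ring
  let θ : Mn → ℂ := fun m => (χ₀ m : ℂ) - (χ₁ m : ℂ)
  let θG : G → ℂ := fun x => F.psi ω x - F.psi ω x * F.Lam x
  have hθ : Cfsg.IsGeneralizedCharacter Mn θ := IsGeneralizedCharacter.sub
    (IsGeneralizedCharacter.of_isCharacter (IsIrrCharacter.isCharacter (isIrrCharacter_linear χ₀)))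
    (IsGeneralizedCharacter.of_isCharacter (IsIrrCharacter.isCharacter (isIrrCharacter_linear χ₁)))
  suffices h : F.f ω = Cfsg.indFun Mn θ from h ▸ IsGeneralizedCharacter.indFun Mn hθ
  have hext : ∀ z : F.N, Cfsg.extendByZero Mn θ z = if (z : G) ∈ F.M then θG z else 0 := by
    intro z
    split_ifs with hz
    · rw [extendByZero_mem Mn θ (show z ∈ Mn from hz)]; rfl
    · exact extendByZero_not_mem Mn θ (show z ∉ Mn from hz)
  have hcoe : ∀ a b : F.N, ((a⁻¹ * b * a : F.N) : G) = (a : G)⁻¹ * b * a := fun a b => rfl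
  funext n
  rw [indFun_apply]
  show F.fval ω (n : G) = _
  by_cases hn : (n : G) ∈ F.M
  · set t : F.N → ℂ := fun g => θG ((g : G)⁻¹ * n * g) with ht
    have hsum : ∑ g : F.N, Cfsg.extendByZero Mn θ (g⁻¹ * n * g) = ∑ g, t g :=
      Finset.sum_congr rfl fun g _ => by
        rw [hext, hcoe, if_pos (by simpa using F.N_conj_M (inv_mem g.2) hn)]
    have hM : ∀ g : G, g ∈ F.M → θG (g⁻¹ * n * g) + θG (F.u * (g⁻¹ * n * g) * F.u⁻¹) =
        F.psi ω n * F.g2 n := by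
      intro g hg
      have hm : g⁻¹ * n * g ∈ F.M := mul_mem (mul_mem (inv_mem hg) hn) hg
      have e1 : F.Lam (g⁻¹ * n * g) = F.Lam n := by
        rw [F.Lam_mul (mul_mem (inv_mem hg) hn) hg, F.Lam_mul (inv_mem hg) hn,
          mul_comm (F.Lam g⁻¹), mul_assoc, ← F.Lam_mul (inv_mem hg) hg, inv_mul_cancel, F.Lam_one,
          mul_one]
      have e2 : F.psi ω (g⁻¹ * n * g) = F.psi ω n := by
        rw [F.psi_mul hω (mul_mem (inv_mem hg) hn) hg, F.psi_mul hω (inv_mem hg) hn,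
          mul_comm (F.psi ω g⁻¹), mul_assoc, ← F.psi_mul hω (inv_mem hg) hg, inv_mul_cancel,
          F.psi_T ω (one_mem _), mul_one]
      simp only [θG]
      rw [F.psi_u hω hm, F.Lam_u hm, e1, e2, g2]
      ring
    have hpair : ∀ g : F.N, t g + t (g * ⟨F.u, F.u_mem⟩) = F.psi ω n * F.g2 n := by
      intro g
      simp only [ht, Subgroup.coe_mul]
      by_cases hg : (g : G) ∈ F.M
      · rw [← hM g hg]
        refine congrArg (fun r => θG ((g : G)⁻¹ * n * g) + θG r) ?_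
        rw [mul_inv_rev]
        simp only [F.u_inv]
        group
      · rw [← hM _ (F.mul_u_mem g.2 hg), add_comm]
        refine congrArg (fun r => θG (((g : G) * F.u)⁻¹ * n * ((g : G) * F.u)) + θG r) ?_
        group
    have h2 : 2 * ∑ g, t g = (Fintype.card F.N : ℂ) * (F.psi ω n * F.g2 n) := by
      have e : ∑ g : F.N, t (g * ⟨F.u, F.u_mem⟩) = ∑ g, t g :=
        Fintype.sum_equiv (Equiv.mulRight (⟨F.u, F.u_mem⟩ : F.N)) _ _ fun g => rfl
      rw [two_mul]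
      nth_rewrite 2 [← e]
      rw [← Finset.sum_add_distrib, Finset.sum_congr rfl fun g _ => hpair g, Finset.sum_const,
        Finset.card_univ, nsmul_eq_mul]
    rw [F.card_N] at h2
    rw [hsum, hMn, F.card_Mn, Nat.card_eq_fintype_card, fval, if_pos hn]
    have hc : (Fintype.card F.M : ℂ) ≠ 0 := Nat.cast_ne_zero.2 Fintype.card_ne_zero
    field_simp
    linear_combination (-1 / 2 : ℂ) * h2
  · rw [fval, if_neg hn, Finset.sum_eq_zero fun g _ => ?_, mul_zero]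
    rw [hext, hcoe, if_neg]
    intro h
    have h' := F.N_conj_M g.2 h
    rw [show (g : G) * ((g : G)⁻¹ * n * g) * (g : G)⁻¹ = n by group] at h'
    exact hn h'

theorem vanish {ω : ℂ} (hω : ω ^ 3 = 1) : GenVanish F.D (F.f ω) :=
  ⟨fun _ h => F.fval_supp h, F.f_gen hω⟩

theorem emb : Emb F.N.subtype F.D where
  inj := F.N.subtype_injective
  ti := fun a b ha hb g hg => ⟨⟨g, F.ti ha.1 hb.1 ha.2 hg⟩, rfl⟩

/-- The multiplicities. -/
noncomputable def A {ω : ℂ} (hω : ω ^ 3 = 1) (χ : IrrCharacter G) : ℤ :=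
  gcoef (F.vanish hω) F.N.subtype χ

theorem A_dot {ω ω' : ℂ} (hω : ω ^ 3 = 1) (hω' : ω' ^ 3 = 1) :
    ∑ χ, F.A hω χ * F.A hω' χ = if conj ω * ω' = 1 then 3 else 0 := by
  have hN : (Fintype.card F.N : ℂ) ≠ 0 := Nat.cast_ne_zero.2 Fintype.card_ne_zero
  refine Int.cast_injective (α := ℂ) (mul_right_cancel₀ hN ((gorth F.emb (F.vanish hω) (F.vanish hω')).trans ?_))
  have h3 : (conj ω * ω') ^ 3 = 1 := by rw [mul_pow, ← map_pow, hω, hω', map_one, one_mul]
  have hval : ∀ n : F.N, conj (F.f ω n) * F.f ω' n =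
      if (n : G) ∈ F.M then F.psi (conj ω * ω') n * (F.g2 n * F.g2 n) else 0 := fun n => by
    simp only [f, F.fval_conj]
    unfold fval
    split_ifs
    · rw [F.psi_pointwise]; ring
    · exact zero_mul _
  rw [Finset.sum_congr rfl fun n _ => hval n,
    F.sum_N_ite F.M F.M_le_N fun x => F.psi (conj ω * ω') x * (F.g2 x * F.g2 x), F.sum_M_sq h3, F.card_N]
  split_ifs <;> push_cast <;> ring

theorem A_principal {ω : ℂ} (hω : ω ^ 3 = 1) (h1 : ω ≠ 1) : F.A hω (principal G) = 0 := by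
  refine gcoef_eq _ _ _ ?_
  rw [Int.cast_zero, zero_mul]
  have hp : ∀ g : G, ((principal G : IrrCharacter G) : G → ℂ) g = 1 := fun g => rfl
  simp only [hp, mul_one, ← map_sum]
  refine Eq.symm ((map_eq_zero _).2 ?_)
  show ∑ n : F.N, F.fval ω (n : G) = 0
  unfold fval
  rw [F.sum_N_ite F.M F.M_le_N fun x => F.psi ω x * F.g2 x, F.sum_M_lin hω h1]

theorem A_cj [IsSimpleGroup G] {ω : ℂ} (hω : ω ^ 3 = 1) (hω' : conj ω ^ 3 = 1) (χ : IrrCharacter G) :
    F.A hω (cjPerm χ) = F.A hω' χ := by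
  refine gcoef_eq _ _ _ ((gcoef_spec (F.vanish hω') F.N.subtype χ).trans ?_)
  refine Fintype.sum_equiv (Equiv.inv F.N) _ _ fun n => ?_
  simp only [f, Equiv.inv_apply, Subgroup.coe_inv, map_inv, cjPerm_apply, inv_inv, F.fval_inv hω]

theorem A_deg {ω : ℂ} (hω : ω ^ 3 = 1) : dsum (F.A hω) = 0 :=
  gvanish (F.vanish hω) fun n hn hc => hn.2 (by
    obtain ⟨c, hc⟩ := isConj_iff.1 hc
    rw [mul_one, mul_inv_cancel] at hc
    show (F.N.subtype n) ^ F.e = 1
    rw [← hc, one_pow])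

variable [Fintype L]

theorem pow_e_section (x : L) : E.ι (c2, x) ^ F.e = E.ι (1, x ^ F.e) := by
  obtain ⟨r, hr⟩ := F.e_even
  rw [← map_pow, Prod.pow_mk, hr, pow_add c2, ← mul_pow, c2_sq, one_pow]

theorem A_tv [IsSimpleGroup G] {ω : ℂ} (hω : ω ^ 3 = 1) : ∑ χ, F.A hω χ * E.tv χ = 0 := by
  refine Int.cast_injective (α := ℂ) ?_
  push_cast
  simp only [E.tv_cast]
  refine gvanish (F.vanish hω) fun n hn hc => hn.2 ?_
  obtain ⟨c, hc⟩ := isConj_iff.1 hc
  show (F.N.subtype n) ^ F.e = 1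
  rw [← hc, conj_pow, F.E4_pow_e E.τ_mem_E4, mul_one, mul_inv_cancel]

/-- Multiplicities against the section columns. -/
theorem A_z {ω : ℂ} (hω : ω ^ 3 = 1) {X : Subgroup L} [Fintype X] (hX : Odd (Nat.card X))
    (lam : X →* ℂˣ) :
    (∑ χ, (F.A hω χ : ℂ) * (E.z hX lam χ : ℂ)) * (Fintype.card F.N : ℂ) * (Nat.card X : ℂ) =
      ∑ x : X, conj (lam x : ℂ) * ∑ n : F.N, conj (F.f ω n) *
        ((Finset.univ.filter fun c : G => c * (n : G)⁻¹ * c⁻¹ = E.ι (c2, (x : L))).card : ℂ) := by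
  calc (∑ χ, (F.A hω χ : ℂ) * (E.z hX lam χ : ℂ)) * (Fintype.card F.N : ℂ) * (Nat.card X : ℂ)
      = ∑ χ : IrrCharacter G, ((F.A hω χ : ℂ) * (Fintype.card F.N : ℂ)) *
          ((E.z hX lam χ : ℂ) * (Nat.card X : ℂ)) := by
        rw [Finset.sum_mul, Finset.sum_mul]
        exact Finset.sum_congr rfl fun χ _ => by ring
    _ = ∑ χ : IrrCharacter G, ∑ x : X, ∑ n : F.N, conj (lam x : ℂ) * (conj (F.f ω n) *
          ((χ : G → ℂ) (E.ι (c2, (x : L))) * conj ((χ : G → ℂ) (n : G)⁻¹))) := by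
        refine Finset.sum_congr rfl fun χ _ => ?_
        rw [A, gcoef_spec, E.z_spec, Finset.sum_mul_sum, Finset.sum_comm]
        refine Finset.sum_congr rfl fun x _ => Finset.sum_congr rfl fun n _ => ?_
        rw [IsCharacter.inv (IsIrrCharacter.isCharacter χ.2), Complex.conj_conj]
        show conj (F.f ω n) * (χ : G → ℂ) (n : G) * _ = _
        ring
    _ = _ := by
        rw [Finset.sum_comm]
        refine Finset.sum_congr rfl fun x _ => ?_
        rw [Finset.sum_comm, Finset.mul_sum]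
        refine Finset.sum_congr rfl fun n _ => ?_
        rw [← column_orth_count, ← Finset.mul_sum, ← Finset.mul_sum]

theorem A_z_zero {ω : ℂ} (hω : ω ^ 3 = 1) {X : Subgroup L} [Fintype X] (hX : Odd (Nat.card X))
    (hco : (Nat.card X).Coprime E.D.h) (lam : X →* ℂˣ) :
    ∑ χ, F.A hω χ * E.z hX lam χ = 0 := by
  refine Int.cast_injective (α := ℂ) ?_
  push_cast
  refine mul_right_cancel₀ (Nat.cast_ne_zero.2 (Fintype.card_ne_zero (α := F.N)))
    (mul_right_cancel₀ (Nat.cast_ne_zero.2 (Nat.card_pos (α := X)).ne') ((F.A_z hω hX lam).trans ?_))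
  rw [zero_mul, zero_mul]
  refine Finset.sum_eq_zero fun x _ => mul_eq_zero_of_right _ (Finset.sum_eq_zero fun n _ => ?_)
  by_cases h0 : F.f ω n = 0
  · rw [h0, map_zero, zero_mul]
  obtain ⟨hnM, hne⟩ := F.fval_supp h0
  refine mul_eq_zero_of_right _ (Nat.cast_eq_zero.2 (Finset.card_eq_zero.2
    (Finset.filter_eq_empty_iff.2 fun c _ hc => ?_)))
  have h := congrArg (· ^ F.e) hc
  simp only [conj_pow, F.pow_e_section] at h
  have hd : orderOf (c * (n : G)⁻¹ ^ F.e * c⁻¹) = F.l := by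
    rw [show c * (n : G)⁻¹ ^ F.e * c⁻¹ = MulAut.conj c ((n : G)⁻¹ ^ F.e) from rfl, MulEquiv.orderOf_eq]
    refine ((Nat.dvd_prime F.hl).1 (F.hwl ▸ orderOf_dvd_of_mem_zpowers (F.pow_e_mem (inv_mem hnM)))).resolve_left ?_
    rw [orderOf_eq_one_iff, inv_pow, inv_eq_one]; exact hne
  rw [h, orderOf_injective E.ι E.inj, Prod.orderOf_mk, orderOf_one, Nat.lcm_one_left] at hd
  have hdX : F.l ∣ Nat.card X := hd ▸ Subgroup.orderOf_dvd_natCard X (pow_mem x.2 _)
  exact F.hl.ne_one (Nat.eq_one_of_dvd_coprimes hco hdX F.l_dvd)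

theorem A_zh_one {ω : ℂ} (hω : ω ^ 3 = 1) : ∑ χ, F.A hω χ * E.zh 1 χ = 2 := by
  refine Int.cast_injective (α := ℂ) ?_
  push_cast
  refine mul_right_cancel₀ (Nat.cast_ne_zero.2 (Fintype.card_ne_zero (α := F.N)))
    (mul_right_cancel₀ (Nat.cast_ne_zero.2 (Nat.card_pos (α := E.D.Zh)).ne')
      ((F.A_z hω E.D.odd_Zh 1).trans ?_))
  have hmem : ∀ x : E.D.Zh, E.ι (c2, (x : L)) ∈ E.T := fun x =>
    E.mem_T.2 ⟨c2, x, mem_sup_left x.2, rfl⟩
  have hx : ∀ x : E.D.Zh, conj (((1 : E.D.Zh →* ℂˣ) x : ℂˣ) : ℂ) * (∑ n : F.N, conj (F.f ω n) *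
      ((Finset.univ.filter fun c : G => c * (n : G)⁻¹ * c⁻¹ = E.ι (c2, (x : L))).card : ℂ)) =
      (Fintype.card F.N : ℂ) * F.g2 (E.ι (1, (x : L))) := by
    intro x
    set g := E.ι (c2, (x : L)) with hg
    have hgM : g ∈ F.M := F.T_le_M (hmem x)
    let gN : F.N := ⟨g, F.M_le_N hgM⟩
    have hcount : ∀ n : F.N, conj (F.f ω n) *
        ((Finset.univ.filter fun c : G => c * (n : G)⁻¹ * c⁻¹ = g).card : ℂ) =
        conj (F.f ω n) * ((Finset.univ.filter fun c : F.N => c⁻¹ * gN⁻¹ * c = n).card : ℂ) := by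
      intro n
      by_cases h0 : F.f ω n = 0
      · rw [h0, map_zero, zero_mul, zero_mul]
      obtain ⟨hnM, hne⟩ := F.fval_supp h0
      have hne' : (n : G)⁻¹ ^ F.e ≠ 1 := by rw [inv_pow, Ne, inv_eq_one]; exact hne
      congr 2
      refine Finset.card_bij' (fun c hc => (⟨c, F.ti (inv_mem hnM) hgM hne' (Finset.mem_filter.1 hc).2⟩ : F.N))
        (fun c _ => (c : G)) (fun c hc => ?_) (fun c hc => ?_) (fun _ _ => rfl) (fun _ _ => rfl)
      · refine Finset.mem_filter.2 ⟨Finset.mem_univ _, Subtype.ext ?_⟩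
        show c⁻¹ * g⁻¹ * c = (n : G)
        rw [← (Finset.mem_filter.1 hc).2]; group
      · refine Finset.mem_filter.2 ⟨Finset.mem_univ _, ?_⟩
        rw [← (Finset.mem_filter.1 hc).2]
        show (c : G) * ((c : G)⁻¹ * g⁻¹ * c)⁻¹ * (c : G)⁻¹ = g
        group
    rw [Finset.sum_congr rfl fun n _ => hcount n]
    have hfib : ∑ n : F.N, conj (F.f ω n) *
        ((Finset.univ.filter fun c : F.N => c⁻¹ * gN⁻¹ * c = n).card : ℂ) =
        ∑ c : F.N, conj (F.f ω (c⁻¹ * gN⁻¹ * c)) := by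
      refine Eq.trans ?_ (Finset.sum_fiberwise Finset.univ (fun c : F.N => c⁻¹ * gN⁻¹ * c)
        fun c => conj (F.f ω (c⁻¹ * gN⁻¹ * c)))
      refine Finset.sum_congr rfl fun n _ => ?_
      rw [Finset.sum_congr rfl (fun c hc => by rw [(Finset.mem_filter.1 hc).2] : ∀ c ∈ _,
        conj (F.f ω (c⁻¹ * gN⁻¹ * c)) = conj (F.f ω n)), Finset.sum_const, nsmul_eq_mul, mul_comm]
    have hcls : ∀ c : F.N, F.f ω (c⁻¹ * gN⁻¹ * c) = F.f ω gN⁻¹ := fun c => by
      have := (F.vanish hω).cls gN⁻¹ c⁻¹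
      rwa [inv_inv] at this
    rw [hfib, Finset.sum_congr rfl fun c _ => congrArg conj (hcls c), Finset.sum_const, Finset.card_univ,
      nsmul_eq_mul, MonoidHom.one_apply, Units.val_one, map_one, one_mul]
    congr 1
    show conj (F.fval ω g⁻¹) = _
    rw [fval, if_pos (inv_mem hgM), F.psi_T ω (inv_mem (hmem x)), one_mul, F.g2_real, F.g2_inv hgM,
      g2, g2]
    have hτx : g = E.τ * E.ι (1, (x : L)) := by rw [hg, ← map_mul, Prod.mk_mul_mk, mul_one, one_mul]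
    rw [hτx, F.Lam_mul (F.T_le_M (E.E4_le_T E.τ_mem_E4))
      (F.T_le_M (E.Zg_le_T (E.ι_mem_Zg x.2))),
      (F.Lam_eq_one (F.T_le_M (E.E4_le_T E.τ_mem_E4))).2 (F.E4_pow_e E.τ_mem_E4), one_mul]
  rw [Finset.sum_congr rfl fun x _ => hx x, ← Finset.mul_sum]
  obtain ⟨z, hz, hz1⟩ := F.exists_pow_e_ne
  obtain ⟨z', hz', rfl⟩ := E.mem_Zg.1 hz
  have hs := F.sum_g2 ((E.ι.comp (MonoidHom.inr C2 L)).comp E.D.Zh.subtype)
    (fun a => F.T_le_M (E.Zg_le_T (E.ι_mem_Zg a.2))) (a := ⟨z', hz'⟩) hz1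
  simp only [MonoidHom.comp_apply, MonoidHom.inr_apply, Subgroup.subtype_apply] at hs
  rw [hs, Nat.card_eq_fintype_card]
  push_cast
  ring

variable [IsSimpleGroup G]

theorem A_ec {ω : ℂ} (hω : ω ^ 3 = 1) : ∑ χ, F.A hω χ * E.ec χ = 2 := by
  have hU : (Nat.card E.D.U).Coprime E.D.h := by
    rw [E.D.card_U]; exact E.D.coprime_orders.2.1.symm
  have h1 := F.A_z_zero hω E.D.odd_U hU E.D.psi
  have h2 := F.A_z_zero hω E.D.odd_U hU E.D.psi'
  have h3 := F.A_zh_one hω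
  simp only [ec, rho, zu, mul_sub, mul_add, Finset.sum_sub_distrib, Finset.sum_add_distrib,
    mul_left_comm _ (2 : ℤ), ← Finset.mul_sum, h1, h2, h3]
  norm_num

theorem A_bc {ω : ℂ} (hω : ω ^ 3 = 1) : ∑ χ, F.A hω χ * E.bc χ = 0 := by
  have hU : (Nat.card E.D.U).Coprime E.D.h := by
    rw [E.D.card_U]; exact E.D.coprime_orders.2.1.symm
  have hK : (Nat.card E.D.Zk).Coprime E.D.h := by
    rw [E.D.card_Zk]; exact E.D.coprime_orders.1.symm
  have h1 := F.A_z_zero hω E.D.odd_U hU E.D.psi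
  have h2 := F.A_z_zero hω E.D.odd_U hU E.D.psi'
  have h3 := F.A_z_zero hω E.D.odd_Zk hK 1
  simp only [bc, rho, zu, zk, mul_sub, mul_add, Finset.sum_sub_distrib, Finset.sum_add_distrib,
    h1, h2, h3]
  norm_num

theorem A_gal {ω : ℂ} (hω : ω ^ 3 = 1) (χ : IrrCharacter G) : F.A hω (E.gal χ) = F.A hω χ := by
  refine gcoef_eq _ _ _ ((gcoef_spec (F.vanish hω) F.N.subtype χ).trans
    (Finset.sum_congr rfl fun n _ => ?_))
  by_cases h0 : F.f ω n = 0
  · rw [h0, map_zero, zero_mul, zero_mul]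
  obtain ⟨hnM, -⟩ := F.fval_supp h0
  rw [E.gal_apply]
  have hord : orderOf (n : G) ∣ 12 * E.D.h := by
    refine orderOf_dvd_of_pow_eq_one ?_
    rw [← F.e_mul, pow_mul, ← F.hwl]
    exact orderOf_dvd_iff_pow_eq_one.1 (orderOf_dvd_of_mem_zpowers (F.pow_e_mem hnM))
  have hp : ¬ E.D.p ∣ orderOf (n : G) := fun h => by
    rcases E.D.prime_p.dvd_mul.1 (h.trans hord) with h12 | hh
    · have h3 : E.D.p ∣ 2 ^ 2 * 3 := h12
      rcases E.D.prime_p.dvd_mul.1 h3 with h2 | h2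
      · have := (Nat.prime_dvd_prime_iff_eq E.D.prime_p Nat.prime_two).1 (E.D.prime_p.dvd_of_dvd_pow h2)
        obtain ⟨r, hr⟩ := E.D.p_odd
        omega
      · exact F.hp3 ((Nat.prime_dvd_prime_iff_eq E.D.prime_p Nat.prime_three).1 h2)
    · exact E.not_p_dvd.1 hh
  show _ = conj (F.f ω n) * (χ : G → ℂ) ((n : G) ^ E.gexp)
  rw [← pow_mod_orderOf (n : G) E.gexp, E.gexp_spec.2.2.1 _ (orderOf_dvd_natCard _) hp,
    pow_mod_orderOf, pow_one]
  rfl

theorem inv_card_pairs {ω : ℂ} (hω : ω ^ 3 = 1) (h1 : ω ≠ 1) {g : G} (hg : g ∈ F.M)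
    (hge : g ^ F.e ≠ 1) :
    Nat.card {a : G // IsConj E.τ a ∧ IsConj E.τ (a⁻¹ * g)} =
      if g ∈ E.T then Nat.card E.T else 0 := by
  have hinvol : ∀ a : G, IsConj E.τ a → a * a = 1 ∧ a ≠ 1 := fun a ha => by
    obtain ⟨c, rfl⟩ := isConj_iff.1 ha
    refine ⟨?_, fun h => E.τ_ne (conj_eq_one_iff.1 h)⟩
    rw [show c * E.τ * c⁻¹ * (c * E.τ * c⁻¹) = c * (E.τ * E.τ) * c⁻¹ by group, E.τ_sq, mul_one,
      mul_inv_cancel]
  have key : ∀ a : G, (IsConj E.τ a ∧ IsConj E.τ (a⁻¹ * g)) → g ∈ E.T ∧ a * F.u ∈ E.T := by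
    rintro a ⟨ha, hb⟩
    obtain ⟨ha2, -⟩ := hinvol a ha
    obtain ⟨hb2, -⟩ := hinvol _ hb
    have hai : a⁻¹ = a := inv_eq_of_mul_eq_one_right ha2
    have hag : a * g * a⁻¹ = g⁻¹ := by
      rw [hai] at hb2 ⊢
      exact eq_inv_of_mul_eq_one_left (by rw [← hb2]; group)
    have haN : a ∈ F.N := F.ti hg (inv_mem hg) hge hag
    have haM : a ∉ F.M := fun h => by
      have hc : Commute a (g ^ F.e) := by
        obtain ⟨k, hk⟩ := mem_zpowers_iff.1 (F.pow_e_mem hg)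
        rw [← hk]
        exact (show Commute a F.w from F.mem_M.1 h).zpow_right k
      have he := congrArg (· ^ F.e) hag
      simp only [conj_pow, inv_pow] at he
      rw [hc.eq, mul_inv_cancel_right] at he
      exact hge (F.sq_eq_one (F.pow_e_mem hg) (by nth_rewrite 2 [he]; exact mul_inv_cancel _))
    set m := a * F.u with hm
    have hmM : m ∈ F.M := F.mul_u_mem haN haM
    have ham : a = m * F.u := by rw [hm, mul_assoc, F.hu2, mul_one]
    have hgu : F.u * g * F.u⁻¹ ∈ F.M := F.N_conj_M F.u_mem hg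
    have hψ : F.psi ω (a * g * a⁻¹) = F.psi ω g := by
      rw [ham, show m * F.u * g * (m * F.u)⁻¹ = m * (F.u * g * F.u⁻¹) * m⁻¹ by group,
        F.psi_mul hω (mul_mem hmM hgu) (inv_mem hmM), F.psi_mul hω hmM hgu, mul_comm (F.psi ω m),
        mul_assoc, ← F.psi_mul hω hmM (inv_mem hmM), mul_inv_cancel, F.psi_T ω (one_mem _), mul_one,
        F.psi_u hω hg]
    rw [hag] at hψ
    have h2 : F.psi ω g * F.psi ω g = 1 := by
      nth_rewrite 2 [← hψ]
      rw [← F.psi_mul hω hg (inv_mem hg), mul_inv_cancel, F.psi_T ω (one_mem _)]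
    have hcube : ∀ x ∈ F.M, F.psi ω x * F.psi ω x = 1 → F.psi ω x = 1 := fun x hx hxx => by
      obtain ⟨i, -, t, ht, rfl⟩ := F.rep hx
      rw [F.psi_rep hω ht] at hxx ⊢
      have h3 : (ω ^ i) ^ 3 = 1 := by rw [← pow_mul, mul_comm, pow_mul, hω, one_pow]
      rwa [pow_succ, pow_two, hxx, one_mul] at h3
    refine ⟨F.psi_eq_one hω h1 hg (hcube g hg h2), F.psi_eq_one hω h1 hmM (hcube m hmM ?_)⟩
    have h2' : m * (F.u * m * F.u⁻¹) = 1 := by
      rw [F.u_inv, ← ha2, ham]; group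
    have := F.psi_T ω (one_mem E.T)
    rwa [← h2', F.psi_mul hω hmM (F.N_conj_M F.u_mem hmM), F.psi_u hω hmM] at this
  split_ifs with hgT
  · refine Nat.card_congr
      { toFun := fun a => ⟨a.1 * F.u, (key a.1 a.2).2⟩
        invFun := fun t => ⟨(t : G) * F.u, ?_⟩
        left_inv := fun a => Subtype.ext (by show a.1 * F.u * F.u = a.1; rw [mul_assoc, F.hu2, mul_one])
        right_inv := fun t => Subtype.ext (by show (t : G) * F.u * F.u = t; rw [mul_assoc, F.hu2, mul_one]) }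
    have hinv : ∀ s ∈ E.T, s * F.u * (s * F.u) = 1 ∧ s * F.u ≠ 1 := fun s hs => by
      refine ⟨?_, fun h => F.u_not_mem ?_⟩
      · calc s * F.u * (s * F.u) = s * (F.u * s * F.u⁻¹) := by rw [F.u_inv]; group
          _ = 1 := by rw [F.u_inv_T hs, mul_inv_cancel]
      · rw [show F.u = s⁻¹ from eq_inv_of_mul_eq_one_right h]; exact inv_mem (F.T_le_M hs)
    obtain ⟨p1, p2⟩ := hinv _ t.2
    have e2 : ((t : G) * F.u)⁻¹ * g = ((t : G) * g⁻¹) * F.u := by
      rw [inv_eq_of_mul_eq_one_right p1]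
      calc (t : G) * F.u * g = (t : G) * (F.u * g * F.u⁻¹) * F.u := by group
        _ = _ := by rw [F.u_inv_T hgT]
    obtain ⟨q1, q2⟩ := hinv _ (mul_mem t.2 (inv_mem hgT))
    exact ⟨E.conj_t p1 p2, by rw [e2]; exact E.conj_t q1 q2⟩
  · exact Nat.card_eq_zero.2 (Or.inl ⟨fun a => hgT (key a.1 a.2).1⟩)

theorem A_wsum {ω : ℂ} (hω : ω ^ 3 = 1) (h1 : ω ≠ 1) : E.wsum (F.A hω) ≠ 0 := by
  have hG : (Nat.card G : ℂ) ≠ 0 := Nat.cast_ne_zero.2 Nat.card_pos.ne'
  set kk : F.N → ℂ := fun n =>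
    (2 * (Nat.card L : ℂ)) ^ 2 * (if (n : G) ∈ E.T then (Nat.card E.T : ℂ) else 0) / (Nat.card G : ℂ)
    with hkk
  have hk : ∀ n : F.N, F.f ω n ≠ 0 →
      ∑ χ : IrrCharacter G, ((χ : G → ℂ) E.τ ^ 2 / (χ : G → ℂ) 1) * (χ : G → ℂ) (F.N.subtype n) =
        kk n := by
    intro n hn
    obtain ⟨hnM, hne⟩ := F.fval_supp hn
    have h := ClassCount.pair_count E.τ E.τ (n : G)⁻¹
    rw [F.inv_card_pairs hω h1 (inv_mem hnM) (by rw [inv_pow, Ne, inv_eq_one]; exact hne),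
      E.card_cent_τ, if_congr (inv_mem_iff : (n : G)⁻¹ ∈ E.T ↔ _) rfl rfl, Nat.cast_ite,
      Nat.cast_zero] at h
    rw [hkk, eq_div_iff hG, Finset.sum_mul]
    push_cast at h
    rw [Finset.mul_sum] at h
    refine Eq.trans ?_ (h.symm.trans (by ring))
    refine Finset.sum_congr rfl fun χ _ => ?_
    rw [IsCharacter.inv (IsIrrCharacter.isCharacter χ.2), Complex.conj_conj]
    show _ * (χ : G → ℂ) (n : G) * _ = _
    ring
  have h := gweight (F.vanish hω) F.N.subtype _ kk hk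
  intro h0
  unfold wsum A at h0
  rw [h0, zero_mul] at h
  obtain ⟨a, ha, haT⟩ := F.exists_M_ne
  have hsum : ∑ n : F.N, conj (F.f ω n) * kk n =
      (2 * (Nat.card L : ℂ)) ^ 2 * (Nat.card E.T : ℂ) / (Nat.card G : ℂ) * ∑ t : E.T, F.g2 t := by
    rw [Finset.mul_sum]
    refine Eq.trans (Finset.sum_congr rfl fun n _ => ?_)
      (F.sum_N_ite E.T (F.T_le_M.trans F.M_le_N) fun x =>
        (2 * (Nat.card L : ℂ)) ^ 2 * (Nat.card E.T : ℂ) / (Nat.card G : ℂ) * F.g2 x)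
    rw [hkk]
    dsimp only
    split_ifs with hn
    · show conj (F.fval ω n) * _ = _
      rw [fval, if_pos (F.T_le_M hn), F.psi_T ω hn, one_mul, F.g2_real]
      ring
    · rw [mul_zero, zero_div, mul_zero]
  have hs := F.sum_g2 E.T.subtype (fun t => F.T_le_M t.2) (a := ⟨a, haT⟩) ha
  simp only [Subgroup.subtype_apply] at hs
  rw [hsum, hs] at h
  revert h
  refine Ne.symm ?_
  have hT : (Nat.card E.T : ℂ) ≠ 0 := Nat.cast_ne_zero.2 Nat.card_pos.ne'
  have hL : (Nat.card L : ℂ) ≠ 0 := Nat.cast_ne_zero.2 Nat.card_pos.ne'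
  exact mul_ne_zero (div_ne_zero (mul_ne_zero (pow_ne_zero _ (mul_ne_zero two_ne_zero hL)) hT) hG)
    (mul_ne_zero two_ne_zero (Nat.cast_ne_zero.2 Fintype.card_ne_zero))

include F in
/-- The configuration is impossible. -/
theorem false_case : False := by
  have hζ := Complex.isPrimitiveRoot_exp 3 (by norm_num)
  set ω := Complex.exp (2 * Real.pi * Complex.I / (3 : ℕ))
  have hω : ω ^ 3 = 1 := hζ.pow_eq_one
  have h1 : ω ≠ 1 := hζ.ne_one (by norm_num)
  have hω' : conj ω ^ 3 = 1 := by rw [← map_pow, hω, map_one]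
  have hcc : conj ω * ω = 1 := by rw [mul_comm]; exact root_mul_conj hω
  have hn : ∑ χ, F.A hω χ * F.A hω χ = 3 := by rw [F.A_dot hω hω, if_pos hcc]
  have ho : ∑ χ, F.A hω χ * F.A hω (cjPerm χ) = 0 := by
    simp only [F.A_cj hω hω']
    rw [F.A_dot hω hω', if_neg]
    intro h
    apply h1
    calc ω = ω * (conj ω * conj ω) := by rw [h, mul_one]
      _ = conj ω * (conj ω * ω) := by ring
      _ = conj ω := by rw [hcc, mul_one]
      _ = conj ω * (conj ω * conj ω) := by rw [h, mul_one]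
      _ = conj ω ^ 3 := by ring
      _ = 1 := hω'
  obtain ⟨R₀, κ, hκ, -, -, hfix, hall⟩ := E.rowCols.exists_core
  rcases hall (F.A hω) 1 (Or.inl rfl) hn (F.A_principal hω h1) (F.A_gal hω) (F.A_ec hω) (F.A_bc hω)
    with hd | hR
  · exact F.A_wsum hω h1 (E.dtype_wsum hd (F.A_deg hω) (F.A_tv hω))
  · have := no_fixed_of_orth (σ := cjPerm) cjPerm_sq hn ho (E.core_real hfix)
    rw [hR] at this
    omega

end FixData

end Setup

namespace Setup

variable {G : Type u} [Group G] [Finite G] [IsSimpleGroup G] {L : Type v} [Group L] {Q : ℤ}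
  {E : Setup G L Q} {y u : G}

variable (E) in
/-- `y` fixes no non-trivial element of the torus. -/
theorem free_of_setup (hy : E.IsY y) (hu2 : u * u = 1) (hu1 : u ≠ 1) (huτ : u * E.τ = E.τ * u)
    (huσ : u * E.σ = E.σ * u) (hinv : ∀ z ∈ E.Zg, u * z * u⁻¹ = z⁻¹) (hyu : y * u = u * y) :
    ∀ z ∈ E.Zg, y * z = z * y → z = 1 := by
  intro z hz hyz
  by_contra hz1
  haveI := Fintype.ofFinite G
  haveI := E.finite_L
  haveI := Fintype.ofFinite L
  obtain ⟨l, hl, hld⟩ := Nat.exists_prime_and_dvd (n := orderOf z)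
    (fun h => hz1 (orderOf_eq_one_iff.1 h))
  set w := z ^ (orderOf z / l) with hwdef
  have hwl : orderOf w = l := orderOf_pow_orderOf_div (orderOf_pos z).ne' hld
  have hw : w ∈ E.Zg := pow_mem hz _
  have hw1 : w ≠ 1 := fun h => hl.ne_one (by rw [← hwl, h, orderOf_one])
  have hyw : y * w = w * y := ((show Commute y z from hyz).pow_right _).eq
  have hl2 : l ≠ 2 := by
    intro h
    obtain ⟨r, hr⟩ := E.Zg_odd hw
    omega
  have hA := not_A5 hy hu2 hu1 huτ hinv hyu hw hw1 hyw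
  have hl3 : l ≠ 3 := fun h => not_three_of_A4 hy hu2 hu1 hinv hyu hw (hwl.trans h) hyw hA
  have hcent : ∀ x : G, x * w = w * x → ∃ i : ℕ, i < 3 ∧ ∃ t ∈ E.T, x = y ^ i * t := by
    rcases cent_cases hy hw hw1 with h | ⟨-, h | h⟩
    · exact absurd hyw h.1
    · exact h
    · exact absurd h hA
  exact FixData.false_case (⟨y, u, w, l, hl, hl2, hl3,
    p_ne_three hy hu2 hu1 hinv hyu hw hw1 hyw, hy, hu2, huτ, huσ, hinv, hyu, hw, hwl, hyw, hcent⟩ : E.FixData)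

end Setup

end Cfsg.Agent.JanThom
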