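import Mathlib

/-!
The facts about `PSL₂(q)`, `q ≡ ±3 (mod 8)`, used for the Janko–Thompson theorem.
`Q = q` when `q ≡ 3` and `Q = -q` when `q ≡ 5 (mod 8)`.
-/

set_option autoImplicit false

namespace Cfsg.Agent.JanThom

/-- The local data of `PSL₂(q)` for `q ≡ ±3 (mod 8)`. -/
structure LData (L : Type*) [Group L] (Q : ℤ) where
  p : ℕ
  n : ℕ
  k : ℕ
  h : ℕ
  s : L
  Zh : Subgroup L
  Zk : Subgroup L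
  U : Subgroup L
  prime_p : p.Prime
  n_odd : Odd n
  abs_Q : (Q.natAbs) = p ^ n
  Q_mod : Q % 8 = 3
  Q_large : 11 ≤ Q.natAbs
  k_eq : 2 * k = (Q - 1).natAbs
  h_eq : 4 * h = (Q + 1).natAbs
  card_L : 2 * Nat.card L = Q.natAbs * (Q.natAbs ^ 2 - 1)
  s_ne : s ≠ 1
  s_sq : s * s = 1
  invol : ∀ a : L, a * a = 1 → a ≠ 1 → IsConj s a
  card_Cs : Nat.card (Subgroup.centralizer ({s} : Set L)) = 4 * h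
  card_Zh : Nat.card Zh = h
  card_Zk : Nat.card Zk = k
  card_U : Nat.card U = Q.natAbs
  Zh_cyclic : IsCyclic Zh
  Zk_cyclic : IsCyclic Zk
  U_comm : ∀ a ∈ U, ∀ b ∈ U, a * b = b * a
  U_exp : ∀ a ∈ U, a ^ p = 1
  Zh_le : Zh ≤ Subgroup.centralizer ({s} : Set L)
  Cs_cases : ∀ a ∈ Subgroup.centralizer ({s} : Set L),
    a ∈ Zh ⊔ Subgroup.zpowers s ∨ (a * a = 1 ∧ a ≠ 1 ∧ ∀ z ∈ Zh, a * z * a⁻¹ = z⁻¹)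
  cent_h : ∀ z ∈ Zh, z ≠ 1 → ∀ g : L, g * z = z * g → g ∈ Zh ⊔ Subgroup.zpowers s
  cent_k : ∀ z ∈ Zk, z ≠ 1 → ∀ g : L, g * z = z * g → g ∈ Zk
  cent_u : ∀ z ∈ U, z ≠ 1 → ∀ g : L, g * z = z * g → g ∈ U
  ti_h : ∀ z ∈ Zh, z ≠ 1 → ∀ g : L, g * z * g⁻¹ ∈ Zh → g ∈ Subgroup.centralizer ({s} : Set L)
  ti_k : ∀ z ∈ Zk, z ≠ 1 → ∀ g : L, g * z * g⁻¹ ∈ Zk → g ∈ Zk ∨ ∀ x ∈ Zk, g * x * g⁻¹ = x⁻¹
  ti_u : ∀ z ∈ U, z ≠ 1 → ∀ g : L, g * z * g⁻¹ ∈ U → g ∈ Subgroup.normalizer (U : Set L)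
  inv_h : ∀ z ∈ Zh, z ≠ 1 →
    Nat.card {a : L // a * a = 1 ∧ a ≠ 1 ∧ a * z * a⁻¹ = z⁻¹} = 2 * h
  inv_k : ∀ z ∈ Zk, z ≠ 1 → Nat.card {a : L // a * a = 1 ∧ a ≠ 1 ∧ a * z * a⁻¹ = z⁻¹} = k
  inv_u : ∀ z ∈ U, z ≠ 1 →
    Nat.card {a : L // a * a = 1 ∧ a ≠ 1 ∧ a * z * a⁻¹ = z⁻¹} = if Q < 0 then Q.natAbs else 0
  card_NU : 2 * Nat.card (Subgroup.normalizer (U : Set L)) = Q.natAbs * (Q.natAbs - 1)
  exists_alt : ∃ i y : L, i * i = 1 ∧ i ≠ 1 ∧ i ≠ s ∧ i * s = s * i ∧ y ^ 3 = 1 ∧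
    y * s * y⁻¹ = i ∧ y * i * y⁻¹ = s * i
  odd_cases : ∀ l : L, Odd (orderOf l) →
    ∃ g : L, g * l * g⁻¹ ∈ Zh ∨ g * l * g⁻¹ ∈ Zk ∨ g * l * g⁻¹ ∈ U

namespace LData

variable {L : Type*} [Group L] {Q : ℤ} (D : LData L Q)

theorem h_odd' : Odd D.h := by
  have h1 := D.h_eq
  have h2 := D.Q_mod
  rw [Nat.odd_iff]
  omega

theorem k_odd' : Odd D.k := by
  have h1 := D.k_eq
  have h2 := D.Q_mod
  rw [Nat.odd_iff]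
  omega

theorem h_three' : 3 ≤ D.h := by
  have h1 := D.h_eq
  have h2 := D.Q_mod
  have h3 := D.Q_large
  omega

theorem k_five' : 5 ≤ D.k := by
  have h1 := D.k_eq
  have h2 := D.Q_mod
  have h3 := D.Q_large
  omega

end LData

end Cfsg.Agent.JanThom
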