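import Cfsg.Agent.Lib.JanThom.PSL2Tori
import Cfsg.Agent.Lib.JanThom.LData
import Cfsg.Agent.Lib.Classical.PSL2Subgroups
import Cfsg.Agent.Lib.Classical.PSL2Subfield

/-!
The data of `PSL₂(q)`, `q ≡ ±3 (mod 8)`.
-/

set_option autoImplicit false
set_option linter.unusedSectionVars false
set_option linter.style.haveILetI false

namespace Cfsg.Agent.JanThom

open Matrix Subgroup

/-- An element of prime order can be conjugated into a subgroup of index prime to it. -/
theorem exists_conj_into {X : Type*} [Group X] [Finite X] {l : ℕ} [Fact l.Prime] (T : Subgroup X)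
    (hT : ¬ l ∣ T.index) {x : X} (hx : x ^ l = 1) : ∃ g : X, g * x * g⁻¹ ∈ T := by
  obtain ⟨A⟩ := (inferInstance : Nonempty (Sylow l T))
  have hidx : ¬ l ∣ ((A : Subgroup T).map T.subtype).index := by
    rw [Subgroup.index_map_subtype]
    intro h
    rcases (Fact.out : l.Prime).dvd_mul.1 h with h' | h'
    · exact A.not_dvd_index h'
    · exact hT h'
  let B : Sylow l X := (A.2.map T.subtype).toSylow hidx
  have hp : IsPGroup l (zpowers x) := by
    rintro ⟨y, hy⟩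
    obtain ⟨i, rfl⟩ := mem_zpowers_iff.1 hy
    refine ⟨1, Subtype.ext ?_⟩
    rw [pow_one, Subgroup.coe_pow, OneMemClass.coe_one, ← zpow_natCast, zpow_comm, zpow_natCast, hx, _root_.one_zpow]
  obtain ⟨C, hC⟩ := hp.exists_le_sylow
  obtain ⟨g, hg⟩ := MulAction.exists_smul_eq X C B
  refine ⟨g, ?_⟩
  have hmem : g * x * g⁻¹ ∈ (B : Subgroup X) := by
    rw [← hg, Sylow.coe_subgroup_smul]
    exact ⟨x, hC (mem_zpowers x), rfl⟩
  rw [IsPGroup.toSylow_coe] at hmem
  exact Subgroup.map_subtype_le _ hmem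

theorem conj_cancel {X : Type*} [Group X] {g x y : X} (h : g * x * g⁻¹ = g * y * g⁻¹) : x = y :=
  mul_left_cancel (mul_right_cancel h)

/-- An element normalising a cyclic group of even order fixes its involution. -/
theorem fix_invol {X : Type*} [Group X] [Finite X] {R : Subgroup X} (hc : IsCyclic R) {s : X} (hs : s ∈ R)
    (hs2 : orderOf s = 2) {x : X} (hx : ∀ r ∈ R, x * r * x⁻¹ ∈ R) : x * s = s * x := by
  classical
  haveI := Fintype.ofFinite R
  have hconj : orderOf (x * s * x⁻¹) = 2 := by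
    rw [← hs2]
    exact orderOf_injective (MulAut.conj x).toMonoidHom (MulAut.conj x).injective s
  have hcard : (Finset.univ.filter fun a : R => orderOf a = 2).card = 1 := by
    rw [IsCyclic.card_orderOf_eq_totient ?_, Nat.totient_two]
    rw [← Nat.card_eq_fintype_card, ← hs2, ← Subgroup.orderOf_mk s hs]
    exact orderOf_dvd_natCard _
  have h := Finset.card_le_one.1 hcard.le (⟨x * s * x⁻¹, hx s hs⟩ : R)
    (Finset.mem_filter.2 ⟨Finset.mem_univ _, by rw [Subgroup.orderOf_mk, hconj]⟩) ⟨s, hs⟩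
    (Finset.mem_filter.2 ⟨Finset.mem_univ _, by rw [Subgroup.orderOf_mk, hs2]⟩)
  exact mul_inv_eq_iff_eq_mul.1 (congrArg Subtype.val h)

/-- A cyclic group has at most one subgroup of each order. -/
theorem eq_of_card_eq_cyclic {C : Type*} [Group C] [Finite C] [IsCyclic C] {X Y : Subgroup C}
    (h : Nat.card X = Nat.card Y) : X = Y := by
  classical
  haveI := Fintype.ofFinite C
  have key : ∀ Z : Subgroup C,
      (Z : Set C).toFinset = Finset.univ.filter fun a : C => a ^ Nat.card Z = 1 := fun Z => by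
    refine Finset.eq_of_subset_of_card_le (fun a ha => ?_) ?_
    · rw [Set.mem_toFinset] at ha
      rw [Finset.mem_filter]
      exact ⟨Finset.mem_univ _, orderOf_dvd_iff_pow_eq_one.1 (Subgroup.orderOf_dvd_natCard Z ha)⟩
    · refine (IsCyclic.card_pow_eq_one_le (Nat.card_pos (α := Z))).trans ?_
      rw [← Set.ncard_eq_toFinset_card', ← Nat.card_coe_set_eq]
      exact le_rfl
  refine SetLike.coe_injective (Set.toFinset_inj.1 ?_)
  rw [key X, key Y, h]

variable {F : Type*} [Field F] [Fintype F]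

local notation "L" => Matrix.ProjectiveSpecialLinearGroup (Fin 2) F

/-- The torus through a given element. -/
theorem torus_of_mem (p : ℕ) [Fact p.Prime] [CharP F p] (hodd : Odd (Nat.card F)) {R : Subgroup L} {a : ℕ}
    (hRc : IsCyclic R) (hRa : Nat.card R = a)
    (hu : ∀ m, (2 * m = Nat.card F + 1 ∨ 2 * m = Nat.card F - 1) → a ∣ m → m = a)
    {z : L} (hz : z ∈ R) (hzp : z ^ p ≠ 1) (hz2 : z * z ≠ 1) :
    (∀ x : L, x * z = z * x ↔ x ∈ R) ∧
      (∀ x : L, x * z * x⁻¹ ∈ zpowers z → x ∈ R ∨ (x * x = 1 ∧ x ≠ 1 ∧ ∀ r ∈ R, x * r * x⁻¹ = r⁻¹)) ∧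
      Nat.card {b : L // b * b = 1 ∧ b ≠ 1 ∧ b * z * b⁻¹ = z⁻¹} = a := by
  obtain ⟨R', m, hm, hR', -, -, hC, hN, hcnt⟩ := exists_torus_cent p hodd hzp hz2
  have hle : R ≤ R' := fun r hr => (hC r).1 (by
    haveI := hRc
    letI := IsCyclic.commGroup (α := R)
    exact congrArg Subtype.val (mul_comm (⟨r, hr⟩ : R) ⟨z, hz⟩))
  have hma : m = a := hu m hm (by rw [← hRa, ← hR']; exact Subgroup.card_dvd_of_le hle)
  have heq : R = R' := Subgroup.eq_of_le_of_card_ge hle (by rw [hR', hRa, hma])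
  subst heq
  exact ⟨hC, hN, hma ▸ hcnt⟩

theorem alt4_cycle : ∃ a i y : alternatingGroup (Fin 4), a * a = 1 ∧ a ≠ 1 ∧ i * i = 1 ∧ i ≠ 1 ∧ i ≠ a ∧
    i * a = a * i ∧ y ^ 3 = 1 ∧ y * a * y⁻¹ = i ∧ y * i * y⁻¹ = a * i := by
  decide +kernel

/-- An alternating group of degree four through a given involution. -/
theorem exists_alt_through {X : Type*} [Group X] {s : X} (hs : ∀ a : X, a * a = 1 → a ≠ 1 → IsConj s a)
    {H : Subgroup X} (e : H ≃* alternatingGroup (Fin 4)) :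
    ∃ i y : X, i * i = 1 ∧ i ≠ 1 ∧ i ≠ s ∧ i * s = s * i ∧ y ^ 3 = 1 ∧
      y * s * y⁻¹ = i ∧ y * i * y⁻¹ = s * i := by
  obtain ⟨a, i, y, ha, ha1, hi, hi1, hia, hc, hy, hya, hyi⟩ := alt4_cycle
  let f : alternatingGroup (Fin 4) →* X := H.subtype.comp e.symm.toMonoidHom
  have hf : Function.Injective f := H.subtype_injective.comp e.symm.injective
  obtain ⟨c, hcs⟩ := isConj_iff.1 (hs (f a) (by rw [← map_mul, ha, map_one])
    fun h => ha1 (hf (h.trans (map_one f).symm)))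
  let g : alternatingGroup (Fin 4) →* X := (MulAut.conj c⁻¹).toMonoidHom.comp f
  have hg : Function.Injective g := (MulAut.conj c⁻¹).injective.comp hf
  have hga : g a = s := by
    show c⁻¹ * f a * c⁻¹⁻¹ = s
    rw [← hcs]; group
  refine ⟨g i, g y, by rw [← map_mul, hi, map_one], fun h => hi1 (hg (h.trans (map_one g).symm)),
    fun h => hia (hg (h.trans hga.symm)), by rw [← hga, ← map_mul, ← map_mul, hc],
    by rw [← map_pow, hy, map_one], by rw [← hga, ← map_inv, ← map_mul, ← map_mul, hya],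
    by rw [← hga, ← map_inv, ← map_mul, ← map_mul, hyi, map_mul]⟩

/-- The data of `PSL₂(q)`. -/
theorem exists_lData (h8 : Fintype.card F % 8 = 3 ∨ Fintype.card F % 8 = 5) (h11 : 11 ≤ Fintype.card F) :
    Nonempty (LData (Matrix.ProjectiveSpecialLinearGroup (Fin 2) F)
      (if Fintype.card F % 8 = 3 then (Fintype.card F : ℤ) else -(Fintype.card F : ℤ))) := by
  classical
  set q := Fintype.card F with hqdef
  have hqn : Nat.card F = q := Nat.card_eq_fintype_card
  obtain ⟨p, hp⟩ := CharP.exists F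
  obtain ⟨⟨n, hn0⟩, hpp, hqp⟩ := FiniteField.card F p
  simp only [PNat.mk_coe] at hqp
  haveI := Fact.mk hpp
  have hodd : Odd (Nat.card F) := by rw [hqn, Nat.odd_iff]; omega
  have hp2 : p ≠ 2 := by
    intro h
    have h2 : 2 ∣ q := by rw [hqdef, hqp, h]; exact dvd_pow_self 2 hn0.ne'
    omega
  have hnodd : Odd n := by
    rw [← Nat.not_even_iff_odd]
    rintro ⟨j, hj⟩
    have hsq : q % 8 = (p ^ j % 8) * (p ^ j % 8) % 8 := by
      rw [← Nat.mul_mod, ← pow_add, ← hj, hqdef, hqp]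
    have := Nat.mod_lt (p ^ j) (show 8 > 0 by norm_num)
    interval_cases hv : (p ^ j % 8) <;> omega
  set Q : ℤ := if q % 8 = 3 then (q : ℤ) else -(q : ℤ) with hQ
  have habs : Q.natAbs = q := by rw [hQ]; split_ifs <;> simp
  obtain ⟨h, k, hh4, hk2, hhodd, hkodd, hk5, hh3, hprod, hcop⟩ : ∃ h k : ℕ,
      ((q % 8 = 3 ∧ 4 * h = q + 1) ∨ (q % 8 = 5 ∧ 4 * h + 1 = q)) ∧
      ((q % 8 = 3 ∧ 2 * k + 1 = q) ∨ (q % 8 = 5 ∧ 2 * k = q + 1)) ∧
      Odd h ∧ Odd k ∧ 5 ≤ k ∧ 3 ≤ h ∧ (q - 1) * (q + 1) = 8 * h * k ∧ Nat.Coprime (2 * h) k := by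
    rcases h8 with h8 | h8
    · refine ⟨(q + 1) / 4, (q - 1) / 2, Or.inl ⟨h8, by omega⟩, Or.inl ⟨h8, by omega⟩,
        Nat.odd_iff.2 (by omega), Nat.odd_iff.2 (by omega), by omega, by omega, ?_, ?_⟩
      · conv_lhs => rw [show q - 1 = 2 * ((q - 1) / 2) by omega, show q + 1 = 4 * ((q + 1) / 4) by omega]
        ring
      · rw [show 2 * ((q + 1) / 4) = (q - 1) / 2 + 1 by omega]
        exact Nat.coprime_self_add_left.2 (Nat.coprime_one_left _)
    · refine ⟨(q - 1) / 4, (q + 1) / 2, Or.inr ⟨h8, by omega⟩, Or.inr ⟨h8, by omega⟩,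
        Nat.odd_iff.2 (by omega), Nat.odd_iff.2 (by omega), by omega, by omega, ?_, ?_⟩
      · conv_lhs => rw [show q - 1 = 4 * ((q - 1) / 4) by omega, show q + 1 = 2 * ((q + 1) / 2) by omega]
        ring
      · rw [show (q + 1) / 2 = 2 * ((q - 1) / 4) + 1 by omega]
        exact Nat.coprime_self_add_right.2 (Nat.coprime_one_right _)
  have hm_cases : ∀ m, (2 * m = Nat.card F + 1 ∨ 2 * m = Nat.card F - 1) → m = 2 * h ∨ m = k := by
    intro m hm
    rw [hqn] at hm
    omega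
  have hL : Nat.card L = 4 * h * k * q := by
    have h2 := two_mul_card_L (F := F) hodd
    rw [hqn, mul_assoc q, hprod] at h2
    linarith
  have hpq : p ∣ q := hqdef ▸ hqp ▸ dvd_pow_self p hn0.ne'
  have hpno : ∀ a : ℕ, (a ∣ q - 1 ∨ a ∣ q + 1) → ¬ p ∣ a := by
    rintro a (ha | ha) hpa
    · have h1 := Nat.dvd_sub hpq (hpa.trans ha)
      rw [show q - (q - 1) = 1 by omega] at h1
      exact hpp.not_dvd_one h1
    · have h1 := Nat.dvd_sub (hpa.trans ha) hpq
      rw [show q + 1 - q = 1 by omega] at h1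
      exact hpp.not_dvd_one h1
  have hpk : ¬ p ∣ k := hpno k (by
    rcases hk2 with ⟨-, e⟩ | ⟨-, e⟩
    · exact Or.inl ⟨2, by omega⟩
    · exact Or.inr ⟨2, by omega⟩)
  have hp2h : ¬ p ∣ 2 * h := hpno (2 * h) (by
    rcases hh4 with ⟨-, e⟩ | ⟨-, e⟩
    · exact Or.inr ⟨2, by omega⟩
    · exact Or.inl ⟨2, by omega⟩)
  have hhk : Nat.Coprime h k := Nat.Coprime.coprime_dvd_left (dvd_mul_left h 2) hcop
  have hu_h : ∀ m, (2 * m = Nat.card F + 1 ∨ 2 * m = Nat.card F - 1) → 2 * h ∣ m → m = 2 * h := by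
    intro m hm hd
    refine (hm_cases m hm).resolve_right fun e => ?_
    have h1 := Nat.eq_one_of_dvd_coprimes hhk dvd_rfl ((dvd_mul_left h 2).trans (e ▸ hd))
    omega
  have hu_k : ∀ m, (2 * m = Nat.card F + 1 ∨ 2 * m = Nat.card F - 1) → k ∣ m → m = k := by
    intro m hm hd
    refine (hm_cases m hm).resolve_left fun e => ?_
    have h1 := Nat.eq_one_of_dvd_coprimes hcop (e ▸ hd) dvd_rfl
    omega
  -- elements of prime order generate the tori
  have hex : ∀ a : ℕ, a ∣ Nat.card L → 3 ≤ a → Odd a → ¬ p ∣ a →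
      ∃ (l : ℕ) (R : Subgroup L) (m : ℕ), l.Prime ∧ l ∣ a ∧ l ≠ 2 ∧
        (2 * m = Nat.card F + 1 ∨ 2 * m = Nat.card F - 1) ∧ Nat.card R = m ∧ IsCyclic R ∧ l ∣ m := by
    intro a ha ha3 hao hpa
    obtain ⟨l, hl, hla⟩ := Nat.exists_prime_and_dvd (show a ≠ 1 by omega)
    haveI := Fact.mk hl
    have hl2 : l ≠ 2 := fun e => by
      subst e
      obtain ⟨j, hj⟩ := hao
      omega
    obtain ⟨g, hg⟩ := exists_prime_orderOf_dvd_card' (G := L) l (hla.trans ha)
    have hgp : g ^ p ≠ 1 := fun e => hpa (by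
      have h1 := (Nat.prime_dvd_prime_iff_eq hl hpp).1 (hg ▸ orderOf_dvd_of_pow_eq_one e)
      exact h1 ▸ hla)
    have hg2 : g * g ≠ 1 := fun e => hl2 (by
      rw [← pow_two] at e
      exact (Nat.prime_dvd_prime_iff_eq hl Nat.prime_two).1 (hg ▸ orderOf_dvd_of_pow_eq_one e))
    obtain ⟨R, m, hm, hR, hRc, hgR, -, -, -⟩ := exists_torus_cent p hodd hgp hg2
    exact ⟨l, R, m, hl, hla, hl2, hm, hR, hRc, by
      rw [← hR, ← hg, ← Subgroup.orderOf_mk g hgR]; exact orderOf_dvd_natCard _⟩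
  obtain ⟨Rh, hRh, hRhc⟩ : ∃ R : Subgroup L, Nat.card R = 2 * h ∧ IsCyclic R := by
    obtain ⟨l, R, m, hl, hla, hl2, hm, hR, hRc, hlm⟩ := hex h
      ⟨4 * k * q, by rw [hL]; ring⟩ hh3 hhodd fun e => hp2h (dvd_mul_of_dvd_right e 2)
    refine ⟨R, hR.trans ((hm_cases m hm).resolve_right fun e => hl.not_dvd_one ?_), hRc⟩
    rw [← Nat.Coprime.gcd_eq_one hhk]
    exact Nat.dvd_gcd hla (e ▸ hlm)
  obtain ⟨Rk, hRk, hRkc⟩ : ∃ R : Subgroup L, Nat.card R = k ∧ IsCyclic R := by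
    obtain ⟨l, R, m, hl, hla, hl2, hm, hR, hRc, hlm⟩ := hex k
      ⟨4 * h * q, by rw [hL]; ring⟩ (by omega) hkodd hpk
    refine ⟨R, hR.trans ((hm_cases m hm).resolve_left fun e => hl.not_dvd_one ?_), hRc⟩
    rw [← Nat.Coprime.gcd_eq_one hcop]
    exact Nat.dvd_gcd (e ▸ hlm) hla
  -- the generator of the first torus
  obtain ⟨r₀, hr₀⟩ := hRhc.exists_generator
  have ho : orderOf (r₀ : L) = 2 * h := by
    rw [Subgroup.orderOf_coe, orderOf_eq_card_of_forall_mem_zpowers hr₀, hRh]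
  set s : L := (r₀ : L) ^ h with hsdef
  set Zh : Subgroup L := zpowers ((r₀ : L) ^ 2) with hZh
  have hs : orderOf s = 2 := by
    rw [hsdef, orderOf_pow_of_dvd (by omega) (ho ▸ dvd_mul_left h 2), ho, Nat.mul_div_cancel _ (by omega)]
  have hsR : s ∈ Rh := pow_mem r₀.2 h
  have hcZh : Nat.card Zh = h := by
    rw [hZh, Nat.card_zpowers, orderOf_pow_of_dvd two_ne_zero (ho ▸ dvd_mul_right 2 h), ho,
      Nat.mul_div_cancel_left _ two_pos]
  have hZR : Zh ≤ Rh := zpowers_le.2 (pow_mem r₀.2 2)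
  have hRmem : ∀ x ∈ Rh, Odd (orderOf x) → x ∈ Zh := by
    intro x hx hxo
    obtain ⟨i, hi⟩ := mem_zpowers_iff.1 (hr₀ ⟨x, hx⟩)
    have hi' : (r₀ : L) ^ i = x := by rw [← Subgroup.coe_zpow, hi]
    have hxh : x ^ h = 1 := by
      have hd : orderOf x ∣ 2 * h := by
        rw [← hRh, ← Subgroup.orderOf_mk x hx]; exact orderOf_dvd_natCard _
      exact orderOf_dvd_iff_pow_eq_one.1 ((Nat.coprime_two_right.2 hxo).dvd_of_dvd_mul_left hd)
    rw [← hi', ← zpow_natCast, ← _root_.zpow_mul] at hxh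
    have hd2 : ((2 * h : ℕ) : ℤ) ∣ i * h := by rw [← ho]; exact orderOf_dvd_iff_zpow_eq_one.2 hxh
    obtain ⟨j, hj⟩ := hd2
    have hij : i = 2 * j := mul_right_cancel₀ (show (h : ℤ) ≠ 0 by omega)
      (by rw [hj]; push_cast; ring)
    rw [← hi', hij, _root_.zpow_mul, zpow_ofNat]
    exact zpow_mem (mem_zpowers _) j
  have hRsup : Rh = Zh ⊔ zpowers s := by
    refine (Subgroup.eq_of_le_of_card_ge (sup_le hZR (zpowers_le.2 hsR)) ?_).symm
    rw [hRh]
    refine Nat.le_of_dvd Nat.card_pos ((Nat.coprime_two_left.2 hhodd).mul_dvd_of_dvd_of_dvd ?_ ?_)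
    · have := Subgroup.card_dvd_of_le (le_sup_right : zpowers s ≤ Zh ⊔ zpowers s)
      rwa [Nat.card_zpowers, hs] at this
    · exact hcZh ▸ Subgroup.card_dvd_of_le le_sup_left
  have hgood : ∀ (T : Subgroup L) (a : ℕ), Nat.card T = a → ¬ p ∣ a → Odd a → ∀ z ∈ T, z ≠ 1 →
      z ^ p ≠ 1 ∧ z * z ≠ 1 := by
    intro T a hT hpa hao z hz hz1
    have hd : orderOf z ∣ a := by rw [← hT, ← Subgroup.orderOf_mk z hz]; exact orderOf_dvd_natCard _
    refine ⟨fun e => hz1 ?_, fun e => hz1 ?_⟩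
    · rw [← orderOf_eq_one_iff]
      exact Nat.eq_one_of_dvd_coprimes (hpp.coprime_iff_not_dvd.2 hpa) (orderOf_dvd_of_pow_eq_one e) hd
    · rw [← orderOf_eq_one_iff]
      exact Nat.eq_one_of_dvd_coprimes (Nat.coprime_two_left.2 hao)
        (orderOf_dvd_of_pow_eq_one (by rw [pow_two]; exact e)) hd
  have hgh : ∀ z ∈ Zh, z ≠ 1 → z ^ p ≠ 1 ∧ z * z ≠ 1 :=
    hgood Zh h hcZh (fun e => hp2h (dvd_mul_of_dvd_right e 2)) hhodd
  have hgk : ∀ z ∈ Rk, z ≠ 1 → z ^ p ≠ 1 ∧ z * z ≠ 1 := hgood Rk k hRk hpk hkodd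
  have Th := fun z (hz : z ∈ Zh) (hz1 : z ≠ 1) =>
    torus_of_mem p hodd hRhc hRh hu_h (hZR hz) (hgh z hz hz1).1 (hgh z hz hz1).2
  have Tk := fun z (hz : z ∈ Rk) (hz1 : z ≠ 1) =>
    torus_of_mem p hodd hRkc hRk hu_k hz (hgk z hz hz1).1 (hgk z hz hz1).2
  -- the centraliser of the involution
  have hz₀1 : (r₀ : L) ^ 2 ≠ 1 := fun e => by
    have := Nat.le_of_dvd two_pos (ho ▸ orderOf_dvd_of_pow_eq_one e)
    omega
  have hz₀ : (r₀ : L) ^ 2 ∈ Zh := mem_zpowers _
  obtain ⟨hC₀, hN₀, hcnt₀⟩ := Th _ hz₀ hz₀1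
  have hnorm : ∀ x : L, x * (r₀ : L) ^ 2 * x⁻¹ = ((r₀ : L) ^ 2)⁻¹ → x * s = s * x := by
    intro x hx
    refine fix_invol hRhc hsR hs fun r hr => ?_
    rcases hN₀ x (hx ▸ inv_mem hz₀) with h1 | ⟨-, -, h1⟩
    · exact mul_mem (mul_mem h1 hr) (inv_mem h1)
    · rw [h1 r hr]; exact inv_mem hr
  set Cs := centralizer ({s} : Set L) with hCs
  set I₀ := {b : L | b * b = 1 ∧ b ≠ 1 ∧ b * (r₀ : L) ^ 2 * b⁻¹ = ((r₀ : L) ^ 2)⁻¹} with hI₀
  have hdisj : Disjoint (Rh : Set L) I₀ := by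
    rw [Set.disjoint_left]
    rintro b hb ⟨-, -, hbi⟩
    rw [(hC₀ b).2 hb, mul_inv_cancel_right] at hbi
    exact (hgh _ hz₀ hz₀1).2 (mul_eq_one_iff_eq_inv.2 hbi)
  have hsub : (Rh : Set L) ∪ I₀ ⊆ (Cs : Set L) := by
    rintro b (hb | hb)
    · refine mem_centralizer_singleton_iff.2 ?_
      haveI := hRhc
      letI := IsCyclic.commGroup (α := Rh)
      exact congrArg Subtype.val (mul_comm (⟨b, hb⟩ : Rh) ⟨s, hsR⟩)
    · exact mem_centralizer_singleton_iff.2 (hnorm b hb.2.2)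
  have hcardU : ((Rh : Set L) ∪ I₀).ncard = 4 * h := by
    rw [Set.ncard_union_eq hdisj (Set.toFinite _) (Set.toFinite _)]
    rw [show (Rh : Set L).ncard = 2 * h from (Nat.card_coe_set_eq _).symm.trans hRh,
      show I₀.ncard = 2 * h from (Nat.card_coe_set_eq _).symm.trans hcnt₀]
    ring
  have hCs4 : Nat.card Cs ≤ 4 * h := by
    have hsp : s ^ p ≠ 1 := fun e => hp2 ((Nat.prime_dvd_prime_iff_eq Nat.prime_two hpp).1
      (hs ▸ orderOf_dvd_of_pow_eq_one e)).symm
    obtain ⟨D, R, m, hm, hD, -, -, -, -, hND, -⟩ := exists_torus p hodd hsp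
    have hle : Cs ≤ D := fun x hx => hND x (by
      rw [mem_centralizer_singleton_iff.1 hx, mul_inv_cancel_right]; exact mem_zpowers s)
    have hd : Nat.card Cs ∣ 2 * m := hD ▸ Subgroup.card_dvd_of_le hle
    have hd2 : 2 * h ∣ Nat.card Cs := hRh ▸ Subgroup.card_dvd_of_le (fun b hb => hsub (Or.inl hb))
    rcases hm_cases m hm with rfl | rfl
    · calc Nat.card Cs ≤ 2 * (2 * h) := Nat.le_of_dvd (by omega) hd
        _ = 4 * h := by ring
    · exfalso
      have h1 : h ∣ 2 * m := (dvd_mul_left h 2).trans (hd2.trans hd)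
      have h2 := Nat.eq_one_of_dvd_coprimes hhk dvd_rfl
        ((Nat.coprime_two_right.2 hhodd).dvd_of_dvd_mul_left h1)
      omega
  have hCeq : (Rh : Set L) ∪ I₀ = (Cs : Set L) := by
    refine Set.eq_of_subset_of_ncard_le hsub ?_ (Set.toFinite _)
    rw [hcardU]
    exact ((Nat.card_coe_set_eq _).symm.le).trans hCs4
  have hcardC : Nat.card Cs = 4 * h := by
    rw [← hcardU, hCeq]
    exact Nat.card_coe_set_eq _
  -- the unipotent subgroup
  set U := unip F with hUdef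
  have hUcard : Nat.card U = q := card_unip.trans hqn
  have hUidx : ¬ p ∣ U.index := by
    have h1 := U.card_mul_index
    rw [hUcard, hL] at h1
    have h2 : U.index = 4 * h * k :=
      Nat.eq_of_mul_eq_mul_left (show 0 < q by omega) (h1.trans (by ring))
    rw [h2, show 4 * h * k = 2 * (2 * h) * k by ring]
    intro h3
    rcases hpp.dvd_mul.1 h3 with h4 | h4
    · rcases hpp.dvd_mul.1 h4 with h5 | h5
      · exact hp2 ((Nat.prime_dvd_prime_iff_eq hpp Nat.prime_two).1 h5)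
      · exact hp2h h5
    · exact hpk h4
  have hCu : ∀ z ∈ U, z ≠ 1 → ∀ g : L, g * z = z * g → g ∈ U := by
    intro z hz hz1 g hg
    set C := centralizer ({z} : Set L) with hCdef
    have hzp : z ^ p = 1 := unip_exp p z hz
    have hdvd : Nat.card C ∣ q := by
      have hne : ∀ l, l.Prime → l ∣ Nat.card C → l = p := by
        intro l hl hlc
        by_contra hlp
        haveI := Fact.mk hl
        obtain ⟨⟨x, hxC⟩, hx⟩ := exists_prime_orderOf_dvd_card' (G := C) l hlc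
        rw [Subgroup.orderOf_mk] at hx
        have hxp : x ^ p ≠ 1 := fun e => hlp
          ((Nat.prime_dvd_prime_iff_eq hl hpp).1 (hx ▸ orderOf_dvd_of_pow_eq_one e))
        obtain ⟨D, R, m, hm, hD, -, -, -, -, hND, -⟩ := exists_torus p hodd hxp
        have hzD : z ∈ D := hND z (by
          rw [← mem_centralizer_singleton_iff.1 hxC, mul_inv_cancel_right]; exact mem_zpowers x)
        have h1 : orderOf z ∣ 2 * m := by rw [← hD, ← Subgroup.orderOf_mk z hzD]; exact orderOf_dvd_natCard _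
        have h2 : p ∣ 2 * m := by rwa [orderOf_eq_prime hzp hz1] at h1
        rcases hm with e | e <;> rw [e, hqn] at h2
        · exact hpno (q + 1) (Or.inr dvd_rfl) h2
        · exact hpno (q - 1) (Or.inl dvd_rfl) h2
      have hC : IsPGroup p C := IsPGroup.of_card
        (n := (Nat.card C).primeFactorsList.length)
        (Nat.eq_prime_pow_of_unique_prime_dvd Nat.card_pos.ne' fun {d} hd hdc => hne d hd hdc)
      obtain ⟨S, hS⟩ := hC.exists_le_sylow
      let B : Sylow p L := (IsPGroup.of_card (n := n) (hUcard.trans (hqdef ▸ hqp))).toSylow hUidx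
      have hcS : Nat.card (S : Subgroup L) = q := by
        rw [Nat.card_congr (Sylow.equiv S B).toEquiv, IsPGroup.toSylow_coe, hUcard]
      exact hcS ▸ Subgroup.card_dvd_of_le hS
    have hle : U ≤ C := fun u hu => mem_centralizer_singleton_iff.2 (unip_comm u hu z hz)
    have := Subgroup.eq_of_le_of_card_ge hle (by rw [hUcard]; exact Nat.le_of_dvd (by omega) hdvd)
    rw [this]
    exact mem_centralizer_singleton_iff.2 hg
  have hTI : ∀ z ∈ U, z ≠ 1 → ∀ g : L, g * z * g⁻¹ ∈ U → g ∈ Subgroup.normalizer (U : Set L) := by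
    intro z hz hz1 g hg
    refine Subgroup.mem_normalizer_fintype fun u hu => hCu _ hg (fun e => hz1 (conj_eq_one_iff.1 e)) _ ?_
    calc g * u * g⁻¹ * (g * z * g⁻¹) = g * (u * z) * g⁻¹ := by group
      _ = g * (z * u) * g⁻¹ := by rw [unip_comm u hu z hz]
      _ = _ := by group
  refine ⟨{
    p := p, n := n, k := k, h := h, s := s, Zh := Zh, Zk := Rk, U := U
    prime_p := hpp, n_odd := hnodd, abs_Q := habs.trans (hqdef ▸ hqp)
    Q_mod := ?_, Q_large := habs.symm ▸ h11, k_eq := ?_, h_eq := ?_, card_L := ?_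
    s_ne := ?_, s_sq := ?_, invol := ?_, card_Cs := hcardC, card_Zh := hcZh, card_Zk := hRk
    card_U := hUcard.trans habs.symm
    Zh_cyclic := ⟨⟨⟨(r₀ : L) ^ 2, hz₀⟩, fun x => ?_⟩⟩
    Zk_cyclic := hRkc, U_comm := unip_comm, U_exp := unip_exp p
    Zh_le := ?_, Cs_cases := ?_, cent_h := ?_, cent_k := ?_, cent_u := hCu
    ti_h := ?_, ti_k := ?_, ti_u := hTI, inv_h := ?_, inv_k := ?_, inv_u := ?_, card_NU := ?_
    exists_alt := ?_
    odd_cases := ?_ }⟩
  · rw [hQ]; split_ifs <;> omega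
  · rw [hQ]; split_ifs <;> omega
  · rw [hQ]; split_ifs <;> omega
  · have := two_mul_card_L (F := F) hodd
    rw [hqn] at this
    rw [habs, this, show q ^ 2 - 1 = (q - 1) * (q + 1) by
      rw [mul_comm, ← Nat.sq_sub_sq, one_pow], mul_assoc]
  · intro e; rw [e, orderOf_one] at hs; omega
  · have e := pow_orderOf_eq_one s
    rwa [hs, pow_two] at e
  · intro a ha ha1
    exact FusionSys.involutions_conj (by rw [← hqdef]; omega) hs
      (orderOf_eq_prime (by rw [pow_two]; exact ha) ha1)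
  · obtain ⟨i, hi⟩ := mem_zpowers_iff.1 x.2
    exact ⟨i, Subtype.ext hi⟩
  · exact fun z hz => hsub (Or.inl (hZR hz))
  · intro a ha
    rcases hCeq.ge ha with hR | ⟨ha2, ha1, hai⟩
    · exact Or.inl (hRsup ▸ hR)
    · refine Or.inr ⟨ha2, ha1, fun z hz => ?_⟩
      obtain ⟨i, rfl⟩ := mem_zpowers_iff.1 hz
      rw [← conj_zpow, hai, _root_.inv_zpow]
  · exact fun z hz hz1 g hg => hRsup ▸ ((Th z hz hz1).1 g).1 hg
  · exact fun z hz hz1 g hg => ((Tk z hz hz1).1 g).1 hg
  · intro z hz hz1 g hg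
    have hg1 : g * z * g⁻¹ ≠ 1 := fun e => hz1 (conj_eq_one_iff.1 e)
    refine mem_centralizer_singleton_iff.2 (fix_invol hRhc hsR hs fun r hr => ?_)
    refine ((Th _ hg hg1).1 _).1 ?_
    calc g * r * g⁻¹ * (g * z * g⁻¹) = g * (r * z) * g⁻¹ := by group
      _ = g * (z * r) * g⁻¹ := by rw [((Th z hz hz1).1 r).2 hr]
      _ = _ := by group
  · intro z hz hz1 g hg
    have hzp : zpowers (g * z * g⁻¹) = zpowers z := by
      haveI := hRkc
      have e := eq_of_card_eq_cyclic (X := zpowers (⟨g * z * g⁻¹, hg⟩ : Rk)) (Y := zpowers ⟨z, hz⟩) (by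
        rw [Nat.card_zpowers, Nat.card_zpowers, Subgroup.orderOf_mk, Subgroup.orderOf_mk]
        exact orderOf_injective (MulAut.conj g).toMonoidHom (MulAut.conj g).injective z)
      have e2 := congrArg (Subgroup.map Rk.subtype) e
      rwa [MonoidHom.map_zpowers, MonoidHom.map_zpowers] at e2
    rcases (Tk z hz hz1).2.1 g (hzp ▸ mem_zpowers _) with h1 | ⟨-, -, h1⟩
    · exact Or.inl h1
    · exact Or.inr h1
  · exact fun z hz hz1 => (Th z hz hz1).2.2
  · exact fun z hz hz1 => (Tk z hz hz1).2.2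
  · intro z hz hz1
    obtain ⟨a, rfl⟩ := mem_unip.1 hz
    have ha : a ≠ 0 := fun e => hz1 (by rw [e, PStable.upp_zero, map_one])
    have h2 := card_inv_unip (F := F) p hp2 ha
    have hc : Nat.card {g : L // (g * g = 1 ∧ g ≠ 1 ∧ g * PSL2Inv.pr (PStable.upp a) * g⁻¹ =
        (PSL2Inv.pr (PStable.upp a))⁻¹) ∧ g ∈ Subgroup.normalizer ((unip F : Subgroup L) : Set L)} =
        Nat.card {g : L // g * g = 1 ∧ g ≠ 1 ∧ g * PSL2Inv.pr (PStable.upp a) * g⁻¹ =
        (PSL2Inv.pr (PStable.upp a))⁻¹} :=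
      Nat.card_congr (Equiv.subtypeEquivRight fun g =>
        ⟨fun h => h.1, fun h => ⟨h, hTI _ hz hz1 g (h.2.2 ▸ inv_mem hz)⟩⟩)
    rw [hc, hqn] at h2
    rw [habs]
    have hsq := FiniteField.isSquare_neg_one_iff (F := F)
    rcases h8 with h3 | h5
    · have hno : IsEmpty {c : F // c ^ 2 = -1} := ⟨fun c =>
        (hsq.1 ⟨c.1, by rw [← pow_two, c.2]⟩) (by rw [← hqdef]; omega)⟩
      rw [Nat.card_of_isEmpty (α := {c : F // c ^ 2 = -1}), zero_mul] at h2
      rw [hQ, if_pos h3, if_neg (by omega)]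
      omega
    · obtain ⟨c, hc⟩ := hsq.2 (by rw [← hqdef]; omega)
      have h2c : Nat.card {c : F // c ^ 2 = -1} = 2 := by
        have hF2 := two_ne (F := F) (p := p) hp2
        refine Nat.card_eq_two_iff.2 ⟨⟨c, by rw [pow_two, hc]⟩, ⟨-c, by rw [neg_sq, pow_two, hc]⟩, ?_, ?_⟩
        · intro e
          have e' : c = -c := congrArg Subtype.val e
          have : c = 0 := (mul_eq_zero.1 (show (2 : F) * c = 0 by linear_combination e')).resolve_left hF2
          rw [this, mul_zero] at hc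
          exact neg_ne_zero.2 one_ne_zero hc
        · refine Set.eq_univ_of_forall fun x => ?_
          have hx : x.1 ^ 2 = c ^ 2 := by rw [x.2, pow_two c, hc]
          rcases sq_eq_sq_iff_eq_or_eq_neg.1 hx with e | e
          · exact Or.inl (Subtype.ext e)
          · exact Or.inr (Subtype.ext e)
      rw [h2c] at h2
      rw [hQ, if_neg (show ¬ q % 8 = 3 by omega), if_pos (by omega)]
      omega
  · rw [habs, ← hqn]
    exact two_mul_card_normalizer_unip hodd
  · obtain ⟨H, ⟨e⟩⟩ := PSL2Sub.exists_alternating_four (F := F) (two_ne (p := p) hp2)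
    refine exists_alt_through (fun a ha ha1 => ?_) e
    exact FusionSys.involutions_conj (by rw [← hqdef]; omega) hs
      (orderOf_eq_prime (by rw [pow_two]; exact ha) ha1)
  · intro g hg
    by_cases hg1 : g = 1
    · exact ⟨1, Or.inl (by rw [hg1]; simp)⟩
    by_cases hgp : g ^ p = 1
    · obtain ⟨c, hc⟩ := exists_conj_into (l := p) U hUidx hgp
      exact ⟨c, Or.inr (Or.inr hc)⟩
    have hg2 : g * g ≠ 1 := fun e => hg1 (orderOf_eq_one_iff.1 (Nat.eq_one_of_dvd_coprimes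
      (Nat.coprime_two_left.2 hg) (orderOf_dvd_of_pow_eq_one (by rw [pow_two]; exact e)) dvd_rfl))
    obtain ⟨R, m, hm, hR, -, hgR, -, -, -⟩ := exists_torus_cent p hodd hgp hg2
    have hom : orderOf g ∣ m := by rw [← hR, ← Subgroup.orderOf_mk g hgR]; exact orderOf_dvd_natCard _
    obtain ⟨l, hl, hlg⟩ := Nat.exists_prime_and_dvd (fun e => hg1 (orderOf_eq_one_iff.1 e) : orderOf g ≠ 1)
    haveI := Fact.mk hl
    set x := g ^ (orderOf g / l) with hxdef
    have hx : orderOf x = l := orderOf_pow_orderOf_div (orderOf_pos g).ne' hlg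
    have hxl : x ^ l = 1 := hx ▸ pow_orderOf_eq_one x
    have hl2 : l ≠ 2 := fun e => by
      obtain ⟨j, hj⟩ := hg
      rw [e, hj] at hlg
      omega
    have hlp : ¬ l ∣ q := fun h1 => by
      have h2 : l = p := (Nat.prime_dvd_prime_iff_eq hl hpp).1 (hl.dvd_of_dvd_pow (hqp ▸ hqdef ▸ h1))
      rcases hm_cases m hm with rfl | rfl
      · exact hp2h (h2 ▸ hlg.trans hom)
      · exact hpk (h2 ▸ hlg.trans hom)
    have hcx : ∀ c : L, (c * g * c⁻¹) * (c * x * c⁻¹) = (c * x * c⁻¹) * (c * g * c⁻¹) := fun c => by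
      calc (c * g * c⁻¹) * (c * x * c⁻¹) = c * (g * x) * c⁻¹ := by group
        _ = c * (x * g) * c⁻¹ := by rw [(Commute.self_pow g _).eq]
        _ = _ := by group
    have hne : ∀ c : L, c * x * c⁻¹ ≠ 1 := fun c e => by
      rw [conj_eq_one_iff.1 e, orderOf_one] at hx
      exact hl.one_lt.ne hx
    have hoc : ∀ c : L, Odd (orderOf (c * g * c⁻¹)) := fun c => by
      rwa [show orderOf (c * g * c⁻¹) = orderOf g from
        orderOf_injective (MulAut.conj c).toMonoidHom (MulAut.conj c).injective g]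
    have hidx : ∀ (T : Subgroup L) (a b : ℕ), Nat.card T = a → 4 * h * k * q = a * b → ¬ l ∣ b →
        ¬ l ∣ T.index := by
      intro T a b hT hab hlb hd
      have h1 := T.card_mul_index
      rw [hT, hL, hab] at h1
      have : 0 < a := hT ▸ Nat.card_pos
      exact hlb (Nat.eq_of_mul_eq_mul_left this h1 ▸ hd)
    have hl4 : ¬ l ∣ 4 := fun e => hl2 ((Nat.prime_dvd_prime_iff_eq hl Nat.prime_two).1
      (hl.dvd_of_dvd_pow (show l ∣ 2 ^ 2 from e)))
    rcases hm_cases m hm with rfl | rfl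
    · have hlh : l ∣ h := ((hl.dvd_mul.1 (hlg.trans hom)).resolve_left fun e => hl2
        ((Nat.prime_dvd_prime_iff_eq hl Nat.prime_two).1 e))
      obtain ⟨c, hc⟩ := exists_conj_into (l := l) Zh (hidx Zh h (4 * k * q) hcZh (by ring) fun e => by
        rcases hl.dvd_mul.1 e with e | e
        · rcases hl.dvd_mul.1 e with e | e
          · exact hl4 e
          · exact hl.not_dvd_one (Nat.Coprime.gcd_eq_one hhk ▸ Nat.dvd_gcd hlh e)
        · exact hlp e) hxl
      exact ⟨c, Or.inl (hRmem _ (((Th _ hc (hne c)).1 _).1 (hcx c)) (hoc c))⟩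
    · have hlk : l ∣ m := hlg.trans hom
      obtain ⟨c, hc⟩ := exists_conj_into (l := l) Rk (hidx Rk m (4 * h * q) hRk (by ring) fun e => by
        rcases hl.dvd_mul.1 e with e | e
        · rcases hl.dvd_mul.1 e with e | e
          · exact hl4 e
          · exact hl.not_dvd_one (Nat.Coprime.gcd_eq_one hhk ▸ Nat.dvd_gcd e hlk)
        · exact hlp e) hxl
      exact ⟨c, Or.inr (Or.inl (((Tk _ hc (hne c)).1 _).1 (hcx c)))⟩

end Cfsg.Agent.JanThom
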