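import Cfsg.Agent.Lib.JanThom.LData
import Cfsg.Agent.S0215
import Mathlib.GroupTheory.Sylow
import Mathlib.GroupTheory.Subgroup.Simple

/-!
A simple group with an involution `τ` with centraliser `Z₂ × L`, `L` satisfying `LData`:
one class of involutions and the element of order three moving `τ` through the four-group.
-/

set_option autoImplicit false
set_option linter.style.haveILetI false
set_option linter.unusedSectionVars false

namespace Cfsg.Agent.JanThom

/-- The group of order two. -/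
abbrev C2 : Type := Multiplicative (ZMod 2)

/-- The non-trivial element of `C2`. -/
abbrev c2 : C2 := Multiplicative.ofAdd 1

theorem C2_cases : ∀ a : C2, a = 1 ∨ a = c2 := by decide
theorem c2_sq : c2 * c2 = 1 := by decide
theorem c2_ne : c2 ≠ 1 := by decide
theorem C2_sq : ∀ a : C2, a * a = 1 := by decide
theorem card_C2 : Nat.card C2 = 2 := by simp [C2]

/-- `G` has an involution with centraliser `C2 × L`. -/
structure Setup (G : Type*) [Group G] (L : Type*) [Group L] (Q : ℤ) where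
  D : LData L Q
  ι : C2 × L →* G
  inj : Function.Injective ι
  cent : ∀ g : G, g * ι (c2, 1) = ι (c2, 1) * g → ∃ m, ι m = g
  two : ¬ 16 ∣ Nat.card G

namespace LData

variable {L : Type*} [Group L] {Q : ℤ} (D : LData L Q)

theorem natAbs_mod : D.p ^ D.n % 8 = 3 ∨ D.p ^ D.n % 8 = 5 := by
  have h := D.Q_mod
  rw [← D.abs_Q]
  rcases Int.natAbs_eq Q with e | e <;> omega

theorem h_odd : Odd D.h := by
  have h1 := D.h_eq
  have h2 := D.Q_mod
  rw [Nat.odd_iff]
  omega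

theorem k_odd : Odd D.k := by
  have h1 := D.k_eq
  have h2 := D.Q_mod
  rw [Nat.odd_iff]
  omega

theorem h_three : 3 ≤ D.h := by
  have h1 := D.h_eq
  have h2 := D.Q_mod
  have h3 := D.Q_large
  omega

theorem k_five : 5 ≤ D.k := by
  have h1 := D.k_eq
  have h2 := D.Q_mod
  have h3 := D.Q_large
  omega

theorem four_mul_h : (4 * D.h : ℤ) = |Q + 1| := by
  have := D.h_eq
  rw [← Int.natCast_natAbs]
  exact_mod_cast this

include D in
theorem four_dvd_card [Finite L] : 4 ∣ Nat.card L ∧ ¬ 8 ∣ Nat.card L := by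
  have h := D.card_L
  have hq : Q.natAbs % 8 = 3 ∨ Q.natAbs % 8 = 5 := by
    have h2 := D.Q_mod
    omega
  generalize Q.natAbs = q at h hq
  obtain ⟨j, hj⟩ : ∃ j, q = 8 * j + 3 ∨ q = 8 * j + 5 := ⟨q / 8, by omega⟩
  rcases hj with rfl | rfl
  · have e : (8 * j + 3) ^ 2 - 1 = 8 * (8 * j ^ 2 + 6 * j + 1) := by
      have : (8 * j + 3) ^ 2 = 8 * (8 * j ^ 2 + 6 * j + 1) + 1 := by ring
      omega
    rw [e] at h
    have h' : Nat.card L = 4 * ((8 * j + 3) * (8 * j ^ 2 + 6 * j + 1)) := by linarith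
    refine ⟨Dvd.intro _ h'.symm, fun h8 => ?_⟩
    rw [h', show (8 : ℕ) = 4 * 2 from rfl] at h8
    have h2 := Nat.dvd_of_mul_dvd_mul_left (by norm_num) h8
    rw [Nat.dvd_iff_mod_eq_zero, Nat.mul_mod] at h2
    have e1 : (8 * j + 3) % 2 = 1 := by omega
    have e2 : (8 * j ^ 2 + 6 * j + 1) % 2 = 1 := by omega
    rw [e1, e2] at h2
    simp at h2
  · have e : (8 * j + 5) ^ 2 - 1 = 8 * (8 * j ^ 2 + 10 * j + 3) := by
      have : (8 * j + 5) ^ 2 = 8 * (8 * j ^ 2 + 10 * j + 3) + 1 := by ring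
      omega
    rw [e] at h
    have h' : Nat.card L = 4 * ((8 * j + 5) * (8 * j ^ 2 + 10 * j + 3)) := by linarith
    refine ⟨Dvd.intro _ h'.symm, fun h8 => ?_⟩
    rw [h', show (8 : ℕ) = 4 * 2 from rfl] at h8
    have h2 := Nat.dvd_of_mul_dvd_mul_left (by norm_num) h8
    rw [Nat.dvd_iff_mod_eq_zero, Nat.mul_mod] at h2
    have e1 : (8 * j + 5) % 2 = 1 := by omega
    have e2 : (8 * j ^ 2 + 10 * j + 3) % 2 = 1 := by omega
    rw [e1, e2] at h2
    simp at h2

/-- A four-group through `s`. -/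
def four {i : L} (hi : i * i = 1) (hc : i * D.s = D.s * i) : Subgroup L where
  carrier := {a | a = 1 ∨ a = D.s ∨ a = i ∨ a = D.s * i}
  one_mem' := Or.inl rfl
  mul_mem' := by
    have e1 : ∀ x, D.s * (D.s * x) = x := fun x => by rw [← mul_assoc, D.s_sq, one_mul]
    have e2 : ∀ x, i * (D.s * x) = D.s * (i * x) := fun x => by rw [← mul_assoc, hc, mul_assoc]
    have e3 : ∀ x, i * (i * x) = x := fun x => by rw [← mul_assoc, hi, one_mul]
    rintro a b (rfl | rfl | rfl | rfl) (rfl | rfl | rfl | rfl) <;>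
      simp [Set.mem_setOf_eq, D.s_sq, hi, hc, mul_assoc, e1, e2, e3]
  inv_mem' := by
    have hs : D.s⁻¹ = D.s := inv_eq_of_mul_eq_one_right D.s_sq
    have hi' : i⁻¹ = i := inv_eq_of_mul_eq_one_right hi
    rintro a (rfl | rfl | rfl | rfl) <;> simp [Set.mem_setOf_eq, hs, hi', hc]

theorem mem_four {i : L} (hi : i * i = 1) (hc : i * D.s = D.s * i) {a : L} :
    a ∈ D.four hi hc ↔ a = 1 ∨ a = D.s ∨ a = i ∨ a = D.s * i := Iff.rfl

theorem card_four {i : L} (hi : i * i = 1) (hc : i * D.s = D.s * i) (hi1 : i ≠ 1) (his : i ≠ D.s) :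
    Nat.card (D.four hi hc) = 4 := by
  classical
  rw [← SetLike.coe_sort_coe, Nat.card_coe_set_eq,
    show ((D.four hi hc : Subgroup L) : Set L) = {1, D.s, i, D.s * i} from rfl]
  have h1 : D.s ≠ D.s * i := fun h => hi1 (mul_eq_left.1 h.symm)
  have h2 : i ≠ D.s * i := fun h => D.s_ne (mul_eq_right.1 h.symm)
  have h3 : (1 : L) ≠ D.s * i := fun h => his (by
    rw [← inv_eq_of_mul_eq_one_right h.symm, inv_eq_of_mul_eq_one_right D.s_sq])
  rw [Set.ncard_insert_of_notMem (by simp [Ne.symm D.s_ne, Ne.symm hi1, h3]),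
    Set.ncard_insert_of_notMem (by simp [Ne.symm his, h1]), Set.ncard_pair h2]

end LData

namespace Setup

variable {G : Type*} [Group G] {L : Type*} [Group L] {Q : ℤ} (E : Setup G L Q)

/-- The central involution. -/
abbrev τ : G := E.ι (c2, 1)

theorem τ_sq : E.τ * E.τ = 1 := by
  rw [← map_mul, Prod.mk_mul_mk, c2_sq, mul_one, Prod.mk_one_one, map_one]

theorem τ_ne : E.τ ≠ 1 := fun h => c2_ne (congrArg Prod.fst (E.inj (h.trans (map_one E.ι).symm)))

theorem τ_comm (m : C2 × L) : E.ι m * E.τ = E.τ * E.ι m := by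
  rw [← map_mul, ← map_mul]
  refine congrArg E.ι (Prod.ext (mul_comm _ _) ?_)
  show m.2 * 1 = 1 * m.2
  rw [one_mul, mul_one]

theorem finite_L [Finite G] (E : Setup G L Q) : Finite L :=
  Finite.of_injective (fun l => E.ι (1, l)) fun a b h => congrArg Prod.snd (E.inj h)

/-- The Sylow two-subgroup `C2 × V`. -/
def P0 {i : L} (hi : i * i = 1) (hc : i * E.D.s = E.D.s * i) : Subgroup G :=
  ((⊤ : Subgroup C2).prod (E.D.four hi hc)).map E.ι

theorem mem_P0 {i : L} (hi : i * i = 1) (hc : i * E.D.s = E.D.s * i) {g : G} :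
    g ∈ E.P0 hi hc ↔ ∃ a l, l ∈ E.D.four hi hc ∧ E.ι (a, l) = g := by
  constructor
  · rintro ⟨⟨a, l⟩, h, rfl⟩
    exact ⟨a, l, (Subgroup.mem_prod.1 h).2, rfl⟩
  · rintro ⟨a, l, h, rfl⟩
    exact ⟨(a, l), Subgroup.mem_prod.2 ⟨Subgroup.mem_top a, h⟩, rfl⟩

theorem card_P0 {i : L} (hi : i * i = 1) (hc : i * E.D.s = E.D.s * i) (hi1 : i ≠ 1)
    (his : i ≠ E.D.s) : Nat.card (E.P0 hi hc) = 8 := by
  rw [P0, Subgroup.card_map_of_injective E.inj,
    Nat.card_congr ((⊤ : Subgroup C2).prodEquiv (E.D.four hi hc)).toEquiv, Nat.card_prod,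
    Subgroup.card_top, card_C2, E.D.card_four hi hc hi1 his]

theorem P0_sq {i : L} (hi : i * i = 1) (hc : i * E.D.s = E.D.s * i) {g : G} (hg : g ∈ E.P0 hi hc) :
    g * g = 1 := by
  obtain ⟨a, l, hl, rfl⟩ := (E.mem_P0 hi hc).1 hg
  rw [← map_mul, ← map_one E.ι]
  refine congrArg E.ι (Prod.ext (C2_sq a) ?_)
  show l * l = 1
  rcases (E.D.mem_four hi hc).1 hl with rfl | rfl | rfl | rfl
  · exact one_mul 1
  · exact E.D.s_sq
  · exact hi
  · rw [mul_assoc, ← mul_assoc i, hc, mul_assoc, hi, mul_one, E.D.s_sq]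

theorem P0_comm {i : L} (hi : i * i = 1) (hc : i * E.D.s = E.D.s * i) {g g' : G}
    (hg : g ∈ E.P0 hi hc) (hg' : g' ∈ E.P0 hi hc) : g * g' = g' * g := by
  have h := E.P0_sq hi hc (mul_mem hg hg')
  calc g * g' = (g * g')⁻¹ := (inv_eq_of_mul_eq_one_right h).symm
    _ = g' * g := by
      rw [mul_inv_rev, inv_eq_of_mul_eq_one_right (E.P0_sq hi hc hg),
        inv_eq_of_mul_eq_one_right (E.P0_sq hi hc hg')]

/-- Every involution of `G` is conjugate to `τ`. -/
theorem conj_t [Finite G] [IsSimpleGroup G] {g : G} (h2 : g * g = 1) (h1 : g ≠ 1) : IsConj E.τ g := by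
  classical
  haveI : Fact (Nat.Prime 2) := ⟨Nat.prime_two⟩
  haveI := E.finite_L
  obtain ⟨i, y, hi, hi1, his, hc, -, hys, hyi⟩ := E.D.exists_alt
  have h8 : 8 ∣ Nat.card G := E.card_P0 hi hc hi1 his ▸ Subgroup.card_subgroup_dvd_card _
  have hf : (Nat.card G).factorization 2 = 3 := by
    refine le_antisymm (Nat.lt_succ_iff.1 (Nat.lt_of_not_le fun h => E.two ?_)) ?_
    · exact (pow_dvd_pow 2 h).trans (Nat.ordProj_dvd _ _)
    · exact (Nat.prime_two.pow_dvd_iff_le_factorization Nat.card_pos.ne').1 h8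
  let P : Sylow 2 G := Sylow.ofCard (E.P0 hi hc) (by
    rw [E.card_P0 hi hc hi1 his, hf]; norm_num)
  have hPc : (P : Subgroup G) = E.P0 hi hc := rfl
  haveI hcomm : IsMulCommutative (P : Subgroup G) :=
    ⟨⟨fun a b => Subtype.ext (E.P0_comm hi hc a.2 b.2)⟩⟩
  have hτP : E.τ ∈ (P : Subgroup G) := (E.mem_P0 hi hc).2 ⟨_, _, Or.inl rfl, rfl⟩
  -- conjugates of `τ` in `P`
  have inL : ∀ (a : C2) (l : L), l * l = 1 → l ≠ 1 → IsConj (E.ι (a, l)) (E.ι (a, E.D.s)) := by
    intro a l hl hl1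
    obtain ⟨c, hcl⟩ := isConj_iff.1 (E.D.invol l hl hl1)
    refine (isConj_iff.2 ⟨E.ι (1, c), ?_⟩).symm
    rw [← map_inv, ← map_mul, ← map_mul]
    refine congrArg E.ι (Prod.ext ?_ hcl)
    show 1 * a * 1⁻¹ = a
    rw [one_mul, inv_one, mul_one]
  -- every involution is conjugate to one of three representatives
  have three : ∀ x : G, x * x = 1 → x ≠ 1 →
      IsConj x E.τ ∨ IsConj x (E.ι (1, E.D.s)) ∨ IsConj x (E.ι (c2, E.D.s)) := by
    intro x hx2 hx1
    have hp : IsPGroup 2 (Subgroup.zpowers x) := IsPGroup.of_card (n := 1) (by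
      rw [Nat.card_zpowers, pow_one]; exact orderOf_eq_prime (by rw [pow_two, hx2]) hx1)
    obtain ⟨R, hR⟩ := hp.exists_le_sylow
    obtain ⟨c, hcR⟩ := MulAction.exists_smul_eq G R P
    have hmem : c * x * c⁻¹ ∈ E.P0 hi hc := by
      rw [← hPc, ← hcR, Sylow.coe_subgroup_smul]
      exact Subgroup.smul_mem_pointwise_smul x (MulAut.conj c) _ (hR (Subgroup.mem_zpowers x))
    obtain ⟨a, l, hl, he⟩ := (E.mem_P0 hi hc).1 hmem
    have hxc : IsConj x (E.ι (a, l)) := isConj_iff.2 ⟨c, he.symm⟩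
    by_cases hl1 : l = 1
    · rcases C2_cases a with rfl | rfl
      · rw [hl1, Prod.mk_one_one, map_one] at he
        exact absurd (conj_eq_one_iff.1 he.symm) hx1
      · rw [hl1] at hxc
        exact Or.inl hxc
    have hl2 : l * l = 1 := by
      rcases (E.D.mem_four hi hc).1 hl with rfl | rfl | rfl | rfl
      · exact one_mul 1
      · exact E.D.s_sq
      · exact hi
      · rw [mul_assoc, ← mul_assoc i, hc, mul_assoc, hi, mul_one, E.D.s_sq]
    rcases C2_cases a with rfl | rfl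
    · exact Or.inr (Or.inl (hxc.trans (inL 1 l hl2 hl1)))
    · exact Or.inr (Or.inr (hxc.trans (inL c2 l hl2 hl1)))
  suffices hboth : IsConj E.τ (E.ι (1, E.D.s)) ∧ IsConj E.τ (E.ι (c2, E.D.s)) by
    rcases three g h2 h1 with h | h | h
    exacts [h.symm, hboth.1.trans h.symm, hboth.2.trans h.symm]
  let N : Subgroup G := Subgroup.normalizer ((P : Subgroup G) : Set G)
  let K : Subgroup (ConjAct G) := N.map ConjAct.toConjAct.toMonoidHom
  let O : Set G := MulAction.orbit K E.τ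
  have hburn : ∀ x ∈ (P : Subgroup G), IsConj E.τ x → x ∈ O := by
    intro x hxP hx
    obtain ⟨c, rfl⟩ := isConj_iff.1 hx
    obtain ⟨n, hn, hn'⟩ := Sylow.conj_eq_normalizer_conj_of_mem P E.τ c⁻¹ hτP (by
      rw [inv_inv]; exact hxP)
    refine ⟨⟨ConjAct.toConjAct n⁻¹, Subgroup.mem_map_of_mem _ (inv_mem hn)⟩, ?_⟩
    show n⁻¹ * E.τ * n⁻¹⁻¹ = _
    rw [inv_inv, ← hn', inv_inv]
  have hOmem : ∀ x ∈ O, x ∈ (P : Subgroup G) ∧ IsConj E.τ x := by
    rintro x ⟨⟨k, hk⟩, rfl⟩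
    obtain ⟨n, hn, rfl⟩ := hk
    exact ⟨(Subgroup.mem_normalizer_iff.1 hn _).1 hτP, isConj_iff.2 ⟨n, rfl⟩⟩
  have hOodd : ¬ 2 ∣ O.ncard := by
    intro h2'
    have hos := Nat.card_congr (MulAction.orbitProdStabilizerEquivGroup K E.τ)
    rw [Nat.card_prod, Subgroup.card_map_of_injective ConjAct.toConjAct.injective,
      Nat.card_coe_set_eq] at hos
    have h8' : 8 ∣ Nat.card (MulAction.stabilizer K E.τ) := by
      rw [← E.card_P0 hi hc hi1 his]
      refine Subgroup.card_dvd_of_injective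
        { toFun := fun x => ⟨⟨ConjAct.toConjAct (x : G),
            Subgroup.mem_map_of_mem _ (Subgroup.le_normalizer x.2)⟩, by
            rw [MulAction.mem_stabilizer_iff]
            show (x : G) * E.τ * (x : G)⁻¹ = E.τ
            rw [E.P0_comm hi hc x.2 hτP, mul_inv_cancel_right]⟩
          map_one' := Subtype.ext (Subtype.ext (map_one _))
          map_mul' := fun a b => Subtype.ext (Subtype.ext (map_mul _ _ _)) } ?_
      intro a b h
      exact Subtype.ext (ConjAct.toConjAct.injective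
        (congrArg (fun z => ((z : K) : ConjAct G)) (congrArg Subtype.val h)))
    refine E.two (Dvd.dvd.trans ?_ (Subgroup.card_subgroup_dvd_card N))
    rw [← hos]
    exact (show 16 = 2 * 8 from rfl) ▸ mul_dvd_mul h2' h8'
  have hτO : E.τ ∈ O := MulAction.mem_orbit_self _
  have hnot : ∃ x ∈ (P : Subgroup G), IsConj E.τ x ∧ x ≠ E.τ := by
    by_contra hno
    push Not at hno
    obtain ⟨M, hM, hodd, hcen⟩ := Cfsg.Agent.S0215.result P E.τ
      (orderOf_eq_prime (by rw [pow_two]; exact E.τ_sq) E.τ_ne) hτP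
      (fun c hcP => hno _ hcP (isConj_iff.2 ⟨c, rfl⟩))
    rcases hM.eq_bot_or_eq_top with rfl | rfl
    · have hall : ∀ x : G, E.τ * x = x * E.τ := fun x => by
        have h' := Subgroup.mem_bot.1 (hcen x)
        rwa [mul_inv_eq_one, mul_inv_eq_iff_eq_mul] at h'
      have hcenter : E.τ ∈ Subgroup.center G := Subgroup.mem_center_iff.2 fun x => (hall x).symm
      rcases (inferInstance : (Subgroup.center G).Normal).eq_bot_or_eq_top with h | h
      · rw [h, Subgroup.mem_bot] at hcenter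
        exact E.τ_ne hcenter
      · have hys' : E.ι (1, y) * E.ι (1, E.D.s) = E.ι (1, E.D.s) * E.ι (1, y) :=
          (Subgroup.mem_center_iff.1 (h ▸ Subgroup.mem_top (E.ι (1, E.D.s))) _)
        rw [← map_mul, ← map_mul] at hys'
        have h' : y * E.D.s = E.D.s * y := congrArg Prod.snd (E.inj hys')
        exact his (by rw [← hys, h', mul_inv_cancel_right])
    · rw [Subgroup.card_top] at hodd
      exact Nat.not_even_iff_odd.2 hodd (even_iff_two_dvd.2 ((show 2 ∣ 8 by norm_num).trans h8))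
  have hi' : IsConj (E.ι (1, i)) (E.ι (1, E.D.s)) := inL 1 i hi hi1
  have hτV : ∀ (a : C2) (l : L), l ∈ E.D.four hi hc → l ≠ 1 →
      (IsConj E.τ (E.ι (a, l)) ↔ IsConj E.τ (E.ι (a, E.D.s))) := by
    intro a l hl hl1
    have hl2 : l * l = 1 := by
      rcases (E.D.mem_four hi hc).1 hl with rfl | rfl | rfl | rfl
      · exact one_mul 1
      · exact E.D.s_sq
      · exact hi
      · rw [mul_assoc, ← mul_assoc i, hc, mul_assoc, hi, mul_one, E.D.s_sq]
    exact ⟨fun h => h.trans (inL a l hl2 hl1), fun h => h.trans (inL a l hl2 hl1).symm⟩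
  -- the orbit as an explicit set
  let A : C2 → Set G := fun a => {E.ι (a, E.D.s), E.ι (a, i), E.ι (a, E.D.s * i)}
  have hA3 : ∀ a, (A a).ncard = 3 := by
    intro a
    have d : ∀ l l' : L, l ≠ l' → E.ι (a, l) ≠ E.ι (a, l') :=
      fun l l' hne h => hne (congrArg Prod.snd (E.inj h))
    show ({E.ι (a, E.D.s), E.ι (a, i), E.ι (a, E.D.s * i)} : Set G).ncard = 3
    rw [Set.ncard_insert_of_notMem (by
      simp only [Set.mem_insert_iff, Set.mem_singleton_iff, not_or]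
      exact ⟨d _ _ (Ne.symm his), d _ _ fun h => hi1 (mul_eq_left.1 h.symm)⟩),
      Set.ncard_pair (d _ _ fun h => E.D.s_ne (mul_eq_right.1 h.symm))]
  have key : ∀ a a' : C2, (∀ b, b = a ∨ b = a') → a ≠ a' → IsConj E.τ (E.ι (a, E.D.s)) →
      IsConj E.τ (E.ι (a', E.D.s)) := by
    intro a a' hcov hne ha
    by_contra ha'
    have hO : O = insert E.τ (A a) := by
      ext x
      constructor
      · intro hx
        obtain ⟨hxP, hxc⟩ := hOmem x hx
        obtain ⟨b, l, hl, rfl⟩ := (E.mem_P0 hi hc).1 hxP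
        by_cases hl1 : l = 1
        · rcases C2_cases b with rfl | rfl
          · rw [hl1, Prod.mk_one_one, map_one] at hxc
            exact absurd (isConj_one_left.1 hxc) E.τ_ne
          · exact Or.inl (by rw [hl1])
        rcases hcov b with rfl | rfl
        · refine Or.inr ?_
          rcases (E.D.mem_four hi hc).1 hl with rfl | rfl | rfl | rfl
          · exact absurd rfl hl1
          · exact Or.inl rfl
          · exact Or.inr (Or.inl rfl)
          · exact Or.inr (Or.inr rfl)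
        · exact absurd ((hτV _ l hl hl1).1 hxc) ha'
      · rintro (rfl | hx)
        · exact hτO
        · obtain ⟨l, hl, hl1, rfl⟩ : ∃ l ∈ E.D.four hi hc, l ≠ 1 ∧ x = E.ι (a, l) := by
            rcases hx with rfl | rfl | rfl
            · exact ⟨_, Or.inr (Or.inl rfl), E.D.s_ne, rfl⟩
            · exact ⟨_, Or.inr (Or.inr (Or.inl rfl)), hi1, rfl⟩
            · exact ⟨_, Or.inr (Or.inr (Or.inr rfl)), fun h => his (by
                rw [← inv_eq_of_mul_eq_one_right h, inv_eq_of_mul_eq_one_right E.D.s_sq]), rfl⟩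
          exact hburn _ ((E.mem_P0 hi hc).2 ⟨a, l, hl, rfl⟩) ((hτV a l hl hl1).2 ha)
    refine hOodd ?_
    rw [hO, Set.ncard_insert_of_notMem, hA3]
    · norm_num
    · intro hmem
      rcases hmem with h | h | h
      · exact E.D.s_ne (congrArg Prod.snd (E.inj h)).symm
      · exact hi1 (congrArg Prod.snd (E.inj h)).symm
      · exact his (by
          rw [← inv_eq_of_mul_eq_one_right ((congrArg Prod.snd (E.inj h)).symm),
            inv_eq_of_mul_eq_one_right E.D.s_sq])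
  obtain ⟨x, hxP, hxc, hxne⟩ := hnot
  obtain ⟨a, l, hl, rfl⟩ := (E.mem_P0 hi hc).1 hxP
  have hl1 : l ≠ 1 := by
    rintro rfl
    rcases C2_cases a with rfl | rfl
    · rw [Prod.mk_one_one, map_one] at hxc
      exact E.τ_ne (isConj_one_left.1 hxc)
    · exact hxne rfl
  have hs := (hτV a l hl hl1).1 hxc
  rcases C2_cases a with rfl | rfl
  · exact ⟨hs, key 1 c2 C2_cases c2_ne.symm hs⟩
  · exact ⟨key c2 1 (fun b => (C2_cases b).symm) c2_ne hs, hs⟩

/-- An element of order three normalising the four-group `⟨τ, s⟩` and centralising a further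
involution which inverts the torus. -/
theorem exists_y [Finite G] [IsSimpleGroup G] : ∃ (y : G) (a : C2) (l : L), y ^ 3 = 1 ∧
    y * E.τ * y⁻¹ = E.ι (1, E.D.s) ∧ y * E.ι (1, E.D.s) * y⁻¹ = E.ι (c2, E.D.s) ∧
    l * l = 1 ∧ l ≠ 1 ∧ (∀ z ∈ E.D.Zh, l * z * l⁻¹ = z⁻¹) ∧ l * E.D.s = E.D.s * l ∧
    y * E.ι (a, l) = E.ι (a, l) * y := by
  obtain ⟨i, y₀, hi, hi1, his, hc, hy3, hys, hyi⟩ := E.D.exists_alt
  have hss : E.ι (1, E.D.s) * E.ι (1, E.D.s) = 1 := by
    rw [← map_mul, Prod.mk_mul_mk, E.D.s_sq, one_mul, Prod.mk_one_one, map_one]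
  obtain ⟨g, hg⟩ := isConj_iff.1 (E.conj_t hss (fun h => E.D.s_ne
    (congrArg Prod.snd (E.inj (h.trans (map_one E.ι).symm))))).symm
  have hcomm : g * E.ι (1, i) * g⁻¹ * E.τ = E.τ * (g * E.ι (1, i) * g⁻¹) := by
    rw [← hg]
    simp only [mul_assoc, inv_mul_cancel_left]
    rw [← mul_assoc (E.ι (1, i)), ← mul_assoc (E.ι (1, E.D.s)), ← map_mul, ← map_mul, Prod.mk_mul_mk,
      Prod.mk_mul_mk, hc]
  obtain ⟨⟨a, l⟩, hal⟩ := E.cent _ hcomm
  have hl2 : l * l = 1 := by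
    have h : E.ι (a, l) * E.ι (a, l) = 1 := by
      rw [hal, show g * E.ι (1, i) * g⁻¹ * (g * E.ι (1, i) * g⁻¹) = g * (E.ι (1, i) * E.ι (1, i)) * g⁻¹ by
        group, ← map_mul, Prod.mk_mul_mk, hi, one_mul, Prod.mk_one_one, map_one, mul_one,
        mul_inv_cancel]
    rw [← map_mul] at h
    exact congrArg Prod.snd (E.inj (h.trans (map_one E.ι).symm))
  have hl1 : l ≠ 1 := by
    rintro rfl
    rcases C2_cases a with rfl | rfl
    · rw [Prod.mk_one_one, map_one] at hal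
      exact hi1 (congrArg Prod.snd (E.inj ((conj_eq_one_iff.1 hal.symm).trans (map_one E.ι).symm)))
    · exact his (congrArg Prod.snd (E.inj (mul_left_cancel (mul_right_cancel (hal.symm.trans hg.symm)))))
  obtain ⟨c, hcl⟩ := isConj_iff.1 (E.D.invol l hl2 hl1)
  -- `k` carries `⟨s, i⟩` to `⟨τ, s⟩`
  obtain ⟨k, hk1, hk2⟩ : ∃ k : G, k * E.ι (1, E.D.s) * k⁻¹ = E.τ ∧
      k * E.ι (1, i) * k⁻¹ = E.ι (a, E.D.s) := by
    refine ⟨(E.ι (1, c))⁻¹ * g, ?_, ?_⟩
    · rw [show (E.ι (1, c))⁻¹ * g * E.ι (1, E.D.s) * ((E.ι (1, c))⁻¹ * g)⁻¹ =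
        (E.ι (1, c))⁻¹ * (g * E.ι (1, E.D.s) * g⁻¹) * E.ι (1, c) by group, hg, mul_assoc,
        ← E.τ_comm (1, c), inv_mul_cancel_left]
    · rw [show (E.ι (1, c))⁻¹ * g * E.ι (1, i) * ((E.ι (1, c))⁻¹ * g)⁻¹ =
        (E.ι (1, c))⁻¹ * (g * E.ι (1, i) * g⁻¹) * E.ι (1, c) by group, ← hal, ← map_inv,
        ← map_mul, ← map_mul]
      refine congrArg E.ι (Prod.ext ?_ ?_)
      · show 1⁻¹ * a * 1 = a
        rw [inv_one, one_mul, mul_one]
      · show c⁻¹ * l * c = E.D.s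
        rw [← hcl]; group
  have hk3 : k * E.ι (1, E.D.s * i) * k⁻¹ = E.ι (c2 * a, E.D.s) := by
    have h : E.ι (1, E.D.s * i) = E.ι (1, E.D.s) * E.ι (1, i) := by
      rw [← map_mul, Prod.mk_mul_mk, one_mul]
    rw [h, show k * (E.ι (1, E.D.s) * E.ι (1, i)) * k⁻¹ =
      (k * E.ι (1, E.D.s) * k⁻¹) * (k * E.ι (1, i) * k⁻¹) by group, hk1, hk2, ← map_mul,
      Prod.mk_mul_mk, one_mul]
  -- the fixed involution
  have hu0c : k * E.τ * k⁻¹ * E.τ = E.τ * (k * E.τ * k⁻¹) := by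
    have h := congrArg (fun x => k * x * k⁻¹) (E.τ_comm (1, E.D.s))
    calc k * E.τ * k⁻¹ * E.τ = k * E.τ * k⁻¹ * (k * E.ι (1, E.D.s) * k⁻¹) := by rw [hk1]
      _ = k * (E.τ * E.ι (1, E.D.s)) * k⁻¹ := by group
      _ = k * (E.ι (1, E.D.s) * E.τ) * k⁻¹ := h.symm
      _ = (k * E.ι (1, E.D.s) * k⁻¹) * (k * E.τ * k⁻¹) := by group
      _ = E.τ * (k * E.τ * k⁻¹) := by rw [hk1]
  obtain ⟨⟨b, w⟩, hbw⟩ := E.cent _ hu0c
  have hbw' : k * E.τ * k⁻¹ * E.ι (a, E.D.s) = E.ι (a, E.D.s) * (k * E.τ * k⁻¹) := by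
    rw [← hk2]
    simp only [mul_assoc, inv_mul_cancel_left]
    rw [← mul_assoc E.τ, ← E.τ_comm (1, i), mul_assoc]
  have hw2 : w * w = 1 := by
    have h : E.ι (b, w) * E.ι (b, w) = 1 := by
      rw [hbw, show k * E.τ * k⁻¹ * (k * E.τ * k⁻¹) = k * (E.τ * E.τ) * k⁻¹ by group, E.τ_sq,
        mul_one, mul_inv_cancel]
    rw [← map_mul] at h
    exact congrArg Prod.snd (E.inj (h.trans (map_one E.ι).symm))
  have hws : w * E.D.s = E.D.s * w := by
    rw [← hbw, ← map_mul, ← map_mul] at hbw'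
    exact congrArg Prod.snd (E.inj hbw')
  have hwne : w ≠ 1 ∧ w ≠ E.D.s := by
    have hne : ∀ m : L, (m = 1 ∨ m = E.D.s ∨ m = i ∨ m = E.D.s * i) → E.τ ≠ E.ι (1, m) :=
      fun m _ h => c2_ne (congrArg Prod.fst (E.inj h))
    have hcan : ∀ m : L, E.ι (b, w) = k * E.ι (1, m) * k⁻¹ → E.τ = E.ι (1, m) := fun m hm =>
      mul_left_cancel (mul_right_cancel (hbw.symm.trans hm))
    constructor
    · rintro rfl
      rcases C2_cases b with rfl | rfl
      · rw [Prod.mk_one_one, map_one] at hbw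
        exact E.τ_ne (conj_eq_one_iff.1 hbw.symm)
      · exact hne E.D.s (Or.inr (Or.inl rfl)) (hcan _ hk1.symm)
    · rintro rfl
      by_cases hba : b = a
      · subst hba
        exact hne i (Or.inr (Or.inr (Or.inl rfl))) (hcan _ hk2.symm)
      · have : b = c2 * a := by
          rcases C2_cases b with rfl | rfl <;> rcases C2_cases a with rfl | rfl <;> simp_all [c2_sq]
        subst this
        exact hne _ (Or.inr (Or.inr (Or.inr rfl))) (hcan _ hk3.symm)
  have hwinv : ∀ z ∈ E.D.Zh, w * z * w⁻¹ = z⁻¹ := by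
    rcases E.D.Cs_cases w (Subgroup.mem_centralizer_singleton_iff.2 hws) with h | h
    · exfalso
      have hn : E.D.Zh ≤ Subgroup.centralizer ({E.D.s} : Set L) := E.D.Zh_le
      have hnorm : Subgroup.zpowers E.D.s ≤ Subgroup.normalizer (E.D.Zh : Set L) := by
        rw [Subgroup.zpowers_le]
        exact Subgroup.centralizer_le_normalizer _ (Subgroup.mem_centralizer_iff.2 fun z hz =>
          Subgroup.mem_centralizer_singleton_iff.1 (hn hz))
      rw [← SetLike.mem_coe, Subgroup.coe_mul_of_right_le_normalizer_left _ _ hnorm] at h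
      obtain ⟨z, hz, x, hx, rfl⟩ := Set.mem_mul.1 h
      have hzc := Subgroup.mem_centralizer_singleton_iff.1 (hn hz)
      have hx2 : x = 1 ∨ x = E.D.s := by
        obtain ⟨j, rfl⟩ := Subgroup.mem_zpowers_iff.1 hx
        rcases Int.even_or_odd' j with ⟨r, rfl | rfl⟩
        · left; rw [zpow_mul, zpow_two, E.D.s_sq, one_zpow]
        · right; rw [zpow_add, zpow_mul, zpow_two, E.D.s_sq, one_zpow, one_mul, zpow_one]
      have hz2 : z * z = 1 := by
        rcases hx2 with rfl | rfl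
        · simpa using hw2
        · calc z * z = z * z * (E.D.s * E.D.s) := by rw [E.D.s_sq, mul_one]
            _ = z * (z * E.D.s) * E.D.s := by group
            _ = z * (E.D.s * z) * E.D.s := by
              first
              | rw [hzc]
              | rw [← hzc]
            _ = (z * E.D.s) * (z * E.D.s) := by group
            _ = 1 := hw2
      have hz1 : z = 1 := by
        have hdvd : orderOf z ∣ E.D.h := E.D.card_Zh ▸ Subgroup.orderOf_dvd_natCard _ hz
        have h2' : orderOf z ∣ 2 := orderOf_dvd_of_pow_eq_one (by rw [pow_two]; exact hz2)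
        exact orderOf_eq_one_iff.1 (Nat.eq_one_of_dvd_coprimes
          ((Nat.coprime_two_right).2 E.D.h_odd) hdvd h2')
      rcases hx2 with rfl | rfl
      · exact hwne.1 (by rw [hz1, one_mul])
      · exact hwne.2 (by rw [hz1, one_mul])
    · exact h.2.2
  have hy0 : E.ι (1, y₀) ^ 3 = 1 := by
    rw [← map_pow, Prod.pow_mk, one_pow, hy3, Prod.mk_one_one, map_one]
  have hy03 : y₀ * (E.D.s * i) * y₀⁻¹ = E.D.s := by
    rw [show y₀ * (E.D.s * i) * y₀⁻¹ = (y₀ * E.D.s * y₀⁻¹) * (y₀ * i * y₀⁻¹) by group, hys, hyi,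
      ← mul_assoc, hc, mul_assoc, hi, mul_one]
  let y₁ : G := k * E.ι (1, y₀) * k⁻¹
  have hmove : ∀ l l' : L, y₀ * l * y₀⁻¹ = l' →
      y₁ * (k * E.ι (1, l) * k⁻¹) * y₁⁻¹ = k * E.ι (1, l') * k⁻¹ := by
    intro m m' hm
    simp only [y₁]
    rw [show k * E.ι (1, y₀) * k⁻¹ * (k * E.ι (1, m) * k⁻¹) * (k * E.ι (1, y₀) * k⁻¹)⁻¹ =
      k * (E.ι (1, y₀) * E.ι (1, m) * (E.ι (1, y₀))⁻¹) * k⁻¹ by group, ← map_inv, ← map_mul,
      ← map_mul, Prod.inv_mk, Prod.mk_mul_mk, Prod.mk_mul_mk, hm, one_mul, inv_one, one_mul]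
  have hfix : y₁ * E.ι (b, w) = E.ι (b, w) * y₁ := by
    simp only [y₁, hbw]
    rw [show k * E.ι (1, y₀) * k⁻¹ * (k * E.τ * k⁻¹) = k * (E.ι (1, y₀) * E.τ) * k⁻¹ by group,
      E.τ_comm]
    group
  have m1 : y₁ * E.τ * y₁⁻¹ = E.ι (a, E.D.s) := by rw [← hk1, ← hk2]; exact hmove _ _ hys
  have m2 : y₁ * E.ι (a, E.D.s) * y₁⁻¹ = E.ι (c2 * a, E.D.s) := by
    rw [← hk2, ← hk3]; exact hmove _ _ hyi
  have m3 : y₁ * E.ι (c2 * a, E.D.s) * y₁⁻¹ = E.τ := by rw [← hk3, ← hk1]; exact hmove _ _ hy03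
  have hy13 : y₁ ^ 3 = 1 := by simp only [y₁]; rw [conj_pow, hy0, mul_one, mul_inv_cancel]
  rcases C2_cases a with rfl | rfl
  · refine ⟨y₁, b, w, hy13, m1, ?_, hw2, hwne.1, hwinv, hws, hfix⟩
    simpa using m2
  · have flip : ∀ A B : G, y₁ * A * y₁⁻¹ = B → y₁⁻¹ * B * y₁⁻¹⁻¹ = A := fun A B h => by
      rw [← h]; group
    rw [c2_sq] at m2 m3
    refine ⟨y₁⁻¹, b, w, by rw [inv_pow, hy13, inv_one], flip _ _ m3, flip _ _ m2, hw2, hwne.1,
      hwinv, hws, ?_⟩
    have h := congrArg (fun x => y₁⁻¹ * x * y₁⁻¹) hfix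
    simp only [inv_mul_cancel_left, mul_assoc, mul_inv_cancel, mul_one] at h
    exact h.symm

end Setup

end Cfsg.Agent.JanThom
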