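import Cfsg.Agent.Lib.JanThom.Even
import Cfsg.Agent.Lib.JanThom.PSL2Data
import Cfsg.Agent.Lib.JanThom.Setup

/-!
The local setup of a finite simple group with abelian Sylow two-subgroups and an involution with
centraliser `Z₂ × PSL₂(q)`, `q ≡ ±3 (mod 8)`, `q ≥ 11`.
-/

set_option autoImplicit false
set_option linter.unusedSectionVars false
set_option linter.style.haveILetI false

namespace Cfsg.Agent.JanThom

open Subgroup

universe u v

variable {G : Type u} [Group G] [Finite G]

/-- The setup of the Janko–Thompson theorem. -/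
theorem exists_setup (hab : ∀ P : Sylow 2 G, ∀ a b : P, a * b = b * a) {F : Type v} [Field F] [Fintype F]
    {t : G} (ht : orderOf t = 2) (h8 : Fintype.card F % 8 = 3 ∨ Fintype.card F % 8 = 5)
    (h11 : 11 ≤ Fintype.card F)
    (e : centralizer ({t} : Set G) ≃* Multiplicative (ZMod 2) × Matrix.ProjectiveSpecialLinearGroup (Fin 2) F) :
    ∃ Q : ℤ, Q.natAbs = Fintype.card F ∧
      Nonempty (Setup G (Matrix.ProjectiveSpecialLinearGroup (Fin 2) F) Q) := by
  classical
  haveI : Fact (Nat.Prime 2) := ⟨Nat.prime_two⟩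
  obtain ⟨D⟩ := exists_lData (F := F) h8 h11
  have hna : ¬ IsMulCommutative (Matrix.ProjectiveSpecialLinearGroup (Fin 2) F) := fun h => by
    obtain ⟨i, y, -, -, hne, -, -, hy, -⟩ := D.exists_alt
    exact hne (by rw [← hy, h.is_comm.comm y D.s, mul_inv_cancel_right])
  obtain ⟨φ, hφ, hrange, hφt⟩ := exists_prod_hom ht (center_psl2 (by omega) hna) e
  refine ⟨_, ?_, ⟨{ D := D, ι := φ, inj := hφ, cent := fun g hg => ?_, two := ?_ }⟩⟩
  · split_ifs <;> simp
  · have hg' : g ∈ φ.range := by
      rw [hrange]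
      exact mem_centralizer_singleton_iff.2 (by rw [← hφt]; exact hg)
    exact hg'
  · intro h16
    obtain ⟨P, htP⟩ := (IsPGroup.of_card (n := 1) (G := zpowers t) (by
      rw [Nat.card_zpowers, ht, pow_one])).exists_le_sylow
    have hle : (P : Subgroup G) ≤ centralizer ({t} : Set G) := fun x hx =>
      mem_centralizer_singleton_iff.2
        (congrArg Subtype.val (hab P ⟨x, hx⟩ ⟨t, htP (mem_zpowers t)⟩))
    have h1 : 2 ^ 4 ∣ Nat.card (centralizer ({t} : Set G)) :=
      (P.pow_dvd_card_of_pow_dvd_card (n := 4) h16).trans (card_dvd_of_le hle)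
    rw [Nat.card_congr e.toEquiv, Nat.card_prod,
      show Nat.card (Multiplicative (ZMod 2)) = 2 by simp] at h1
    exact D.four_dvd_card.2 (Nat.dvd_of_mul_dvd_mul_left (by norm_num) (show 2 * 8 ∣ 2 * _ from h1))

end Cfsg.Agent.JanThom
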