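import Mathlib

/-!
# The arithmetic of the order formula

Signed conventions: `Q % 8 = 3`, `v = (Q - 1) / 2`, `D = v d`.  In the second option one has, with
`m = 4 (v - 1)` and `σ = d + m v`, an integer `n` with `n² + n (d σ - m - 1) = m (v d - 1)`.  The signs of
the degrees give `σ ≠ 5`, the congruences `σ ≡ 5 (mod 2 (v + 1))`, and then there is no such `n`.
-/

set_option autoImplicit false
set_option linter.unusedVariables false

namespace Cfsg.Agent.JanThom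

/-- Bounds for the auxiliary number of the second option. -/
theorem small_of_identity {a B N M : ℤ} (ha : 13 ≤ a) (hB : 0 ≤ B) (hN : 0 ≤ N)
    (hM : 4 * a ^ 2 - 4 * a ≤ M) (h15 : B ≤ 15) (h3 : N ≤ 3 * a)
    (hid : B * M ≤ B ^ 2 + N * (4 * a + 4 + N)) (hdiv : B ≠ 0 → N ≤ B ^ 2 + 1) : B = 0 := by
  by_contra hne
  have hN' := hdiv hne
  have h6 : B ≤ 6 := by
    by_contra h
    push Not at h
    have e1 : N * (4 * a + 4 + N) ≤ 3 * a * (4 * a + 4 + 3 * a) := by gcongr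
    nlinarith [mul_le_mul_of_nonneg_left h15 hB, mul_le_mul_of_nonneg_left hM hB]
  have h5 : B ≤ 5 := by
    by_contra h
    have e : B = 6 := by omega
    subst e
    nlinarith [show N * (4 * a + 4 + N) ≤ 37 * (4 * a + 4 + 37) by gcongr <;> omega]
  have h3' : B ≤ 3 := by
    by_contra h
    rcases (show B = 4 ∨ B = 5 by omega) with e | e <;> subst e <;>
      nlinarith [show N * (4 * a + 4 + N) ≤ 26 * (4 * a + 4 + 26) by gcongr <;> omega]
  have h1 : B ≤ 1 := by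
    by_contra h
    rcases (show B = 2 ∨ B = 3 by omega) with e | e <;> subst e <;>
      nlinarith [show N * (4 * a + 4 + N) ≤ 10 * (4 * a + 4 + 10) by gcongr <;> omega]
  obtain rfl : B = 1 := by omega
  nlinarith [show N * (4 * a + 4 + N) ≤ 2 * (4 * a + 4 + 2) by gcongr <;> omega]

/-- The Diophantine equation of the second option. -/
theorem no_root {v d n σ m : ℤ} (hm : m = 4 * (v - 1)) (hσ : σ = d + m * v) (hv : v ≤ -15 ∨ 13 ≤ v)
    (hd : d ≤ -3) (hc : 2 * (v + 1) ∣ d + 3) (h5 : σ ≠ 5)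
    (hn : n ^ 2 + n * (d * σ - m - 1) = m * (v * d - 1)) : False := by
  have hP : 4 * v ^ 2 - 4 * |v| ≤ m * v := by
    rw [hm]; rcases hv with h | h
    · rw [abs_of_nonpos (by omega)]; nlinarith
    · rw [abs_of_nonneg (by omega)]; nlinarith
  set a := |v| with ha
  have ha13 : 13 ≤ a := by rw [ha]; rcases abs_cases v with ⟨e, h⟩ | ⟨e, h⟩ <;> rw [e] <;> omega
  have ha2 : a ^ 2 = v ^ 2 := sq_abs v
  have hma : |m| ≤ 4 * a + 4 := by
    rw [hm, ha]; rcases abs_cases v with ⟨e, h⟩ | ⟨e, h⟩ <;> rw [e] <;> rw [abs_le] <;> omega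
  have hmne : m ≠ 0 := by omega
  by_cases hsmall : 2 * (-d) ≤ m * v - 4
  · -- the quadratic changes sign between `1` and `2`
    have hmb := abs_le.1 hma
    have f1 : 1 + (d * σ - m - 1) - m * (v * d - 1) = d ^ 2 := by rw [hσ]; ring
    have f2 : 4 + 2 * (d * σ - m - 1) - m * (v * d - 1) < 0 := by
      have e : 4 + 2 * (d * σ - m - 1) - m * (v * d - 1) = d * (2 * d + m * v) - m + 2 := by rw [hσ]; ring
      rw [e]
      by_cases h3 : 2 * a ^ 2 ≤ m * v + 2 * d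
      · nlinarith
      · nlinarith
    rcases le_or_gt n 1 with h | h
    · nlinarith [mul_nonneg (sub_nonneg.2 h) (sq_nonneg (n - 2)), sq_nonneg d]
    · rcases eq_or_lt_of_le (show 2 ≤ n by omega) with e | h'
      · subst e; nlinarith
      · -- the other root is an integer between `1` and `2`
        set n' := -(d * σ - m - 1) - n with hn'
        have hr : n' ^ 2 + n' * (d * σ - m - 1) = m * (v * d - 1) := by rw [← hn, hn']; ring
        rcases le_or_gt n' 1 with g | g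
        · nlinarith [mul_nonneg (sub_nonneg.2 g) (show (0 : ℤ) ≤ n - 1 by omega), sq_nonneg d]
        · nlinarith [mul_nonneg (show (0 : ℤ) ≤ n' - 2 by omega) (show (0 : ℤ) ≤ n - 2 by omega)]
  push Not at hsmall
  -- the small root
  obtain ⟨t, ht⟩ : 2 * (v + 1) ∣ σ - 5 := by
    obtain ⟨j, hj⟩ := hc
    exact ⟨j + 2 * (v - 2), by rw [hσ, hm]; linear_combination hj⟩
  have ht0 : t ≠ 0 := fun e => h5 (by rw [e, mul_zero] at ht; omega)
  have hσb : 2 * a - 7 ≤ |σ| := by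
    have h1 : |2 * (v + 1)| * 1 ≤ |2 * (v + 1)| * |t| :=
      mul_le_mul_of_nonneg_left (Int.one_le_abs ht0) (abs_nonneg _)
    rw [← abs_mul, ← ht, mul_one] at h1
    have h2 : 2 * a - 2 ≤ |2 * (v + 1)| := by
      rw [ha]; rcases abs_cases v with ⟨e, h⟩ | ⟨e, h⟩ <;> rw [e] <;>
        rcases abs_cases (2 * (v + 1)) with ⟨e', h'⟩ | ⟨e', h'⟩ <;> rw [e'] <;> omega
    have h3 : |σ - 5| ≤ |σ| + |(5 : ℤ)| := abs_sub σ 5
    rw [abs_of_nonneg (show (0 : ℤ) ≤ 5 by norm_num)] at h3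
    omega
  have hmv : 4 * a ^ 2 - 4 * a ≤ m * v := by rw [ha2]; exact hP
  obtain ⟨n0, hn0, hb0⟩ : ∃ n0 : ℤ, n0 ^ 2 + n0 * (d * σ - m - 1) = m * (v * d - 1) ∧ |n0| ≤ 3 * a := by
    by_contra hcon
    push Not at hcon
    set n' := -(d * σ - m - 1) - n with hn'
    have hr : n' ^ 2 + n' * (d * σ - m - 1) = m * (v * d - 1) := by rw [← hn, hn']; ring
    have g1 := hcon n hn
    have g2 := hcon n' hr
    have e1 : |n| * |n'| ≤ (4 * a + 4) * (a * (-d) + 1) := by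
      rw [← abs_mul, show n * n' = -(m * (v * d - 1)) by rw [← hn, hn']; ring, abs_neg, abs_mul]
      refine mul_le_mul hma ?_ (abs_nonneg _) (by omega)
      refine (abs_sub _ _).trans (le_of_eq ?_)
      rw [abs_mul, abs_of_nonpos (show d ≤ 0 by omega), ← ha, abs_one]
    have e2 : (-d) * |σ| ≤ |n| + |n'| + (4 * a + 4) + 1 := by
      have k1 : |d * σ| ≤ |d * σ - m - 1| + |m + 1| := by
        have := abs_add_le (d * σ - m - 1) (m + 1)
        rwa [show d * σ - m - 1 + (m + 1) = d * σ by ring] at this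
      have k2 : |d * σ - m - 1| ≤ |n| + |n'| := by
        rw [show d * σ - m - 1 = -(n + n') by rw [hn']; ring, abs_neg]
        exact abs_add_le n n'
      have k3 := abs_add_le m 1
      rw [abs_one] at k3
      rw [abs_mul, abs_of_nonpos (show d ≤ 0 by omega)] at k1
      linarith
    have e3 := mul_le_mul_of_nonneg_left hσb (show (0 : ℤ) ≤ -d by omega)
    nlinarith [mul_nonneg (show (0 : ℤ) ≤ |n| - 3 * a by omega) (show (0 : ℤ) ≤ |n'| - 3 * a by omega),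
      mul_le_mul_of_nonneg_left (show 2 * a ^ 2 - 2 * a - 2 ≤ -d by omega)
        (show (0 : ℤ) ≤ a * (2 * a - 25) by nlinarith)]
  have hdb : d * (n0 * σ - m * v) = (n0 - 1) * (m - n0) := by rw [hσ] at hn0 ⊢; linear_combination hn0
  set b' := n0 * σ - m * v with hb'
  have hsq : (n0 - 1) * (n0 * (m - n0) + b' * (m * v)) = b' ^ 2 := by
    have e : b' = n0 * d + (n0 - 1) * (m * v) := by rw [hb', hσ]; ring
    linear_combination -n0 * hdb - b' * e
  have hmn : |m - n0| ≤ 4 * a + 4 + |n0| := (abs_sub m n0).trans (by linarith)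
  have h15 : |b'| ≤ 15 := by
    by_contra h
    have e := congrArg abs hdb
    rw [abs_mul, abs_mul, abs_of_nonpos (show d ≤ 0 by omega)] at e
    have k1 : |n0 - 1| ≤ 3 * a + 1 := (abs_sub n0 1).trans (by rw [abs_one]; linarith)
    have k2 : |n0 - 1| * |m - n0| ≤ (3 * a + 1) * (4 * a + 4 + 3 * a) :=
      mul_le_mul k1 (hmn.trans (by linarith)) (abs_nonneg _) (by omega)
    nlinarith [mul_le_mul_of_nonneg_left (show 16 ≤ |b'| by omega) (show (0 : ℤ) ≤ -d by omega)]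
  have hdne : d ≠ 0 := by omega
  have hb0' : b' = 0 := by
    by_cases h1 : n0 = 1
    · rw [h1, sub_self, zero_mul] at hdb
      exact (mul_eq_zero.1 hdb).resolve_left hdne
    refine abs_eq_zero.1 (small_of_identity ha13 (abs_nonneg b') (abs_nonneg n0) hmv h15 hb0 ?_ ?_)
    · have e := congrArg abs hsq
      rw [abs_mul, abs_pow] at e
      have k1 : |n0 * (m - n0) + b' * (m * v)| ≤ |b'| ^ 2 := by
        rw [← e]
        exact le_mul_of_one_le_left (abs_nonneg _) (Int.one_le_abs (by omega))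
      have k2 : |b'| * (m * v) ≤ |n0 * (m - n0) + b' * (m * v)| + |n0 * (m - n0)| := by
        have := abs_sub (n0 * (m - n0) + b' * (m * v)) (n0 * (m - n0))
        rwa [show n0 * (m - n0) + b' * (m * v) - n0 * (m - n0) = b' * (m * v) by ring, abs_mul,
          abs_of_nonneg (show (0 : ℤ) ≤ m * v by nlinarith)] at this
      have k3 : |n0 * (m - n0)| ≤ |n0| * (4 * a + 4 + |n0|) := by
        rw [abs_mul]; exact mul_le_mul_of_nonneg_left hmn (abs_nonneg _)
      linarith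
    · intro hb
      have e := congrArg abs hsq
      rw [abs_mul, abs_pow] at e
      have hpos : 0 < |b'| ^ 2 := by positivity
      have k1 : |n0 - 1| ≤ |b'| ^ 2 := by
        rw [← e]
        refine le_mul_of_one_le_right (abs_nonneg _) (Int.one_le_abs fun z => ?_)
        rw [z, abs_zero, mul_zero] at e
        omega
      have k2 := abs_add_le (n0 - 1) 1
      rw [sub_add_cancel, abs_one] at k2
      linarith
  rw [hb0', mul_zero] at hdb
  rw [hb'] at hb0'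
  rcases mul_eq_zero.1 hdb.symm with e | e
  · rw [show n0 = 1 by omega, one_mul, hσ] at hb0'
    omega
  · rw [show n0 = m by omega, ← mul_sub] at hb0'
    have e' : σ = v := by
      have := (mul_eq_zero.1 hb0').resolve_left hmne
      omega
    rw [e'] at ht
    have hd6 : v + 1 ∣ (6 : ℤ) := ⟨1 - 2 * t, by linear_combination -ht⟩
    have h6 := Int.natAbs_dvd_natAbs.2 hd6
    have h6' := Nat.le_of_dvd (by norm_num) h6
    omega

/-- The case of two equal degrees. -/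
theorem equal_degrees {a A q x d v : ℚ} (hA : A ≠ 0) (ha : a ≠ 0) (hq : q ≠ 0) (hd : d ≠ 0) (hv : v ≠ 0)
    (h : a / A - 4 * q ^ 2 / a = -4 * v ^ 3 * x / (q * (v * d))) :
    (a ^ 2 - 4 * q ^ 2 * A) * q * d = -4 * v ^ 2 * x * A * a := by
  rw [show -4 * v ^ 3 * x / (q * (v * d)) = -4 * v ^ 2 * x / (q * d) by field_simp] at h
  field_simp at h
  linear_combination h

/-- The signs of the degrees exclude one value of `d`. -/
theorem sigma_ne {v A B C d E : ℤ} {K : ℚ} (hv : v ≤ -15 ∨ 13 ≤ v) (hd0 : d < 0) (hA : A ≠ 0)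
    (hB : B ≠ 0) (hC0 : C ≠ 0) (hE : E ≠ 0) (hsum : 1 + A + B + C = 0)
    (hb : 1 + 1 / (A : ℚ) + (2 * (v : ℚ) + 1) ^ 2 * (1 / (B : ℚ) + 1 / (C : ℚ))
      = K * (2 * (v : ℚ) + 1 - 1))
    (hKv : K = -2 * (v : ℚ) ^ 2 * (2 * v + 2) / ((2 * v + 1) * (v * d)))
    (hrat : 1 + 1 / (A : ℚ) = (v : ℚ) ^ 2 * (1 / E - (4 * v - 5) / (v * d)))
    (hmain : (A + 1) * (v * d) * E = v ^ 2 * A * (v * d - (4 * v - 5) * E)) (hA1 : A + 1 = v * d + E)
    (cA : 2 * v + 1 + 1 ∣ A - 1)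
    (hsign : (A < 0 ∧ (B = C ∨ B * C < 0) ∧ (0 < 2 * v + 1 ∨ E < 0)) ∨
      (2 * v + 1 < 0 ∧ 0 < A ∧ 0 < E ∧ B < 0 ∧ C < 0)) :
    d + 4 * (v - 1) * v ≠ 5 := by
  intro h5
  have hQ0 : (2 * v + 1 : ℚ) ≠ 0 := by exact_mod_cast (show (2 * v + 1 : ℤ) ≠ 0 by omega)
  have hA' : (A : ℚ) ≠ 0 := by exact_mod_cast hA
  have hB' : (B : ℚ) ≠ 0 := by exact_mod_cast hB
  have hC' : (C : ℚ) ≠ 0 := by exact_mod_cast hC0
  have hE' : (E : ℚ) ≠ 0 := by exact_mod_cast hE
  have hD' : (v : ℚ) * d ≠ 0 := by exact_mod_cast (mul_ne_zero (show v ≠ 0 by omega) (show d ≠ 0 by omega))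
  rcases hsign with ⟨hAn, hBC, hQE⟩ | ⟨hQn, hAp, hEp, -, -⟩
  · have hAm : A ≤ -2 := by
      by_contra h
      have hA1' : A = -1 := by omega
      rw [hA1'] at cA
      have := Int.natAbs_dvd_natAbs.2 cA
      have := Nat.le_of_dvd (by norm_num) this
      omega
    by_cases hQp : 0 < 2 * v + 1
    · have hv' : 13 ≤ v := by omega
      rcases hBC with rfl | hBC
      · -- equal degrees
        have hs : -(A + 1) ≤ v * -d := by
          rcases le_or_gt 0 E with hE0 | hE0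
          · nlinarith
          · have k1 : (A + 1) * d * E = v * A * (v * d - (4 * v - 5) * E) :=
              mul_left_cancel₀ (show v ≠ 0 by omega) (by linear_combination hmain)
            have k2 : (A + 1) * d * E ≥ v * A * (-(4 * v - 5) * E) := by
              rw [k1]; nlinarith [mul_pos (show (0 : ℤ) < v * -A by nlinarith) (show 0 < v * -d by nlinarith)]
            have k3 : (A + 1) * d ≤ v * A * -(4 * v - 5) := by nlinarith
            have k4 : -(A + 1) * (v - 5) ≤ v * (4 * v - 5) := by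
              rw [show d = 5 - 4 * (v - 1) * v by omega] at k3; nlinarith
            nlinarith
        have hB2 : (B : ℚ) = -((A : ℚ) + 1) / 2 := by
          have : 2 * B = -(A + 1) := by linarith
          have h' : (2 : ℚ) * B = -((A : ℚ) + 1) := by exact_mod_cast this
          linear_combination (1 / 2 : ℚ) * h'
        have hL : ((A + 1) ^ 2 - 4 * (2 * v + 1) ^ 2 * A) * (2 * v + 1) * d
            = -4 * v ^ 2 * (2 * v + 2) * A * (A + 1) := by
          have hA1q : (A : ℚ) + 1 ≠ 0 := by exact_mod_cast (show A + 1 ≠ 0 by omega)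
          have e : ((((A + 1) ^ 2 - 4 * (2 * v + 1) ^ 2 * A) * (2 * v + 1) * d : ℤ) : ℚ)
              = ((-4 * v ^ 2 * (2 * v + 2) * A * (A + 1) : ℤ) : ℚ) := by
            have eB : (2 * (v : ℚ) + 1) ^ 2 * (1 / (B : ℚ) + 1 / B) = -4 * (2 * (v : ℚ) + 1) ^ 2 / ((A : ℚ) + 1) := by
              rw [hB2]
              generalize (A : ℚ) + 1 = x at hA1q ⊢
              field_simp
              ring
            have ek : K * (2 * (v : ℚ) + 1 - 1) = -4 * (v : ℚ) ^ 3 * (2 * v + 2) / ((2 * v + 1) * (v * d)) := by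
              rw [hKv]; ring
            push_cast
            refine equal_degrees hA' hA1q hQ0 (by exact_mod_cast (show d ≠ 0 by omega))
              (by exact_mod_cast (show v ≠ 0 by omega)) ?_
            rw [show ((A : ℚ) + 1) / A = 1 + 1 / (A : ℚ) by field_simp]
            linear_combination hb + ek - eB
          exact_mod_cast e
        set e0 := 4 * v ^ 2 - 4 * v - 5 with he0
        rw [show d = -e0 by rw [he0]; linarith] at hL hs
        set s := -(A + 1) with hs'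
        have hX : (12 * v ^ 2 + 14 * v + 5) * s + 4 * v ^ 2 * (2 * v + 2) > 4 * (2 * v + 1) ^ 3 * e0 := by
          have hs0 : 0 < s := by omega
          have e : ((12 * v ^ 2 + 14 * v + 5) * s + 4 * v ^ 2 * (2 * v + 2) - 4 * (2 * v + 1) ^ 3 * e0) * s
              = 4 * (2 * v + 1) ^ 3 * e0 := by
            rw [hs', he0] at *
            linear_combination hL
          have hpos : 0 < 4 * (2 * v + 1) ^ 3 * e0 := by
            have : 0 < e0 := by rw [he0]; nlinarith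
            positivity
          by_contra h
          nlinarith [mul_nonneg (show (0 : ℤ) ≤ 4 * (2 * v + 1) ^ 3 * e0
            - ((12 * v ^ 2 + 14 * v + 5) * s + 4 * v ^ 2 * (2 * v + 2)) by linarith) hs0.le]
        have h1 := mul_le_mul_of_nonneg_left hs (show (0 : ℤ) ≤ 12 * v ^ 2 + 14 * v + 5 by nlinarith)
        rw [neg_neg] at h1
        have he1 : 4 * v ^ 2 * (2 * v + 2) ≤ 4 * v ^ 3 * e0 := by
          rw [he0]
          nlinarith [mul_le_mul_of_nonneg_left (show 2 * v + 2 ≤ v * (4 * v ^ 2 - 4 * v - 5) by nlinarith)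
            (show (0 : ℤ) ≤ 4 * v ^ 2 by nlinarith)]
        have he2 : 0 < e0 := by rw [he0]; nlinarith
        nlinarith [mul_le_mul_of_nonneg_right (show (12 * v ^ 2 + 14 * v + 5) * v + 4 * v ^ 3
          ≤ 4 * (2 * v + 1) ^ 3 by nlinarith) he2.le]
      · -- opposite signs
        have hP : (7 * (2 * v + 1 : ℚ) - 2) / ((2 * v + 1) * (v * d)) + 1 / E > 0 := by
          have hp : (2 * v + 1 : ℚ) ^ 2 * (1 / B + 1 / C) < 0 := by
            refine mul_neg_of_pos_of_neg (by positivity) ?_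
            rw [div_add_div _ _ hB' hC']
            refine div_neg_of_pos_of_neg ?_ (by exact_mod_cast hBC)
            have : 0 < B + C := by linarith
            have h' : (0 : ℚ) < B + C := by exact_mod_cast this
            linarith
          have e : (2 * v + 1 : ℚ) ^ 2 * (1 / B + 1 / C)
              = -(v : ℚ) ^ 2 * ((7 * (2 * v + 1) - 2) / ((2 * v + 1) * (v * d)) + 1 / E) := by
            have ek : K * (2 * (v : ℚ) + 1 - 1) = -4 * (v : ℚ) ^ 3 * (2 * v + 2) / ((2 * v + 1) * (v * d)) := by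
              rw [hKv]; ring
            have ei : (v : ℚ) ^ 2 * ((7 * (2 * (v : ℚ) + 1) - 2) / ((2 * v + 1) * (v * d)))
                = 4 * (v : ℚ) ^ 3 * (2 * v + 2) / ((2 * v + 1) * (v * d)) - (v : ℚ) ^ 2 * ((4 * v - 5) / (v * d)) := by
              generalize (v : ℚ) * d = D at hD' ⊢
              field_simp
              ring
            linear_combination hb - hrat + ek + ei
          rw [e] at hp
          nlinarith [sq_nonneg (v : ℚ)]
        have hr : (v : ℚ) ^ 2 * (1 / E - (4 * v - 5) / (v * d)) < 1 := by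
          have e := hrat.symm
          have : (1 : ℚ) / A < 0 := one_div_neg.2 (by exact_mod_cast hAn)
          rw [e]; linarith
        have hve : (0 : ℚ) < -((2 * v + 1) * (v * d)) := by
          have : 0 < -((2 * v + 1) * (v * d)) := by nlinarith
          exact_mod_cast this
        have h1 := mul_lt_mul_of_pos_left hP (show (0 : ℚ) < (v : ℚ) ^ 2 by positivity)
        rw [mul_zero] at h1
        have h2 : (v : ℚ) ^ 2 * (-((4 * v - 5) / (v * d)) - (7 * (2 * v + 1 : ℚ) - 2) / ((2 * v + 1) * (v * d)))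
            < 1 := by linarith
        have e : (v : ℚ) ^ 2 * (-((4 * v - 5) / (v * d)) - (7 * (2 * v + 1 : ℚ) - 2) / ((2 * v + 1) * (v * d)))
            = (v : ℚ) ^ 2 * (2 * (2 * v + 1) ^ 2 - 2) / (-((2 * v + 1) * (v * d))) := by
          have : (v : ℚ) * d ≠ 0 := hD'
          field_simp
          ring
        rw [e, div_lt_one hve] at h2
        have h3 : v ^ 2 * (2 * (2 * v + 1) ^ 2 - 2) < -((2 * v + 1) * (v * d)) := by exact_mod_cast h2
        rw [show d = 5 - 4 * (v - 1) * v by linarith] at h3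
        nlinarith [mul_le_mul_of_nonneg_left hv' (sq_nonneg v)]
    · have hv' : v ≤ -15 := by omega
      have hEn : E < 0 := hQE.resolve_left hQp
      have hDp : 0 < v * d := by nlinarith
      have k1 : (A + 1) * (v * d) * E < A * (v * d) * E := by nlinarith
      rw [hmain] at k1
      have k2 : (v * d) * E < v ^ 2 * (v * d - (4 * v - 5) * E) := by
        by_contra h
        nlinarith [mul_le_mul_of_nonpos_left (not_lt.1 h) hAn.le]
      have k3 : v ^ 2 * (v * d - (4 * v - 5) * E) ≤ v ^ 2 * (-E - (4 * v - 5) * E) :=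
        mul_le_mul_of_nonneg_left (by linarith) (sq_nonneg v)
      have k4 : (v * d + v ^ 2 * (4 * v - 4)) * E < 0 := by nlinarith
      have k5 : 0 < v * d + v ^ 2 * (4 * v - 4) := by
        by_contra h
        nlinarith [mul_nonneg_of_nonpos_of_nonpos (not_lt.1 h) hEn.le]
      rw [show d = 5 - 4 * (v - 1) * v by linarith] at k5
      nlinarith
  · have hv' : v ≤ -15 := by omega
    have hDp : 0 < v * d := by nlinarith
    have k1 : v ^ 2 * A * (-(4 * v - 5) * E) < (A + 1) * (v * d) * E := by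
      rw [hmain]
      nlinarith [mul_pos (mul_pos (show (0 : ℤ) < v ^ 2 by nlinarith) hAp) hDp]
    have k2 : v ^ 2 * A * -(4 * v - 5) < (A + 1) * (v * d) := by
      by_contra h
      nlinarith [mul_le_mul_of_nonneg_right (not_lt.1 h) hEp.le]
    rw [show d = 5 - 4 * (v - 1) * v by linarith] at k2 hA1 hDp
    have k3 : A * (5 - v) < 4 * (v - 1) * v - 5 := by
      by_contra h
      nlinarith [mul_le_mul_of_nonpos_left (not_lt.1 h) (show v ≤ 0 by omega)]
    nlinarith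

theorem optionI {Q A B C D E : ℤ} {K : ℚ} (hQ : Q % 8 = 3) (hQa : 11 ≤ |Q|)
    (hA : A ≠ 0) (hB : B ≠ 0) (hC0 : C ≠ 0) (hD : D ≠ 0) (hE : E ≠ 0)
    (hsum : 1 + A + B + C = 0) (hS : D + E = 1 + A) (hC : C = Q * A)
    (hb : 1 + 1 / (A : ℚ) + (Q : ℚ) ^ 2 * (1 / (B : ℚ) + 1 / (C : ℚ)) = K * ((Q : ℚ) - 1))
    (he : 1 + 1 / (A : ℚ) - (Q : ℚ) ^ 2 * (1 / (B : ℚ) + 1 / (C : ℚ))
      - ((Q : ℚ) - 1) ^ 2 / 2 * (1 / (D : ℚ) + 1 / (E : ℚ)) = K * ((Q : ℚ) ^ 2 - 6 * Q + 1) / (Q + 1))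
    (hf : 1 - (Q : ℚ) ^ 2 / B - ((Q : ℚ) - 1) ^ 2 / 2 * (1 / (D : ℚ) + 1 / (E : ℚ))
      - 9 * ((Q : ℚ) - 1) ^ 2 / ((C : ℚ) - A) = K * ((Q : ℚ) + 1)) :
    A = -(Q ^ 2 - Q + 1) ∧ B = Q ^ 3 ∧ K * ((Q : ℚ) * (Q ^ 2 - Q + 1)) = (Q : ℚ) ^ 2 - 1 ∧
      0 < Q ∧ ∃ x : ℤ, 3 * Q = x ^ 2 := by
  have hQ0 : (Q : ℚ) ≠ 0 := by exact_mod_cast (show Q ≠ 0 by omega)
  have hQ1 : (Q : ℚ) + 1 ≠ 0 := by exact_mod_cast (show Q + 1 ≠ 0 by omega)
  have hQm : (Q : ℚ) - 1 ≠ 0 := by exact_mod_cast (show Q - 1 ≠ 0 by omega)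
  have hA' : (A : ℚ) ≠ 0 := by exact_mod_cast hA
  have hB' : (B : ℚ) ≠ 0 := by exact_mod_cast hB
  have hD' : (D : ℚ) ≠ 0 := by exact_mod_cast hD
  have hE' : (E : ℚ) ≠ 0 := by exact_mod_cast hE
  subst hC
  push_cast at hb he hf
  have hK : K * Q * A = -((Q : ℚ) ^ 2 - 1) := by
    have h1 : (8 * (1 - Q) : ℚ) / A = K * (8 * Q) / (Q + 1) := by
      have e : 9 * ((Q : ℚ) - 1) ^ 2 / (Q * A - A) = 9 * (Q - 1) / A := by
        rw [show (Q : ℚ) * A - A = (Q - 1) * A by ring]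
        field_simp
      rw [e] at hf
      have e2 : (Q : ℚ) ^ 2 * (1 / (Q * A)) = Q / A := by field_simp
      have er : K * ((Q : ℚ) + 1) - K * ((Q : ℚ) ^ 2 - 6 * Q + 1) / (Q + 1) = K * (8 * Q) / (Q + 1) := by
        field_simp; ring
      linear_combination hf - he - e2 + er
    field_simp at h1
    grind
  have hBdef : B = -1 - (Q + 1) * A := by linarith
  have h2 : (((A + (Q ^ 2 - Q + 1)) * ((Q + 1) * (Q * A + 1)) : ℤ) : ℚ) = 0 := by
    have hBq : (B : ℚ) = -1 - ((Q : ℚ) + 1) * A := by exact_mod_cast hBdef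
    field_simp at hb
    rw [hBq] at hb
    have hK' : K * A * (Q : ℚ) = -((Q : ℚ) ^ 2 - 1) := by rw [← hK]; ring
    push_cast
    linear_combination -((Q : ℚ)) * hb - (-1 - ((Q : ℚ) + 1) * A) * ((Q : ℚ) - 1) * hK'
  have hA2 : A = -(Q ^ 2 - Q + 1) := by
    have h3 := Int.cast_eq_zero.1 h2
    rcases mul_eq_zero.1 h3 with h | h
    · linarith
    · rcases mul_eq_zero.1 h with h | h
      · omega
      · have : Q ∣ 1 := ⟨-A, by linarith⟩
        have := Int.eq_one_or_neg_one_of_mul_eq_one (show Q * (-A) = 1 by linarith)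
        omega
  have hB2 : B = Q ^ 3 := by rw [hBdef, hA2]; ring
  have hKR : K * ((Q : ℚ) * (Q ^ 2 - Q + 1)) = (Q : ℚ) ^ 2 - 1 := by
    rw [hA2] at hK; push_cast at hK; linear_combination -hK
  have hR : (Q : ℚ) ^ 2 - Q + 1 ≠ 0 := by nlinarith [sq_nonneg ((Q : ℚ) - 1 / 2)]
  have hKv : K = ((Q : ℚ) ^ 2 - 1) / (Q * (Q ^ 2 - Q + 1)) :=
    eq_div_of_mul_eq (mul_ne_zero hQ0 hR) hKR
  have hSq : (E : ℚ) = 1 + A - D := by exact_mod_cast (show E = 1 + A - D by linarith)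
  have hAq : (A : ℚ) = -((Q : ℚ) ^ 2 - Q + 1) := by exact_mod_cast hA2
  have hBq : (B : ℚ) = (Q : ℚ) ^ 3 := by exact_mod_cast hB2
  have hDE : 12 * (D * E) = -Q * (Q - 1) ^ 2 * (Q ^ 2 - Q + 1) := by
    have eid : 1 + 1 / -((Q : ℚ) ^ 2 - Q + 1) - (Q : ℚ) ^ 2 * (1 / (Q : ℚ) ^ 3 + 1 / ((Q : ℚ) * -((Q : ℚ) ^ 2 - Q + 1)))
        - ((Q : ℚ) ^ 2 - 1) / (Q * (Q ^ 2 - Q + 1)) * ((Q : ℚ) ^ 2 - 6 * Q + 1) / (Q + 1)
        = 6 * ((Q : ℚ) - 1) / (Q ^ 2 - Q + 1) := by
      generalize hR' : (Q : ℚ) ^ 2 - Q + 1 = R at hR ⊢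
      field_simp
      rw [← hR']
      ring
    rw [hKv, hAq, hBq] at he
    have hX : ((Q : ℚ) - 1) ^ 2 / 2 * (((D : ℚ) + E) / (D * E)) = 6 * ((Q : ℚ) - 1) / (Q ^ 2 - Q + 1) := by
      rw [← eid, show ((D : ℚ) + E) / (D * E) = 1 / (D : ℚ) + 1 / E by field_simp; ring]
      linear_combination -he
    have hSd : (D : ℚ) + E = -((Q : ℚ) * (Q - 1)) := by rw [hSq, hAq]; ring
    rw [hSd] at hX
    have e : ((12 * (D * E) : ℤ) : ℚ) = ((-Q * (Q - 1) ^ 2 * (Q ^ 2 - Q + 1) : ℤ) : ℚ) := by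
      push_cast
      generalize hR' : (Q : ℚ) ^ 2 - Q + 1 = R at hR hX ⊢
      field_simp at hX
      linear_combination -hX
    exact_mod_cast e
  have hsq : 3 * (D - E) ^ 2 = Q * ((Q - 1) * (Q + 1)) ^ 2 := by
    have hS' : D + E = -Q * (Q - 1) := by rw [hS, hA2]; ring
    linear_combination 3 * (D + E - Q * (Q - 1)) * hS' - hDE
  have hne : ((Q - 1) * (Q + 1)) ^ 2 ≠ 0 := pow_ne_zero _ (mul_ne_zero (by omega) (by omega))
  refine ⟨hA2, hB2, hKR, ?_, ?_⟩
  · by_contra hneg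
    push Not at hneg
    have h0 : Q < 0 := by omega
    nlinarith [mul_neg_of_neg_of_pos h0 (lt_of_le_of_ne (sq_nonneg ((Q - 1) * (Q + 1))) (Ne.symm hne)),
      sq_nonneg (D - E)]
  · have h4 : ((Q - 1) * (Q + 1)) ^ 2 ∣ (3 * (D - E)) ^ 2 := ⟨3 * Q, by linear_combination 3 * hsq⟩
    obtain ⟨x, hx⟩ := (Int.pow_dvd_pow_iff (by norm_num)).1 h4
    refine ⟨x, mul_left_cancel₀ hne ?_⟩
    have e : (3 * (D - E)) ^ 2 = ((Q - 1) * (Q + 1) * x) ^ 2 := by rw [hx]
    linear_combination e - 3 * hsq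

theorem optionII {Q A B C D E : ℤ} {K : ℚ} {N : ℕ} (hQ : Q % 8 = 3) (hQa : 27 ≤ |Q|)
    (hA : A ≠ 0) (hB : B ≠ 0) (hC0 : C ≠ 0) (hD : D ≠ 0) (hE : E ≠ 0)
    (hsum : 1 + A + B + C = 0) (hS : D + E = 1 + A)
    (hb : 1 + 1 / (A : ℚ) + (Q : ℚ) ^ 2 * (1 / (B : ℚ) + 1 / (C : ℚ)) = K * ((Q : ℚ) - 1))
    (he : 1 + 1 / (A : ℚ) - (Q : ℚ) ^ 2 * (1 / (B : ℚ) + 1 / (C : ℚ))
      - ((Q : ℚ) - 1) ^ 2 / 2 * (1 / (D : ℚ) + 1 / (E : ℚ)) = K * ((Q : ℚ) ^ 2 - 6 * Q + 1) / (Q + 1))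
    (hf : 1 + 1 / (A : ℚ) - (Q : ℚ) ^ 2 * (1 / (B : ℚ) + 1 / (C : ℚ))
      - ((Q : ℚ) - 1) ^ 2 / 2 * (1 / (E : ℚ)) - 9 * ((Q : ℚ) - 1) ^ 2 / (2 * (D : ℚ)) = K * ((Q : ℚ) + 1))
    (hK : 0 < K * Q) (hN : (N : ℚ) * |K| = (Q : ℚ) ^ 2 * ((Q : ℚ) ^ 2 - 1) ^ 2)
    (hdvd : |Q| * (Q ^ 2 - 1) ∣ (N : ℤ))
    (cA : Q + 1 ∣ A - 1) (cB : Q + 1 ∣ B + 1) (cC : Q + 1 ∣ C + 1)
    (cD : 2 * (Q + 1) ∣ 2 * D - (Q + 7)) (cE : 2 * (Q + 1) ∣ 2 * E - (Q - 1))
    (hsign : (A < 0 ∧ (B = C ∨ B * C < 0) ∧ (0 < Q ∨ E < 0)) ∨ (Q < 0 ∧ 0 < A ∧ 0 < E ∧ B < 0 ∧ C < 0)) :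
    False := by
  obtain ⟨v, rfl⟩ : ∃ v, Q = 2 * v + 1 := ⟨Q / 2, by omega⟩
  have hv : v ≤ -15 ∨ 13 ≤ v := by rcases le_abs.1 hQa with h | h <;> omega
  obtain ⟨w, hw⟩ : ∃ w, v = 2 * w + 1 := ⟨v / 2, by omega⟩
  push_cast at hb he hf hK hN
  have hQ0 : (2 * v + 1 : ℚ) ≠ 0 := by exact_mod_cast (show (2 * v + 1 : ℤ) ≠ 0 by omega)
  have hQ1 : (2 * v + 1 + 1 : ℚ) ≠ 0 := by exact_mod_cast (show (2 * v + 1 + 1 : ℤ) ≠ 0 by omega)
  have hA' : (A : ℚ) ≠ 0 := by exact_mod_cast hA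
  have hB' : (B : ℚ) ≠ 0 := by exact_mod_cast hB
  have hC' : (C : ℚ) ≠ 0 := by exact_mod_cast hC0
  have hD' : (D : ℚ) ≠ 0 := by exact_mod_cast hD
  have hE' : (E : ℚ) ≠ 0 := by exact_mod_cast hE
  have hKv : K = -2 * (v : ℚ) ^ 2 * (2 * v + 2) / ((2 * v + 1) * D) := by
    have h1 : -16 * (v : ℚ) ^ 2 / D = K * (8 * (2 * v + 1)) / (2 * v + 1 + 1) := by
      have er : K * (2 * (v : ℚ) + 1 + 1) - K * ((2 * (v : ℚ) + 1) ^ 2 - 6 * (2 * v + 1) + 1) / (2 * v + 1 + 1)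
          = K * (8 * (2 * v + 1)) / (2 * v + 1 + 1) := by
        field_simp; ring
      linear_combination hf - he + er
    field_simp at h1
    rw [eq_div_iff (mul_ne_zero hQ0 hD')]
    grind
  -- the sign and the divisibility of `D`
  have hDs : (v + 1) * D < 0 := by
    by_contra hc
    push Not at hc
    have h1 : (0 : ℚ) ≤ ((v : ℚ) + 1) * D := by exact_mod_cast hc
    have e : K * (2 * v + 1) = -4 * (v : ℚ) ^ 2 * ((v + 1) * D) / (D : ℚ) ^ 2 := by
      rw [hKv]; field_simp; ring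
    rw [e] at hK
    have : -4 * (v : ℚ) ^ 2 * ((v + 1) * D) / (D : ℚ) ^ 2 ≤ 0 :=
      div_nonpos_of_nonpos_of_nonneg (by nlinarith [mul_nonneg (sq_nonneg (v : ℚ)) h1]) (sq_nonneg _)
    linarith
  obtain ⟨d, rfl⟩ : v ∣ D := by
    have e : ((N : ℤ) : ℚ) ^ 2 * (4 * (v : ℚ) ^ 4 * (2 * v + 2) ^ 2)
        = ((2 * v + 1 : ℚ) ^ 6 * 16 * (v : ℚ) ^ 4 * (2 * v + 2) ^ 4 * (D : ℚ) ^ 2) := by
      have h1 := congrArg (fun r : ℚ => r ^ 2) hN
      simp only [mul_pow, sq_abs] at h1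
      rw [hKv] at h1
      push_cast
      field_simp at h1
      grind
    have e' : (N : ℤ) ^ 2 * (4 * v ^ 4 * (2 * v + 2) ^ 2)
        = (2 * v + 1) ^ 6 * 16 * v ^ 4 * (2 * v + 2) ^ 4 * D ^ 2 := by exact_mod_cast e
    have hne : (4 * v ^ 4 * (2 * v + 2) ^ 2 : ℤ) ≠ 0 :=
      mul_ne_zero (mul_ne_zero (by norm_num) (pow_ne_zero _ (by omega))) (pow_ne_zero _ (by omega))
    have e2 : (N : ℤ) ^ 2 = 4 * (2 * v + 1) ^ 6 * (2 * v + 2) ^ 2 * D ^ 2 :=
      mul_right_cancel₀ hne (by rw [e']; ring)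
    have h2 := pow_dvd_pow_of_dvd hdvd 2
    rw [e2, mul_pow, sq_abs] at h2
    have hne2 : (4 * (2 * v + 1) ^ 2 * (2 * v + 2) ^ 2 : ℤ) ≠ 0 :=
      mul_ne_zero (mul_ne_zero (by norm_num) (pow_ne_zero _ (by omega))) (pow_ne_zero _ (by omega))
    have h3 : v ^ 2 ∣ ((2 * v + 1) ^ 2 * D) ^ 2 := by
      refine (mul_dvd_mul_iff_left hne2).1 (Dvd.dvd.trans (dvd_of_eq ?_) (h2.trans (dvd_of_eq ?_))) <;> ring
    have h4 := (Int.pow_dvd_pow_iff (by norm_num)).1 h3
    have h5 := dvd_sub h4 (dvd_mul_right v ((4 * v + 4) * D))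
    rwa [show (2 * v + 1) ^ 2 * D - v * ((4 * v + 4) * D) = D by ring] at h5
  have hd0 : d < 0 := by
    have hvv : 0 < v * (v + 1) := by rcases hv with h | h <;> nlinarith
    nlinarith
  have hc : 2 * (v + 1) ∣ d + 3 := by
    obtain ⟨j, hj⟩ := cD
    have h1 : v * d - v - 4 = 2 * (v + 1) * j := by linarith
    refine ⟨j * v - w * (d - 1) + 2, ?_⟩
    subst hw
    linear_combination (2 * w + 1) * h1
  have hd3 : d ≤ -3 := by
    obtain ⟨j, hj⟩ := hc
    by_contra h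
    have hj1 : j ≠ 0 := fun e => by subst e; omega
    have h1 := Int.le_of_dvd (show (0 : ℤ) < d + 3 by omega) ⟨j, hj⟩
    have h2 := Int.le_of_dvd (show (0 : ℤ) < d + 3 by omega)
      (show -(2 * (v + 1)) ∣ d + 3 from ⟨-j, by linarith⟩)
    omega
  push_cast at hb he hf hD' hKv hS
  -- the relation between the degrees
  have hrat : 1 + 1 / (A : ℚ) = (v : ℚ) ^ 2 * (1 / E - (4 * v - 5) / (v * d)) := by
    have er : K * (2 * (v : ℚ) + 1 - 1) + K * ((2 * (v : ℚ) + 1) ^ 2 - 6 * (2 * v + 1) + 1) / (2 * v + 1 + 1)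
        = -4 * (v : ℚ) ^ 2 * (2 * v - 2) / (v * d) := by
      rw [hKv]
      generalize (v : ℚ) * d = D at hD' ⊢
      field_simp
      ring
    linear_combination (1 / 2 : ℚ) * hb + (1 / 2 : ℚ) * he + (1 / 2 : ℚ) * er
  have hmain : (A + 1) * (v * d) * E = v ^ 2 * A * (v * d - (4 * v - 5) * E) := by
    have e : (((A + 1) * (v * d) * E : ℤ) : ℚ)
        = ((v ^ 2 * A * (v * d - (4 * v - 5) * E) : ℤ) : ℚ) := by
      push_cast
      have h1 := hrat
      generalize (v : ℚ) * d = D at hD' h1 ⊢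
      field_simp at h1
      linear_combination h1
    exact_mod_cast e
  have hA1 : A + 1 = v * d + E := by linarith
  have h5 := sigma_ne hv hd0 hA hB hC0 hE hsum hb hKv hrat hmain hA1 cA hsign
  -- the integral quadratic
  obtain ⟨δ, hδ⟩ : ∃ δ, δ = d + (4 * v - 5) * v := ⟨_, rfl⟩
  obtain ⟨L, hL⟩ : ∃ L, L = d * (δ - v) - (4 * v - 5) := ⟨_, rfl⟩
  have hquad : δ * E ^ 2 + v * L * E = v ^ 2 * d * (v * d - 1) := by
    apply mul_left_cancel₀ (show v ≠ 0 by omega)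
    have hm := hmain
    rw [hA1, show A = v * d + E - 1 by linarith] at hm
    rw [hδ, hL, hδ]
    linear_combination hm
  have hsqx : (2 * (E * δ) + v * L) ^ 2 = v ^ 2 * (L ^ 2 + 4 * d * δ * (v * d - 1)) := by
    linear_combination 4 * δ * hquad
  obtain ⟨y, hy⟩ : v ∣ E * δ := by
    have h1 := (Int.pow_dvd_pow_iff (by norm_num)).1 (Dvd.intro _ hsqx.symm)
    have h2 := dvd_sub (dvd_mul_right v (E * δ)) ((dvd_sub h1 (dvd_mul_right v L)).mul_left w)
    rwa [show v * (E * δ) - w * (2 * (E * δ) + v * L - v * L) = E * δ by rw [hw]; ring] at h2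
  refine no_root (v := v) (d := d) (n := y - (v * d - 1)) rfl rfl hv hd3 hc h5 ?_
  have e : y ^ 2 + L * y = d * δ * (v * d - 1) := by
    apply mul_left_cancel₀ (show v ^ 2 ≠ 0 from pow_ne_zero _ (by omega))
    linear_combination δ * hquad - (E * δ + v * y + v * L) * hy
  rw [hL, hδ] at e
  linear_combination e

end Cfsg.Agent.JanThom
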