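import Cfsg.Agent.Lib.JanThom.Shape2

/-!
The shape with eight rows `e = ±1`: named rows, vectors of norm seven and three.
-/

set_option autoImplicit false
set_option linter.unusedSectionVars false

namespace Cfsg.Agent.JanThom

open scoped Classical

namespace Cols

variable {X : Type*} [Fintype X] {c : Cols X}

/-- Exchange `B` and `C`. -/
def Eight.swapBC (F : c.Eight) : c.Eight where
  A := F.A
  B := F.C
  C := F.B
  D := F.D
  E := F.E
  bS_eq := by rw [F.bS_eq, Finset.pair_comm F.C F.B]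
  wS_eq := F.wS_eq
  eb_A := F.eb_A
  eb_B := F.eb_C
  eb_C := F.eb_B
  ew_D := F.ew_D
  ew_E := F.ew_E
  ne := by obtain ⟨a, b, d, e, f, g, h⟩ := F.ne; exact ⟨a, d, b, f, e, g.symm, h⟩
  disj := F.disj
  e_small := F.e_small
  e_ne := F.e_ne

/-- Exchange `D` and `E`. -/
def Eight.swapDE (F : c.Eight) : c.Eight where
  A := F.A
  B := F.B
  C := F.C
  D := F.E
  E := F.D
  bS_eq := F.bS_eq
  wS_eq := by rw [F.wS_eq]; ext i; simp; tauto
  eb_A := F.eb_A
  eb_B := F.eb_B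
  eb_C := F.eb_C
  ew_D := F.ew_E
  ew_E := F.ew_D
  ne := by obtain ⟨a, b, d, e, f, g, h⟩ := F.ne; exact ⟨a, b, d, e, f, g, h.symm⟩
  disj := F.disj
  e_small := F.e_small
  e_ne := F.e_ne

namespace Eight

variable (F : c.Eight)

/-- The eight named rows. -/
noncomputable def named : Finset X := {c.o, F.A, F.B, F.C, F.D, F.E, c.τ F.D, c.τ F.E}

/-- The other rows. -/
noncomputable def rest : Finset X := Finset.univ \ F.named

theorem mem_rest {i : X} : i ∈ F.rest ↔ i ∉ F.named := by simp [rest]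

theorem named_eq : F.named = c.bS ∪ c.wS := by
  rw [F.bS_eq, F.wS_eq]
  ext i
  simp [named]; tauto

theorem unit_b {i : X} {σ : ℤ} (h : c.e i * c.b i = σ) (hσ : σ = 1 ∨ σ = -1) :
    (c.e i = 1 ∨ c.e i = -1) ∧ c.b i = σ * c.e i := by
  rcases c.abs_b i with e | e | e <;> rw [e] at h ⊢
  · rw [mul_zero] at h; omega
  · rw [mul_one] at h; rcases hσ with e' | e' <;> rw [e'] at h ⊢ <;> omega
  · rw [mul_neg_one] at h; rcases hσ with e' | e' <;> rw [e'] at h ⊢ <;> omega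

theorem unit_w {i : X} (h : c.e i * c.w i = 1) : (c.e i = 1 ∨ c.e i = -1) ∧ c.w i = c.e i := by
  rcases c.abs_w i with e | e | e <;> rw [e] at h ⊢
  · rw [mul_zero] at h; omega
  all_goals omega

theorem mem_D : F.D ∈ c.wS ∧ F.E ∈ c.wS := by
  rw [F.wS_eq]; simp

theorem b_D : c.b F.D = 0 ∧ c.b F.E = 0 := by
  have h := Finset.disjoint_right.1 F.disj
  exact ⟨by simpa [c.mem_bS] using h F.mem_D.1, by simpa [c.mem_bS] using h F.mem_D.2⟩

theorem card_named : F.named.card = 8 := by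
  rw [F.named_eq, Finset.card_union_of_disjoint F.disj, c.card_bS, c.card_wS]

theorem distinct : [c.o, F.A, F.B, F.C, F.D, F.E, c.τ F.D, c.τ F.E].Nodup := by
  have h := List.card_toFinset [c.o, F.A, F.B, F.C, F.D, F.E, c.τ F.D, c.τ F.E]
  have e : [c.o, F.A, F.B, F.C, F.D, F.E, c.τ F.D, c.τ F.E].toFinset = F.named := by
    simp [named, List.toFinset_cons]
  rw [e, F.card_named] at h
  exact List.dedup_eq_self.1 ((List.dedup_sublist _).eq_of_length (by rw [← h]; rfl))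

theorem sum_split {M : Type*} [AddCommMonoid M] (f : X → M) : ∑ i, f i =
    f c.o + f F.A + f F.B + f F.C + f F.D + f F.E + f (c.τ F.D) + f (c.τ F.E) + ∑ i ∈ F.rest, f i := by
  rw [← Finset.sum_add_sum_compl F.named, Finset.compl_eq_univ_sdiff]
  congr 1
  have h := List.sum_toFinset f F.distinct
  simp only [List.toFinset_cons, List.toFinset_nil, List.map_cons, List.map_nil, List.sum_cons,
    List.sum_nil, add_zero, insert_empty_eq] at h
  rw [named, h]
  abel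

theorem rest_zero {i : X} (hi : i ∉ F.named) : c.e i = 0 ∧ c.b i = 0 ∧ c.w i = 0 := by
  rw [F.named_eq] at hi
  have h := (F.e_ne i).not.2 hi
  simp only [Finset.mem_union, c.mem_bS, c.mem_wS, not_or, not_not] at hi h
  exact ⟨h, hi⟩

theorem sum_e (f : X → ℤ) : ∑ i, f i * c.e i = f c.o + f F.A * c.e F.A + f F.B * c.e F.B +
    f F.C * c.e F.C + (f F.D + f (c.τ F.D)) * c.e F.D + (f F.E + f (c.τ F.E)) * c.e F.E := by
  rw [F.sum_split, Finset.sum_eq_zero fun i hi => by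
    rw [(F.rest_zero (F.mem_rest.1 hi)).1, mul_zero], c.τe, c.τe, c.o_e]
  ring

theorem sum_b (f : X → ℤ) : ∑ i, f i * c.b i =
    f c.o + f F.A * c.e F.A - f F.B * c.e F.B - f F.C * c.e F.C := by
  rw [F.sum_split, Finset.sum_eq_zero fun i hi => by
    rw [(F.rest_zero (F.mem_rest.1 hi)).2.1, mul_zero], c.τb, c.τb, F.b_D.1, F.b_D.2, c.o_b,
    (unit_b F.eb_A (Or.inl rfl)).2, (unit_b F.eb_B (Or.inr rfl)).2, (unit_b F.eb_C (Or.inr rfl)).2]
  ring

/-- The coordinates of a vector on the named rows, signed by `e`. -/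
def coord (a : X → ℤ) : List ℤ :=
  [a F.A * c.e F.A, a F.B * c.e F.B, a F.C * c.e F.C, a F.D * c.e F.D, a F.E * c.e F.E]

theorem coord_eq {a : X → ℤ} {u₁ u₂ u₃ u₄ u₅ : ℤ} (h : F.coord a = [u₁, u₂, u₃, u₄, u₅]) :
    a F.A = u₁ * c.e F.A ∧ a F.B = u₂ * c.e F.B ∧ a F.C = u₃ * c.e F.C ∧ a F.D = u₄ * c.e F.D ∧
      a F.E = u₅ * c.e F.E := by
  simp only [coord, List.cons.injEq, and_true] at h
  obtain ⟨h1, h2, h3, h4, h5⟩ := h
  have key : ∀ {x u w : ℤ}, (w = 1 ∨ w = -1) → x * w = u → x = u * w := by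
    rintro x u w (rfl | rfl) hx <;> omega
  exact ⟨key (unit_b F.eb_A (Or.inl rfl)).1 h1, key (unit_b F.eb_B (Or.inr rfl)).1 h2,
    key (unit_b F.eb_C (Or.inr rfl)).1 h3, key (unit_w F.ew_D).1 h4, key (unit_w F.ew_E).1 h5⟩

theorem coord_norm {a : X → ℤ} (ho : ∀ i, a (c.τ i) = a i) :
    ∑ i, a i * a i = a c.o * a c.o + a F.A * c.e F.A * (a F.A * c.e F.A) +
      a F.B * c.e F.B * (a F.B * c.e F.B) + a F.C * c.e F.C * (a F.C * c.e F.C) +
      2 * (a F.D * c.e F.D * (a F.D * c.e F.D)) + 2 * (a F.E * c.e F.E * (a F.E * c.e F.E)) +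
      ∑ i ∈ F.rest, a i * a i := by
  rw [F.sum_split, ho, ho]
  rcases (unit_b F.eb_A (Or.inl rfl)).1 with e1 | e1 <;>
    rcases (unit_b F.eb_B (Or.inr rfl)).1 with e2 | e2 <;>
    rcases (unit_b F.eb_C (Or.inr rfl)).1 with e3 | e3 <;>
    rcases (unit_w F.ew_D).1 with e4 | e4 <;> rcases (unit_w F.ew_E).1 with e5 | e5 <;>
    rw [e1, e2, e3, e4, e5] <;> ring

theorem seven {a : X → ℤ} (h7 : ∑ i, a i * a i = 7) (ho : a c.o = 1) (hτ : ∀ i, a (c.τ i) = a i)
    (he : ∑ i, a i * c.e i = 6) (hb : ∑ i, a i * c.b i = 0) :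
    ∑ i ∈ F.rest, a i * a i = 1 ∧
    (F.coord a = [0, 0, 1, 1, 1] ∨ F.coord a = [0, 1, 0, 1, 1] ∨ F.coord a = [1, 1, 1, 0, 1] ∨
      F.coord a = [1, 1, 1, 1, 0]) := by
  rw [F.sum_e, ho, hτ, hτ, add_mul, add_mul] at he
  rw [F.sum_b, ho] at hb
  rw [F.coord_norm hτ, ho] at h7
  have hrest : 0 ≤ ∑ i ∈ F.rest, a i * a i := Finset.sum_nonneg fun i _ => mul_self_nonneg _
  simp only [coord]
  set a1 := a F.A * c.e F.A
  set a2 := a F.B * c.e F.B
  set a3 := a F.C * c.e F.C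
  set a4 := a F.D * c.e F.D
  set a5 := a F.E * c.e F.E
  have pos : ∀ u : ℤ, 0 ≤ u * u - u := fun u => by
    rcases le_or_gt u 0 with h | h <;> nlinarith
  have par : ∀ u : ℤ, (u * u - u) % 2 = 0 := fun u => by
    rcases Int.emod_two_eq u with h | h <;> simp [Int.sub_emod, Int.mul_emod, h]
  have p1 := pos a1
  have p2 := pos a2
  have p3 := pos a3
  have p4 := pos a4
  have p5 := pos a5
  have q1 := par a1
  have q2 := par a2
  have q3 := par a3
  have unit : ∀ u : ℤ, u * u - u = 0 → u = 0 ∨ u = 1 := fun u hu => by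
    have : u * (u - 1) = 0 := by linarith
    rcases mul_eq_zero.1 this with h | h <;> omega
  rcases unit a1 (by omega) with e1 | e1 <;> rcases unit a2 (by omega) with e2 | e2 <;>
    rcases unit a3 (by omega) with e3 | e3 <;> rcases unit a4 (by omega) with e4 | e4 <;>
    rcases unit a5 (by omega) with e5 | e5 <;>
    rw [e1, e2, e3, e4, e5] at h7 ⊢ <;> rw [e1, e2, e3] at hb <;> rw [e1, e2, e3, e4, e5] at he <;>
    first | (exfalso; omega) | exact ⟨by omega, by simp⟩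

theorem three {a : X → ℤ} (h3 : ∑ i, a i * a i = 3) (ho : a c.o = 0) (hτ : ∀ i, a (c.τ i) = a i)
    (he : ∑ i, a i * c.e i = -2) (hb : ∑ i, a i * c.b i = 0) :
    ∑ i ∈ F.rest, a i * a i = 1 ∧
    (F.coord a = [-1, -1, 0, 0, 0] ∨ F.coord a = [-1, 0, -1, 0, 0] ∨ F.coord a = [0, 0, 0, -1, 0] ∨
      F.coord a = [0, 0, 0, 0, -1]) := by
  rw [F.sum_e, ho, hτ, hτ, add_mul, add_mul] at he
  rw [F.sum_b, ho] at hb
  rw [F.coord_norm hτ, ho] at h3
  have hrest : 0 ≤ ∑ i ∈ F.rest, a i * a i := Finset.sum_nonneg fun i _ => mul_self_nonneg _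
  simp only [coord]
  set a1 := a F.A * c.e F.A
  set a2 := a F.B * c.e F.B
  set a3 := a F.C * c.e F.C
  set a4 := a F.D * c.e F.D
  set a5 := a F.E * c.e F.E
  have n1 := mul_self_nonneg a1
  have n2 := mul_self_nonneg a2
  have n3 := mul_self_nonneg a3
  have n4 := mul_self_nonneg a4
  have n5 := mul_self_nonneg a5
  have unit : ∀ u : ℤ, u * u ≤ 3 → u = 0 ∨ u = 1 ∨ u = -1 := fun u hu => by
    have : -2 < u ∧ u < 2 := by constructor <;> nlinarith
    omega
  rcases unit a1 (by omega) with e1 | e1 | e1 <;> rcases unit a2 (by omega) with e2 | e2 | e2 <;>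
    rcases unit a3 (by omega) with e3 | e3 | e3 <;> rcases unit a4 (by omega) with e4 | e4 | e4 <;>
    rcases unit a5 (by omega) with e5 | e5 | e5 <;>
    rw [e1, e2, e3, e4, e5] at h3 ⊢ <;> rw [e1, e2, e3] at hb <;> rw [e1, e2, e3, e4, e5] at he <;>
    first | (exfalso; omega) | exact ⟨by omega, by simp⟩

theorem small_two {a : X → ℤ} (h2 : ∑ i, a i * a i = 2) (ho : a c.o = 0) (hτ : ∀ i, a (c.τ i) = a i)
    (he : ∑ i, a i * c.e i = 0) (hb : ∑ i, a i * c.b i = 0) :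
    a F.A = 0 ∧ a F.D = 0 ∧ a F.E = 0 ∧ a F.C * c.e F.C = -(a F.B * c.e F.B) ∧
      (a F.B = 0 ∨ ∀ i ∈ F.rest, a i = 0) := by
  rw [F.sum_e, ho, hτ, hτ, add_mul, add_mul] at he
  rw [F.sum_b, ho] at hb
  have hn := F.coord_norm hτ
  rw [h2, ho] at hn
  have hrest : 0 ≤ ∑ i ∈ F.rest, a i * a i := Finset.sum_nonneg fun i _ => mul_self_nonneg _
  set a1 := a F.A * c.e F.A with ha1
  set a2 := a F.B * c.e F.B with ha2
  set a3 := a F.C * c.e F.C with ha3
  set a4 := a F.D * c.e F.D with ha4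
  set a5 := a F.E * c.e F.E with ha5
  have n1 := mul_self_nonneg a1
  have n2 := mul_self_nonneg a2
  have n3 := mul_self_nonneg a3
  have n4 := mul_self_nonneg a4
  have n5 := mul_self_nonneg a5
  have unit : ∀ u : ℤ, u * u ≤ 2 → u = 0 ∨ u = 1 ∨ u = -1 := fun u hu => by
    have : -2 < u ∧ u < 2 := by constructor <;> nlinarith
    omega
  have key : a1 = 0 ∧ a4 = 0 ∧ a5 = 0 ∧ a3 = -a2 := by
    rcases unit a1 (by omega) with e1 | e1 | e1 <;> rcases unit a2 (by omega) with e2 | e2 | e2 <;>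
      rcases unit a3 (by omega) with e3 | e3 | e3 <;> rcases unit a4 (by omega) with e4 | e4 | e4 <;>
      rcases unit a5 (by omega) with e5 | e5 | e5 <;>
      rw [e1, e2, e3, e4, e5] at hn ⊢ <;> rw [e1, e2, e3] at hb <;> rw [e1, e2, e3, e4, e5] at he <;>
      omega
  obtain ⟨k1, k4, k5, k3⟩ := key
  have z : ∀ {x w : ℤ}, (w = 1 ∨ w = -1) → x * w = 0 → x = 0 := by
    rintro x w (rfl | rfl) hx <;> omega
  refine ⟨z (unit_b F.eb_A (Or.inl rfl)).1 k1, z (unit_w F.ew_D).1 k4, z (unit_w F.ew_E).1 k5, k3, ?_⟩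
  by_cases hB : a F.B = 0
  · exact Or.inl hB
  refine Or.inr fun i hi => ?_
  have hB2 : a2 ≠ 0 := fun h => hB (z (unit_b F.eb_B (Or.inr rfl)).1 h)
  have hle := Finset.single_le_sum (fun j _ => mul_self_nonneg (a j)) hi
  have hb2 : a2 * a2 ≤ 2 := by omega
  rw [k1, k4, k5, k3] at hn
  rcases unit a2 hb2 with e | e | e
  · exact absurd e hB2
  all_goals
    rw [e] at hn
    have : a i * a i ≤ 0 := by linarith
    exact mul_self_eq_zero.1 (le_antisymm this (mul_self_nonneg _))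

end Eight

end Cols

end Cfsg.Agent.JanThom
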