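import Cfsg.Agent.Lib.JanThom.RowsFour
import Cfsg.Agent.Lib.JanThom.EightAux
import Cfsg.Agent.Lib.JanThom.Arith

/-!
The shape with eight rows `e = ±1` and the order formula.
-/

set_option autoImplicit false
set_option linter.unusedSectionVars false
set_option linter.style.haveILetI false

namespace Cfsg.Agent.JanThom

open scoped Classical

/-- The product of two vectors of norm one. -/
theorem unit_prod {X : Type*} {S : Finset X} {f g : X → ℤ} (hf : ∑ i ∈ S, f i * f i = 1)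
    (hg : ∑ i ∈ S, g i * g i = 1) :
    (-1 ≤ ∑ i ∈ S, f i * g i ∧ ∑ i ∈ S, f i * g i ≤ 1) ∧
      (∑ i ∈ S, f i * g i = 1 → ∀ i ∈ S, f i = g i) := by
  have e1 : ∑ i ∈ S, (f i - g i) * (f i - g i) = 2 - 2 * ∑ i ∈ S, f i * g i := by
    rw [Finset.sum_congr rfl fun i _ => show (f i - g i) * (f i - g i) =
      f i * f i + g i * g i - 2 * (f i * g i) by ring, Finset.sum_sub_distrib, Finset.sum_add_distrib,
      hf, hg, ← Finset.mul_sum]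
    norm_num
  have e2 : ∑ i ∈ S, (f i + g i) * (f i + g i) = 2 + 2 * ∑ i ∈ S, f i * g i := by
    rw [Finset.sum_congr rfl fun i _ => show (f i + g i) * (f i + g i) =
      f i * f i + g i * g i + 2 * (f i * g i) by ring, Finset.sum_add_distrib, Finset.sum_add_distrib,
      hf, hg, ← Finset.mul_sum]
    norm_num
  have p1 := Finset.sum_nonneg (s := S) fun i _ => mul_self_nonneg (f i - g i)
  have p2 := Finset.sum_nonneg (s := S) fun i _ => mul_self_nonneg (f i + g i)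
  refine ⟨⟨by omega, by omega⟩, fun h i hi => ?_⟩
  have h0 := (Finset.sum_eq_zero_iff_of_nonneg fun j _ => mul_self_nonneg (f j - g j)).1
    (show ∑ j ∈ S, (f j - g j) * (f j - g j) = 0 by omega) i hi
  exact sub_eq_zero.1 (mul_self_eq_zero.1 h0)

/-- A vector of norm one has a single term. -/
theorem unit_support {X : Type*} [DecidableEq X] {S : Finset X} {f : X → ℤ}
    (hf : ∑ i ∈ S, f i * f i = 1) : ∃ i ∈ S, (f i = 1 ∨ f i = -1) ∧ ∀ j ∈ S, j ≠ i → f j = 0 := by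
  obtain ⟨i, hi, hne⟩ := Finset.exists_ne_zero_of_sum_ne_zero (show ∑ i ∈ S, f i * f i ≠ 0 by omega)
  have h := Finset.add_sum_erase S (fun j => f j * f j) hi
  rw [hf] at h
  have h0 := Finset.sum_nonneg (s := S.erase i) fun j _ => mul_self_nonneg (f j)
  have h1 := mul_self_nonneg (f i)
  have hii : f i * f i = 1 := by omega
  refine ⟨i, hi, mul_self_eq_one_iff.1 hii, fun j hj hji => ?_⟩
  exact mul_self_eq_zero.1 ((Finset.sum_eq_zero_iff_of_nonneg fun j _ => mul_self_nonneg (f j)).1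
    (show ∑ j ∈ S.erase i, f j * f j = 0 by omega) j (Finset.mem_erase.2 ⟨hji, hj⟩))

theorem unit_ne {u : ℤ} (h : u = 1 ∨ u = -1) : u ≠ 0 := by omega

/-- The signs allowed by the indicators. -/
theorem sign_pattern {Q A B C D E eA eB eC eD eE rB rC rD rE : ℤ} (hA : eA = 1 ∨ eA = -1)
    (hB : eB = 1 ∨ eB = -1) (hC : eC = 1 ∨ eC = -1) (hE : eE = 1 ∨ eE = -1)
    (pA : (eA = 1 → 0 < A) ∧ (eA = -1 → A < 0)) (pB : (eB = 1 → B < 0) ∧ (eB = -1 → 0 < B))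
    (pC : (eC = 1 → C < 0) ∧ (eC = -1 → 0 < C)) (pD : (eD = 1 → D < 0) ∧ (eD = -1 → 0 < D))
    (pE : (eE = 1 → E < 0) ∧ (eE = -1 → 0 < E)) (hS : D + E = 1 + A)
    (fe : 1 + 1 * (eA * 1) + 1 * (eB * rB) + 1 * (eC * rC) + 2 * (1 * (eD * rD)) + 2 * (1 * (eE * rE)) = 0)
    (fb : 1 + 1 * (eA * 1) + -1 * (eB * rB) + -1 * (eC * rC) + 2 * (0 * (eD * rD)) + 2 * (0 * (eE * rE)) = 0)
    (hr : (rB = 1 ∧ rC = 1) ∨ (rB = 0 ∧ rC = 0 ∧ B = C)) (hrE : rE = 0 ∨ rE = 1)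
    (hD : (0 < Q ∧ rD = 0 ∧ rE = 0) ∨ (Q < 0 ∧ eD = -1 ∧ (rD = 1 ∨ (rD = 0 ∧ rE = 0 ∧ -(-D) = E)))) :
    (A < 0 ∧ (B = C ∨ B * C < 0) ∧ (0 < Q ∨ E < 0)) ∨ (Q < 0 ∧ 0 < A ∧ 0 < E ∧ B < 0 ∧ C < 0) := by
  suffices h : (A < 0 ∧ (B = C ∨ (B < 0 ∧ 0 < C) ∨ (0 < B ∧ C < 0)) ∧ (0 < Q ∨ E < 0)) ∨
      (Q < 0 ∧ 0 < A ∧ 0 < E ∧ B < 0 ∧ C < 0) by
    refine h.imp_left fun ⟨h1, h2, h3⟩ => ⟨h1, h2.imp_right ?_, h3⟩
    rintro (⟨h4, h5⟩ | ⟨h4, h5⟩)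
    exacts [mul_neg_of_neg_of_pos h4 h5, mul_neg_of_pos_of_neg h4 h5]
  rcases hA with rfl | rfl <;> rcases hB with rfl | rfl <;> rcases hC with rfl | rfl <;>
    rcases hE with rfl | rfl <;> rcases hr with ⟨rfl, rfl⟩ | ⟨rfl, rfl, rfl⟩ <;>
    rcases hD with ⟨hQ, rfl, rfl⟩ | ⟨hQ, rfl, rfl | ⟨rfl, rfl, hDE⟩⟩ <;>
    rcases hrE with e | e <;> simp only [true_implies, forall_const] at pA pB pC pD pE <;>
    first
      | omega
      | (subst e; omega)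

namespace Cols.Eight

variable {X : Type*} [Fintype X] {c : Cols X} (F : c.Eight)

theorem units : (c.e F.A = 1 ∨ c.e F.A = -1) ∧ (c.e F.B = 1 ∨ c.e F.B = -1) ∧
    (c.e F.C = 1 ∨ c.e F.C = -1) ∧ (c.e F.D = 1 ∨ c.e F.D = -1) ∧ (c.e F.E = 1 ∨ c.e F.E = -1) :=
  ⟨(unit_b F.eb_A (Or.inl rfl)).1, (unit_b F.eb_B (Or.inr rfl)).1, (unit_b F.eb_C (Or.inr rfl)).1,
    (unit_w F.ew_D).1, (unit_w F.ew_E).1⟩

theorem coord_e : F.coord c.e = [1, 1, 1, 1, 1] := by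
  obtain ⟨h1, h2, h3, h4, h5⟩ := F.units
  have sq : ∀ {u : ℤ}, (u = 1 ∨ u = -1) → u * u = 1 := by rintro u (rfl | rfl) <;> norm_num
  simp only [coord, sq h1, sq h2, sq h3, sq h4, sq h5]

theorem coord_b : F.coord c.b = [1, -1, -1, 0, 0] := by
  simp only [coord, mul_comm (c.b _) (c.e _), F.eb_A, F.eb_B, F.eb_C, F.b_D.1, F.b_D.2, zero_mul]

/-- The product of two invariant vectors. -/
theorem coord_mul {a a' : X → ℤ} (ha : ∀ i, a (c.τ i) = a i) (ha' : ∀ i, a' (c.τ i) = a' i)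
    {u₁ u₂ u₃ u₄ u₅ v₁ v₂ v₃ v₄ v₅ : ℤ} (h : F.coord a = [u₁, u₂, u₃, u₄, u₅])
    (h' : F.coord a' = [v₁, v₂, v₃, v₄, v₅]) :
    ∑ i, a i * a' i = a c.o * a' c.o + u₁ * v₁ + u₂ * v₂ + u₃ * v₃ + 2 * (u₄ * v₄) + 2 * (u₅ * v₅) +
      ∑ i ∈ F.rest, a i * a' i := by
  obtain ⟨e1, e2, e3, e4, e5⟩ := F.coord_eq h
  obtain ⟨f1, f2, f3, f4, f5⟩ := F.coord_eq h'
  obtain ⟨g1, g2, g3, g4, g5⟩ := F.units
  rw [F.sum_split, ha, ha, ha', ha', e1, e2, e3, e4, e5, f1, f2, f3, f4, f5]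
  rcases g1 with g1 | g1 <;> rcases g2 with g2 | g2 <;> rcases g3 with g3 | g3 <;>
    rcases g4 with g4 | g4 <;> rcases g5 with g5 | g5 <;> rw [g1, g2, g3, g4, g5] <;> ring

/-- A sum against an invariant vector. -/
theorem coord_sum {R : Type*} [CommRing R] {f : X → ℤ} (hf : ∀ i, f (c.τ i) = f i)
    {u₁ u₂ u₃ u₄ u₅ : ℤ} (h : F.coord f = [u₁, u₂, u₃, u₄, u₅]) (g : X → R) (gD : g (c.τ F.D) = g F.D)
    (gE : g (c.τ F.E) = g F.E) :
    ∑ i, (f i : R) * g i = (f c.o : R) * g c.o + (u₁ : R) * ((c.e F.A : R) * g F.A) +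
      (u₂ : R) * ((c.e F.B : R) * g F.B) + (u₃ : R) * ((c.e F.C : R) * g F.C) +
      2 * ((u₄ : R) * ((c.e F.D : R) * g F.D)) + 2 * ((u₅ : R) * ((c.e F.E : R) * g F.E)) +
      ∑ i ∈ F.rest, (f i : R) * g i := by
  obtain ⟨e1, e2, e3, e4, e5⟩ := F.coord_eq h
  rw [F.sum_split, hf, hf, gD, gE, e1, e2, e3, e4, e5]
  push_cast
  ring

theorem coord_swapBC {a : X → ℤ} {u₁ u₂ u₃ u₄ u₅ : ℤ} (h : F.coord a = [u₁, u₂, u₃, u₄, u₅]) :
    F.swapBC.coord a = [u₁, u₃, u₂, u₄, u₅] := by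
  simp only [coord, swapBC, List.cons.injEq, and_true] at h ⊢
  tauto

theorem coord_swapDE {a : X → ℤ} {u₁ u₂ u₃ u₄ u₅ : ℤ} (h : F.coord a = [u₁, u₂, u₃, u₄, u₅]) :
    F.swapDE.coord a = [u₁, u₂, u₃, u₅, u₄] := by
  simp only [coord, swapDE, List.cons.injEq, and_true] at h ⊢
  tauto

end Cols.Eight

open Cfsg Cfsg.Agent.Char Cfsg.Agent.OddIndexReal

universe u v

variable {G : Type u} [Group G] {L : Type v} [Group L] {Q : ℤ} [Fintype L] [Fintype G] [IsSimpleGroup G]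

namespace Setup

variable {E : Setup G L Q}

/-- The two possible pairs of patterns. -/
theorem eight_kinds (T : E.TFam) (F : E.rowCols.Eight) : ∃ F' : E.rowCols.Eight,
    (∀ l, l ≠ 1 → F'.coord (T.a1 l) = [-1, 0, -1, 0, 0] ∧ F'.coord (T.a0 l) = [0, 1, 0, 1, 1]) ∨
    (∀ l, l ≠ 1 → F'.coord (T.a1 l) = [0, 0, 0, -1, 0] ∧ F'.coord (T.a0 l) = [1, 1, 1, 0, 1]) := by
  obtain ⟨l₁, hl₁, -⟩ := T.exists_third 1 1
  obtain ⟨l₂, hl₂, hl₂₁, hl₂₁', -⟩ := T.exists_third l₁ l₁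
  have A0 := fun l hl => F.seven (T.norm l hl).1 (T.principal l hl).1 (fun χ => (T.gal_inv l χ).1)
    (T.e0 l hl).1 (T.b0 l).1
  have A1 := fun l hl => F.three (T.norm l hl).2 (T.principal l hl).2 (fun χ => (T.gal_inv l χ).2)
    (T.e0 l hl).2 (T.b0 l).2
  have p01 : ∀ l m, l ≠ 1 → m ≠ 1 → ∀ {u₁ u₂ u₃ u₄ u₅ v₁ v₂ v₃ v₄ v₅ : ℤ},
      F.coord (T.a0 l) = [u₁, u₂, u₃, u₄, u₅] → F.coord (T.a1 m) = [v₁, v₂, v₃, v₄, v₅] →
      u₁ * v₁ + u₂ * v₂ + u₃ * v₃ + 2 * (u₄ * v₄) + 2 * (u₅ * v₅) +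
        ∑ i ∈ F.rest, T.a0 l i * T.a1 m i = 0 := by
    intro l m _ hm u₁ u₂ u₃ u₄ u₅ v₁ v₂ v₃ v₄ v₅ h h'
    have e := F.coord_mul (fun χ => (T.gal_inv l χ).1) (fun χ => (T.gal_inv m χ).2) h h'
    rw [show E.rowCols.o = principal G from rfl, (T.principal m hm).2, mul_zero, T.a0_a1] at e
    linarith
  have p11 : ∀ l m, l ≠ 1 → m ≠ 1 → m ≠ l → m⁻¹ ≠ l → ∀ {u₁ u₂ u₃ u₄ u₅ v₁ v₂ v₃ v₄ v₅ : ℤ},
      F.coord (T.a1 l) = [u₁, u₂, u₃, u₄, u₅] → F.coord (T.a1 m) = [v₁, v₂, v₃, v₄, v₅] →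
      u₁ * v₁ + u₂ * v₂ + u₃ * v₃ + 2 * (u₄ * v₄) + 2 * (u₅ * v₅) +
        ∑ i ∈ F.rest, T.a1 l i * T.a1 m i = 2 := by
    intro l m hl hm h1 h2 u₁ u₂ u₃ u₄ u₅ v₁ v₂ v₃ v₄ v₅ h h'
    have e := F.coord_mul (fun χ => (T.gal_inv l χ).2) (fun χ => (T.gal_inv m χ).2) h h'
    rw [show E.rowCols.o = principal G from rfl, (T.principal m hm).2, mul_zero,
      T.a1_a1 l m hl hm h1 h2] at e
    linarith
  have compat : ∀ l m, l ≠ 1 → m ≠ 1 →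
      ((F.coord (T.a1 m) = [-1, -1, 0, 0, 0] ∨ F.coord (T.a1 m) = [-1, 0, -1, 0, 0]) ∧
        (F.coord (T.a0 l) = [0, 0, 1, 1, 1] ∨ F.coord (T.a0 l) = [0, 1, 0, 1, 1])) ∨
      (F.coord (T.a1 m) = [0, 0, 0, -1, 0] ∧ F.coord (T.a0 l) = [1, 1, 1, 0, 1]) ∨
      (F.coord (T.a1 m) = [0, 0, 0, 0, -1] ∧ F.coord (T.a0 l) = [1, 1, 1, 1, 0]) := by
    intro l m hl hm
    have hb := (unit_prod (A0 l hl).1 (A1 m hm).1).1
    rcases (A1 m hm).2 with h1 | h1 | h1 | h1 <;> rcases (A0 l hl).2 with h0 | h0 | h0 | h0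
    all_goals first
      | exact Or.inl ⟨Or.inl h1, Or.inl h0⟩
      | exact Or.inl ⟨Or.inl h1, Or.inr h0⟩
      | exact Or.inl ⟨Or.inr h1, Or.inl h0⟩
      | exact Or.inl ⟨Or.inr h1, Or.inr h0⟩
      | exact Or.inr (Or.inl ⟨h1, h0⟩)
      | exact Or.inr (Or.inr ⟨h1, h0⟩)
      | (exfalso; have e := p01 l m hl hm h0 h1; omega)
  rcases compat l₁ l₁ hl₁ hl₁ with ⟨hk1, hk0⟩ | ⟨hk1, hk0⟩ | ⟨hk1, hk0⟩
  · have all : ∀ m, m ≠ 1 → F.coord (T.a1 m) = [-1, -1, 0, 0, 0] ∨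
        F.coord (T.a1 m) = [-1, 0, -1, 0, 0] := fun m hm => by
      rcases compat l₁ m hl₁ hm with ⟨h, -⟩ | ⟨-, h⟩ | ⟨-, h⟩
      · exact h
      · rcases hk0 with e | e <;> rw [e] at h <;> simp at h
      · rcases hk0 with e | e <;> rw [e] at h <;> simp at h
    have all0 : ∀ l, l ≠ 1 → F.coord (T.a0 l) = [0, 0, 1, 1, 1] ∨
        F.coord (T.a0 l) = [0, 1, 0, 1, 1] := fun l hl => by
      rcases compat l l₁ hl hl₁ with ⟨-, h⟩ | ⟨h, -⟩ | ⟨h, -⟩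
      · exact h
      · rcases hk1 with e | e <;> rw [e] at h <;> simp at h
      · rcases hk1 with e | e <;> rw [e] at h <;> simp at h
    have nomix : ∀ l m, l ≠ 1 → m ≠ 1 → F.coord (T.a1 l) = [-1, -1, 0, 0, 0] →
        F.coord (T.a1 m) = [-1, 0, -1, 0, 0] → False := by
      intro l m hl hm hB hC
      have hinv : ∀ k, F.coord (T.a1 k⁻¹) = F.coord (T.a1 k) := fun k => by
        rw [show T.a1 k⁻¹ = T.a1 k from funext fun χ => (T.inv k χ).2]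
      have hml : m ≠ l := fun e => by rw [e, hB] at hC; simp at hC
      have hml' : m⁻¹ ≠ l := fun e => by rw [← hinv m, e, hB] at hC; simp at hC
      have e := p11 l m hl hm hml hml' hB hC
      have eq := (unit_prod (A1 l hl).1 (A1 m hm).1).2 (by omega)
      obtain ⟨n, hn, n1, n2, n3, n4⟩ := T.exists_third l m
      have el : ∑ i ∈ F.rest, T.a1 l i * T.a1 n i = ∑ i ∈ F.rest, T.a1 m i * T.a1 n i :=
        Finset.sum_congr rfl fun i hi => by rw [eq i hi]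
      rcases all n hn with h | h
      · have e1 := p11 l n hl hn n1 n2 hB h
        have e2 := p11 m n hm hn n3 n4 hC h
        omega
      · have e1 := p11 l n hl hn n1 n2 hB h
        have e2 := p11 m n hm hn n3 n4 hC h
        omega
    have pin : ∀ l, l ≠ 1 → ∑ i ∈ F.rest, T.a0 l i * T.a1 l₁ i = 1 →
        ∑ i ∈ F.rest, T.a0 l i * T.a1 l₂ i = 1 → ∑ i ∈ F.rest, T.a1 l₁ i * T.a1 l₂ i = 1 := by
      intro l hl h1 h2
      have eq := (unit_prod (A0 l hl).1 (A1 l₁ hl₁).1).2 h1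
      rw [← h2]
      exact Finset.sum_congr rfl fun i hi => by rw [eq i hi]
    rcases hk1 with hk | hk
    · have one : ∀ m, m ≠ 1 → F.coord (T.a1 m) = [-1, -1, 0, 0, 0] := fun m hm =>
        (all m hm).resolve_right (nomix l₁ m hl₁ hm hk)
      refine ⟨F.swapBC, Or.inl fun l hl => ⟨F.coord_swapBC (one l hl), F.coord_swapBC
        ((all0 l hl).resolve_right fun h => ?_)⟩⟩
      have e1 := p01 l l₁ hl hl₁ h hk
      have e2 := p01 l l₂ hl hl₂ h (one _ hl₂)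
      have e3 := p11 l₁ l₂ hl₁ hl₂ hl₂₁ hl₂₁' hk (one _ hl₂)
      have e4 := pin l hl (by omega) (by omega)
      omega
    · have one : ∀ m, m ≠ 1 → F.coord (T.a1 m) = [-1, 0, -1, 0, 0] := fun m hm =>
        (all m hm).resolve_left fun h => nomix m l₁ hm hl₁ h hk
      refine ⟨F, Or.inl fun l hl => ⟨one l hl, (all0 l hl).resolve_left fun h => ?_⟩⟩
      have e1 := p01 l l₁ hl hl₁ h hk
      have e2 := p01 l l₂ hl hl₂ h (one _ hl₂)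
      have e3 := p11 l₁ l₂ hl₁ hl₂ hl₂₁ hl₂₁' hk (one _ hl₂)
      have e4 := pin l hl (by omega) (by omega)
      omega
  · have one : ∀ m, m ≠ 1 → F.coord (T.a1 m) = [0, 0, 0, -1, 0] := fun m hm => by
      rcases compat l₁ m hl₁ hm with ⟨-, h⟩ | ⟨h, -⟩ | ⟨-, h⟩
      · rw [hk0] at h; simp at h
      · exact h
      · rw [hk0] at h; simp at h
    refine ⟨F, Or.inr fun l hl => ⟨one l hl, ?_⟩⟩
    rcases compat l l₁ hl hl₁ with ⟨h, -⟩ | ⟨-, h⟩ | ⟨h, -⟩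
    · rw [hk1] at h; simp at h
    · exact h
    · rw [hk1] at h; simp at h
  · have one : ∀ m, m ≠ 1 → F.coord (T.a1 m) = [0, 0, 0, 0, -1] := fun m hm => by
      rcases compat l₁ m hl₁ hm with ⟨-, h⟩ | ⟨-, h⟩ | ⟨h, -⟩
      · rw [hk0] at h; simp at h
      · rw [hk0] at h; simp at h
      · exact h
    refine ⟨F.swapDE, Or.inr fun l hl => ⟨F.coord_swapDE (one l hl), F.coord_swapDE ?_⟩⟩
    rcases compat l l₁ hl hl₁ with ⟨h, -⟩ | ⟨h, -⟩ | ⟨-, h⟩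
    · rw [hk1] at h; simp at h
    · rw [hk1] at h; simp at h
    · exact h

theorem gh_of_coord (T : E.TFam) (F : E.rowCols.Eight)
    (h : (∀ l, l ≠ 1 → F.coord (T.a1 l) = [-1, 0, -1, 0, 0] ∧ F.coord (T.a0 l) = [0, 1, 0, 1, 1]) ∨
      (∀ l, l ≠ 1 → F.coord (T.a1 l) = [0, 0, 0, -1, 0] ∧ F.coord (T.a0 l) = [1, 1, 1, 0, 1]))
    {l : E.D.Zh →* ℂˣ} (hl : l ≠ 1) :
    E.gh l F.A = -E.ec F.A ∧ E.gh l F.B = -E.ec F.B ∧ E.gh l F.C = -E.ec F.C ∧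
      E.gh l F.D = -E.ec F.D ∧ E.gh l F.E = -E.ec F.E := by
  rcases h with h | h <;>
  · obtain ⟨a1, a2, a3, a4, a5⟩ := F.coord_eq (h l hl).2
    obtain ⟨b1, b2, b3, b4, b5⟩ := F.coord_eq (h l hl).1
    obtain ⟨c1, c2, c3, c4, c5⟩ := F.coord_eq (h _ (sh_ne (T := T) hl)).1
    obtain ⟨d1, d2, d3, d4, d5⟩ := F.coord_eq (h _ (sh_ne (T := T) (sh_ne (T := T) hl))).1
    simp only [T.gh_eq, a1, a2, a3, a4, a5, b1, b2, b3, b4, b5, c1, c2, c3, c4, c5, d1, d2, d3, d4, d5,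
      show ∀ χ, E.rowCols.e χ = E.ec χ from fun _ => rfl]
    refine ⟨?_, ?_, ?_, ?_, ?_⟩ <;> ring

/-- The values at `τ` of the named rows. -/
theorem eight_tv (F : E.rowCols.Eight) (hgh : ∀ l, l ≠ 1 → E.gh l F.A = -E.ec F.A ∧
      E.gh l F.B = -E.ec F.B ∧ E.gh l F.C = -E.ec F.C ∧ E.gh l F.D = -E.ec F.D ∧
      E.gh l F.E = -E.ec F.E) :
    E.tv F.A = E.ec F.A ∧ E.tv F.B = -(E.ec F.B * Q) ∧ E.tv F.C = -(E.ec F.C * Q) ∧
      2 * E.tv F.D = E.ec F.D * (1 - Q) ∧ 2 * E.tv F.E = E.ec F.E * (1 - Q) := by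
  obtain ⟨hA, hB, hC, hD, hE⟩ := F.units
  change (E.ec F.A = 1 ∨ E.ec F.A = -1) at hA
  change (E.ec F.B = 1 ∨ E.ec F.B = -1) at hB
  change (E.ec F.C = 1 ∨ E.ec F.C = -1) at hC
  have bA : E.bc F.A = E.ec F.A := by
    have := (Cols.Eight.unit_b F.eb_A (Or.inl rfl)).2; rw [one_mul] at this; exact this
  have bB : E.bc F.B = -E.ec F.B := by
    have := (Cols.Eight.unit_b F.eb_B (Or.inr rfl)).2; rw [neg_one_mul] at this; exact this
  have bC : E.bc F.C = -E.ec F.C := by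
    have := (Cols.Eight.unit_b F.eb_C (Or.inr rfl)).2; rw [neg_one_mul] at this; exact this
  have bD : E.bc F.D = 0 ∧ E.bc F.E = 0 := F.b_D
  have small := fun (mu : E.D.Zk →* ℂˣ) (hmu : mu ≠ 1) => by
    obtain ⟨c2, c0, cτ, ce, cb, -, -⟩ := E.cv_facts hmu
    exact F.small_two c2 c0 cτ ce cb
  have YA : E.Ysum F.A = 0 :=
    Finset.sum_eq_zero fun mu hmu => (small mu (Finset.ne_of_mem_erase hmu)).1
  have YD : E.Ysum F.D = 0 :=
    Finset.sum_eq_zero fun mu hmu => (small mu (Finset.ne_of_mem_erase hmu)).2.1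
  have YE : E.Ysum F.E = 0 :=
    Finset.sum_eq_zero fun mu hmu => (small mu (Finset.ne_of_mem_erase hmu)).2.2.1
  have YC : E.Ysum F.C * E.ec F.C = -(E.Ysum F.B * E.ec F.B) := by
    unfold Ysum
    rw [Finset.sum_mul, Finset.sum_mul, ← Finset.sum_neg_distrib]
    exact Finset.sum_congr rfl fun mu hmu => (small mu (Finset.ne_of_mem_erase hmu)).2.2.2.1
  have tA := E.tv_of_gh fun l hl => (hgh l hl).1
  have tB := E.tv_of_gh fun l hl => (hgh l hl).2.1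
  have tC := E.tv_of_gh fun l hl => (hgh l hl).2.2.1
  have tD := E.tv_of_gh fun l hl => (hgh l hl).2.2.2.1
  have tE := E.tv_of_gh fun l hl => (hgh l hl).2.2.2.2
  rw [bA, YA] at tA
  rw [bB] at tB
  rw [bC] at tC
  rw [bD.1, YD] at tD
  rw [bD.2, YE] at tE
  have hQ := E.Q_eq
  have hH : E.Hs ≠ 0 := by have := E.D.Q_mod; omega
  have YB : E.Ysum F.B = 0 := by
    by_cases hall : ∀ mu, mu ≠ 1 → E.cv mu F.B = 0
    · exact Finset.sum_eq_zero fun mu hmu => hall mu (Finset.ne_of_mem_erase hmu)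
    push Not at hall
    obtain ⟨mu, hmu, hne⟩ := hall
    obtain ⟨-, c0, cτ, -, -, cd, cw⟩ := E.cv_facts hmu
    obtain ⟨sA, sD, sE, sC, sR⟩ := small mu hmu
    have sR := sR.resolve_left hne
    have split : ∀ g : IrrCharacter G → ℚ, ∑ χ, (E.cv mu χ : ℚ) * g χ =
        (E.cv mu F.B : ℚ) * g F.B + (E.cv mu F.C : ℚ) * g F.C := by
      intro g
      have hτD : E.cv mu (E.rowCols.τ F.D) = E.cv mu F.D := cτ _
      have hτE : E.cv mu (E.rowCols.τ F.E) = E.cv mu F.E := cτ _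
      have ho : E.cv mu E.rowCols.o = 0 := c0
      rw [F.sum_split, Finset.sum_eq_zero fun i hi => by rw [sR i hi, Int.cast_zero, zero_mul],
        hτD, hτE, ho, sA, sD, sE]
      push_cast; ring
    have hd : ∑ χ, (E.cv mu χ : ℚ) * (dgi χ : ℚ) = 0 := by exact_mod_cast cd
    unfold wq at cw
    rw [split] at hd cw
    have pB : (0 : ℚ) < dgi F.B := by exact_mod_cast dgi_pos F.B
    have pC : (0 : ℚ) < dgi F.C := by exact_mod_cast dgi_pos F.C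
    have sC' : E.cv mu F.C * E.ec F.C = -(E.cv mu F.B * E.ec F.B) := sC
    have key : E.cv mu F.C = -E.cv mu F.B ∧ E.ec F.C = E.ec F.B := by
      have h : E.cv mu F.C = -E.cv mu F.B ∨ E.cv mu F.C = E.cv mu F.B := by
        rcases hB with e | e <;> rcases hC with e' | e' <;> rw [e, e'] at sC' <;> omega
      rcases h with h | h
      · refine ⟨h, ?_⟩
        rw [h] at sC'
        exact mul_left_cancel₀ hne (by linear_combination -sC')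
      · exfalso
        rw [h, ← mul_add] at hd
        rcases mul_eq_zero.1 hd with z | z
        · exact hne (Int.cast_eq_zero.1 z)
        · linarith
    rw [key.1] at hd cw
    have hne' : (E.cv mu F.B : ℚ) ≠ 0 := Int.cast_ne_zero.2 hne
    push_cast at hd cw
    have hdd : (dgi F.B : ℚ) = dgi F.C := mul_left_cancel₀ hne' (by linear_combination hd)
    rw [hdd] at cw
    have h2 : (E.tv F.B : ℚ) ^ 2 / (dgi F.C : ℚ) = (E.tv F.C : ℚ) ^ 2 / (dgi F.C : ℚ) :=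
      mul_left_cancel₀ hne' (by linear_combination cw)
    rw [div_left_inj' pC.ne'] at h2
    have h2' : E.tv F.B ^ 2 = E.tv F.C ^ 2 := by exact_mod_cast h2
    have hY : E.Ysum F.C = -E.Ysum F.B := by
      rw [key.2] at YC
      exact mul_right_cancel₀ (show E.ec F.B ≠ 0 by omega) (by linear_combination YC)
    rw [tB, tC, key.2, hY] at h2'
    have h3 : E.Hs * E.Ysum F.B * (E.ec F.B * (1 - 4 * E.Hs)) = 0 := by linarith
    rcases mul_eq_zero.1 h3 with h | h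
    · exact (mul_eq_zero.1 h).resolve_left hH
    · rcases mul_eq_zero.1 h with h | h <;> omega
  have YC0 : E.Ysum F.C = 0 := by
    rw [YB, zero_mul, neg_zero] at YC
    exact (mul_eq_zero.1 YC).resolve_right (by omega)
  rw [YB] at tB
  rw [YC0] at tC
  refine ⟨by linear_combination tA, by linear_combination tB + E.ec F.B * hQ,
    by linear_combination tC + E.ec F.C * hQ, by linear_combination 2 * tD + E.ec F.D * hQ,
    by linear_combination 2 * tE + E.ec F.E * hQ⟩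

/-- The signed degree. -/
noncomputable def sg (E : Setup G L Q) (χ : IrrCharacter G) : ℤ := E.ec χ * dgi χ

/-- The three moments of a vector with given coordinates. -/
theorem eight_moments (F : E.rowCols.Eight) (ht : E.tv F.A = E.ec F.A ∧ E.tv F.B = -(E.ec F.B * Q) ∧
      E.tv F.C = -(E.ec F.C * Q) ∧ 2 * E.tv F.D = E.ec F.D * (1 - Q) ∧ 2 * E.tv F.E = E.ec F.E * (1 - Q))
    {f : IrrCharacter G → ℤ} (hf : ∀ χ, f (E.gal χ) = f χ) {u₁ u₂ u₃ u₄ u₅ : ℤ}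
    (hc : F.coord f = [u₁, u₂, u₃, u₄, u₅]) :
    ((∑ χ, (f χ : ℚ) * (dgi χ : ℚ)) = (f (principal G) : ℚ) + (u₁ : ℚ) * (E.sg F.A : ℚ) +
      (u₂ : ℚ) * (E.sg F.B : ℚ) + (u₃ : ℚ) * (E.sg F.C : ℚ) + 2 * ((u₄ : ℚ) * (E.sg F.D : ℚ)) +
      2 * ((u₅ : ℚ) * (E.sg F.E : ℚ)) + ∑ χ ∈ F.rest, (f χ : ℚ) * (dgi χ : ℚ)) ∧
    ((∑ χ, (f χ : ℚ) * (E.tv χ : ℚ)) = (f (principal G) : ℚ) + (u₁ : ℚ) -
      (Q : ℚ) * ((u₂ : ℚ) + u₃) + (1 - (Q : ℚ)) * ((u₄ : ℚ) + u₅) +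
      ∑ χ ∈ F.rest, (f χ : ℚ) * (E.tv χ : ℚ)) ∧
    (E.wq f = (f (principal G) : ℚ) + (u₁ : ℚ) / (E.sg F.A : ℚ) +
      (Q : ℚ) ^ 2 * ((u₂ : ℚ) / (E.sg F.B : ℚ) + (u₃ : ℚ) / (E.sg F.C : ℚ)) +
      ((Q : ℚ) - 1) ^ 2 / 2 * ((u₄ : ℚ) / (E.sg F.D : ℚ) + (u₅ : ℚ) / (E.sg F.E : ℚ)) +
      ∑ χ ∈ F.rest, (f χ : ℚ) * ((E.tv χ : ℚ) ^ 2 / (dgi χ : ℚ))) := by
  obtain ⟨hA, hB, hC, hD, hE⟩ := F.units
  change (E.ec F.A = 1 ∨ E.ec F.A = -1) at hA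
  change (E.ec F.B = 1 ∨ E.ec F.B = -1) at hB
  change (E.ec F.C = 1 ∨ E.ec F.C = -1) at hC
  change (E.ec F.D = 1 ∨ E.ec F.D = -1) at hD
  change (E.ec F.E = 1 ∨ E.ec F.E = -1) at hE
  obtain ⟨tA, tB, tC, tD, tE⟩ := ht
  have qA : (E.tv F.A : ℚ) = (E.ec F.A : ℚ) * 1 := by rw [tA, mul_one]
  have qB : (E.tv F.B : ℚ) = (E.ec F.B : ℚ) * (-(Q : ℚ)) := by rw [tB]; push_cast; ring
  have qC : (E.tv F.C : ℚ) = (E.ec F.C : ℚ) * (-(Q : ℚ)) := by rw [tC]; push_cast; ring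
  have qD : (E.tv F.D : ℚ) = (E.ec F.D : ℚ) * ((1 - (Q : ℚ)) / 2) := by
    rw [← mul_div_assoc, eq_div_iff two_ne_zero, mul_comm]; exact_mod_cast tD
  have qE : (E.tv F.E : ℚ) = (E.ec F.E : ℚ) * ((1 - (Q : ℚ)) / 2) := by
    rw [← mul_div_assoc, eq_div_iff two_ne_zero, mul_comm]; exact_mod_cast tE
  have lin : ∀ (u : ℤ) (t : ℚ), (u = 1 ∨ u = -1) → (u : ℚ) * ((u : ℚ) * t) = t := by
    rintro u t (rfl | rfl) <;> push_cast <;> ring
  have frac : ∀ (u : ℤ) (t : ℚ) (d : ℤ), (u = 1 ∨ u = -1) →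
      (u : ℚ) * (((u : ℚ) * t) ^ 2 / (d : ℚ)) = t ^ 2 / ((u * d : ℤ) : ℚ) := by
    rintro u t d (rfl | rfl) <;> push_cast <;> simp [div_neg, neg_div]
  have hod : (dgi (principal G) : ℚ) = 1 := by rw [dgi_principal, Int.cast_one]
  have hot : (E.tv (principal G) : ℚ) = 1 := by rw [E.tv_principal, Int.cast_one]
  refine ⟨?_, ?_, ?_⟩
  · rw [F.coord_sum hf hc (fun χ => (dgi χ : ℚ))
      (show (dgi (E.gal F.D) : ℚ) = _ by rw [dgi_gal]) (show (dgi (E.gal F.E) : ℚ) = _ by rw [dgi_gal])]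
    show (f (principal G) : ℚ) * (dgi (principal G) : ℚ) + _ + _ + _ + _ + _ + _ = _
    simp only [hod, mul_one, sg, Int.cast_mul, show ∀ χ, E.rowCols.e χ = E.ec χ from fun _ => rfl]
  · rw [F.coord_sum hf hc (fun χ => (E.tv χ : ℚ))
      (show (E.tv (E.gal F.D) : ℚ) = _ by rw [E.gal_row.tv])
      (show (E.tv (E.gal F.E) : ℚ) = _ by rw [E.gal_row.tv])]
    show (f (principal G) : ℚ) * (E.tv (principal G) : ℚ) + _ + _ + _ + _ + _ + _ = _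
    simp only [hot, show ∀ χ, E.rowCols.e χ = E.ec χ from fun _ => rfl, qA, qB, qC, qD, qE,
      lin _ _ hA, lin _ _ hB, lin _ _ hC, lin _ _ hD, lin _ _ hE]
    ring
  · unfold wq
    rw [F.coord_sum hf hc (fun χ => (E.tv χ : ℚ) ^ 2 / (dgi χ : ℚ))
      (show (E.tv (E.gal F.D) : ℚ) ^ 2 / (dgi (E.gal F.D) : ℚ) = _ by rw [E.gal_row.tv, dgi_gal])
      (show (E.tv (E.gal F.E) : ℚ) ^ 2 / (dgi (E.gal F.E) : ℚ) = _ by rw [E.gal_row.tv, dgi_gal])]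
    show (f (principal G) : ℚ) * ((E.tv (principal G) : ℚ) ^ 2 / (dgi (principal G) : ℚ)) +
      _ + _ + _ + _ + _ + _ = _
    simp only [hot, hod, show ∀ χ, E.rowCols.e χ = E.ec χ from fun _ => rfl, qA, qB, qC, qD, qE,
      frac _ _ _ hA, frac _ _ _ hB, frac _ _ _ hC, frac _ _ _ hD, frac _ _ _ hE, sg]
    ring

/-- Vectors vanishing or with a single term on the unnamed rows. -/
theorem eight_single (F : E.rowCols.Eight) (ht : E.tv F.A = E.ec F.A ∧ E.tv F.B = -(E.ec F.B * Q) ∧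
      E.tv F.C = -(E.ec F.C * Q) ∧ 2 * E.tv F.D = E.ec F.D * (1 - Q) ∧ 2 * E.tv F.E = E.ec F.E * (1 - Q))
    {f : IrrCharacter G → ℤ} (hf : ∀ χ, f (E.gal χ) = f χ) {u₁ u₂ u₃ u₄ u₅ : ℤ}
    (hc : F.coord f = [u₁, u₂, u₃, u₄, u₅]) (h1 : ∑ χ ∈ F.rest, f χ * f χ = 1)
    (hd : dsum f = 0) (hs : ∑ χ, f χ * E.tv χ = 0) {Pd Pt Pw : ℚ}
    (ePd : Pd = (f (principal G) : ℚ) + (u₁ : ℚ) * (E.sg F.A : ℚ) + (u₂ : ℚ) * (E.sg F.B : ℚ) +
      (u₃ : ℚ) * (E.sg F.C : ℚ) + 2 * ((u₄ : ℚ) * (E.sg F.D : ℚ)) + 2 * ((u₅ : ℚ) * (E.sg F.E : ℚ)))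
    (ePt : Pt = (f (principal G) : ℚ) + (u₁ : ℚ) - (Q : ℚ) * ((u₂ : ℚ) + u₃) +
      (1 - (Q : ℚ)) * ((u₄ : ℚ) + u₅))
    (ePw : Pw = (f (principal G) : ℚ) + (u₁ : ℚ) / (E.sg F.A : ℚ) +
      (Q : ℚ) ^ 2 * ((u₂ : ℚ) / (E.sg F.B : ℚ) + (u₃ : ℚ) / (E.sg F.C : ℚ)) +
      ((Q : ℚ) - 1) ^ 2 / 2 * ((u₄ : ℚ) / (E.sg F.D : ℚ) + (u₅ : ℚ) / (E.sg F.E : ℚ))) :
    Pd ≠ 0 ∧ E.wq f = Pw - Pt ^ 2 / Pd := by
  obtain ⟨m1, m2, m3⟩ := eight_moments F ht hf hc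
  obtain ⟨χ₀, hm, hu, hz⟩ := unit_support h1
  have single : ∀ g : IrrCharacter G → ℚ, ∑ χ ∈ F.rest, (f χ : ℚ) * g χ = (f χ₀ : ℚ) * g χ₀ := fun g =>
    Finset.sum_eq_single_of_mem χ₀ hm fun i hi hne => by rw [hz i hi hne, Int.cast_zero, zero_mul]
  have hd' : ∑ χ, (f χ : ℚ) * (dgi χ : ℚ) = 0 := by exact_mod_cast sum_dgi hd
  have hs' : ∑ χ, (f χ : ℚ) * (E.tv χ : ℚ) = 0 := by exact_mod_cast hs
  rw [m1, single, ← ePd] at hd'
  rw [m2, single, ← ePt] at hs'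
  rw [m3, single, ← ePw]
  have hne : (dgi χ₀ : ℚ) ≠ 0 := by exact_mod_cast (dgi_pos χ₀).ne'
  have hfne : (f χ₀ : ℚ) ≠ 0 := by rcases hu with e | e <;> rw [e] <;> norm_num
  refine ⟨fun h => mul_ne_zero hfne hne (by linarith), ?_⟩
  rw [show Pd = -((f χ₀ : ℚ) * (dgi χ₀ : ℚ)) by linarith,
    show Pt = -((f χ₀ : ℚ) * (E.tv χ₀ : ℚ)) by linarith]
  field_simp
  ring

/-- The relations of the columns `e` and `b`. -/
theorem eight_cols (F : E.rowCols.Eight) (ht : E.tv F.A = E.ec F.A ∧ E.tv F.B = -(E.ec F.B * Q) ∧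
      E.tv F.C = -(E.ec F.C * Q) ∧ 2 * E.tv F.D = E.ec F.D * (1 - Q) ∧ 2 * E.tv F.E = E.ec F.E * (1 - Q)) :
    (1 + E.sg F.A + -E.sg F.B + -E.sg F.C = 0) ∧ (-E.sg F.D + -E.sg F.E = 1 + E.sg F.A) ∧
    (1 + 1 / (E.sg F.A : ℚ) + (Q : ℚ) ^ 2 * (1 / ((-E.sg F.B : ℤ) : ℚ) + 1 / ((-E.sg F.C : ℤ) : ℚ)) =
      E.Kq * ((Q : ℚ) - 1)) ∧
    (1 + 1 / (E.sg F.A : ℚ) - (Q : ℚ) ^ 2 * (1 / ((-E.sg F.B : ℤ) : ℚ) + 1 / ((-E.sg F.C : ℤ) : ℚ)) -
      ((Q : ℚ) - 1) ^ 2 / 2 * (1 / ((-E.sg F.D : ℤ) : ℚ) + 1 / ((-E.sg F.E : ℤ) : ℚ)) =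
      E.Kq * ((Q : ℚ) ^ 2 - 6 * Q + 1) / ((Q : ℚ) + 1)) := by
  obtain ⟨e1, e2, e3⟩ := eight_moments F ht (f := E.ec) E.gal_row.e F.coord_e
  obtain ⟨b1, b2, b3⟩ := eight_moments F ht (f := E.bc) E.gal_row.b F.coord_b
  have ze : ∀ g : IrrCharacter G → ℚ, ∑ χ ∈ F.rest, (E.ec χ : ℚ) * g χ = 0 := fun g =>
    Finset.sum_eq_zero fun i hi => by
      rw [show E.ec i = 0 from (F.rest_zero (F.mem_rest.1 hi)).1, Int.cast_zero, zero_mul]
  have zb : ∀ g : IrrCharacter G → ℚ, ∑ χ ∈ F.rest, (E.bc χ : ℚ) * g χ = 0 := fun g =>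
    Finset.sum_eq_zero fun i hi => by
      rw [show E.bc i = 0 from (F.rest_zero (F.mem_rest.1 hi)).2.1, Int.cast_zero, zero_mul]
  have de : ∑ χ, (E.ec χ : ℚ) * (dgi χ : ℚ) = 0 := by exact_mod_cast sum_dgi E.cols_deg.1
  have db : ∑ χ, (E.bc χ : ℚ) * (dgi χ : ℚ) = 0 := by exact_mod_cast sum_dgi E.cols_deg.2.1
  rw [e1, ze, E.cols_principal.1] at de
  rw [b1, zb, E.cols_principal.2.1] at db
  rw [ze, E.cols_principal.1, E.ec_wq] at e3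
  rw [zb, E.cols_principal.2.1, E.bc_wq] at b3
  push_cast at de db e3 b3
  refine ⟨?_, ?_, ?_, ?_⟩
  · have : ((1 + E.sg F.A + -E.sg F.B + -E.sg F.C : ℤ) : ℚ) = 0 := by push_cast; linear_combination db
    exact_mod_cast this
  · have : ((-E.sg F.D + -E.sg F.E : ℤ) : ℚ) = ((1 + E.sg F.A : ℤ) : ℚ) := by
      push_cast; linear_combination -(1 / 2 : ℚ) * de - (1 / 2 : ℚ) * db
    exact_mod_cast this
  · rw [b3]; push_cast [div_neg]; ring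
  · rw [e3]; push_cast [div_neg]; ring

theorem sg_ne (χ : IrrCharacter G) (h : E.ec χ = 1 ∨ E.ec χ = -1) : E.sg χ ≠ 0 :=
  mul_ne_zero (by omega) (dgi_pos χ).ne'

theorem gal_cj (χ : IrrCharacter G) : cjPerm (E.gal χ) = E.gal (cjPerm χ) :=
  Subtype.ext (funext fun g => by rw [cjPerm_apply, E.gal_apply, E.gal_apply, cjPerm_apply, inv_pow])

/-- The first pair of patterns gives the order. -/
theorem optionI_case (T : E.TFam) (F : E.rowCols.Eight)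
    (h : ∀ l, l ≠ 1 → F.coord (T.a1 l) = [-1, 0, -1, 0, 0] ∧ F.coord (T.a0 l) = [0, 1, 0, 1, 1]) :
    ∃ m : ℕ, 1 ≤ m ∧ Q.natAbs = 3 ^ (2 * m + 1) ∧ Nat.card G =
      (3 ^ (2 * m + 1)) ^ 3 * ((3 ^ (2 * m + 1)) ^ 3 + 1) * (3 ^ (2 * m + 1) - 1) := by
  obtain ⟨l, hl, -⟩ := T.exists_third 1 1
  obtain ⟨hA, hB, hC, hD, hE⟩ := F.units
  have ht := eight_tv F fun l hl => gh_of_coord T F (Or.inl h) hl
  obtain ⟨hsum, hS, hb, he⟩ := eight_cols F ht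
  have r1 := (F.three (T.norm l hl).2 (T.principal l hl).2 (fun χ => (T.gal_inv l χ).2)
    (T.e0 l hl).2 (T.b0 l).2).1
  have r0 := (F.seven (T.norm l hl).1 (T.principal l hl).1 (fun χ => (T.gal_inv l χ).1)
    (T.e0 l hl).1 (T.b0 l).1).1
  obtain ⟨p1, w1⟩ := eight_single F ht (fun χ => (T.gal_inv l χ).2) (h l hl).1 r1 (T.deg l).2
    (T.tau l).2 rfl rfl rfl
  obtain ⟨-, w0⟩ := eight_single F ht (fun χ => (T.gal_inv l χ).1) (h l hl).2 r0 (T.deg l).1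
    (T.tau l).1 rfl rfl rfl
  rw [T.a1_wq hl, (T.principal l hl).2] at w1
  rw [(T.principal l hl).2] at p1
  rw [T.a0_wq hl, (T.principal l hl).1] at w0
  push_cast at p1 w1 w0
  have nA : (E.sg F.A : ℚ) ≠ 0 := Int.cast_ne_zero.2 (sg_ne _ hA)
  have nC : (E.sg F.C : ℚ) ≠ 0 := Int.cast_ne_zero.2 (sg_ne _ hC)
  have hCA : -E.sg F.C = Q * E.sg F.A := by
    have p2 : (-(E.sg F.C : ℚ) - E.sg F.A) ≠ 0 := fun e => p1 (by linear_combination e)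
    have w2 : -1 / (E.sg F.A : ℚ) - (Q : ℚ) ^ 2 / (E.sg F.C : ℚ) -
        ((Q : ℚ) - 1) ^ 2 / (-(E.sg F.C : ℚ) - E.sg F.A) = 0 := by
      rw [w1]; ring
    field_simp at w2
    have h2 : ((E.sg F.C : ℚ) + (Q : ℚ) * E.sg F.A) ^ 2 = 0 := by linear_combination w2
    have h3 : E.sg F.C + Q * E.sg F.A = 0 := by exact_mod_cast pow_eq_zero_iff two_ne_zero |>.1 h2
    linarith
  have hbig := T.Q_large'
  have hBsum : (E.sg F.B : ℚ) + 2 * E.sg F.D + 2 * E.sg F.E + 1 =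
      -(E.sg F.C : ℚ) - E.sg F.A := by
    have e1 : ((1 + E.sg F.A + -E.sg F.B + -E.sg F.C : ℤ) : ℚ) = 0 := by rw [hsum]; norm_num
    have e2 : ((-E.sg F.D + -E.sg F.E : ℤ) : ℚ) = ((1 + E.sg F.A : ℤ) : ℚ) := by rw [hS]
    push_cast at e1 e2
    linear_combination -e1 - 2 * e2
  obtain ⟨hAv, -, hK, hQpos, x, hx⟩ := optionI E.D.Q_mod (by omega) (sg_ne _ hA)
    (neg_ne_zero.2 (sg_ne _ hB)) (neg_ne_zero.2 (sg_ne _ hC)) (neg_ne_zero.2 (sg_ne _ hD))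
    (neg_ne_zero.2 (sg_ne _ hE)) hsum hS hCA hb he (K := E.Kq) (by
      rw [w0]; push_cast
      rw [← hBsum]
      simp only [div_neg]
      ring)
  obtain ⟨hN, -, hKQ⟩ := E.order_facts
  have hQq : (0 : ℚ) < Q := Int.cast_pos.2 hQpos
  have hKpos : 0 < E.Kq := pos_of_mul_pos_left hKQ hQq.le
  rw [abs_of_pos hKpos] at hN
  have hQ2 : (Q : ℚ) ^ 2 - 1 ≠ 0 := by
    have : (27 : ℤ) ≤ Q := by rw [abs_of_pos hQpos] at hbig; exact hbig
    have : (27 : ℚ) ≤ Q := by exact_mod_cast this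
    nlinarith
  have hNv : ((Nat.card G : ℕ) : ℤ) = Q ^ 3 * (Q ^ 3 + 1) * (Q - 1) := by
    have : ((Nat.card G : ℕ) : ℚ) = (Q : ℚ) ^ 3 * ((Q : ℚ) ^ 3 + 1) * ((Q : ℚ) - 1) :=
      mul_right_cancel₀ hQ2 (by
        linear_combination ((Q : ℚ) * ((Q : ℚ) ^ 2 - Q + 1)) * hN - ((Nat.card G : ℕ) : ℚ) * hK)
    exact_mod_cast this
  have hp3 : E.D.p = 3 := by
    have h3 : (3 : ℤ) ∣ x := Int.prime_three.dvd_of_dvd_pow (n := 2) ⟨Q, hx.symm⟩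
    obtain ⟨y, rfl⟩ := h3
    have h3Q : (3 : ℤ) ∣ Q := ⟨y ^ 2, by linarith⟩
    have : 3 ∣ Q.natAbs := by simpa using Int.natAbs_dvd_natAbs.2 h3Q
    rw [E.D.abs_Q] at this
    exact ((Nat.prime_dvd_prime_iff_eq Nat.prime_three E.D.prime_p).1
      (Nat.prime_three.dvd_of_dvd_pow this)).symm
  obtain ⟨m, hm⟩ := E.D.n_odd
  have hq : Q.natAbs = 3 ^ (2 * m + 1) := by rw [E.D.abs_Q, hp3, hm]
  refine ⟨m, ?_, hq, ?_⟩
  · rcases Nat.eq_zero_or_pos m with e | e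
    · subst e
      have := E.D.Q_large
      omega
    · exact e
  · have hQn : Q = ((3 ^ (2 * m + 1) : ℕ) : ℤ) := by rw [← hq]; exact (Int.natAbs_of_nonneg hQpos.le).symm
    rw [hQn] at hNv
    have h1 : 1 ≤ 3 ^ (2 * m + 1) := Nat.one_le_pow _ _ (by norm_num)
    generalize 3 ^ (2 * m + 1) = q at hNv h1 ⊢
    have : ((Nat.card G : ℕ) : ℤ) = ((q ^ 3 * (q ^ 3 + 1) * (q - 1) : ℕ) : ℤ) := by
      push_cast [Nat.cast_sub h1]; exact hNv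
    exact_mod_cast this

/-- The second pair of patterns does not occur. -/
theorem optionII_case (T : E.TFam) (F : E.rowCols.Eight)
    (h : ∀ l, l ≠ 1 → F.coord (T.a1 l) = [0, 0, 0, -1, 0] ∧ F.coord (T.a0 l) = [1, 1, 1, 0, 1]) :
    False := by
  obtain ⟨l, hl, -⟩ := T.exists_third 1 1
  obtain ⟨hA, hB, hC, hD, hE⟩ := F.units
  change (E.ec F.A = 1 ∨ E.ec F.A = -1) at hA
  change (E.ec F.B = 1 ∨ E.ec F.B = -1) at hB
  change (E.ec F.C = 1 ∨ E.ec F.C = -1) at hC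
  change (E.ec F.D = 1 ∨ E.ec F.D = -1) at hD
  change (E.ec F.E = 1 ∨ E.ec F.E = -1) at hE
  have ht := eight_tv F fun l hl => gh_of_coord T F (Or.inr h) hl
  obtain ⟨hsum, hS, hb, he⟩ := eight_cols F ht
  have r0 := (F.seven (T.norm l hl).1 (T.principal l hl).1 (fun χ => (T.gal_inv l χ).1)
    (T.e0 l hl).1 (T.b0 l).1).1
  obtain ⟨-, w0⟩ := eight_single F ht (fun χ => (T.gal_inv l χ).1) (h l hl).2 r0 (T.deg l).1
    (T.tau l).1 rfl rfl rfl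
  rw [T.a0_wq hl, (T.principal l hl).1] at w0
  push_cast at w0
  have hDd : 1 + (E.sg F.A : ℚ) + E.sg F.B + E.sg F.C + 2 * E.sg F.E = 2 * -(E.sg F.D : ℚ) := by
    have e1 : ((1 + E.sg F.A + -E.sg F.B + -E.sg F.C : ℤ) : ℚ) = 0 := by rw [hsum]; norm_num
    have e2 : ((-E.sg F.D + -E.sg F.E : ℤ) : ℚ) = ((1 + E.sg F.A : ℤ) : ℚ) := by rw [hS]
    push_cast at e1 e2
    linear_combination -e1 - 2 * e2
  have hf : 1 + 1 / (E.sg F.A : ℚ) -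
      (Q : ℚ) ^ 2 * (1 / ((-E.sg F.B : ℤ) : ℚ) + 1 / ((-E.sg F.C : ℤ) : ℚ)) -
      ((Q : ℚ) - 1) ^ 2 / 2 * (1 / ((-E.sg F.E : ℤ) : ℚ)) -
      9 * ((Q : ℚ) - 1) ^ 2 / (2 * ((-E.sg F.D : ℤ) : ℚ)) = E.Kq * ((Q : ℚ) + 1) := by
    rw [w0]; push_cast
    rw [← hDd]
    simp only [div_neg]
    ring
  -- congruences
  obtain ⟨tA, tB, tC, tD, tE⟩ := ht
  have cst : ∀ (l : E.D.Zh →* ℂˣ), l ≠ 1 → _ := fun l hl => F.coord_eq (h l hl).1
  have cst0 : ∀ (l : E.D.Zh →* ℂˣ), l ≠ 1 → _ := fun l hl => F.coord_eq (h l hl).2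
  obtain ⟨-, cA⟩ := T.congr_const (χ := F.A) (fun l hl => (cst0 l hl).1) (fun l hl => (cst l hl).1)
  obtain ⟨-, cB⟩ := T.congr_const (χ := F.B) (fun l hl => (cst0 l hl).2.1) (fun l hl => (cst l hl).2.1)
  obtain ⟨-, cC⟩ := T.congr_const (χ := F.C) (fun l hl => (cst0 l hl).2.2.1) (fun l hl => (cst l hl).2.2.1)
  obtain ⟨-, cD⟩ := T.congr_const (χ := F.D) (fun l hl => (cst0 l hl).2.2.2.1)
    (fun l hl => (cst l hl).2.2.2.1)
  obtain ⟨-, cE⟩ := T.congr_const (χ := F.E) (fun l hl => (cst0 l hl).2.2.2.2)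
    (fun l hl => (cst l hl).2.2.2.2)
  simp only [show ∀ χ, E.rowCols.e χ = E.ec χ from fun _ => rfl, zero_mul, mul_zero, sub_zero,
    neg_mul, one_mul, mul_neg, sub_neg_eq_add] at cA cB cC cD cE
  obtain ⟨wA, hwA⟩ := dvd_Q_one cA
  obtain ⟨wB, hwB⟩ := dvd_Q_one cB
  obtain ⟨wC, hwC⟩ := dvd_Q_one cC
  obtain ⟨wD, hwD⟩ := dvd_Q_one cD
  obtain ⟨wE, hwE⟩ := dvd_Q_one cE
  have sq : ∀ {u : ℤ}, (u = 1 ∨ u = -1) → u * u = 1 := by rintro u (rfl | rfl) <;> norm_num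
  have kA : Q + 1 ∣ E.sg F.A - 1 := ⟨E.ec F.A * wA, by
    unfold sg; linear_combination E.ec F.A * hwA + E.ec F.A * tA + sq hA⟩
  have kB : Q + 1 ∣ -E.sg F.B + 1 := ⟨-(E.ec F.B * wB) + 1, by
    unfold sg; linear_combination -(E.ec F.B) * hwB - E.ec F.B * tB + Q * sq hB⟩
  have kC : Q + 1 ∣ -E.sg F.C + 1 := ⟨-(E.ec F.C * wC) + 1, by
    unfold sg; linear_combination -(E.ec F.C) * hwC - E.ec F.C * tC + Q * sq hC⟩
  have kD : 2 * (Q + 1) ∣ 2 * -E.sg F.D - (Q + 7) := ⟨-(E.ec F.D * wD), by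
    unfold sg; linear_combination (-(2 * E.ec F.D)) * hwD - E.ec F.D * tD + (Q + 7) * sq hD⟩
  have kE : 2 * (Q + 1) ∣ 2 * -E.sg F.E - (Q - 1) := ⟨-(E.ec F.E * wE), by
    unfold sg; linear_combination (-(2 * E.ec F.E)) * hwE - E.ec F.E * tE + (Q - 1) * sq hE⟩
  -- odd degrees
  have hQ8 := E.D.Q_mod
  have hQ2 : (Q + 1) % 4 = 0 := by omega
  obtain ⟨q4, hq4⟩ : (4 : ℤ) ∣ Q + 1 := Int.dvd_of_emod_eq_zero hQ2
  have odd : ∀ {χ : IrrCharacter G}, dgi χ % 2 = 1 → nu (χ : G → ℂ) = (realI χ : ℂ) := fun hχ =>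
    nu_of_odd (Nat.odd_iff.2 (by unfold dgi at hχ; omega))
  have oA : dgi F.A % 2 = 1 := by rw [hq4, mul_assoc] at hwA; rcases hA with e | e <;> omega
  have oB : dgi F.B % 2 = 1 := by rw [hq4, mul_assoc] at hwB; rcases hB with e | e <;> rw [e] at tB <;> omega
  have oC : dgi F.C % 2 = 1 := by rw [hq4, mul_assoc] at hwC; rcases hC with e | e <;> rw [e] at tC <;> omega
  have oD : dgi F.D % 2 = 1 := by rw [hq4, mul_assoc] at hwD; rcases hD with e | e <;> rw [e] at tD <;> omega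
  have oE : dgi F.E % 2 = 1 := by rw [hq4, mul_assoc] at hwE; rcases hE with e | e <;> rw [e] at tE <;> omega
  have rgal : ∀ χ, realI (E.gal χ) = realI χ := fun χ => by
    unfold realI
    rw [gal_cj]
    exact if_congr E.gal.injective.eq_iff rfl rfl
  have ngal : ∀ {χ : IrrCharacter G}, dgi χ % 2 = 1 →
      nu ((E.gal χ : IrrCharacter G) : G → ℂ) = nu (χ : G → ℂ) := fun {χ} hχ => by
    rw [odd hχ, odd (by rw [dgi_gal]; exact hχ), rgal]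
  have hnu : ∀ f : IrrCharacter G → ℤ, (∀ χ, f (E.gal χ) = f χ) → (∀ i ∈ F.rest, f i = 0) →
      f (principal G) = 1 → ∀ {u₁ u₂ u₃ u₄ u₅ : ℤ}, F.coord f = [u₁, u₂, u₃, u₄, u₅] →
      ∑ χ : IrrCharacter G, (f χ : ℂ) * nu (χ : G → ℂ) = 0 →
      1 + u₁ * (E.ec F.A * realI F.A) + u₂ * (E.ec F.B * realI F.B) + u₃ * (E.ec F.C * realI F.C) +
        2 * (u₄ * (E.ec F.D * realI F.D)) + 2 * (u₅ * (E.ec F.E * realI F.E)) = 0 := by
    intro f hf hr ho u₁ u₂ u₃ u₄ u₅ hc hs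
    rw [F.coord_sum hf hc (fun χ : IrrCharacter G => nu (χ : G → ℂ)) (ngal oD) (ngal oE),
      Finset.sum_eq_zero fun i hi => by rw [hr i hi, Int.cast_zero, zero_mul],
      show E.rowCols.o = principal G from rfl, ho, nu_principal, odd oA, odd oB, odd oC, odd oD,
      odd oE] at hs
    simp only [show ∀ χ, E.rowCols.e χ = E.ec χ from fun _ => rfl, Int.cast_one, one_mul] at hs
    refine Int.cast_injective (α := ℂ) ?_
    push_cast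
    linear_combination hs
  have fe := hnu E.ec E.gal_row.e (fun i hi => (F.rest_zero (F.mem_rest.1 hi)).1) E.cols_principal.1
    F.coord_e E.sum_nu_cols.1
  have fb := hnu E.bc E.gal_row.b (fun i hi => (F.rest_zero (F.mem_rest.1 hi)).2.1) E.cols_principal.2.1
    F.coord_b E.sum_nu_cols.2
  -- conjugation on the named rows
  obtain ⟨sgn, hsgn, hr⟩ := E.cj_row
  obtain ⟨noA, noB, noC, nAB, nAC, nBC, nDE⟩ := F.ne
  have bA : E.bc F.A = E.ec F.A := by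
    have := (Cols.Eight.unit_b F.eb_A (Or.inl rfl)).2; rw [one_mul] at this; exact this
  have bB : E.bc F.B = -E.ec F.B := by
    have := (Cols.Eight.unit_b F.eb_B (Or.inr rfl)).2; rw [neg_one_mul] at this; exact this
  have bC : E.bc F.C = -E.ec F.C := by
    have := (Cols.Eight.unit_b F.eb_C (Or.inr rfl)).2; rw [neg_one_mul] at this; exact this
  have inB : ∀ {χ}, E.bc χ ≠ 0 → cjPerm χ = principal G ∨ cjPerm χ = F.A ∨ cjPerm χ = F.B ∨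
      cjPerm χ = F.C := fun {χ} hχ => by
    have hm : cjPerm χ ∈ E.rowCols.bS := E.rowCols.mem_bS.2 (by
      show E.bc (cjPerm χ) ≠ 0
      rwa [hr.b])
    rw [F.bS_eq] at hm
    simp only [Finset.mem_insert, Finset.mem_singleton] at hm
    exact hm
  have nofix : ∀ {χ}, χ ≠ principal G → cjPerm χ ≠ principal G := fun hχ e =>
    hχ (cjPerm.injective (e.trans hr.o.symm))
  have jA : cjPerm F.A = F.A := by
    rcases inB (show E.bc F.A ≠ 0 by omega) with e | e | e | e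
    · exact absurd e (nofix (Ne.symm noA))
    · exact e
    all_goals
      have e1 := hr.e F.A
      have e2 := hr.b F.A
      rw [e] at e1 e2
      omega
  have jB : cjPerm F.B = F.B ∨ cjPerm F.B = F.C := by
    rcases inB (show E.bc F.B ≠ 0 by omega) with e | e | e | e
    · exact absurd e (nofix (Ne.symm noB))
    · have e1 := hr.e F.B
      have e2 := hr.b F.B
      rw [e] at e1 e2
      omega
    exacts [Or.inl e, Or.inr e]
  have realA : realI F.A = 1 := if_pos jA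
  have realBC : (realI F.B = 1 ∧ realI F.C = 1) ∨
      (realI F.B = 0 ∧ realI F.C = 0 ∧ E.sg F.B = E.sg F.C) := by
    rcases jB with e | e
    · refine Or.inl ⟨if_pos e, if_pos ?_⟩
      rcases inB (show E.bc F.C ≠ 0 by omega) with e' | e' | e' | e'
      · exact absurd e' (nofix (Ne.symm noC))
      · exact absurd (cjPerm.injective (e'.trans jA.symm)) (Ne.symm nAC)
      · exact absurd (cjPerm.injective (e'.trans e.symm)) (Ne.symm nBC)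
      · exact e'
    · have e' : cjPerm F.C = F.B := by rw [← e, cjPerm_sq]
      refine Or.inr ⟨if_neg (by rw [e]; exact Ne.symm nBC), if_neg (by rw [e']; exact nBC), ?_⟩
      unfold sg
      rw [← e, hr.e, dgi_cj]
  have r01 : ∀ χ : IrrCharacter G, realI χ = 0 ∨ realI χ = 1 := fun χ => by
    unfold realI; split_ifs <;> simp
  have wD1 : E.wc F.D = E.ec F.D := (Cols.Eight.unit_w F.ew_D).2
  have wE1 : E.wc F.E = E.ec F.E := (Cols.Eight.unit_w F.ew_E).2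
  have qmod : (sgn = 1 ∧ Q < 0) ∨ (sgn = -1 ∧ 0 < Q) := by
    obtain ⟨m, hm⟩ := E.D.n_odd
    have habs := E.D.abs_Q
    have hq : E.D.p ^ E.D.n % 4 = E.D.p % 4 := by
      rw [hm, pow_succ, pow_mul, Nat.mul_mod, Nat.pow_mod, Nat.pow_mod E.D.p 2]
      rcases hsgn with ⟨-, e⟩ | ⟨-, e⟩ <;> simp [e]
    rw [← habs] at hq
    rcases hsgn with ⟨e, h4⟩ | ⟨e, h4⟩
    · exact Or.inl ⟨e, by omega⟩
    · exact Or.inr ⟨e, by omega⟩
  obtain ⟨hN, hdvd, hKQ⟩ := E.order_facts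
  have posd : ∀ {χ : IrrCharacter G}, (E.ec χ = 1 → 0 < E.sg χ) ∧ (E.ec χ = -1 → E.sg χ < 0) :=
    fun {χ} => ⟨fun e => by unfold sg; rw [e, one_mul]; exact dgi_pos χ,
      fun e => by unfold sg; rw [e]; have := dgi_pos χ; omega⟩
  have pA := @posd F.A
  have pB := @posd F.B
  have pC := @posd F.C
  have pD := @posd F.D
  have pE := @posd F.E
  have hDpos : Q < 0 → E.ec F.D = -1 := fun hQ0 => by
    have hsgD : (E.sg F.D : ℚ) ≠ 0 := Int.cast_ne_zero.2 (sg_ne _ hD)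
    have hQ1 : (Q : ℚ) + 1 < 0 := by
      have : Q + 1 < 0 := by omega
      exact_mod_cast this
    have h4 : 4 * ((Q : ℚ) - 1) ^ 2 / ((-E.sg F.D : ℤ) : ℚ) = -(8 * (E.Kq * Q)) / ((Q : ℚ) + 1) := by
      have er : E.Kq * ((Q : ℚ) ^ 2 - 6 * Q + 1) / (Q + 1) - E.Kq * ((Q : ℚ) + 1) =
          -(8 * (E.Kq * Q)) / ((Q : ℚ) + 1) := by
        have := hQ1.ne
        field_simp; ring
      linear_combination he - hf + er
    have hpos : 0 < -(8 * (E.Kq * Q)) / ((Q : ℚ) + 1) := div_pos_of_neg_of_neg (by linarith) hQ1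
    rw [← h4] at hpos
    have hne1 : (0 : ℚ) < 4 * ((Q : ℚ) - 1) ^ 2 := by nlinarith
    have : (0 : ℚ) < ((-E.sg F.D : ℤ) : ℚ) := by
      by_contra hcon
      have := div_nonpos_of_nonneg_of_nonpos hne1.le (not_lt.1 hcon)
      linarith
    have : 0 < -E.sg F.D := by exact_mod_cast this
    rcases hD with e | e
    · have := pD.1 e; omega
    · exact e
  refine optionII E.D.Q_mod T.Q_large' (sg_ne _ hA) (neg_ne_zero.2 (sg_ne _ hB))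
    (neg_ne_zero.2 (sg_ne _ hC)) (neg_ne_zero.2 (sg_ne _ hD)) (neg_ne_zero.2 (sg_ne _ hE))
    hsum hS hb he hf hKQ hN hdvd kA kB kC kD kE ?_
  rw [realA] at fe fb
  have neg : ∀ {x : ℤ}, (x < 0 → 0 < -x) ∧ (0 < x → -x < 0) := fun {x} => ⟨neg_pos.2, neg_neg_iff_pos.2⟩
  refine sign_pattern (rD := realI F.D) (rE := realI F.E) hA hB hC hE pA
    ⟨fun e => neg.2 (pB.1 e), fun e => neg.1 (pB.2 e)⟩ ⟨fun e => neg.2 (pC.1 e), fun e => neg.1 (pC.2 e)⟩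
    ⟨fun e => neg.2 (pD.1 e), fun e => neg.1 (pD.2 e)⟩ ⟨fun e => neg.2 (pE.1 e), fun e => neg.1 (pE.2 e)⟩
    hS fe fb ?_ (r01 _) ?_
  · rcases realBC with h' | ⟨h1, h2, h3⟩
    exacts [Or.inl h', Or.inr ⟨h1, h2, by rw [h3]⟩]
  rcases qmod with ⟨rfl, hQ0⟩ | ⟨rfl, hQ0⟩
  · refine Or.inr ⟨hQ0, hDpos hQ0, ?_⟩
    have hm : cjPerm F.D ∈ E.rowCols.wS := E.rowCols.mem_wS.2 (by
      show E.wc (cjPerm F.D) ≠ 0
      rw [hr.w, one_mul, wD1]; exact Cfsg.Agent.JanThom.unit_ne hD)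
    rw [F.wS_eq] at hm
    simp only [Finset.mem_insert, Finset.mem_singleton] at hm
    have bad : ∀ χ, E.wc χ = E.ec χ → E.ec χ ≠ 0 → cjPerm F.D ≠ E.gal χ := fun χ hw hne e => by
      have e1 := hr.e F.D
      have e2 := hr.w F.D
      rw [e, E.gal_row.e] at e1
      rw [e, E.gal_row.w, hw, one_mul, wD1, ← e1, neg_one_mul] at e2
      exact hne (neg_eq_self.1 e2)
    rcases hm with e | e | e | e
    · exact Or.inl (if_pos e)
    · have e' : cjPerm F.E = F.D := by rw [← e, cjPerm_sq]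
      refine Or.inr ⟨if_neg (by rw [e]; exact Ne.symm nDE), if_neg (by rw [e']; exact nDE), ?_⟩
      have h1 : E.ec F.E = E.ec F.D := by rw [← e, hr.e]
      have h2 : dgi F.E = dgi F.D := by rw [← e, dgi_cj]
      unfold sg
      rw [h1, h2]; ring
    · exact absurd e (bad _ wD1 (unit_ne hD))
    · exact absurd e (bad _ wE1 (unit_ne hE))
  · refine Or.inl ⟨hQ0, if_neg fun e => ?_, if_neg fun e => ?_⟩
    · have := hr.w F.D
      rw [e, wD1, neg_one_mul] at this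
      exact unit_ne hD (neg_eq_self.1 this.symm)
    · have := hr.w F.E
      rw [e, wE1, neg_one_mul] at this
      exact unit_ne hE (neg_eq_self.1 this.symm)

/-- The order of the group. -/
theorem TFam.order_formula (T : E.TFam) : ∃ m : ℕ, 1 ≤ m ∧ Q.natAbs = 3 ^ (2 * m + 1) ∧
    Nat.card G = (3 ^ (2 * m + 1)) ^ 3 * ((3 ^ (2 * m + 1)) ^ 3 + 1) * (3 ^ (2 * m + 1) - 1) := by
  rcases E.rowCols.shape with ⟨⟨F⟩⟩ | ⟨⟨F⟩⟩
  · obtain ⟨F', h | h⟩ := eight_kinds T F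
    · exact optionI_case T F' h
    · exact (optionII_case T F' h).elim
  · exact (four_false T F).elim

end Setup

end Cfsg.Agent.JanThom
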