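import Cfsg.Agent.Lib.JanThom.Torus
import Cfsg.Agent.Lib.JanThom.PSL2Data
import Cfsg.Agent.Lib.AbelInv.Main
import Cfsg.Agent.Lib.Perm.AutAlternating
import Cfsg.Agent.Lib.Solvable.Coprime
import Cfsg.Agent.S0252
import Cfsg.Agent.S0253

/-!
The centraliser of a non-trivial element of the torus `Zg`: it is the torus `T`, or `T⟨y⟩`, or
`Zg × A₅`.
-/

set_option autoImplicit false
set_option linter.unusedSectionVars false
set_option linter.style.haveILetI false

namespace Cfsg.Agent.JanThom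

open Subgroup

universe u v

theorem a5_cent : ∀ a : alternatingGroup (Fin 5), a * a = 1 → a ≠ 1 →
    ∀ x : alternatingGroup (Fin 5), x * a = a * x → x * x = 1 := by
  decide +kernel

set_option synthInstance.maxSize 4000 in
theorem a5_klein : ∀ a : alternatingGroup (Fin 5), a * a = 1 → a ≠ 1 →
    ∀ b : alternatingGroup (Fin 5), b * b = 1 → b ≠ 1 → a * b = b * a → a ≠ b →
      ∃ g : alternatingGroup (Fin 5), g * a * g⁻¹ = b ∧ g * b * g⁻¹ = a * b := by
  decide +kernel

theorem a5_not_comm : ∃ a b : alternatingGroup (Fin 5), a * b ≠ b * a := by decide +kernel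

theorem card_a5 : Nat.card (alternatingGroup (Fin 5)) = 60 := by
  rw [nat_card_alternatingGroup, Nat.card_fin]; rfl

theorem sq_dvd_sixty {l : ℕ} (hl : l.Prime) (h : l ^ 2 ∣ 60) : l = 2 := by
  have hle : l < 8 := by nlinarith [Nat.le_of_dvd (by norm_num) h]
  interval_cases l <;> first | rfl | (revert hl h; norm_num)

/-- A group with kernel of odd central order over the alternating group of degree five splits. -/
theorem comm_inf_center {C : Type u} [Group C] [Finite C] (f : C →* alternatingGroup (Fin 5))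
    (hker : f.ker ≤ center C) (hodd : Odd (Nat.card f.ker)) {x : C} (hx : x ∈ commutator C)
    (hxk : x ∈ f.ker) : x = 1 := by
  classical
  by_contra hx1
  obtain ⟨l, hl, hdvd⟩ := Nat.exists_prime_and_dvd (n := orderOf x) (by
    rwa [Ne, orderOf_eq_one_iff])
  haveI := Fact.mk hl
  obtain ⟨w, hwx, hwl⟩ : ∃ w ∈ zpowers x, orderOf w = l := by
    refine ⟨x ^ (orderOf x / l), pow_mem (mem_zpowers x) _, ?_⟩
    exact orderOf_pow_orderOf_div (orderOf_pos x).ne' hdvd
  have hwk : w ∈ f.ker := zpowers_le.2 hxk hwx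
  have hwc : w ∈ commutator C := zpowers_le.2 hx hwx
  have hl2 : l ≠ 2 := by
    rintro rfl
    have : (2 : ℕ) ∣ Nat.card f.ker := hwl ▸ orderOf_dvd_natCard _ hwk
    obtain ⟨j, hj⟩ := hodd
    omega
  obtain ⟨P⟩ := (inferInstance : Nonempty (Sylow l C))
  -- the Sylow subgroup is abelian
  let g : (P : Subgroup C) →* alternatingGroup (Fin 5) := f.comp (P : Subgroup C).subtype
  have hcyc : IsCyclic g.range := by
    obtain ⟨k, hk⟩ := (P.2.of_surjective g.rangeRestrict g.rangeRestrict_surjective).exists_card_eq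
    have hdvd' : l ^ k ∣ 60 := by rw [← card_a5, ← hk]; exact card_subgroup_dvd_card _
    rcases k with - | - | k
    · haveI : Subsingleton g.range := (Nat.card_eq_one_iff_unique.1 (by simpa using hk)).1
      infer_instance
    · exact isCyclic_of_prime_card (p := l) (by simpa using hk)
    · exfalso
      exact hl2 (sq_dvd_sixty hl ((pow_dvd_pow l (by omega)).trans hdvd'))
  have hgk : g.rangeRestrict.ker ≤ center (P : Subgroup C) := fun a ha => mem_center_iff.2 fun b =>
    Subtype.ext (mem_center_iff.1 (hker (show (a : C) ∈ f.ker from by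
      rw [MonoidHom.ker_rangeRestrict] at ha; exact ha)) b)
  letI : CommGroup (P : Subgroup C) :=
    { (inferInstance : Group (P : Subgroup C)) with
      mul_comm := fun a b => commutative_of_cyclic_center_quotient g.rangeRestrict hgk a b }
  let t : C →* (P : Subgroup C) := MonoidHom.transfer (MonoidHom.id (P : Subgroup C))
  have hcen : ∀ c, c * w = w * c := fun c => mem_center_iff.1 (hker hwk) c
  have hmem : w ∈ (P : Subgroup C) := by
    obtain ⟨R, hR⟩ := (IsPGroup.of_card (n := 1) (G := zpowers w)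
      (by rw [Nat.card_zpowers, hwl, pow_one])).exists_le_sylow
    obtain ⟨c, hc⟩ := MulAction.exists_smul_eq C R P
    rw [← hc, Sylow.coe_subgroup_smul]
    exact ⟨w, hR (mem_zpowers w), by simp [MulAut.conj_apply, hcen c]⟩
  have hkey : ∀ (k : ℕ) (g₀ : C), g₀⁻¹ * w ^ k * g₀ ∈ (P : Subgroup C) → g₀⁻¹ * w ^ k * g₀ = w ^ k :=
    fun k g₀ _ => by rw [mul_assoc, ← ((show Commute g₀ w from hcen g₀).pow_right k).eq, inv_mul_cancel_left]
  have ht : t w = 1 := (Abelianization.commutator_subset_ker t) hwc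
  have hpow : t w = ⟨w ^ (P : Subgroup C).index, MonoidHom.transfer_eq_pow_aux w hkey⟩ :=
    MonoidHom.transfer_eq_pow (MonoidHom.id (P : Subgroup C)) w hkey
  rw [ht] at hpow
  have h1 : w ^ (P : Subgroup C).index = 1 := (congrArg Subtype.val hpow).symm
  exact P.not_dvd_index (hwl.symm.dvd.trans (orderOf_dvd_of_pow_eq_one h1))

/-- An involution centraliser in `PSL₂(q)` is abelian only for `q ≤ 5`. -/
theorem psl2_cent_not_comm {F : Type v} [Field F] [Fintype F]
    (h8 : Fintype.card F % 8 = 3 ∨ Fintype.card F % 8 = 5) (h11 : 11 ≤ Fintype.card F) :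
    ∃ s a b : Matrix.ProjectiveSpecialLinearGroup (Fin 2) F, s * s = 1 ∧ s ≠ 1 ∧
      a * s = s * a ∧ b * s = s * b ∧ a * b ≠ b * a := by
  obtain ⟨D⟩ := exists_lData h8 h11
  haveI : Finite (Matrix.ProjectiveSpecialLinearGroup (Fin 2) F) := inferInstance
  obtain ⟨z, hz, hz1⟩ := D.exists_Zh_ne
  have hcard := D.inv_h z hz hz1
  have hne : Nonempty {a : Matrix.ProjectiveSpecialLinearGroup (Fin 2) F //
      a * a = 1 ∧ a ≠ 1 ∧ a * z * a⁻¹ = z⁻¹} :=
    (Nat.card_pos_iff.1 (by rw [hcard]; have := D.h_three'; omega)).1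
  obtain ⟨a, -, -, haz⟩ := hne
  refine ⟨D.s, a, z, D.s_sq, D.s_ne, ?_, D.Zh_s hz, fun h => ?_⟩
  · exact mem_centralizer_singleton_iff.1 (D.ti_h z hz hz1 a (haz ▸ inv_mem hz))
  · rw [h, mul_inv_cancel_right] at haz
    exact LData.ne_inv_of_odd D.odd_Zh hz hz1 haz

namespace Setup

variable {G : Type u} [Group G] [Finite G] {L : Type v} [Group L] {Q : ℤ} (E : Setup G L Q)

/-- The second exceptional shape of a centraliser of a torus element. -/
def IsA5Case (r : G) : Prop :=
  ∃ X : Subgroup G, Nonempty (X ≃* alternatingGroup (Fin 5)) ∧ E.E4 ≤ X ∧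
    (∀ x ∈ X, ∀ z ∈ E.Zg, x * z = z * x) ∧ X ⊓ E.Zg = ⊥ ∧
    ∀ x : G, x * r = r * x ↔ ∃ u ∈ X, ∃ z ∈ E.Zg, x = u * z

variable {E} {y r : G}

theorem E4_le_cent (hr : r ∈ E.Zg) : E.E4 ≤ centralizer ({r} : Set G) := fun e he =>
  mem_centralizer_singleton_iff.2 (E.T_comm (E.E4_le_T he) (E.Zg_le_T hr))

/-- The four-group is a Sylow subgroup of the centraliser. -/
theorem two_le_E4 (hy : E.IsY y) (hr : r ∈ E.Zg) (hr1 : r ≠ 1) {R : Subgroup G}
    (hR : IsPGroup 2 R) (hE : E.E4 ≤ R) (hRC : R ≤ centralizer ({r} : Set G)) : R = E.E4 := by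
  refine le_antisymm (fun x hx => ?_) hE
  haveI : Fact (Nat.Prime 2) := ⟨Nat.prime_two⟩
  haveI : Nontrivial R := ⟨⟨⟨E.τ, hE E.τ_mem_E4⟩, 1, fun h => E.τ_ne (congrArg Subtype.val h)⟩⟩
  haveI := hR.center_nontrivial
  obtain ⟨k, hk⟩ := (hR.to_subgroup (center R)).exists_card_eq
  have hk0 : k ≠ 0 := by
    rintro rfl
    exact (Finite.one_lt_card (α := center R)).ne' (by simpa using hk)
  obtain ⟨c, hc⟩ := exists_prime_orderOf_dvd_card' (G := center R) 2 (hk ▸ dvd_pow_self 2 hk0)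
  set z : G := ((c : R) : G) with hz
  have hzc : ∀ a ∈ R, a * z = z * a := fun a ha =>
    congrArg Subtype.val (mem_center_iff.1 c.2 ⟨a, ha⟩)
  have hzr : z * r = r * z := mem_centralizer_singleton_iff.1 (hRC (c : R).2)
  have hc2 : z ^ 2 ^ 1 = 1 := by
    have h := congrArg (fun a : center R => ((a : R) : G)) (pow_orderOf_eq_one c)
    rw [hc] at h
    simpa using h
  have hz1 : z ≠ 1 := fun h => by
    have h' : c = 1 := Subtype.ext (Subtype.ext h)
    rw [h', orderOf_one] at hc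
    norm_num at hc
  have hzT := E.cent_τ hr hr1 hzr (hzc _ (hE E.τ_mem_E4)).symm
  have hzE : z ∈ E.E4 := E.two_mem_T hzT hc2
  have hxr : x * r = r * x := mem_centralizer_singleton_iff.1 (hRC hx)
  obtain ⟨j, hj⟩ := hR ⟨x, hx⟩
  have hj' : x ^ 2 ^ j = 1 := congrArg Subtype.val hj
  exact E.two_mem_T (hy.cent_inf hr hr1 hzE hz1 hxr (hzc x hx)) hj'

/-- The Sylow subgroup `E4` of the centraliser. -/
theorem exists_sylow (hy : E.IsY y) (hr : r ∈ E.Zg) (hr1 : r ≠ 1) :
    ∃ P : Sylow 2 (centralizer ({r} : Set G)),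
      (P : Subgroup (centralizer ({r} : Set G))) = E.E4.subgroupOf (centralizer ({r} : Set G)) := by
  set C := centralizer ({r} : Set G)
  refine ⟨⟨E.E4.subgroupOf C, ?_, fun {R} hR hle => ?_⟩, rfl⟩
  · refine IsPGroup.of_card (n := 2) ?_
    rw [Nat.card_congr (subgroupOfEquivOfLe (E4_le_cent hr)).toEquiv, E.card_E4]
    norm_num
  · have h := two_le_E4 hy hr hr1 (hR.map C.subtype)
      (fun e he => ⟨⟨e, E4_le_cent hr he⟩, hle he, rfl⟩) (map_subtype_le R)
    ext x
    refine ⟨fun hx => ?_, fun hx => hle hx⟩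
    show (x : G) ∈ E.E4
    rw [← h]
    exact mem_map_of_mem _ hx

/-- Centralisers of involutions in the centraliser are abelian. -/
theorem cent_invol_comm (hy : E.IsY y) (hr : r ∈ E.Zg) (hr1 : r ≠ 1) {t a b : centralizer ({r} : Set G)}
    (ht : orderOf t = 2) (ha : a * t = t * a) (hb : b * t = t * b) : a * b = b * a := by
  haveI : Fact (Nat.Prime 2) := ⟨Nat.prime_two⟩
  obtain ⟨P, hP⟩ := exists_sylow hy hr hr1
  obtain ⟨R, hR⟩ := (IsPGroup.of_card (n := 1) (G := zpowers t) (by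
    rw [Nat.card_zpowers, ht, pow_one])).exists_le_sylow
  obtain ⟨c, hc⟩ := MulAction.exists_smul_eq (centralizer ({r} : Set G)) R P
  have he : ((c * t * c⁻¹ : centralizer ({r} : Set G)) : G) ∈ E.E4 := by
    have h : c * t * c⁻¹ ∈ (P : Subgroup (centralizer ({r} : Set G))) := by
      rw [← hc, Sylow.coe_subgroup_smul]
      exact smul_mem_pointwise_smul t (MulAut.conj c) _ (hR (mem_zpowers t))
    rwa [hP] at h
  have he1 : ((c * t * c⁻¹ : centralizer ({r} : Set G)) : G) ≠ 1 := fun h => by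
    have h' : c * t * c⁻¹ = 1 := Subtype.ext h
    rw [conj_eq_one_iff] at h'
    rw [h', orderOf_one] at ht
    norm_num at ht
  have hT : ∀ a, a * t = t * a → ((c * a * c⁻¹ : centralizer ({r} : Set G)) : G) ∈ E.T := fun a ha => by
    refine hy.cent_inf hr hr1 he he1 (mem_centralizer_singleton_iff.1 (c * a * c⁻¹).2) ?_
    rw [← Subgroup.coe_mul, ← Subgroup.coe_mul]
    refine congrArg Subtype.val ?_
    calc c * a * c⁻¹ * (c * t * c⁻¹) = c * (a * t) * c⁻¹ := by group
      _ = c * (t * a) * c⁻¹ := by rw [ha]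
      _ = c * t * c⁻¹ * (c * a * c⁻¹) := by group
  have h := E.T_comm (hT a ha) (hT b hb)
  rw [← Subgroup.coe_mul, ← Subgroup.coe_mul] at h
  have h' : c * a * c⁻¹ * (c * b * c⁻¹) = c * b * c⁻¹ * (c * a * c⁻¹) := Subtype.ext h
  rw [show ∀ u v, c * u * c⁻¹ * (c * v * c⁻¹) = c * (u * v) * c⁻¹ from fun u v => by group,
    show ∀ u v, c * u * c⁻¹ * (c * v * c⁻¹) = c * (u * v) * c⁻¹ from fun u v => by group] at h'
  exact mul_left_cancel (mul_right_cancel h')

/-- The odd core lies in the torus. -/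
theorem oddCore_le (hy : E.IsY y) (hr : r ∈ E.Zg) (hr1 : r ≠ 1)
    {x : centralizer ({r} : Set G)} (hx : x ∈ Cfsg.oddCore (centralizer ({r} : Set G))) :
    (x : G) ∈ E.Zg := by
  haveI : Fact (Nat.Prime 2) := ⟨Nat.prime_two⟩
  haveI hN : (Cfsg.oddCore (centralizer ({r} : Set G))).Normal := FittingCores.pPrimeCore_normal (G := (centralizer ({r} : Set G))) 2
  set K := (Cfsg.oddCore (centralizer ({r} : Set G))).map (centralizer ({r} : Set G)).subtype with hK
  have hodd : Odd (Nat.card K) := by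
    rw [hK, card_map_of_injective (centralizer ({r} : Set G)).subtype_injective]
    exact SEBrick.oddCore_odd
  haveI : IsMulCommutative E.E4 :=
    ⟨⟨fun a b => Subtype.ext (E.T_comm (E.E4_le_T a.2) (E.E4_le_T b.2))⟩⟩
  have hAK : E.E4 ≤ normalizer (K : Set G) := (E4_le_cent hr).trans (by
    have h := le_normalizer_map (H := Cfsg.oddCore (centralizer ({r} : Set G))) (centralizer ({r} : Set G)).subtype
    rw [normalizer_eq_top, ← MonoidHom.range_eq_map, range_subtype] at h
    exact h)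
  have hnc : ¬ IsCyclic E.E4 := fun h => by
    obtain ⟨g, hg⟩ := h.exists_generator
    have h4 : orderOf g ∣ 2 := orderOf_dvd_of_pow_eq_one (Subtype.ext (by
      rw [pow_two]; exact E.E4_sq g.2))
    have : Nat.card E.E4 = orderOf g := (orderOf_eq_card_of_forall_mem_zpowers hg).symm
    have := Nat.le_of_dvd (by norm_num) h4
    have := E.card_E4
    omega
  have hcop : (Nat.card E.E4).Coprime (Nat.card K) := by
    rw [E.card_E4]
    exact (Nat.coprime_two_left.2 hodd).pow_left 2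
  refine (show K ≤ E.Zg from ?_) ⟨x, hx, rfl⟩
  rw [← CoprimeAct.generated_by_centralizers hnc hAK hcop]
  refine iSup₂_le fun e he z hz => ?_
  obtain ⟨⟨w, hw, rfl⟩, hze⟩ := mem_inf.1 hz
  refine E.odd_mem_T (hy.cent_inf hr hr1 he.1 he.2 (mem_centralizer_singleton_iff.1 w.2)
    (mem_centralizer_singleton_iff.1 hze)) (hodd.of_dvd_nat ?_)
  exact orderOf_dvd_natCard K ⟨w, hw, rfl⟩

/-- An element of the centraliser moving `τ` inside the four-group forces `y` into it. -/
theorem commute_y_of_norm (hy : E.IsY y) (hr : r ∈ E.Zg) (hr1 : r ≠ 1) {x : G} (hxr : x * r = r * x)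
    (hτ : x * E.τ * x⁻¹ ∈ E.E4) (hσ : x * E.σ * x⁻¹ ∈ E.E4) :
    (x ∈ E.T) ∨ (y * r = r * y ∧ ∃ i : ℕ, i < 3 ∧ ∃ t ∈ E.T, x = y ^ i * t) := by
  obtain ⟨i, c, hi, hcτ, hcσ, rfl⟩ := hy.norm_E4 hτ hσ
  by_cases hi0 : i = 0
  · subst hi0
    rw [pow_zero, one_mul] at hxr ⊢
    exact Or.inl (E.cent_τ hr hr1 hxr hcτ)
  have hcr : c * r * c⁻¹ = r ∨ c * r * c⁻¹ = r⁻¹ := by
    rcases E.cent_E4 hcτ hcσ with h | h
    · exact Or.inl (by rw [E.T_comm h (E.Zg_le_T hr), mul_inv_cancel_right])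
    · exact Or.inr (h r hr)
  have hfix : y ^ i * (c * r * c⁻¹) * (y ^ i)⁻¹ = r := by
    calc y ^ i * (c * r * c⁻¹) * (y ^ i)⁻¹ = y ^ i * c * r * (y ^ i * c)⁻¹ := by group
      _ = r := by rw [hxr, mul_inv_cancel_right]
  have hyr : y * r = r * y := by
    refine hy.commute_of_pow hr hr1 (i := i) (by omega) ?_
    rcases hcr with h | h <;> rw [h] at hfix
    · exact Or.inl hfix
    · refine Or.inr ?_
      rw [← inv_inv (y ^ i * r * (y ^ i)⁻¹)]
      refine congrArg (·⁻¹) ?_
      calc (y ^ i * r * (y ^ i)⁻¹)⁻¹ = y ^ i * r⁻¹ * (y ^ i)⁻¹ := by group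
        _ = r := hfix
  refine Or.inr ⟨hyr, i, hi, c, E.cent_τ hr hr1 ?_ hcτ, rfl⟩
  have hyi : Commute (y ^ i) r := (show Commute y r from hyr).pow_left i
  have h : Commute ((y ^ i)⁻¹ * (y ^ i * c)) r := hyi.inv_left.mul_left hxr
  rwa [inv_mul_cancel_left] at h

/-- The non-solvable case. -/
theorem a5_case (hy : E.IsY y) (hr : r ∈ E.Zg) (hr1 : r ≠ 1)
    (f : centralizer ({r} : Set G) →* alternatingGroup (Fin 5)) (hf : Function.Surjective f)
    (hker : f.ker = Cfsg.oddCore (centralizer ({r} : Set G))) :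
    y * r = r * y ∧ E.IsA5Case r := by
  classical
  haveI : Fact (Nat.Prime 2) := ⟨Nat.prime_two⟩
  have hodd : Odd (Nat.card f.ker) := by rw [hker]; exact SEBrick.oddCore_odd
  have hkZ : ∀ x : (centralizer ({r} : Set G)), x ∈ f.ker → (x : G) ∈ E.Zg := fun x hx => oddCore_le hy hr hr1 (hker ▸ hx)
  have hT : ∀ t ∈ E.T, t ∈ (centralizer ({r} : Set G)) := fun t ht =>
    mem_centralizer_singleton_iff.2 (E.T_comm ht (E.Zg_le_T hr))
  let τC : (centralizer ({r} : Set G)) := ⟨E.τ, hT _ (E.E4_le_T E.τ_mem_E4)⟩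
  let σC : (centralizer ({r} : Set G)) := ⟨E.σ, hT _ (E.E4_le_T E.σ_mem_E4)⟩
  have hne : ∀ e : (centralizer ({r} : Set G)), (e : G) ∈ E.E4 → (e : G) ≠ 1 → f e ≠ 1 := fun e he he1 h =>
    he1 (E.E4_inf_Zg he (hkZ e (MonoidHom.mem_ker.2 h)))
  have hfτ : f τC * f τC = 1 := by
    rw [← map_mul, show τC * τC = 1 from Subtype.ext E.τ_sq, map_one]
  have hfσ : f σC * f σC = 1 := by
    rw [← map_mul, show σC * σC = 1 from Subtype.ext E.σ_sq, map_one]
  have hτ1 := hne τC E.τ_mem_E4 E.τ_ne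
  have hσ1 := hne σC E.σ_mem_E4 E.σ_ne
  have hστ : f τC * f σC = f σC * f τC := by
    rw [← map_mul, ← map_mul]
    exact congrArg f (Subtype.ext (E.T_comm (E.E4_le_T E.τ_mem_E4) (E.E4_le_T E.σ_mem_E4)))
  -- the torus is the kernel
  have hZker : ∀ x : (centralizer ({r} : Set G)), (x : G) ∈ E.Zg → x ∈ f.ker := by
    intro x hx
    have hc : f x * f τC = f τC * f x := by
      rw [← map_mul, ← map_mul]
      exact congrArg f (Subtype.ext (E.T_comm (E.Zg_le_T hx) (E.E4_le_T E.τ_mem_E4)))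
    have h2 := a5_cent _ hfτ hτ1 _ hc
    have ho : Odd (orderOf (f x)) := (E.Zg_odd hx).of_dvd_nat (by
      rw [← Subgroup.orderOf_coe x |>.symm]; exact orderOf_map_dvd f x)
    exact MonoidHom.mem_ker.2 (orderOf_eq_one_iff.1 (Nat.eq_one_of_dvd_coprimes
      (Nat.coprime_two_right.2 ho) dvd_rfl (orderOf_dvd_of_pow_eq_one (by rw [pow_two]; exact h2))))
  -- the torus is central
  let K : Subgroup (centralizer ({r} : Set G)) := (centralizer (E.Zg : Set G)).comap (centralizer ({r} : Set G)).subtype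
  have hKN : K.Normal := ⟨fun k hk c => mem_centralizer_iff.2 fun z hz => by
    have hz' : ((c⁻¹ * ⟨z, hT z (E.Zg_le_T hz)⟩ * c : (centralizer ({r} : Set G))) : G) ∈ E.Zg := by
      refine hkZ _ ?_
      have h := f.normal_ker.conj_mem _ (hZker ⟨z, hT z (E.Zg_le_T hz)⟩ hz) c⁻¹
      rwa [inv_inv] at h
    have h1 := mem_centralizer_iff.1 hk _ hz'
    simp only [Subgroup.coe_mul, Subgroup.coe_inv, Subgroup.subtype_apply] at h1 ⊢
    calc z * ((c : G) * k * (c : G)⁻¹) = (c : G) * (((c : G)⁻¹ * z * c) * k) * (c : G)⁻¹ := by group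
      _ = (c : G) * ((k : G) * ((c : G)⁻¹ * z * c)) * (c : G)⁻¹ := by rw [h1]
      _ = (c : G) * k * (c : G)⁻¹ * z := by group⟩
  have hKtop : K = ⊤ := by
    have hKk : f.ker ≤ K := fun x hx => mem_centralizer_iff.2 fun z hz =>
      E.T_comm (E.Zg_le_T hz) (E.Zg_le_T (hkZ x hx))
    haveI : (K.map f).Normal := hKN.map f hf
    rcases (inferInstance : (K.map f).Normal).eq_bot_or_eq_top with h | h
    · exact absurd (mem_bot.1 (h ▸ mem_map_of_mem f (show τC ∈ K from mem_centralizer_iff.2 fun z hz =>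
        E.T_comm (E.Zg_le_T hz) (E.E4_le_T E.τ_mem_E4)))) hτ1
    · rw [← comap_map_eq_self hKk, h, comap_top]
  have hcomm : ∀ x : (centralizer ({r} : Set G)), ∀ z ∈ E.Zg, (x : G) * z = z * x := fun x z hz =>
    (mem_centralizer_iff.1 (show x ∈ K from hKtop ▸ mem_top x) z hz).symm
  have hcen : f.ker ≤ center (centralizer ({r} : Set G)) := fun x hx => mem_center_iff.2 fun g =>
    Subtype.ext (hcomm g x (hkZ x hx))
  -- the complement
  set D := commutator (centralizer ({r} : Set G))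
  have hDf : D.map f = ⊤ := by
    rw [show D = ⁅(⊤ : Subgroup (centralizer ({r} : Set G))), ⊤⁆ from rfl, map_commutator, map_top_of_surjective f hf]
    rcases (inferInstance : (commutator (alternatingGroup (Fin 5))).Normal).eq_bot_or_eq_top with h | h
    · exfalso
      obtain ⟨a, b, hab⟩ := a5_not_comm
      exact hab ((mem_centralizer_iff.1 (commutator_eq_bot_iff_le_centralizer.1 h (mem_top b)) a
        (mem_top a)))
    · exact h
  have hDi : ∀ x ∈ D, f x = 1 → x = 1 := fun x hx h =>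
    comm_inf_center f hcen hodd hx (MonoidHom.mem_ker.2 h)
  have hex : ∀ a, ∃ u ∈ D, f u = a := fun a => by
    obtain ⟨u, hu, hua⟩ := (hDf.ge (mem_top a) : a ∈ D.map f)
    exact ⟨u, hu, hua⟩
  set X := D.map (centralizer ({r} : Set G)).subtype with hX
  have hXZ : ∀ x ∈ X, ∀ z ∈ E.Zg, x * z = z * x := by
    rintro _ ⟨x, -, rfl⟩ z hz
    exact hcomm x z hz
  have e4 : E.E4 ≤ X := by
    intro e he
    obtain ⟨u, hu, hue⟩ := hex (f ⟨e, E4_le_cent hr he⟩)
    have hz : (⟨e, E4_le_cent hr he⟩ * u⁻¹ : (centralizer ({r} : Set G))) ∈ f.ker := by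
      rw [MonoidHom.mem_ker, map_mul, map_inv, hue, mul_inv_cancel]
    have hzG := hkZ _ hz
    simp only [Subgroup.coe_mul, Subgroup.coe_inv] at hzG
    set z := e * (u : G)⁻¹ with hzdef
    have hh : z ^ E.D.h = 1 := orderOf_dvd_iff_pow_eq_one.1 (E.card_Zg ▸ orderOf_dvd_natCard _ hzG)
    have hc : Commute (z⁻¹) e := (show Commute z e from E.T_comm (E.Zg_le_T hzG) (E.E4_le_T he)).inv_left
    have hu' : (u : G) = z⁻¹ * e := by rw [hzdef]; group
    have h1 : (u : G) ^ E.D.h = e := by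
      obtain ⟨j, hj⟩ := E.D.h_odd
      rw [hu', hc.mul_pow, _root_.inv_pow, hh, inv_one, one_mul, hj, pow_succ, pow_mul, pow_two,
        E.E4_sq he, one_pow, one_mul]
    exact ⟨u ^ E.D.h, pow_mem hu _, by simp [h1]⟩
  refine ⟨?_, X, ⟨?_⟩, e4, hXZ, ?_, fun x => ⟨fun hx => ?_, ?_⟩⟩
  · obtain ⟨g, hg1, hg2⟩ := a5_klein _ hfτ hτ1 _ hfσ hσ1 hστ (fun h => E.τ_ne_σ (by
      have h' : τC * σC⁻¹ ∈ f.ker := by rw [MonoidHom.mem_ker, map_mul, map_inv, h, mul_inv_cancel]
      have h'' := E.E4_inf_Zg (mul_mem E.τ_mem_E4 (inv_mem E.σ_mem_E4)) (hkZ _ h')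
      exact mul_inv_eq_one.1 h''))
    obtain ⟨c, rfl⟩ := hf g
    have hlift : ∀ e e' : (centralizer ({r} : Set G)), (e : G) ∈ E.E4 → (e' : G) ∈ E.E4 → f c * f e * (f c)⁻¹ = f e' →
        (c : G) * e * (c : G)⁻¹ = e' := by
      intro e e' he he' h
      have hz : e'⁻¹ * (c * e * c⁻¹) ∈ f.ker := by
        rw [MonoidHom.mem_ker, map_mul, map_mul, map_mul, map_inv, map_inv, h, inv_mul_cancel]
      have hzG := hkZ _ hz
      simp only [Subgroup.coe_mul, Subgroup.coe_inv] at hzG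
      set z := (e' : G)⁻¹ * ((c : G) * e * (c : G)⁻¹) with hzdef
      have hce : (c : G) * e * (c : G)⁻¹ = (e' : G) * z := by rw [hzdef]; group
      have hsq : (e' : G) * z * ((e' : G) * z) = 1 := by
        rw [← hce]
        calc (c : G) * e * (c : G)⁻¹ * ((c : G) * e * (c : G)⁻¹) = (c : G) * (e * e) * (c : G)⁻¹ := by group
          _ = 1 := by rw [E.E4_sq he]; group
      have hz2 : z * z = 1 := by
        calc z * z = ((e' : G) * e') * (z * z) := by rw [E.E4_sq he', one_mul]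
          _ = (e' : G) * ((e' : G) * z) * z := by group
          _ = (e' : G) * (z * (e' : G)) * z := by rw [E.T_comm (E.E4_le_T he') (E.Zg_le_T hzG)]
          _ = 1 := by rw [← hsq]; group
      rw [hce, E.eq_one_of_sq hzG (k := 1) (by rw [pow_one, pow_two]; exact hz2), mul_one]
    have k1 := hlift τC σC E.τ_mem_E4 E.σ_mem_E4 hg1
    have k2 := hlift σC (τC * σC) E.σ_mem_E4 (mul_mem E.τ_mem_E4 E.σ_mem_E4) (by rw [map_mul]; exact hg2)
    rcases commute_y_of_norm hy hr hr1 (mem_centralizer_singleton_iff.1 c.2)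
      (k1 ▸ E.σ_mem_E4) (k2 ▸ mul_mem E.τ_mem_E4 E.σ_mem_E4) with h | h
    · exfalso
      refine E.τ_ne_σ (Eq.trans ?_ k1)
      show E.τ = (c : G) * E.τ * (c : G)⁻¹
      rw [E.T_comm h (E.E4_le_T E.τ_mem_E4), mul_inv_cancel_right]
    · exact h.1
  · exact (D.equivMapOfInjective (centralizer ({r} : Set G)).subtype (centralizer ({r} : Set G)).subtype_injective).symm.trans
      (MulEquiv.ofBijective (f.comp D.subtype) ⟨(injective_iff_map_eq_one _).2 fun x hx =>
        Subtype.ext (hDi x x.2 hx), fun a => by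
          obtain ⟨u, hu, hua⟩ := hex a
          exact ⟨⟨u, hu⟩, hua⟩⟩)
  · refine (eq_bot_iff_forall _).2 fun x hx => ?_
    obtain ⟨⟨u, hu, rfl⟩, hxZ⟩ := mem_inf.1 hx
    rw [hDi u hu (MonoidHom.mem_ker.1 (hZker u hxZ))]
    rfl
  · obtain ⟨u, hu, hue⟩ := hex (f ⟨x, mem_centralizer_singleton_iff.2 hx⟩)
    refine ⟨u, mem_map_of_mem _ hu, _, hkZ (u⁻¹ * ⟨x, mem_centralizer_singleton_iff.2 hx⟩) ?_, ?_⟩
    · rw [MonoidHom.mem_ker, map_mul, map_inv, hue, inv_mul_cancel]
    · simp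
  · rintro ⟨_, ⟨u, -, rfl⟩, z, hz, rfl⟩
    exact mem_centralizer_singleton_iff.1 (mul_mem u.2 (hT z (E.Zg_le_T hz)))

/-- The centraliser of an element of the torus. -/
theorem cent_cases (hy : E.IsY y) (hr : r ∈ E.Zg) (hr1 : r ≠ 1) :
    (y * r ≠ r * y ∧ ∀ x : G, x * r = r * x → x ∈ E.T) ∨
      (y * r = r * y ∧ ((∀ x : G, x * r = r * x → ∃ i : ℕ, i < 3 ∧ ∃ t ∈ E.T, x = y ^ i * t) ∨
        E.IsA5Case r)) := by
  classical
  set C := centralizer ({r} : Set G) with hC
  haveI : Fact (Nat.Prime 2) := ⟨Nat.prime_two⟩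
  obtain ⟨P, hP⟩ := exists_sylow hy hr hr1
  have hPc : ∀ a ∈ P, ∀ b ∈ P, a * b = b * a := by
    intro a ha b hb
    have ha' : a ∈ E.E4.subgroupOf C := hP ▸ ha
    have hb' : b ∈ E.E4.subgroupOf C := hP ▸ hb
    exact Subtype.ext (E.T_comm (E.E4_le_T ha') (E.E4_le_T hb'))
  have hsol : ∀ t : C, orderOf t = 2 → Group.IsSolvable ↥(centralizer ({t} : Set C)) := fun t ht =>
    Group.isSolvable_of_comm fun a b => Subtype.ext (cent_invol_comm hy hr hr1 ht
      (mem_centralizer_singleton_iff.1 a.2) (mem_centralizer_singleton_iff.1 b.2))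
  rcases AbelInv.solvable_or_psl2 P ⟨⟨fun a b => Subtype.ext (hPc a a.2 b b.2)⟩⟩ hsol with hs | hN
  · haveI := hs
    obtain ⟨htop, -⟩ := AbelInv.solv_abelian_core P hPc
    have hO : Cfsg.pPrimeCore 2 C ≤ normalizer ((P : Subgroup C) : Set C) := fun x hx =>
      centralizer_le_normalizer _ (mem_centralizer_iff.2 fun a ha => by
        have ha' : a ∈ E.E4.subgroupOf C := hP ▸ ha
        exact Subtype.ext (E.T_comm (E.E4_le_T ha') (E.Zg_le_T (oddCore_le hy hr hr1 hx))))
    rw [sup_eq_left.2 hO] at htop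
    have hnorm : ∀ x : G, x * r = r * x → x ∈ E.T ∨
        (y * r = r * y ∧ ∃ i : ℕ, i < 3 ∧ ∃ t ∈ E.T, x = y ^ i * t) := by
      intro x hx
      have h : ∀ e (he : e ∈ E.E4), x * e * x⁻¹ ∈ E.E4 := fun e he => by
        have h1 := (mem_normalizer_iff.1 (htop ▸ mem_top (⟨x, mem_centralizer_singleton_iff.2 hx⟩ : C)))
          ⟨e, E4_le_cent hr he⟩
        rw [hP] at h1
        exact h1.1 he
      exact commute_y_of_norm hy hr hr1 hx (h _ E.τ_mem_E4) (h _ E.σ_mem_E4)
    by_cases hyr : y * r = r * y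
    · exact Or.inr ⟨hyr, Or.inl fun x hx => (hnorm x hx).elim
        (fun h => ⟨0, by norm_num, x, h, by rw [pow_zero, one_mul]⟩) And.right⟩
    · exact Or.inl ⟨hyr, fun x hx => (hnorm x hx).resolve_right fun h => hyr h.1⟩
  · obtain ⟨F, i1, i2, hF, N, hNn, ⟨e⟩, hNc⟩ := hN
    haveI : (Cfsg.oddCore C).Normal := FittingCores.pPrimeCore_normal (G := C) 2
    set π := QuotientGroup.mk' (Cfsg.oddCore C) with hπ
    have hker : Odd (Nat.card π.ker) := by rw [hπ, QuotientGroup.ker_mk']; exact SEBrick.oddCore_odd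
    have h8C : ¬ 8 ∣ Nat.card C := by
      intro h8
      have hP4 : Nat.card (P : Subgroup C) = 2 ^ 2 := by
        rw [hP, Nat.card_congr (subgroupOfEquivOfLe (E4_le_cent hr)).toEquiv, E.card_E4]; norm_num
      have h := P.pow_dvd_card_of_pow_dvd_card (n := 3) h8
      rw [hP4] at h
      norm_num at h
    have h8N : ¬ 8 ∣ Nat.card N := fun h => h8C (h.trans ((card_subgroup_dvd_card N).trans
      (card_quotient_dvd_card _)))
    have hcardF := ProjLine.two_mul_card_psl (F := F)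
    rw [Nat.card_eq_fintype_card (α := F), ← Nat.card_congr e.toEquiv] at hcardF
    have hA5 : Nonempty (Matrix.ProjectiveSpecialLinearGroup (Fin 2) F ≃* alternatingGroup (Fin 5)) := by
      rcases hF with ⟨h8, h5⟩ | ⟨n, hn, hq⟩
      · by_cases h11 : 11 ≤ Fintype.card F
        · exfalso
          obtain ⟨s, a, b, hs2, hs1, ha, hb, hab⟩ := psl2_cent_not_comm h8 h11
          have hes : orderOf ((e.symm s : N) : C ⧸ Cfsg.oddCore C) = 2 := by
            rw [Subgroup.orderOf_coe, MulEquiv.orderOf_eq]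
            exact orderOf_eq_prime (by rw [pow_two]; exact hs2) hs1
          obtain ⟨t, ht, hts⟩ := AbelCent.exists_invol_lift π hker (QuotientGroup.mk'_surjective _) hes
          have hX : IsPGroup 2 (zpowers t) := IsPGroup.of_card (n := 1) (by
            rw [Nat.card_zpowers, ht, pow_one])
          have hc := CoprimeQuotient.centralizer_map (p := 2) π (QuotientGroup.mk'_surjective _)
            (Nat.coprime_two_right.2 hker) hX
          rw [MonoidHom.map_zpowers, hts, Signalizer.SFT.centralizer_zpowers_eq,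
            Signalizer.SFT.centralizer_zpowers_eq] at hc
          have hmem : ∀ w, w * s = s * w →
              ∃ w' : C, w' * t = t * w' ∧ π w' = ((e.symm w : N) : C ⧸ Cfsg.oddCore C) := by
            intro w hw
            obtain ⟨w', hw', hww⟩ := (hc.le (mem_centralizer_singleton_iff.2 (by
              rw [← Subgroup.coe_mul, ← Subgroup.coe_mul, ← map_mul, ← map_mul, hw]))
                : ((e.symm w : N) : C ⧸ Cfsg.oddCore C) ∈ (centralizer ({t} : Set C)).map π)
            exact ⟨w', mem_centralizer_singleton_iff.1 hw', hww⟩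
          obtain ⟨a', ha', haa⟩ := hmem a ha
          obtain ⟨b', hb', hbb⟩ := hmem b hb
          refine hab (e.symm.injective (Subtype.ext ?_))
          rw [map_mul, map_mul, Subgroup.coe_mul, Subgroup.coe_mul, ← haa, ← hbb, ← map_mul, ← map_mul,
            cent_invol_comm hy hr hr1 ht ha' hb']
        · exact S0253.result (show Fintype.card F = 5 by omega)
      · refine S0252.result ?_
        by_contra hne
        have hn3 : 3 ≤ n := by
          rcases Nat.lt_or_ge n 3 with h | h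
          · exfalso
            interval_cases n
            exact hne (by rw [hq]; norm_num)
          · exact h
        refine h8N ?_
        obtain ⟨m, rfl⟩ : ∃ m, n = m + 3 := ⟨n - 3, by omega⟩
        rw [hq] at hcardF
        have hg : Nat.gcd 2 (2 ^ (m + 3) - 1) = 1 := by
          refine Nat.coprime_two_left.2 ?_
          rw [Nat.odd_iff]
          have : 2 ∣ 2 ^ (m + 3) := dvd_pow_self 2 (by omega)
          have : 1 ≤ 2 ^ (m + 3) := Nat.one_le_two_pow
          omega
        rw [hg, one_mul] at hcardF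
        have hpos : 0 < 2 ^ (m + 3) - 1 := by
          have : 2 ^ 3 ≤ 2 ^ (m + 3) := Nat.pow_le_pow_right (by norm_num) (by omega)
          omega
        refine ⟨2 ^ m * (2 ^ (m + 3) - 1) * (2 ^ (m + 3) + 1), Nat.eq_of_mul_eq_mul_right hpos ?_⟩
        rw [hcardF, show 2 ^ (m + 3) = 8 * 2 ^ m by rw [pow_add]; ring]
        ring
    obtain ⟨i⟩ := hA5
    let eA : N ≃* alternatingGroup (Fin 5) := e.trans i
    -- the quotient is the subgroup
    let φ : C ⧸ Cfsg.oddCore C →* MulAut N := MulAut.conjNormal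
    have hφ : Function.Injective φ := (injective_iff_map_eq_one _).2 fun x hx => by
      refine mem_bot.1 (hNc ▸ mem_centralizer_iff.2 fun w hw => ?_)
      have h := congrArg (fun a : MulAut N => ((a ⟨w, hw⟩ : N) : C ⧸ Cfsg.oddCore C)) hx
      simp only [φ, MulAut.conjNormal_apply, MulAut.one_apply] at h
      exact (mul_inv_eq_iff_eq_mul.1 h).symm
    have h120 : Nat.card (MulAut N) = 120 := by
      rw [Nat.card_congr (MulAut.congr eA).toEquiv, ← Nat.card_congr (Equiv.ofBijective _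
        (AutAlt.bijective_conjNormal (n := 5) (by norm_num) (by norm_num))), Nat.card_perm,
        Nat.card_fin]
      rfl
    have h60 : Nat.card N = 60 := by rw [Nat.card_congr eA.toEquiv, card_a5]
    have hQdvd : Nat.card (C ⧸ Cfsg.oddCore C) ∣ 120 := h120 ▸ card_dvd_of_injective φ hφ
    have hdvd60 : 60 ∣ Nat.card (C ⧸ Cfsg.oddCore C) := h60 ▸ card_subgroup_dvd_card N
    have hQ : Nat.card (C ⧸ Cfsg.oddCore C) = 60 := by
      obtain ⟨j, hj⟩ := hdvd60
      have h8Q : ¬ 8 ∣ Nat.card (C ⧸ Cfsg.oddCore C) := fun h =>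
        h8C (h.trans (card_quotient_dvd_card _))
      have hle := Nat.le_of_dvd (by norm_num) hQdvd
      have hpos : 0 < Nat.card (C ⧸ Cfsg.oddCore C) := Nat.card_pos
      have : j ≤ 2 := by omega
      interval_cases j <;> omega
    let eQ : C ⧸ Cfsg.oddCore C ≃* N :=
      topEquiv.symm.trans (MulEquiv.subgroupCongr (eq_top_of_card_eq N (h60.trans hQ.symm)).symm)
    refine Or.inr ?_
    obtain ⟨h1, h2⟩ := a5_case hy hr hr1 ((eQ.trans eA).toMonoidHom.comp π)
      ((eQ.trans eA).surjective.comp (QuotientGroup.mk'_surjective _)) (by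
        ext x
        rw [MonoidHom.mem_ker, MonoidHom.comp_apply, MulEquiv.coe_toMonoidHom,
          MulEquiv.map_eq_one_iff, hπ, QuotientGroup.mk'_apply, QuotientGroup.eq_one_iff])
    exact ⟨h1, Or.inr h2⟩

end Setup

end Cfsg.Agent.JanThom
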