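import Cfsg.Agent.Lib.JanThom.Cols2
import Cfsg.Agent.Lib.JanThom.CentR

/-!
The torus `T ≅ C2² × Zh` in coordinates, the six conjugations of its normaliser, and the
control of fusion of its regular elements when no torus element commutes with `y`.
-/

set_option autoImplicit false
set_option linter.unusedSectionVars false
set_option linter.style.haveILetI false

namespace Cfsg.Agent.JanThom

open Subgroup
open scoped Classical

universe u v

/-- The four-group. -/
abbrev V4 : Type := C2 × C2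

/-- The rotation of the three involutions of the four-group. -/
def rot (a : V4) : V4 := (a.2, a.1 * a.2)

theorem rot_one : rot 1 = 1 := by decide

theorem V4_cases : ∀ a : V4, a = 1 ∨ a = (c2, 1) ∨ a = (1, c2) ∨ a = (c2, c2) := by decide

theorem V4_sq : ∀ a : V4, a * a = 1 := by decide

theorem rot_three : ∀ a : V4, rot (rot (rot a)) = a := by decide

namespace Setup

variable {G : Type u} [Group G] {L : Type v} [Group L] {Q : ℤ} (E : Setup G L Q)

/-- The coordinates of the torus. -/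
abbrev TT : Type v := V4 × E.D.Zh

/-- The embedding of `C2` as `⟨s⟩`. -/
def sH : C2 →* L where
  toFun b := if b = c2 then E.D.s else 1
  map_one' := if_neg c2_ne.symm
  map_mul' a b := by
    rcases C2_cases a with rfl | rfl <;> rcases C2_cases b with rfl | rfl <;>
      simp [c2_ne.symm, c2_sq, E.D.s_sq]

theorem sH_one : E.sH 1 = 1 := map_one _

theorem sH_c2 : E.sH c2 = E.D.s :=
  show (if c2 = c2 then E.D.s else 1) = E.D.s from if_pos rfl

theorem sH_comm (b : C2) (z : E.D.Zh) : Commute (E.sH b) (z : L) := by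
  rcases C2_cases b with rfl | rfl
  · rw [sH_one]; exact Commute.one_left _
  · rw [sH_c2]; exact (E.D.Zh_s z.2).symm

/-- The coordinate map of the torus. -/
def jT : E.TT →* G where
  toFun h := E.ι (h.1.1, E.sH h.1.2 * (h.2 : L))
  map_one' := by
    simp only [Prod.fst_one, Prod.snd_one, Subgroup.coe_one, mul_one, Prod.mk_one_one,
      map_one]
  map_mul' a b := by
    rw [← map_mul, Prod.mk_mul_mk]
    refine congrArg E.ι (Prod.ext rfl ?_)
    show E.sH (a.1.2 * b.1.2) * ((a.2 : L) * b.2) = E.sH a.1.2 * (a.2 : L) * (E.sH b.1.2 * b.2)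
    rw [map_mul]
    simp only [mul_assoc]
    rw [← mul_assoc (a.2 : L), ← (E.sH_comm b.1.2 a.2).eq, mul_assoc]

theorem jT_apply (a : V4) (z : E.D.Zh) : E.jT (a, z) = E.ι (a.1, E.sH a.2 * (z : L)) := rfl

theorem jT_inj : Function.Injective E.jT := by
  rintro ⟨⟨a, b⟩, z⟩ ⟨⟨a', b'⟩, z'⟩ h
  rw [jT_apply, jT_apply] at h
  have h1 : a = a' := congrArg Prod.fst (E.inj h)
  have h2 : E.sH b * (z : L) = E.sH b' * (z' : L) := congrArg Prod.snd (E.inj h)
  have hs : E.D.s ∉ E.D.Zh := fun hm => E.D.s_ne (by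
    haveI : Finite E.D.Zh :=
      Nat.finite_of_card_ne_zero (by rw [E.D.card_Zh]; exact (E.D.h_three'.trans_lt' (by norm_num)).ne')
    have hd : orderOf E.D.s ∣ E.D.h := E.D.card_Zh ▸ Subgroup.orderOf_dvd_natCard _ hm
    have h2' : orderOf E.D.s ∣ 2 := orderOf_dvd_of_pow_eq_one (by rw [pow_two]; exact E.D.s_sq)
    exact orderOf_eq_one_iff.1 (Nat.eq_one_of_dvd_coprimes
      (Nat.coprime_two_left.2 E.D.h_odd') h2' hd))
  subst h1
  rcases C2_cases b with rfl | rfl <;> rcases C2_cases b' with rfl | rfl <;>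
    simp only [sH_one, sH_c2, one_mul] at h2
  · rw [Subtype.ext h2]
  · exact absurd (eq_mul_inv_of_mul_eq h2.symm ▸ mul_mem z.2 (inv_mem z'.2)) hs
  · exact absurd (eq_mul_inv_of_mul_eq h2 ▸ mul_mem z'.2 (inv_mem z.2)) hs
  · rw [Subtype.ext (mul_left_cancel h2)]

theorem jT_Zg (z : E.D.Zh) : E.jT (1, z) = E.ι (1, (z : L)) := by
  rw [jT_apply, Prod.fst_one, Prod.snd_one, sH_one, one_mul]

theorem jT_tau : E.jT ((c2, 1), 1) = E.τ := by
  rw [jT_apply, sH_one, Subgroup.coe_one, mul_one]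

theorem jT_sigma : E.jT ((1, c2), 1) = E.σ := by
  rw [jT_apply, sH_c2, Subgroup.coe_one, mul_one]

theorem jT_tau_sigma : E.jT ((c2, c2), 1) = E.τ * E.σ := by
  rw [← jT_tau, ← jT_sigma, ← map_mul, Prod.mk_mul_mk, Prod.mk_mul_mk, mul_one, mul_one, one_mul]

theorem jT_mul (a : V4) (z : E.D.Zh) : E.jT (a, z) = E.jT (a, 1) * E.jT (1, z) := by
  rw [← map_mul, Prod.mk_mul_mk, mul_one, one_mul]

theorem jT_mem (x : E.TT) : E.jT x ∈ E.T := by
  refine E.mem_T.2 ⟨x.1.1, _, mul_mem ?_ (mem_sup_left x.2.2), rfl⟩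
  rcases C2_cases x.1.2 with e | e <;> rw [e]
  · rw [sH_one]; exact one_mem _
  · rw [sH_c2]; exact mem_sup_right (mem_zpowers _)

theorem exists_jT {g : G} (hg : g ∈ E.T) : ∃ x, E.jT x = g := by
  obtain ⟨a, l, hl, rfl⟩ := E.mem_T.1 hg
  obtain ⟨z, hz, x, hx, rfl⟩ := E.D.mem_sup_s hl
  rcases hx with rfl | rfl
  · exact ⟨((a, 1), ⟨z, hz⟩), by rw [jT_apply, sH_one, one_mul, mul_one]⟩
  · refine ⟨((a, c2), ⟨z, hz⟩), ?_⟩
    rw [jT_apply, sH_c2]
    exact congrArg (fun w => E.ι (a, w)) (E.D.Zh_s hz).symm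

/-- The symmetries of the torus: `y` of order three, `u` inverting it, and no fusion by `y`. -/
structure TorusSym where
  y : G
  u : G
  isY : E.IsY y
  u_sq : u * u = 1
  u_tau : u * E.τ = E.τ * u
  u_sig : u * E.σ = E.σ * u
  u_inv : ∀ z ∈ E.Zg, u * z * u⁻¹ = z⁻¹
  free : ∀ z ∈ E.Zg, y * z = z * y → z = 1

namespace TorusSym

variable {E} (S : E.TorusSym) [Finite G]

theorem exists_alf (z : E.D.Zh) :
    ∃ z' : E.D.Zh, E.ι (1, (z' : L)) = S.y * E.ι (1, (z : L)) * S.y⁻¹ := by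
  obtain ⟨w, hw, he⟩ := E.mem_Zg.1 (S.isY.Zg_conj (E.ι_mem_Zg z.2))
  exact ⟨⟨w, hw⟩, he⟩

/-- The action of `y` on the torus, as a function. -/
noncomputable def alfFun (z : E.D.Zh) : E.D.Zh := Classical.choose (S.exists_alf z)

theorem alfFun_spec (z : E.D.Zh) :
    E.ι (1, (S.alfFun z : L)) = S.y * E.ι (1, (z : L)) * S.y⁻¹ :=
  Classical.choose_spec (S.exists_alf z)

/-- The action of `y` on the torus. -/
noncomputable def alf : E.D.Zh →* E.D.Zh :=
  MonoidHom.mk' S.alfFun fun a b => by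
    have key : ∀ p q : E.D.Zh,
        E.ι (1, ((p * q : E.D.Zh) : L)) = E.ι (1, (p : L)) * E.ι (1, (q : L)) := fun p q => by
      rw [← map_mul, Prod.mk_mul_mk, one_mul, Subgroup.coe_mul]
    have h : E.ι (1, (S.alfFun (a * b) : L)) =
        E.ι (1, ((S.alfFun a * S.alfFun b : E.D.Zh) : L)) := by
      rw [key, alfFun_spec, alfFun_spec, alfFun_spec, key]
      group
    exact Subtype.ext (congrArg Prod.snd (E.inj h))

theorem alf_spec (z : E.D.Zh) : S.y * E.jT (1, z) * S.y⁻¹ = E.jT (1, S.alf z) := by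
  rw [E.jT_Zg, E.jT_Zg]
  exact (S.alfFun_spec z).symm

theorem y_conj (a : V4) (z : E.D.Zh) :
    S.y * E.jT (a, z) * S.y⁻¹ = E.jT (rot a, S.alf z) := by
  rw [E.jT_mul, E.jT_mul (rot a), ← S.alf_spec]
  have key : S.y * E.jT (a, 1) * S.y⁻¹ = E.jT (rot a, 1) := by
    rcases V4_cases a with rfl | rfl | rfl | rfl
    · rw [rot_one, Prod.mk_one_one, map_one, mul_one, mul_inv_cancel]
    · rw [E.jT_tau, S.isY.tau, ← E.jT_sigma]
      exact congrArg (fun b => E.jT (b, 1)) (by decide)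
    · rw [E.jT_sigma, S.isY.sig, ← E.jT_tau_sigma]
      exact congrArg (fun b => E.jT (b, 1)) (by decide)
    · rw [E.jT_tau_sigma, S.isY.third, ← E.jT_tau]
      exact congrArg (fun b => E.jT (b, 1)) (by decide)
  rw [← key]
  group

theorem u_conj (a : V4) (z : E.D.Zh) :
    S.u * E.jT (a, z) * S.u⁻¹ = E.jT (a, z⁻¹) := by
  rw [E.jT_mul, E.jT_mul a z⁻¹]
  have h1 : S.u * E.jT (a, 1) = E.jT (a, 1) * S.u := by
    rcases V4_cases a with rfl | rfl | rfl | rfl
    · rw [Prod.mk_one_one, map_one, mul_one, one_mul]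
    · rw [E.jT_tau]; exact S.u_tau
    · rw [E.jT_sigma]; exact S.u_sig
    · rw [E.jT_tau_sigma, ← mul_assoc, S.u_tau, mul_assoc, S.u_sig, mul_assoc]
  have h2 : S.u * E.jT (1, z) * S.u⁻¹ = E.jT (1, z⁻¹) := by
    rw [E.jT_Zg, S.u_inv _ (E.ι_mem_Zg z.2), ← map_inv, E.jT_Zg, Prod.inv_mk, inv_one,
      Subgroup.coe_inv]
  rw [← h2, show S.u * (E.jT (a, 1) * E.jT (1, z)) = (S.u * E.jT (a, 1)) * E.jT (1, z) by
    rw [mul_assoc], h1]
  group

theorem alf_three (z : E.D.Zh) : S.alf (S.alf (S.alf z)) = z := by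
  have h : E.jT (rot (rot (rot 1)), S.alf (S.alf (S.alf z))) = E.jT (1, z) := by
    rw [← S.y_conj, ← S.y_conj, ← S.y_conj]
    calc S.y * (S.y * (S.y * E.jT (1, z) * S.y⁻¹) * S.y⁻¹) * S.y⁻¹
        = (S.y * S.y * S.y) * E.jT (1, z) * (S.y * S.y * S.y)⁻¹ := by group
      _ = E.jT (1, z) := by
        rw [← pow_two, ← pow_succ, S.isY.cube]; group
  exact congrArg Prod.snd (E.jT_inj h)

theorem alf_free {z : E.D.Zh} (h : S.alf z = z ∨ S.alf z = z⁻¹) : z = 1 := by
  have hfix : S.alf z = z := by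
    rcases h with h | h
    · exact h
    have h3 := S.alf_three z
    rw [h, map_inv, h, inv_inv, h] at h3
    by_cases hz : z = 1
    · subst hz
      exact map_one _
    · exfalso
      exact LData.ne_inv_of_odd E.D.odd_Zh z.2 (fun e' => hz (Subtype.ext e'))
        (congrArg Subtype.val h3).symm
  have hc : S.y * E.jT (1, z) = E.jT (1, z) * S.y := by
    have h' := S.alf_spec z
    rw [hfix] at h'
    exact mul_inv_eq_iff_eq_mul.1 h'
  rw [E.jT_Zg] at hc
  exact Subtype.ext (congrArg Prod.snd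
    (E.inj ((S.free _ (E.ι_mem_Zg z.2) hc).trans (map_one E.ι).symm)))

theorem alf_inj : Function.Injective S.alf :=
  Function.LeftInverse.injective (g := fun z => S.alf (S.alf z)) S.alf_three

include S in
theorem h_mod : E.D.h % 6 = 1 := by
  haveI := E.finite_L
  haveI : Fintype E.D.Zh := Fintype.ofFinite _
  haveI : Fact (Nat.Prime 3) := ⟨Nat.prime_three⟩
  let f : Equiv.Perm E.D.Zh :=
    ⟨S.alf, fun z => S.alf (S.alf z), S.alf_three, S.alf_three⟩
  have hf : f ^ 3 ^ 1 = 1 := Equiv.ext fun z => S.alf_three z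
  have hm := Equiv.Perm.card_compl_support_modEq (p := 3) (n := 1) hf
  have hc : f.supportᶜ = {1} := by
    ext z
    simp only [Finset.mem_compl, Equiv.Perm.mem_support, not_not, Finset.mem_singleton]
    exact ⟨fun e => S.alf_free (Or.inl e), fun e => by subst e; exact map_one S.alf⟩
  rw [hc, Finset.card_singleton, ← Nat.card_eq_fintype_card, E.D.card_Zh] at hm
  have h2 := E.D.h_odd'
  rw [Nat.odd_iff] at h2
  unfold Nat.ModEq at hm
  omega

/-- The powers of `alf`. -/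
noncomputable def act : Fin 3 → E.D.Zh →* E.D.Zh :=
  ![MonoidHom.id _, S.alf, S.alf.comp S.alf]

/-- The sign of a symmetry. -/
def sgn (_S : E.TorusSym) (j : Bool) (z : E.D.Zh) : E.D.Zh := if j then z⁻¹ else z

/-- The six symmetries of the torus. -/
noncomputable def thet (w : Fin 3 × Bool) (x : E.TT) : E.TT :=
  (rot^[(w.1 : ℕ)] x.1, S.act w.1 (S.sgn w.2 x.2))

/-- Their representatives. -/
noncomputable def rep (w : Fin 3 × Bool) : G := S.y ^ (w.1 : ℕ) * if w.2 then S.u else 1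

theorem rep_conj (w : Fin 3 × Bool) (x : E.TT) :
    S.rep w * E.jT x * (S.rep w)⁻¹ = E.jT (S.thet w x) := by
  obtain ⟨a, z⟩ := x
  have h : ∀ i : Fin 3, ∀ a z,
      S.y ^ (i : ℕ) * E.jT (a, z) * (S.y ^ (i : ℕ))⁻¹ = E.jT (rot^[(i : ℕ)] a, S.act i z) := by
    intro i a z
    fin_cases i
    · show S.y ^ 0 * E.jT (a, z) * (S.y ^ 0)⁻¹ = E.jT (a, z)
      group
    · show S.y ^ 1 * E.jT (a, z) * (S.y ^ 1)⁻¹ = E.jT (rot a, S.alf z)
      rw [pow_one]
      exact S.y_conj a z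
    · show S.y ^ 2 * E.jT (a, z) * (S.y ^ 2)⁻¹ = E.jT (rot (rot a), S.alf (S.alf z))
      rw [← S.y_conj, ← S.y_conj, pow_two]
      group
  obtain ⟨i, j⟩ := w
  unfold rep thet sgn
  cases j
  · simp only [Bool.false_eq_true, if_false, mul_one]
    exact h i a z
  · simp only [if_true]
    rw [← h, ← S.u_conj]
    group

theorem act_free {i k : Fin 3} {z : E.D.Zh} (hz : z ≠ 1)
    (h : S.act i z = S.act k z ∨ S.act i z = (S.act k z)⁻¹) : i = k := by
  have e1 := S.alf_three z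
  have f1 : ∀ {w : E.D.Zh}, w ≠ 1 → S.alf w ≠ w ∧ S.alf w ≠ w⁻¹ := fun hw =>
    ⟨fun e => hw (S.alf_free (Or.inl e)), fun e => hw (S.alf_free (Or.inr e))⟩
  have hz1 : S.alf z ≠ 1 := fun e => hz (S.alf_inj (e.trans (map_one _).symm))
  have hz2 : S.alf (S.alf z) ≠ 1 := fun e => hz1 (S.alf_inj (e.trans (map_one _).symm))
  obtain ⟨a0, b0⟩ := f1 hz
  obtain ⟨a1, b1⟩ := f1 hz1
  obtain ⟨a2, b2⟩ := f1 hz2
  rw [e1] at a2 b2
  fin_cases i <;> fin_cases k <;>
    simp [act] at h ⊢ <;>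
    rcases h with h | h <;>
    first
      | exact a0 h | exact a1 h | exact a2 h | exact b0 h | exact b1 h | exact b2 h
      | exact a0 h.symm | exact a1 h.symm | exact a2 h.symm
      | exact b0 (inv_eq_iff_eq_inv.1 h.symm) | exact b1 (inv_eq_iff_eq_inv.1 h.symm)
      | exact b2 (inv_eq_iff_eq_inv.1 h.symm)

theorem act_inj (i : Fin 3) : Function.Injective (S.act i) := by
  fin_cases i
  exacts [fun _ _ h => h, S.alf_inj, S.alf_inj.comp S.alf_inj]

theorem thet_free {w w' : Fin 3 × Bool} {x : E.TT} (hx : x.2 ≠ 1)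
    (h : S.thet w x = S.thet w' x) : w = w' := by
  obtain ⟨i, j⟩ := w
  obtain ⟨k, l⟩ := w'
  have h2 : S.act i (S.sgn j x.2) = S.act k (S.sgn l x.2) := congrArg Prod.snd h
  have hne : x.2⁻¹ ≠ x.2 := fun e => LData.ne_inv_of_odd E.D.odd_Zh x.2.2
    (fun e' => hx (Subtype.ext e')) (congrArg Subtype.val e).symm
  have hik : i = k := by
    refine S.act_free hx ?_
    cases j <;> cases l <;> simp [sgn] at h2
    · exact Or.inl h2
    · exact Or.inr h2
    · exact Or.inr (inv_eq_iff_eq_inv.1 h2)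
    · exact Or.inl h2
  subst hik
  have h3 := S.act_inj i h2
  cases j <;> cases l <;> simp [sgn] at h3 ⊢
  · exact hne h3.symm
  · exact hne h3

include S in
theorem cent_Zg {z : G} (hz : z ∈ E.Zg) (hz1 : z ≠ 1) {x : G} (hx : x * z = z * x) :
    x ∈ E.T := by
  rcases cent_cases S.isY hz hz1 with h | h
  · exact h.2 x hx
  · exact absurd (S.free z hz h.1) hz1

theorem half_pow (x : E.TT) : x ^ (E.D.h + 1) = (1, x.2) := by
  obtain ⟨j, hj⟩ := E.D.h_odd'
  refine Prod.ext ?_ ?_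
  · rw [Prod.pow_fst, hj, show 2 * j + 1 + 1 = 2 * (j + 1) by ring, pow_mul, pow_two, V4_sq,
      one_pow]
  · rw [Prod.pow_snd, pow_succ]
    have : x.2 ^ E.D.h = 1 := E.D.card_Zh ▸ pow_card_eq_one'
    rw [this, one_mul]

/-- Fusion of regular torus elements is controlled by the six symmetries. -/
theorem fusion {x x' : E.TT} (hx : x.2 ≠ 1) (hx' : x'.2 ≠ 1) {c : G}
    (hc : c * E.jT x * c⁻¹ = E.jT x') :
    ∃ w : Fin 3 × Bool, ∃ t : E.TT, c = S.rep w * E.jT t ∧ S.thet w x = x' := by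
  have hz : c * E.jT (1, x.2) * c⁻¹ = E.jT (1, x'.2) := by
    rw [← half_pow x, ← half_pow x', map_pow, map_pow, ← hc, conj_pow]
  have hmem : ∀ {w : E.D.Zh}, w ≠ 1 → E.jT (1, w) ∈ E.Zg ∧ E.jT (1, w) ≠ 1 := fun {w} hw => by
    refine ⟨?_, fun e => hw (congrArg Prod.snd (E.jT_inj (e.trans (map_one E.jT).symm)))⟩
    rw [E.jT_Zg]
    exact E.ι_mem_Zg w.2
  have he : ∀ e ∈ E.E4, c * e * c⁻¹ ∈ E.E4 := by
    intro e he
    have hcomm : c * e * c⁻¹ * E.jT (1, x'.2) = E.jT (1, x'.2) * (c * e * c⁻¹) := by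
      rw [← hz]
      calc c * e * c⁻¹ * (c * E.jT (1, x.2) * c⁻¹) = c * (e * E.jT (1, x.2)) * c⁻¹ := by group
        _ = c * (E.jT (1, x.2) * e) * c⁻¹ := by rw [E.T_comm (E.E4_le_T he) (E.jT_mem _)]
        _ = _ := by group
    refine E.two_mem_T (S.cent_Zg (hmem hx').1 (hmem hx').2 hcomm) (k := 1) ?_
    rw [pow_one, conj_pow, pow_two, E.E4_sq he]
    group
  obtain ⟨i, d, hi, hdτ, hdσ, rfl⟩ := S.isY.norm_E4 (he _ E.τ_mem_E4) (he _ E.σ_mem_E4)
  obtain ⟨j, t, hd⟩ : ∃ j : Bool, ∃ t, d = (if j then S.u else 1) * E.jT t := by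
    rcases E.cent_E4 hdτ hdσ with h | h
    · obtain ⟨t, rfl⟩ := E.exists_jT h
      exact ⟨false, t, by simp⟩
    · have hu : S.u * d * E.jT (1, x.2) = E.jT (1, x.2) * (S.u * d) := by
        have h1 := h _ (hmem hx).1
        have h2 := S.u_inv _ (inv_mem (hmem hx).1)
        rw [inv_inv, ← h1] at h2
        exact mul_inv_eq_iff_eq_mul.1 (by
          rw [mul_inv_rev, show S.u * d * E.jT (1, x.2) * (d⁻¹ * S.u⁻¹) =
            S.u * (d * E.jT (1, x.2) * d⁻¹) * S.u⁻¹ by group, h1, S.u_inv _ (inv_mem (hmem hx).1),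
            inv_inv])
      obtain ⟨t, ht⟩ := E.exists_jT (S.cent_Zg (hmem hx).1 (hmem hx).2 hu)
      exact ⟨true, t, by simp only [if_true]; rw [ht, ← mul_assoc, S.u_sq, one_mul]⟩
  have hrep : S.y ^ i * d = S.rep (⟨i, hi⟩, j) * E.jT t := by
    rw [hd, rep, mul_assoc]
  refine ⟨(⟨i, hi⟩, j), t, hrep, E.jT_inj ?_⟩
  rw [← S.rep_conj, ← hc, hrep]
  have hcom := E.T_comm (E.jT_mem t) (E.jT_mem x)
  calc S.rep (⟨i, hi⟩, j) * E.jT x * (S.rep (⟨i, hi⟩, j))⁻¹
      = S.rep (⟨i, hi⟩, j) * (E.jT x * E.jT t) * (E.jT t)⁻¹ * (S.rep (⟨i, hi⟩, j))⁻¹ := by group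
    _ = _ := by rw [← hcom]; group

variable [Fintype G] [Fintype E.D.Zh]

theorem card_TT : Fintype.card E.TT = 4 * E.D.h := by
  rw [Fintype.card_prod, ← Nat.card_eq_fintype_card (α := E.D.Zh), E.D.card_Zh]
  rfl

/-- The number of elements carrying one regular element to another. -/
theorem fibre {x x' : E.TT} (hx : x.2 ≠ 1) (hx' : x'.2 ≠ 1) :
    (Finset.univ.filter fun c : G => c * E.jT x * c⁻¹ = E.jT x').card =
      4 * E.D.h * (Finset.univ.filter fun w => S.thet w x = x').card := by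
  rw [← card_TT (E := E), ← Finset.card_univ, mul_comm, ← Finset.card_product]
  symm
  refine Finset.card_bij (fun p _ => S.rep p.1 * E.jT p.2) ?_ ?_ ?_
  · rintro ⟨w, t⟩ hp
    simp only [Finset.mem_product, Finset.mem_filter, Finset.mem_univ, true_and, and_true] at hp ⊢
    rw [← hp, ← S.rep_conj]
    calc S.rep w * E.jT t * E.jT x * (S.rep w * E.jT t)⁻¹
        = S.rep w * (E.jT t * E.jT x) * (E.jT t)⁻¹ * (S.rep w)⁻¹ := by group
      _ = _ := by rw [E.T_comm (E.jT_mem t) (E.jT_mem x)]; group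
  · rintro ⟨w, t⟩ hp ⟨w', t'⟩ hp' he
    simp only [Finset.mem_product, Finset.mem_filter, Finset.mem_univ, true_and, and_true] at hp hp' he
    obtain rfl := S.thet_free hx (hp.trans hp'.symm)
    rw [E.jT_inj (mul_left_cancel he)]
  · intro c hc
    obtain ⟨w, t, rfl, hw⟩ := S.fusion hx hx' (Finset.mem_filter.1 hc).2
    exact ⟨(w, t), by simp [hw], rfl⟩

end TorusSym

end Setup

end Cfsg.Agent.JanThom
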