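import Cfsg.Agent.Lib.JanThom.TFam
import Cfsg.Agent.Lib.JanThom.TorusSym
import Cfsg.Agent.Lib.Char.OddIndexReal

/-!
The virtual characters induced from `μ ⊗ (1 - λ)` on the torus `T`: their multiplicities `a0`
(`μ` trivial) and `a1` (`μ` trivial on `τ` only), inner products, and their relations with the
columns of the `τ`-section.
-/

set_option autoImplicit false
set_option linter.unusedSectionVars false
set_option linter.style.haveILetI false

namespace Cfsg.Agent.JanThom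

open Cfsg Cfsg.Agent.Char Cfsg.Agent.OddIndexReal
open scoped ComplexConjugate Classical

universe u v

theorem sum_V4 {M : Type*} [AddCommMonoid M] (f : V4 → M) :
    ∑ a, f a = f 1 + f (c2, 1) + f (1, c2) + f (c2, c2) := by
  have h : (Finset.univ : Finset C2) = {1, c2} := by
    ext a; simpa using C2_cases a
  rw [Fintype.sum_prod_type, h, Finset.sum_pair c2_ne.symm, Finset.sum_pair c2_ne.symm,
    Finset.sum_pair c2_ne.symm, Prod.mk_one_one]
  abel

/-- The non-trivial linear character of `C2`. -/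
noncomputable def sgC2 : C2 →* ℂˣ where
  toFun a := if a = c2 then -1 else 1
  map_one' := by rw [if_neg c2_ne.symm]
  map_mul' a b := by
    rcases C2_cases a with rfl | rfl <;> rcases C2_cases b with rfl | rfl <;>
      simp [c2_ne.symm, c2_sq]

/-- The character of the four-group trivial on `τ` only. -/
noncomputable def mu1 : V4 →* ℂˣ := sgC2.comp (MonoidHom.snd C2 C2)

theorem mu1_vals : (mu1 1 : ℂ) = 1 ∧ (mu1 (c2, 1) : ℂ) = 1 ∧ (mu1 (1, c2) : ℂ) = -1 ∧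
    (mu1 (c2, c2) : ℂ) = -1 := by
  simp [mu1, sgC2, c2_ne.symm]

theorem conj_mu (μ : V4 →* ℂˣ) (a : V4) : conj (μ a : ℂ) = (μ a : ℂ) := by
  have h : (μ a : ℂ) * (μ a : ℂ) = 1 := by
    rw [← Units.val_mul, ← map_mul, V4_sq, map_one, Units.val_one]
  rcases mul_self_eq_one_iff.1 h with e | e <;> rw [e] <;> simp

theorem rot_vals : rot 1 = 1 ∧ rot (c2, 1) = (1, c2) ∧ rot (1, c2) = (c2, c2) ∧
    rot (c2, c2) = (c2, 1) := by decide

variable {G : Type u} [Group G] {L : Type v} [Group L] {Q : ℤ}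

namespace Setup

variable (E : Setup G L Q) [Fintype G] [Fintype L]

/-- The function `μ ⊗ (1 - λ)` on the torus. -/
noncomputable def tf (μ : V4 →* ℂˣ) (l : E.D.Zh →* ℂˣ) (x : E.TT) : ℂ :=
  (μ x.1 : ℂ) * (1 - (l x.2 : ℂ))

/-- The regular elements of the torus. -/
def tfD (x : E.TT) : Prop := x.2 ≠ 1

theorem tf_van (μ : V4 →* ℂˣ) (l : E.D.Zh →* ℂˣ) : GenVanish E.tfD (E.tf μ l) where
  supp := fun x hx h1 => hx (by rw [tf, h1, map_one, Units.val_one, sub_self, mul_zero])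
  gen := by
    let f1 : E.TT →* ℂˣ := μ.comp (MonoidHom.fst V4 E.D.Zh)
    let f2 : E.TT →* ℂˣ := f1 * l.comp (MonoidHom.snd V4 E.D.Zh)
    have e : E.tf μ l = (fun x => (f1 x : ℂ)) - fun x => (f2 x : ℂ) := by
      funext x
      simp only [tf, f1, f2, Pi.sub_apply, MonoidHom.mul_apply, MonoidHom.comp_apply,
        MonoidHom.coe_fst, MonoidHom.coe_snd, Units.val_mul]
      ring
    rw [e]
    exact IsGeneralizedCharacter.sub
      (IsGeneralizedCharacter.of_isCharacter (IsIrrCharacter.isCharacter (isIrrCharacter_linear f1)))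
      (IsGeneralizedCharacter.of_isCharacter (IsIrrCharacter.isCharacter (isIrrCharacter_linear f2)))

/-- The multiplicity of `χ` in the induced function. -/
noncomputable def ta (μ : V4 →* ℂˣ) (l : E.D.Zh →* ℂˣ) (χ : IrrCharacter G) : ℤ :=
  gcoef (E.tf_van μ l) E.jT χ

/-- The partial sums over one coset of `Zh`. -/
noncomputable def fs (a : V4) (l : E.D.Zh →* ℂˣ) (χ : IrrCharacter G) : ℂ :=
  ∑ z : E.D.Zh, conj (1 - (l z : ℂ)) * (χ : G → ℂ) (E.jT (a, z))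

theorem h_ne : (E.D.h : ℂ) ≠ 0 := Nat.cast_ne_zero.2 (by have := E.D.h_three'; omega)

theorem h4_ne : (4 * (E.D.h : ℂ)) ≠ 0 := mul_ne_zero (by norm_num) E.h_ne

theorem card_TT' : (Fintype.card E.TT : ℂ) = 4 * (E.D.h : ℂ) := by
  rw [Fintype.card_prod, ← Nat.card_eq_fintype_card (α := E.D.Zh), E.D.card_Zh, Nat.cast_mul]
  rfl

theorem ta_spec (μ : V4 →* ℂˣ) (l : E.D.Zh →* ℂˣ) (χ : IrrCharacter G) :
    (E.ta μ l χ : ℂ) * (4 * (E.D.h : ℂ)) = ∑ a, (μ a : ℂ) * E.fs a l χ := by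
  rw [← E.card_TT', ta, gcoef_spec, Fintype.sum_prod_type]
  refine Finset.sum_congr rfl fun a _ => ?_
  rw [fs, Finset.mul_sum]
  refine Finset.sum_congr rfl fun z _ => ?_
  rw [tf, map_mul, conj_mu, mul_assoc]

theorem ta_sum (μ : V4 →* ℂˣ) (l : E.D.Zh →* ℂˣ) (wt : IrrCharacter G → ℂ) (k : E.TT → ℂ)
    (hk : ∀ x, x.2 ≠ 1 → ∑ χ : IrrCharacter G, wt χ * conj ((χ : G → ℂ) (E.jT x)) = k x) :
    (∑ χ, (E.ta μ l χ : ℂ) * wt χ) * (4 * (E.D.h : ℂ)) = ∑ x, E.tf μ l x * k x := by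
  have hs : ∀ χ : IrrCharacter G, (E.ta μ l χ : ℂ) * (4 * (E.D.h : ℂ)) =
      ∑ x, E.tf μ l x * conj ((χ : G → ℂ) (E.jT x)) := fun χ => by
    have h := congrArg conj (gcoef_spec (E.tf_van μ l) E.jT χ)
    rw [map_mul, map_intCast, map_natCast, map_sum, E.card_TT'] at h
    rw [ta, h]
    exact Finset.sum_congr rfl fun x _ => by rw [map_mul, Complex.conj_conj]
  rw [Finset.sum_mul]
  calc ∑ χ, (E.ta μ l χ : ℂ) * wt χ * (4 * (E.D.h : ℂ))
      = ∑ χ : IrrCharacter G, ∑ x, E.tf μ l x * (wt χ * conj ((χ : G → ℂ) (E.jT x))) := by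
        refine Finset.sum_congr rfl fun χ _ => ?_
        rw [mul_right_comm, hs, Finset.sum_mul]
        exact Finset.sum_congr rfl fun x _ => by ring
    _ = _ := by
        rw [Finset.sum_comm]
        refine Finset.sum_congr rfl fun x _ => ?_
        rw [← Finset.mul_sum]
        by_cases h0 : E.tf μ l x = 0
        · rw [h0, zero_mul, zero_mul]
        rw [hk x ((E.tf_van μ l).supp x h0)]

/-- The induced function vanishes at elements of order prime to `h`. -/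
theorem col_zero (μ : V4 →* ℂˣ) (l : E.D.Zh →* ℂˣ) {g : G} {N : ℕ} (hN : g ^ N = 1)
    (hco : N.Coprime E.D.h) : ∑ χ, (E.ta μ l χ : ℂ) * (χ : G → ℂ) g = 0 := by
  refine (mul_left_inj' E.h4_ne).1 ?_
  rw [zero_mul, E.ta_sum μ l (fun χ => (χ : G → ℂ) g) (fun _ => 0) fun x hx => ?_]
  · simp
  refine column_orth_of_not_isConj fun h => hx ?_
  obtain ⟨c, hc⟩ := isConj_iff.1 h
  have h1 : E.jT (x ^ N) = 1 := by rw [map_pow, ← hc, conj_pow, hN, mul_one, mul_inv_cancel]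
  have h2 : x.2 ^ N = 1 :=
    congrArg Prod.snd (E.jT_inj (h1.trans (map_one E.jT).symm))
  exact orderOf_eq_one_iff.1 (Nat.eq_one_of_dvd_coprimes hco (orderOf_dvd_of_pow_eq_one h2)
    (E.D.card_Zh ▸ orderOf_dvd_natCard x.2))

/-- Orthogonality of the linear characters of `Zh`. -/
theorem zsum (a b : E.D.Zh →* ℂˣ) :
    ∑ z : E.D.Zh, conj (1 - (a z : ℂ)) * (1 - (b z : ℂ)) =
      (E.D.h : ℂ) * (1 - (if a = 1 then 1 else 0) - (if b = 1 then 1 else 0) +
        if b = a then 1 else 0) := by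
  have h1 := sum_lin_mul_conj E.D.Zh a 1
  have h2 := sum_lin_mul_conj E.D.Zh 1 b
  have h3 := sum_lin_mul_conj E.D.Zh a b
  simp only [MonoidHom.one_apply, Units.val_one, mul_one, map_one, one_mul] at h1 h2
  have e : ∀ z : E.D.Zh, conj (1 - (a z : ℂ)) * (1 - (b z : ℂ)) =
      1 - conj (a z : ℂ) - (b z : ℂ) + conj (a z : ℂ) * (b z : ℂ) := fun z => by
    rw [map_sub, map_one]; ring
  simp only [e, Finset.sum_add_distrib, Finset.sum_sub_distrib, h1, h2, h3, Finset.sum_const,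
    Finset.card_univ, nsmul_eq_mul, mul_one]
  rw [← Nat.card_eq_fintype_card, E.D.card_Zh]
  by_cases p : a = 1 <;> by_cases q : b = 1 <;> by_cases r : b = a <;>
    simp [p, q, r, eq_comm] <;> ring

theorem sum_one_sub (b : E.D.Zh →* ℂˣ) :
    ∑ z : E.D.Zh, (1 - (b z : ℂ)) = (E.D.h : ℂ) * (1 - if b = 1 then 1 else 0) := by
  have h := sum_lin_mul_conj E.D.Zh 1 b
  simp only [MonoidHom.one_apply, Units.val_one, map_one, one_mul] at h
  rw [Finset.sum_sub_distrib, h, Finset.sum_const, Finset.card_univ, nsmul_eq_mul, mul_one,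
    ← Nat.card_eq_fintype_card, E.D.card_Zh]
  split_ifs <;> ring

theorem fs_tau (l : E.D.Zh →* ℂˣ) (χ : IrrCharacter G) :
    E.fs (c2, 1) l χ = -(E.D.h : ℂ) * (E.gh l χ : ℂ) := by
  have h1 := E.z_spec E.D.odd_Zh 1 χ
  have h2 := E.z_spec E.D.odd_Zh l χ
  rw [E.D.card_Zh] at h1 h2
  simp only [MonoidHom.one_apply, Units.val_one, map_one, one_mul] at h1
  unfold fs gh zh
  simp only [jT_apply, sH_one, one_mul, map_sub, map_one, sub_mul, Finset.sum_sub_distrib,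
    one_mul, ← h1, ← h2]
  push_cast
  ring

/-- Columns of coprime tori are orthogonal to the induced functions. -/
theorem ta_z {X : Subgroup L} (hX : Odd (Nat.card X)) (hco : (Nat.card X).Coprime E.D.h)
    (nu : X →* ℂˣ) (μ : V4 →* ℂˣ) (l : E.D.Zh →* ℂˣ) :
    ∑ χ, E.ta μ l χ * E.z hX nu χ = 0 := by
  refine Int.cast_injective (α := ℂ) ((mul_left_inj' (Nat.cast_ne_zero.2
    (Nat.card_pos (α := X)).ne' : (Nat.card X : ℂ) ≠ 0)).1 ?_)
  push_cast
  rw [zero_mul, Finset.sum_mul]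
  simp only [mul_assoc, E.z_spec, Finset.mul_sum]
  rw [Finset.sum_comm]
  refine Finset.sum_eq_zero fun x _ => ?_
  have h0 := E.col_zero μ l (g := E.ι (c2, (x : L))) (N := 2 * Nat.card X) ?_
    (Nat.Coprime.mul_left (Nat.coprime_two_left.2 E.D.h_odd') hco)
  · rw [Finset.sum_congr rfl fun χ _ =>
      mul_left_comm (E.ta μ l χ : ℂ) (conj (nu x : ℂ)) ((χ : G → ℂ) (E.ι (c2, (x : L)))),
      ← Finset.mul_sum, h0, mul_zero]
  · rw [← map_pow, Prod.pow_mk, pow_mul, pow_two, c2_sq, one_pow]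
    have hx : (x : L) ^ Nat.card X = 1 := by
      have h := congrArg Subtype.val (pow_card_eq_one' (x := x))
      rw [Subgroup.coe_pow] at h
      exact h
    rw [mul_comm, pow_mul, hx, one_pow, Prod.mk_one_one, map_one]

theorem ta_congr (μ : V4 →* ℂˣ) (l : E.D.Zh →* ℂˣ) {χ χ' : IrrCharacter G}
    (h : ∀ x, (χ' : G → ℂ) (E.jT x) = (χ : G → ℂ) (E.jT x)) : E.ta μ l χ' = E.ta μ l χ := by
  refine Int.cast_injective (α := ℂ) ((mul_left_inj' E.h4_ne).1 ?_)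
  simp only [ta_spec, fs, h]

theorem ta_principal (μ : V4 →* ℂˣ) {l : E.D.Zh →* ℂˣ} (hl : l ≠ 1) :
    (E.ta μ l (principal G) : ℂ) * 4 = ∑ a, (μ a : ℂ) := by
  have h := E.ta_spec μ l (principal G)
  have e : ∀ a, E.fs a l (principal G) = (E.D.h : ℂ) := fun a => by
    have h' := congrArg conj (E.sum_one_sub l)
    rw [if_neg hl, sub_zero, mul_one, map_natCast, map_sum] at h'
    simpa [fs, principal] using h'
  simp only [e, ← Finset.sum_mul] at h
  exact mul_right_cancel₀ E.h_ne (by linear_combination h)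

theorem exists_mult (μ : V4 →* ℂˣ) (χ : IrrCharacter G) :
    ∃ m : ℤ, (m : ℂ) * (4 * (E.D.h : ℂ)) =
      ∑ a, (μ a : ℂ) * ∑ z : E.D.Zh, (χ : G → ℂ) (E.jT (a, z)) := by
  let f : E.TT →* ℂˣ := μ.comp (MonoidHom.fst V4 E.D.Zh)
  have hf : GenVanish (fun _ : E.TT => True) (fun x => (f x : ℂ)) :=
    ⟨fun _ _ => trivial,
      IsGeneralizedCharacter.of_isCharacter (IsIrrCharacter.isCharacter (isIrrCharacter_linear f))⟩
  obtain ⟨m, hm⟩ := exists_gcoef hf E.jT χ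
  refine ⟨m, ?_⟩
  rw [← E.card_TT', hm, Fintype.sum_prod_type]
  refine Finset.sum_congr rfl fun a _ => ?_
  rw [Finset.mul_sum]
  refine Finset.sum_congr rfl fun z _ => ?_
  simp only [f, MonoidHom.comp_apply, MonoidHom.coe_fst, conj_mu]

theorem congr_gen (μ : V4 →* ℂˣ) (χ : IrrCharacter G) :
    ∃ m : ℤ, (m : ℂ) * (4 * (E.D.h : ℂ)) =
      ∑ a, (μ a : ℂ) * (χ : G → ℂ) (E.jT (a, 1)) + 4 * ((∑ l, E.ta μ l χ : ℤ) : ℂ) := by
  obtain ⟨m, hm⟩ := E.exists_mult μ χ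
  refine ⟨m, ?_⟩
  have hc : (Finset.univ : Finset (E.D.Zh →* ℂˣ)).card = E.D.h := by
    rw [Finset.card_univ, ← Nat.card_eq_fintype_card, card_dual E.D.Zh E.D.Zh_comm, E.D.card_Zh]
  have key : ∀ a, ∑ l, E.fs a l χ =
      (E.D.h : ℂ) * (∑ z : E.D.Zh, (χ : G → ℂ) (E.jT (a, z))) -
        (E.D.h : ℂ) * (χ : G → ℂ) (E.jT (a, 1)) := by
    intro a
    unfold fs
    rw [Finset.sum_comm]
    simp only [← Finset.sum_mul, ← map_sum, Finset.sum_sub_distrib, Finset.sum_const, hc,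
      nsmul_eq_mul, mul_one, sum_dual E.D.Zh E.D.Zh_comm, map_sub, map_natCast, sub_mul,
      apply_ite (starRingEnd ℂ), map_zero, ite_mul, zero_mul, E.D.card_Zh]
    rw [Finset.sum_ite_eq' Finset.univ (1 : E.D.Zh), if_pos (Finset.mem_univ _), ← Finset.mul_sum]
  have hsum : ((∑ l, E.ta μ l χ : ℤ) : ℂ) * (4 * (E.D.h : ℂ)) =
      (E.D.h : ℂ) * ((m : ℂ) * (4 * (E.D.h : ℂ)) -
        ∑ a, (μ a : ℂ) * (χ : G → ℂ) (E.jT (a, 1))) := by
    rw [Int.cast_sum, Finset.sum_mul]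
    simp only [ta_spec]
    rw [Finset.sum_comm]
    simp only [← Finset.mul_sum, key, hm]
    rw [mul_sub, Finset.mul_sum, Finset.mul_sum, ← Finset.sum_sub_distrib]
    exact Finset.sum_congr rfl fun a _ => by ring
  exact mul_left_cancel₀ E.h_ne (by linear_combination -hsum)

namespace TorusSym

variable {E} (S : E.TorusSym)

/-- The shift of the dual of `Zh`. -/
noncomputable def shift : Equiv.Perm (E.D.Zh →* ℂˣ) where
  toFun l := l.comp S.alf
  invFun l := (l.comp S.alf).comp S.alf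
  left_inv l := MonoidHom.ext fun z => congrArg l (S.alf_three z)
  right_inv l := MonoidHom.ext fun z => congrArg l (S.alf_three z)

theorem shift_ne {l : E.D.Zh →* ℂˣ} (hl : l ≠ 1) :
    S.shift l ≠ l ∧ S.shift l ≠ l⁻¹ ∧ S.shift (S.shift l) ≠ l ∧ S.shift (S.shift l) ≠ l⁻¹ ∧
      S.shift l ≠ 1 ∧ S.shift (S.shift l) ≠ 1 := by
  let comm : ∀ a b : E.D.Zh, a * b = b * a := fun a b => Subtype.ext (E.D.Zh_comm a a.2 b b.2)
  have hfix : ∀ m : E.D.Zh →* ℂˣ, S.shift m = m → m = 1 := fun m hm => by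
    have inj : Function.Injective (fun z : E.D.Zh => S.alf z * z⁻¹) := by
      intro a b h
      have h' : S.alf (a * b⁻¹) = a * b⁻¹ := by
        rw [map_mul, map_inv]
        calc S.alf a * (S.alf b)⁻¹ = (S.alf a * a⁻¹) * a * (S.alf b)⁻¹ := by group
          _ = (S.alf b * b⁻¹) * a * (S.alf b)⁻¹ := by rw [show S.alf a * a⁻¹ = S.alf b * b⁻¹ from h]
          _ = a * b⁻¹ := by
            rw [comm (S.alf b * b⁻¹) a, comm (S.alf b) b⁻¹]; group
      exact mul_inv_eq_one.1 (S.alf_free (Or.inl h'))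
    refine MonoidHom.ext fun w => ?_
    obtain ⟨z, rfl⟩ := Finite.surjective_of_injective inj w
    have hz : m (S.alf z) = m z := DFunLike.congr_fun hm z
    rw [MonoidHom.one_apply, map_mul, map_inv, hz, mul_inv_cancel]
  have h3 : ∀ m, S.shift (S.shift (S.shift m)) = m := fun m =>
    MonoidHom.ext fun z => congrArg m (S.alf_three z)
  have hinv : ∀ m : E.D.Zh →* ℂˣ, S.shift m⁻¹ = (S.shift m)⁻¹ := fun m => MonoidHom.ext fun z => rfl
  have hn : S.shift l ≠ l⁻¹ := fun e => hl (hfix l (by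
    have h2 : S.shift (S.shift l) = l := by rw [e, hinv, e, inv_inv']
    calc S.shift l = S.shift (S.shift (S.shift l)) := by rw [h2]
      _ = l := h3 l))
  have h1 : S.shift 1 = 1 := MonoidHom.ext fun z => rfl
  refine ⟨fun e => hl (hfix l e), hn, fun e => hl (hfix l ?_), fun e => ?_, fun e => hl ?_,
    fun e => hl ?_⟩
  · calc S.shift l = S.shift (S.shift (S.shift l)) := by rw [e]
      _ = l := h3 l
  · refine hn ?_
    have h' := congrArg S.shift e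
    rw [h3, hinv] at h'
    calc S.shift l = (S.shift l)⁻¹⁻¹ := (inv_inv' _).symm
      _ = l⁻¹ := by rw [← h']
  · exact S.shift.injective (e.trans h1.symm)
  · exact S.shift.injective (S.shift.injective (e.trans (by rw [h1, h1])))

/-- The character `λ` moved by a symmetry. -/
noncomputable def lw (w : Fin 3 × Bool) (l : E.D.Zh →* ℂˣ) : E.D.Zh →* ℂˣ :=
  if w.2 then (l.comp (S.act w.1))⁻¹ else l.comp (S.act w.1)

theorem tf_thet (μ : V4 →* ℂˣ) (l : E.D.Zh →* ℂˣ) (w : Fin 3 × Bool) (x : E.TT) :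
    E.tf μ l (S.thet w x) = (μ (rot^[(w.1 : ℕ)] x.1) : ℂ) * (1 - (S.lw w l x.2 : ℂ)) := by
  obtain ⟨i, j⟩ := w
  cases j <;> simp [tf, thet, sgn, lw]

/-- The values of the induced function on the torus. -/
theorem col_torus (μ : V4 →* ℂˣ) (l : E.D.Zh →* ℂˣ) (x₀ : E.TT) :
    ∑ χ, (E.ta μ l χ : ℂ) * (χ : G → ℂ) (E.jT x₀) = ∑ w, E.tf μ l (S.thet w x₀) := by
  by_cases hx₀ : x₀.2 = 1
  · rw [E.col_zero μ l (N := 2) ?_ (Nat.coprime_two_left.2 E.D.h_odd')]
    · refine (Finset.sum_eq_zero fun w _ => ?_).symm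
      simp [S.tf_thet, hx₀]
    · rw [← map_pow, show x₀ ^ 2 = 1 from Prod.ext
        (by rw [Prod.pow_fst, pow_two, V4_sq]; rfl) (by rw [Prod.pow_snd, hx₀, one_pow]; rfl), map_one]
  refine (mul_left_inj' E.h4_ne).1 ?_
  rw [E.ta_sum μ l (fun χ => (χ : G → ℂ) (E.jT x₀))
    (fun x => (4 * (E.D.h : ℂ)) * ((Finset.univ.filter fun w => S.thet w x₀ = x).card : ℂ))
    fun x hx => ?_]
  · simp only [Finset.card_filter, Nat.cast_sum, Nat.cast_ite, Nat.cast_one, Nat.cast_zero,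
      Finset.mul_sum]
    rw [Finset.sum_comm, Finset.sum_mul]
    refine Finset.sum_congr rfl fun w _ => ?_
    simp only [mul_ite, mul_one, mul_zero]
    rw [Finset.sum_ite_eq, if_pos (Finset.mem_univ _)]
  · rw [column_orth_count]
    have e := S.fibre hx₀ hx
    have e' : (Finset.univ.filter fun c : G => c * E.jT x * c⁻¹ = E.jT x₀).card =
        (Finset.univ.filter fun c : G => c * E.jT x₀ * c⁻¹ = E.jT x).card := by
      refine Finset.card_equiv (Equiv.inv G) fun c => ?_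
      simp only [Finset.mem_filter, Finset.mem_univ, true_and, Equiv.inv_apply, inv_inv]
      constructor <;> intro h <;> rw [← h] <;> group
    rw [e', e, Nat.cast_mul, Nat.cast_mul, Nat.cast_ofNat]

/-- Inner products of the induced functions. -/
theorem gram (μ μ' : V4 →* ℂˣ) (l l' : E.D.Zh →* ℂˣ) :
    ((∑ χ, E.ta μ l χ * E.ta μ' l' χ : ℤ) : ℂ) * 4 =
      ∑ w : Fin 3 × Bool, (∑ a, (μ' a : ℂ) * (μ (rot^[(w.1 : ℕ)] a) : ℂ)) *
        (1 - (if l' = 1 then 1 else 0) - (if S.lw w l = 1 then 1 else 0) +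
          if S.lw w l = l' then 1 else 0) := by
  refine mul_right_cancel₀ E.h_ne ?_
  have h : ∀ χ : IrrCharacter G, (E.ta μ' l' χ : ℂ) * (4 * (E.D.h : ℂ)) =
      ∑ x, conj (E.tf μ' l' x) * (χ : G → ℂ) (E.jT x) := fun χ => by
    rw [← E.card_TT', ta, gcoef_spec]
  push_cast
  rw [mul_assoc, Finset.sum_mul]
  simp only [mul_assoc]
  simp only [h, Finset.mul_sum]
  rw [Finset.sum_comm]
  simp only [mul_left_comm _ (conj _), ← Finset.mul_sum]
  simp only [S.col_torus, Finset.mul_sum]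
  rw [Finset.sum_comm, Finset.sum_mul]
  refine Finset.sum_congr rfl fun w _ => ?_
  rw [Fintype.sum_prod_type, Finset.sum_mul, Finset.sum_mul]
  refine Finset.sum_congr rfl fun a _ => ?_
  rw [mul_assoc, mul_comm _ (E.D.h : ℂ), ← E.zsum l' (S.lw w l), Finset.mul_sum]
  refine Finset.sum_congr rfl fun z _ => ?_
  rw [S.tf_thet, tf, map_mul, conj_mu]
  ring

theorem fs_shift (a : V4) (l : E.D.Zh →* ℂˣ) (χ : IrrCharacter G) :
    E.fs a (S.shift l) χ = E.fs (rot a) l χ := by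
  unfold fs
  refine Fintype.sum_bijective S.alf (Finite.injective_iff_bijective.1 S.alf_inj) _ _ fun z => ?_
  rw [← S.y_conj, IsCharacter.isClassFunction (IsIrrCharacter.isCharacter χ.2)]
  rfl

include S in
theorem fs_inv (a : V4) (l : E.D.Zh →* ℂˣ) (χ : IrrCharacter G) :
    E.fs a l⁻¹ χ = E.fs a l χ := by
  unfold fs
  refine Fintype.sum_equiv (Equiv.inv E.D.Zh) _ _ fun z => ?_
  rw [Equiv.inv_apply, map_inv, ← S.u_conj,
    IsCharacter.isClassFunction (IsIrrCharacter.isCharacter χ.2)]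
  rfl

include S in
theorem ta_inv (μ : V4 →* ℂˣ) (l : E.D.Zh →* ℂˣ) (χ : IrrCharacter G) :
    E.ta μ l⁻¹ χ = E.ta μ l χ := by
  refine Int.cast_injective (α := ℂ) ((mul_left_inj' E.h4_ne).1 ?_)
  simp only [ta_spec, S.fs_inv]

theorem ta0_spec (l : E.D.Zh →* ℂˣ) (χ : IrrCharacter G) :
    (E.ta 1 l χ : ℂ) * (4 * (E.D.h : ℂ)) =
      E.fs 1 l χ + E.fs (c2, 1) l χ + E.fs (1, c2) l χ + E.fs (c2, c2) l χ := by
  rw [E.ta_spec, sum_V4]
  simp only [MonoidHom.one_apply, Units.val_one, one_mul]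

theorem ta1_spec (l : E.D.Zh →* ℂˣ) (χ : IrrCharacter G) :
    (E.ta mu1 l χ : ℂ) * (4 * (E.D.h : ℂ)) =
      E.fs 1 l χ + E.fs (c2, 1) l χ - E.fs (1, c2) l χ - E.fs (c2, c2) l χ := by
  obtain ⟨e0, e1, e2, e3⟩ := mu1_vals
  rw [E.ta_spec, sum_V4, e0, e1, e2, e3]
  ring

theorem ta0_shift (l : E.D.Zh →* ℂˣ) (χ : IrrCharacter G) :
    E.ta 1 (S.shift l) χ = E.ta 1 l χ := by
  refine Int.cast_injective (α := ℂ) ((mul_left_inj' E.h4_ne).1 ?_)
  obtain ⟨r0, r1, r2, r3⟩ := rot_vals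
  rw [ta0_spec, ta0_spec, S.fs_shift, S.fs_shift, S.fs_shift, S.fs_shift, r0, r1, r2, r3]
  ring

theorem gh_ta (l : E.D.Zh →* ℂˣ) (χ : IrrCharacter G) :
    E.gh l χ = -E.ta 1 l χ - E.ta mu1 l χ + E.ta mu1 (S.shift l) χ +
      E.ta mu1 (S.shift (S.shift l)) χ := by
  refine Int.cast_injective (α := ℂ) ((mul_left_inj' E.h4_ne).1 ?_)
  obtain ⟨r0, r1, r2, r3⟩ := rot_vals
  push_cast
  simp only [sub_mul, add_mul, neg_mul, ta0_spec, ta1_spec, S.fs_shift, r0, r1, r2, r3]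
  linear_combination 4 * E.fs_tau l χ

theorem lw_vals (l : E.D.Zh →* ℂˣ) :
    S.lw (0, false) l = l ∧ S.lw (0, true) l = l⁻¹ ∧
    S.lw (1, false) l = S.shift l ∧ S.lw (1, true) l = (S.shift l)⁻¹ ∧
    S.lw (2, false) l = S.shift (S.shift l) ∧ S.lw (2, true) l = (S.shift (S.shift l))⁻¹ :=
  ⟨MonoidHom.ext fun _ => rfl, MonoidHom.ext fun _ => rfl, MonoidHom.ext fun _ => rfl,
    MonoidHom.ext fun _ => rfl, MonoidHom.ext fun _ => rfl, MonoidHom.ext fun _ => rfl⟩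

theorem sum_W {M : Type*} [AddCommMonoid M] (f : Fin 3 × Bool → M) :
    ∑ w, f w = f (0, true) + f (0, false) + (f (1, true) + f (1, false)) +
      (f (2, true) + f (2, false)) := by
  rw [Fintype.sum_prod_type, Fin.sum_univ_three, Fintype.sum_bool, Fintype.sum_bool,
    Fintype.sum_bool]

theorem lw_ne {l : E.D.Zh →* ℂˣ} (hl : l ≠ 1) (w : Fin 3 × Bool) : S.lw w l ≠ 1 := by
  intro e
  refine hl (MonoidHom.ext fun z => ?_)
  obtain ⟨z', rfl⟩ := (Finite.injective_iff_surjective.1 (S.act_inj w.1)) z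
  obtain ⟨i, j⟩ := w
  have h := DFunLike.congr_fun e z'
  cases j <;> simpa [lw] using h

include S in
theorem gram0 {l : E.D.Zh →* ℂˣ} (hl : l ≠ 1) : ∑ χ, E.ta 1 l χ * E.ta 1 l χ = 7 := by
  refine Int.cast_injective (α := ℂ) ((mul_left_inj' (by norm_num : (4 : ℂ) ≠ 0)).1 ?_)
  rw [S.gram]
  obtain ⟨n1, n2, n3, n4, -, -⟩ := S.shift_ne hl
  obtain ⟨v1, v2, v3, v4, v5, v6⟩ := S.lw_vals l
  simp only [if_neg hl, if_neg (S.lw_ne hl _)]
  simp only [sum_W, v1, v2, v3, v4, v5, v6, MonoidHom.one_apply, Units.val_one, mul_one,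
    Finset.sum_const, Finset.card_univ, nsmul_eq_mul, if_true,
    if_neg (dual_ne_inv E.D.odd_Zh hl), if_neg n1, if_neg n3,
    if_neg (fun e : (S.shift l)⁻¹ = l => n2 (by rw [← inv_inv' (S.shift l), e])),
    if_neg (fun e : (S.shift (S.shift l))⁻¹ = l => n4 (by rw [← inv_inv' (S.shift (S.shift l)), e]))]
  rw [show Fintype.card V4 = 4 from rfl]
  norm_num

include S in
theorem gram1 {l m : E.D.Zh →* ℂˣ} (hl : l ≠ 1) (hm : m ≠ 1) :
    ((∑ χ, E.ta mu1 l χ * E.ta mu1 m χ : ℤ) : ℂ) =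
      2 + (if l = m then 1 else 0) + (if l⁻¹ = m then 1 else 0) := by
  refine (mul_left_inj' (by norm_num : (4 : ℂ) ≠ 0)).1 ?_
  rw [S.gram]
  obtain ⟨v1, v2, -, -, -, -⟩ := S.lw_vals l
  obtain ⟨e0, e1, e2, e3⟩ := mu1_vals
  obtain ⟨r0, r1, r2, r3⟩ := rot_vals
  simp only [if_neg hm, if_neg (S.lw_ne hl _)]
  simp only [sum_W, sum_V4, v1, v2, e0, e1, e2, e3, r0, r1, r2, r3, Fin.val_zero, Fin.val_one,
    Fin.val_two, Function.iterate_succ_apply', Function.iterate_zero_apply]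
  ring

include S in
theorem gram01 (l m : E.D.Zh →* ℂˣ) : ∑ χ, E.ta 1 l χ * E.ta mu1 m χ = 0 := by
  refine Int.cast_injective (α := ℂ) ((mul_left_inj' (by norm_num : (4 : ℂ) ≠ 0)).1 ?_)
  rw [S.gram]
  obtain ⟨e0, e1, e2, e3⟩ := mu1_vals
  simp [sum_V4, e0, e1, e2, e3]

include S in
theorem ta_zh (μ : V4 →* ℂˣ) {l : E.D.Zh →* ℂˣ} (hl : l ≠ 1) :
    ((∑ χ, E.ta μ l χ * E.zh 1 χ : ℤ) : ℂ) =
      2 * ((μ (c2, 1) : ℂ) + (μ (1, c2) : ℂ) + (μ (c2, c2) : ℂ)) := by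
  refine mul_right_cancel₀ E.h_ne ?_
  have h : ∀ χ : IrrCharacter G, (E.zh 1 χ : ℂ) * (E.D.h : ℂ) =
      ∑ z : E.D.Zh, (χ : G → ℂ) (E.jT ((c2, 1), z)) := fun χ => by
    have h1 := E.z_spec E.D.odd_Zh 1 χ
    rw [E.D.card_Zh] at h1
    simp only [MonoidHom.one_apply, Units.val_one, map_one, one_mul] at h1
    simp only [zh, h1, jT_apply, sH_one, one_mul]
  push_cast
  rw [Finset.sum_mul]
  simp only [mul_assoc, h, Finset.mul_sum]
  rw [Finset.sum_comm]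
  simp only [S.col_torus, S.tf_thet]
  rw [Finset.sum_comm]
  simp only [← Finset.mul_sum, sum_one_sub, if_neg (S.lw_ne hl _), sub_zero, mul_one]
  obtain ⟨r0, r1, r2, r3⟩ := rot_vals
  simp only [sum_W, r1, r2, Fin.val_zero, Fin.val_one, Fin.val_two, Function.iterate_succ_apply',
    Function.iterate_zero_apply]
  ring

include S in
theorem ta_ec (μ : V4 →* ℂˣ) {l : E.D.Zh →* ℂˣ} (hl : l ≠ 1) :
    ((∑ χ, E.ta μ l χ * E.ec χ : ℤ) : ℂ) =
      2 * ((μ (c2, 1) : ℂ) + (μ (1, c2) : ℂ) + (μ (c2, c2) : ℂ)) := by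
  have hU : ∀ f : E.D.U →* ℂˣ, ∑ χ, E.ta μ l χ * E.zu f χ = 0 := fun f =>
    E.ta_z E.D.odd_U (by rw [E.D.card_U, E.D.card_Zh.symm, E.D.card_Zh]; exact E.D.coprime_orders.2.1.symm) f μ l
  have e : ∀ χ, E.ta μ l χ * E.ec χ = E.ta μ l χ * E.zh 1 χ - 2 * (E.ta μ l χ * E.rho χ) :=
    fun χ => by unfold ec; ring
  rw [Finset.sum_congr rfl fun χ _ => e χ, Finset.sum_sub_distrib, ← Finset.mul_sum,
    E.rho_mul, hU, hU, add_zero, mul_zero, sub_zero, S.ta_zh μ hl]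

theorem ta_bc (μ : V4 →* ℂˣ) (l : E.D.Zh →* ℂˣ) : ∑ χ, E.ta μ l χ * E.bc χ = 0 := by
  have hU : ∀ f : E.D.U →* ℂˣ, ∑ χ, E.ta μ l χ * E.zu f χ = 0 := fun f =>
    E.ta_z E.D.odd_U (by rw [E.D.card_U]; exact E.D.coprime_orders.2.1.symm) f μ l
  have hK : ∑ χ, E.ta μ l χ * E.zk 1 χ = 0 :=
    E.ta_z E.D.odd_Zk (by rw [E.D.card_Zk]; exact E.D.coprime_orders.1.symm) 1 μ l
  simp only [bc, mul_sub, Finset.sum_sub_distrib, hK, E.rho_mul, hU, add_zero, sub_zero]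

include S in
/-- The square roots of a regular torus element. -/
theorem card_sqrt {x : E.TT} (hx : x.2 ≠ 1) :
    Nat.card {s : G // s * s = E.jT x} = if x.1 = 1 then 4 else 0 := by
  have hmem : ∀ {s : G}, s * s = E.jT x → ∃ t, E.jT t = s ∧ t * t = x := fun {s} hs => by
    have h1 : E.jT (1, x.2) ∈ E.Zg := by rw [E.jT_Zg]; exact E.ι_mem_Zg x.2.2
    have h2 : E.jT (1, x.2) ≠ 1 := fun e =>
      hx (congrArg Prod.snd (E.jT_inj (e.trans (map_one E.jT).symm)))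
    have hc : s * E.jT (1, x.2) = E.jT (1, x.2) * s := by
      rw [← half_pow x, map_pow, ← hs, ← pow_two, ← pow_mul, ← pow_succ', pow_succ]
    obtain ⟨t, rfl⟩ := E.exists_jT (S.cent_Zg h1 h2 hc)
    exact ⟨t, rfl, E.jT_inj (by rw [map_mul, hs])⟩
  by_cases hv : x.1 = 1
  · rw [if_pos hv]
    obtain ⟨j, hj⟩ := E.D.h_odd'
    have hh : x.2 ^ E.D.h = 1 := E.D.card_Zh ▸ pow_card_eq_one'
    let r : E.D.Zh := x.2 ^ (j + 1)
    have hr : r * r = x.2 := by
      simp only [r]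
      rw [← pow_add, show j + 1 + (j + 1) = E.D.h + 1 by omega, pow_succ, hh, one_mul]
    rw [show (4 : ℕ) = Nat.card V4 from (by simp)]
    refine (Nat.card_eq_of_bijective (fun a => (⟨E.jT (a, r), by
      rw [← map_mul, Prod.mk_mul_mk, V4_sq, hr, ← hv]⟩ : {s : G // s * s = E.jT x})) ⟨?_, ?_⟩).symm
    · intro a b h
      exact congrArg Prod.fst (E.jT_inj (congrArg Subtype.val h))
    · rintro ⟨s, hs⟩
      obtain ⟨⟨a, z⟩, rfl, ht⟩ := hmem hs
      have hz : z * z = x.2 := congrArg Prod.snd ht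
      refine ⟨a, Subtype.ext ?_⟩
      show E.jT (a, r) = E.jT (a, z)
      refine congrArg (fun w => E.jT (a, w)) ?_
      simp only [r]
      rw [← hz, ← pow_two, ← pow_mul, show 2 * (j + 1) = E.D.h + 1 by omega, pow_succ,
        (E.D.card_Zh ▸ pow_card_eq_one' : z ^ E.D.h = 1), one_mul]
  · rw [if_neg hv, Nat.card_eq_zero]
    refine Or.inl ⟨fun ⟨s, hs⟩ => hv ?_⟩
    obtain ⟨t, rfl, ht⟩ := hmem hs
    exact (congrArg Prod.fst ht).symm.trans (V4_sq t.1)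

include S in
theorem ta_nu (μ : V4 →* ℂˣ) {l : E.D.Zh →* ℂˣ} (hl : l ≠ 1) :
    ∑ χ : IrrCharacter G, (E.ta μ l χ : ℂ) * nu (χ : G → ℂ) = 1 := by
  refine mul_right_cancel₀ E.h4_ne ?_
  rw [E.ta_sum μ l (fun χ => nu (χ : G → ℂ)) (fun x => if x.1 = 1 then 4 else 0) fun x hx => ?_]
  · rw [Fintype.sum_prod_type, Finset.sum_eq_single (1 : V4)]
    · simp only [tf, if_true, map_one, Units.val_one, one_mul, ← Finset.sum_mul, sum_one_sub,
        if_neg hl, sub_zero, mul_one]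
      ring
    · intro a _ ha
      simp [ha]
    · simp
  · rw [sum_nu_mul, S.card_sqrt hx]
    push_cast
    rfl

variable [IsSimpleGroup G]

include S in
/-- The pairs of involutions with product a regular torus element. -/
theorem card_pairs_torus {x : E.TT} (hx : x.2 ≠ 1) :
    Nat.card {a : G // IsConj E.τ a ∧ IsConj E.τ (a⁻¹ * E.jT x)} = 4 * E.D.h := by
  have hui : S.u⁻¹ = S.u := inv_eq_of_mul_eq_one_right S.u_sq
  have hinv : ∀ t : E.TT, (S.u * E.jT t) * (S.u * E.jT t) = 1 := fun t => by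
    obtain ⟨a, z⟩ := t
    calc S.u * E.jT (a, z) * (S.u * E.jT (a, z))
        = S.u * E.jT (a, z) * S.u⁻¹ * E.jT (a, z) := by rw [hui]; group
      _ = 1 := by rw [S.u_conj, ← map_mul, Prod.mk_mul_mk, V4_sq, inv_mul_cancel, Prod.mk_one_one, map_one]
  have hne : ∀ t : E.TT, S.u * E.jT t ≠ 1 := fun t e => by
    have h1 := S.u_conj 1 x.2
    rw [eq_inv_of_mul_eq_one_left e, ← map_inv, E.T_comm (E.jT_mem _) (E.jT_mem _),
      mul_inv_cancel_right] at h1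
    exact LData.ne_inv_of_odd E.D.odd_Zh x.2.2 (fun e' => hx (Subtype.ext e'))
      (congrArg Subtype.val (congrArg Prod.snd (E.jT_inj h1)))
  have hconj : ∀ t : E.TT, IsConj E.τ (S.u * E.jT t) := fun t => E.conj_t (hinv t) (hne t)
  have hi : ∀ t : E.TT, (S.u * E.jT t)⁻¹ = S.u * E.jT t := fun t =>
    inv_eq_of_mul_eq_one_right (hinv t)
  have hc : 4 * E.D.h = Nat.card E.TT := by rw [Nat.card_eq_fintype_card, card_TT]
  rw [hc]
  refine (Nat.card_eq_of_bijective (fun t => (⟨S.u * E.jT t, hconj t, by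
    rw [hi, mul_assoc, ← map_mul]; exact hconj _⟩ :
      {a : G // IsConj E.τ a ∧ IsConj E.τ (a⁻¹ * E.jT x)})) ⟨?_, ?_⟩).symm
  · intro a b h
    exact E.jT_inj (mul_left_cancel (congrArg Subtype.val h))
  · rintro ⟨a, ha, hb⟩
    have sq : ∀ b : G, IsConj E.τ b → b * b = 1 := fun b hb => by
      obtain ⟨c, rfl⟩ := isConj_iff.1 hb
      calc c * E.τ * c⁻¹ * (c * E.τ * c⁻¹) = c * (E.τ * E.τ) * c⁻¹ := by group
        _ = 1 := by rw [E.τ_sq, mul_one, mul_inv_cancel]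
    have ha2 := sq a ha
    have hai : a⁻¹ = a := inv_eq_of_mul_eq_one_right ha2
    have hb2 := sq _ hb
    rw [hai] at hb2
    have e1 : a * E.jT x * a⁻¹ = E.jT x⁻¹ := by
      rw [hai, map_inv]
      exact eq_inv_of_mul_eq_one_left (by rw [← hb2]; group)
    obtain ⟨w, t, rfl, hw⟩ := S.fusion hx (x' := x⁻¹) (inv_ne_one.2 hx) e1
    have hw0 : S.thet ((0 : Fin 3), true) x = x⁻¹ := by
      refine Prod.ext ?_ rfl
      show x.1 = x.1⁻¹
      exact (inv_eq_of_mul_eq_one_right (V4_sq x.1)).symm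
    obtain rfl := S.thet_free hx (hw.trans hw0.symm)
    refine ⟨t, Subtype.ext ?_⟩
    show S.u * E.jT t = S.y ^ 0 * (if true = true then S.u else 1) * E.jT t
    simp

include S in
theorem ta_wsum (μ : V4 →* ℂˣ) {l : E.D.Zh →* ℂˣ} (hl : l ≠ 1) :
    E.wsum (E.ta μ l) * (Nat.card G : ℂ) = cc (L := L) * (E.D.h : ℂ) * ∑ a, (μ a : ℂ) := by
  have hG : (Nat.card G : ℂ) ≠ 0 := Nat.cast_ne_zero.2 Nat.card_pos.ne'
  refine mul_right_cancel₀ E.h4_ne ?_
  rw [wsum, mul_right_comm, E.ta_sum μ l (fun χ => (χ : G → ℂ) E.τ ^ 2 / (χ : G → ℂ) 1)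
    (fun _ => 4 * (E.D.h : ℂ) * cc (L := L) / (Nat.card G : ℂ)) fun x hx => ?_]
  · simp only [Fintype.sum_prod_type, tf, ← Finset.sum_mul, ← Finset.mul_sum, sum_one_sub,
      if_neg hl, sub_zero, mul_one]
    field_simp
  · have h := ClassCount.pair_count E.τ E.τ (E.jT x)
    rw [S.card_pairs_torus hx, E.card_cent_τ] at h
    rw [eq_div_iff hG]
    unfold cc
    push_cast at h
    have e : ∀ χ : IrrCharacter G,
        (χ : G → ℂ) E.τ ^ 2 / (χ : G → ℂ) 1 * conj ((χ : G → ℂ) (E.jT x)) =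
        (χ : G → ℂ) E.τ * (χ : G → ℂ) E.τ * conj ((χ : G → ℂ) (E.jT x)) / (χ : G → ℂ) 1 :=
      fun χ => by ring
    simp only [e]
    linear_combination -h

end TorusSym

theorem tfam_at_one (μ : V4 →* ℂˣ) (χ : IrrCharacter G) : E.ta μ 1 χ = 0 := by
  refine Int.cast_injective (α := ℂ) ((mul_left_inj' E.h4_ne).1 ?_)
  simp [ta_spec, fs]

variable [IsSimpleGroup G]

/-- The torus functions exist when no torus element commutes with `y`. -/
theorem exists_tfam {y u : G} (hy : E.IsY y) (hu2 : u * u = 1) (huτ : u * E.τ = E.τ * u)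
    (huσ : u * E.σ = E.σ * u) (huinv : ∀ z ∈ E.Zg, u * z * u⁻¹ = z⁻¹)
    (hfree : ∀ z ∈ E.Zg, y * z = z * y → z = 1) : Nonempty E.TFam := by
  let S : E.TorusSym := ⟨y, u, hy, hu2, huτ, huσ, huinv, hfree⟩
  obtain ⟨e0, e1, e2, e3⟩ := mu1_vals
  have m0 : ∀ a : V4, ((1 : V4 →* ℂˣ) a : ℂ) = 1 := fun a => by simp
  have s0 : ∑ a, ((1 : V4 →* ℂˣ) a : ℂ) = 4 := by simp only [sum_V4, m0]; norm_num
  have s1 : ∑ a, (mu1 a : ℂ) = 0 := by rw [sum_V4, e0, e1, e2, e3]; norm_num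
  have hcast : ∀ (f f' : IrrCharacter G → ℤ) (n : ℤ), (((∑ χ, f χ * f' χ : ℤ) : ℂ) = (n : ℂ)) →
      ∑ χ, f χ * f' χ = n := fun f f' n h => Int.cast_injective h
  have htau : ∀ μ l, ∑ χ, E.ta μ l χ * E.tv χ = 0 := fun μ l => by
    refine hcast _ _ _ ?_
    push_cast
    simp only [tv_cast]
    exact E.col_zero μ l (N := 2) (by rw [pow_two]; exact E.τ_sq)
      (Nat.coprime_two_left.2 E.D.h_odd')
  have hdeg : ∀ μ l, dsum (E.ta μ l) = 0 := fun μ l =>
    E.col_zero μ l (N := 1) (one_pow 1) (Nat.coprime_one_left _)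
  have hgal : ∀ (j : ℕ), j % (2 * E.D.h) = 1 → ∀ x : E.TT, (E.jT x) ^ j = E.jT x := by
    intro j hj x
    rw [← map_pow]
    refine congrArg E.jT ?_
    have h1 : x ^ (2 * E.D.h) = 1 := Prod.ext
      (by rw [Prod.pow_fst, pow_mul, pow_two, V4_sq, one_pow]; rfl)
      (by rw [Prod.pow_snd, mul_comm, pow_mul,
        (E.D.card_Zh ▸ pow_card_eq_one' : x.2 ^ E.D.h = 1), one_pow]; rfl)
    rw [← Nat.div_add_mod j (2 * E.D.h), hj, pow_succ, pow_mul, h1, one_pow, one_mul]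
  have hconj : ∀ (χ : IrrCharacter G) (x : E.TT),
      (χ : G → ℂ) (E.jT x)⁻¹ = (χ : G → ℂ) (E.jT x) := by
    rintro χ ⟨a, z⟩
    rw [← map_inv, Prod.inv_mk, show a⁻¹ = a from inv_eq_of_mul_eq_one_right (V4_sq a),
      ← S.u_conj, IsCharacter.isClassFunction (IsIrrCharacter.isCharacter χ.2)]
  have hval : ∀ χ : IrrCharacter G, (χ : G → ℂ) (E.jT (1, 1)) = (charDegree (χ : G → ℂ) : ℂ) ∧
      (χ : G → ℂ) (E.jT ((c2, 1), 1)) = (E.tv χ : ℂ) ∧
      (χ : G → ℂ) (E.jT ((1, c2), 1)) = (E.tv χ : ℂ) ∧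
      (χ : G → ℂ) (E.jT ((c2, c2), 1)) = (E.tv χ : ℂ) := by
    intro χ
    have hcl := IsCharacter.isClassFunction (IsIrrCharacter.isCharacter χ.2)
    refine ⟨?_, by rw [E.tv_cast, E.jT_tau], ?_, ?_⟩
    · obtain ⟨d, -, hd⟩ := IsIrrCharacter.exists_degree χ.2
      rw [Prod.mk_one_one, map_one, charDegree, hd]
      simp
    · rw [E.tv_cast, E.jT_sigma, ← hy.tau, hcl]
    · rw [E.tv_cast, E.jT_tau_sigma, ← hy.sig, hcl, ← hy.tau, hcl]
  refine ⟨{
    a0 := E.ta 1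
    a1 := E.ta mu1
    sh := S.shift
    sh_one := MonoidHom.ext fun _ => rfl
    h_mod := S.h_mod
    at_one := fun χ => ⟨E.tfam_at_one _ χ, E.tfam_at_one _ χ⟩
    inv := fun l χ => ⟨S.ta_inv _ l χ, S.ta_inv _ l χ⟩
    sh_a0 := S.ta0_shift
    principal := fun l hl => ?_
    norm := fun l hl => ⟨S.gram0 hl, hcast _ _ _ ?_⟩
    a1_a1 := fun l m hl hm h1 h2 => hcast _ _ _ ?_
    a0_a1 := S.gram01
    e0 := fun l hl => ⟨hcast _ _ _ ?_, hcast _ _ _ ?_⟩
    b0 := fun l => ⟨TorusSym.ta_bc _ l, TorusSym.ta_bc _ l⟩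
    wsum0 := fun l hl => ?_
    deg := fun l => ⟨hdeg _ l, hdeg _ l⟩
    tau := fun l => ⟨htau _ l, htau _ l⟩
    nu_sum := fun l hl => ⟨S.ta_nu _ hl, S.ta_nu _ hl⟩
    galois := fun j hj χ χ' h l => ?_
    «conj» := fun χ χ' h l => ?_
    gh_eq := S.gh_ta
    col := fun l g N hN hc => ⟨E.col_zero _ l hN hc, E.col_zero _ l hN hc⟩
    congr0 := fun χ => ?_
    congr1 := fun χ => ?_ }⟩
  · have p0 := E.ta_principal 1 hl
    have p1 := E.ta_principal mu1 hl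
    rw [s0] at p0
    rw [s1] at p1
    exact ⟨Int.cast_injective (α := ℂ) (by push_cast; linear_combination p0 / 4),
      Int.cast_injective (α := ℂ) (by push_cast; linear_combination p1 / 4)⟩
  · rw [S.gram1 hl hl, if_pos rfl, if_neg (dual_ne_inv E.D.odd_Zh hl)]
    norm_num
  · rw [S.gram1 hl hm, if_neg (Ne.symm h1), if_neg fun e => h2 (by rw [← e, inv_inv'])]
    norm_num
  · rw [S.ta_ec _ hl]; simp only [m0]; norm_num
  · rw [S.ta_ec _ hl, e1, e2, e3]; norm_num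
  · have w0 := S.ta_wsum 1 hl
    have w1 := S.ta_wsum mu1 hl
    rw [s0] at w0
    rw [s1, mul_zero] at w1
    exact ⟨by linear_combination w0,
      (mul_eq_zero.1 w1).resolve_right (Nat.cast_ne_zero.2 Nat.card_pos.ne')⟩
  · exact ⟨E.ta_congr _ l fun x => by rw [h, hgal j hj],
      E.ta_congr _ l fun x => by rw [h, hgal j hj]⟩
  · exact ⟨E.ta_congr _ l fun x => by rw [h, hconj],
      E.ta_congr _ l fun x => by rw [h, hconj]⟩
  · obtain ⟨m, hm⟩ := E.congr_gen 1 χ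
    obtain ⟨v0, v1, v2, v3⟩ := hval χ
    rw [sum_V4, v0, v1, v2, v3] at hm
    simp only [m0] at hm
    refine ⟨m, Int.cast_injective (α := ℂ) ?_⟩
    push_cast at hm ⊢
    linear_combination -hm
  · obtain ⟨m, hm⟩ := E.congr_gen mu1 χ
    obtain ⟨v0, v1, v2, v3⟩ := hval χ
    rw [sum_V4, v0, v1, v2, v3, e0, e1, e2, e3] at hm
    refine ⟨m, Int.cast_injective (α := ℂ) ?_⟩
    push_cast at hm ⊢
    linear_combination -hm

end Setup

end Cfsg.Agent.JanThom
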