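import Cfsg.Agent.Lib.Char.Induction
import Cfsg.Agent.Lib.Char.Complete

/-!
Induced linear characters of trivial-intersection abelian subgroups: supports, inner products, duals.
-/

set_option autoImplicit false
set_option linter.unusedSectionVars false

namespace Cfsg.Agent.JanThom

open Cfsg Cfsg.Agent.Char
open scoped ComplexConjugate

universe u

variable {L : Type u} [Group L]

/-- A trivial-intersection abelian subgroup. -/
structure TIAb (X : Subgroup L) : Prop where
  comm : ∀ a ∈ X, ∀ b ∈ X, a * b = b * a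
  ti : ∀ x ∈ X, x ≠ 1 → ∀ g : L, g * x * g⁻¹ ∈ X → g ∈ Subgroup.normalizer (X : Set L)

/-- The conjugate of a linear character of `X` by an element of its normaliser. -/
def cjChar (X : Subgroup L) (g : Subgroup.normalizer (X : Set L)) (lam : X →* ℂˣ) : X →* ℂˣ :=
  lam.comp ((Subgroup.normalizerMonoidHom X) g).toMonoidHom

theorem cjChar_apply (X : Subgroup L) (g : Subgroup.normalizer (X : Set L)) (lam : X →* ℂˣ) (x : X)
    (x' : X) (hx : (x' : L) = (g : L) * x * (g : L)⁻¹) : cjChar X g lam x = lam x' :=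
  congrArg lam (Subtype.ext hx.symm)

variable [Fintype L]

/-- The induced linear character. -/
noncomputable def indLin (X : Subgroup L) (lam : X →* ℂˣ) : L → ℂ :=
  Cfsg.indFun X (fun x => (lam x : ℂ))

theorem isCharacter_lin (X : Subgroup L) (lam : X →* ℂˣ) :
    Cfsg.IsCharacter X (fun x => (lam x : ℂ)) :=
  IsIrrCharacter.isCharacter (isIrrCharacter_linear lam)

theorem indLin_gen (X : Subgroup L) (lam : X →* ℂˣ) :
    Cfsg.IsGeneralizedCharacter L (indLin X lam) :=
  IsGeneralizedCharacter.indFun X (IsGeneralizedCharacter.of_isCharacter (isCharacter_lin X lam))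

theorem indLin_supp {X : Subgroup L} {lam : X →* ℂˣ} {l : L} (h : indLin X lam l ≠ 0) :
    ∃ g : L, g⁻¹ * l * g ∈ X := by
  by_contra hno
  push Not at hno
  exact h (indFun_eq_zero_of_forall X _ hno)

theorem indLin_odd {X : Subgroup L} {lam : X →* ℂˣ} (hX : Odd (Nat.card X)) {l : L}
    (h : indLin X lam l ≠ 0) : Odd (orderOf l) := by
  obtain ⟨g, hg⟩ := indLin_supp h
  have hd := Subgroup.orderOf_dvd_natCard X hg
  have e : orderOf (g⁻¹ * l * g) = orderOf l := by
    have := (MulAut.conj g⁻¹).orderOf_eq l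
    simpa [MulAut.conj_apply] using this
  rw [e] at hd
  exact hX.of_dvd_nat hd

/-- Frobenius reciprocity against a class function. -/
theorem sum_indLin_mul (X : Subgroup L) [Fintype X] (lam : X →* ℂˣ) {f : L → ℂ}
    (hf : Cfsg.IsClassFunction L f) :
    ∑ l, conj (indLin X lam l) * f l =
      (X.index : ℂ) * ∑ x : X, conj (lam x : ℂ) * f (x : L) := by
  have h := classInner_indFun_right X (fun x => (lam x : ℂ)) hf
  simp only [Cfsg.classInner] at h
  have hL : (Nat.card L : ℂ) ≠ 0 := Nat.cast_ne_zero.2 Nat.card_pos.ne'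
  rw [inv_mul_eq_iff_eq_mul₀ hL, ← mul_assoc] at h
  have e : (Nat.card L : ℂ) * (Nat.card X : ℂ)⁻¹ = (X.index : ℂ) := by
    rw [← Subgroup.card_mul_index X, Nat.cast_mul,
      mul_right_comm, mul_inv_cancel₀ (Nat.cast_ne_zero.2 Nat.card_pos.ne'), one_mul]
  rw [e] at h
  refine (Finset.sum_congr rfl fun l _ => mul_comm _ _).trans (h.trans ?_)
  exact congrArg _ (Finset.sum_congr rfl fun x _ => mul_comm _ _)

open scoped Classical in
theorem sum_lin_mul_conj (X : Subgroup L) [Fintype X] (f f' : X →* ℂˣ) :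
    ∑ x, conj (f x : ℂ) * (f' x : ℂ) = if f' = f then (Nat.card X : ℂ) else 0 := by
  have h := classInner_irr (isIrrCharacter_linear f') (isIrrCharacter_linear f)
  rw [Cfsg.classInner, inv_mul_eq_iff_eq_mul₀ (Nat.cast_ne_zero.2 Nat.card_pos.ne')] at h
  rw [Finset.sum_congr rfl fun x _ => mul_comm (conj (f x : ℂ)) (f' x : ℂ), h]
  by_cases e : f' = f
  · subst e; simp
  · rw [if_neg e, if_neg, mul_zero]
    exact fun e' => e (MonoidHom.ext fun g => Units.ext (congrFun e' g))

/-- Values on `X` of an induced linear character of a trivial-intersection subgroup. -/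
theorem indLin_apply_self {X : Subgroup L} (hX : TIAb X) [Fintype (Subgroup.normalizer (X : Set L))]
    (mu : X →* ℂˣ) {x : X} (hx : x ≠ 1) :
    indLin X mu (x : L) =
      (Nat.card X : ℂ)⁻¹ * ∑ g : Subgroup.normalizer (X : Set L), (cjChar X g mu x : ℂ) := by
  classical
  unfold indLin
  rw [indFun_apply]
  refine congrArg _ ?_
  rw [← Finset.sum_subset (Finset.subset_univ
    (Finset.univ.filter fun a : L => a ∈ Subgroup.normalizer (X : Set L)))]
  · rw [Finset.sum_subtype (p := fun a => a ∈ Subgroup.normalizer (X : Set L))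
      (h := fun a => by simp)]
    refine (Fintype.sum_equiv (Equiv.inv (Subgroup.normalizer (X : Set L))) _ _ fun _ => rfl).symm.trans ?_
    refine Finset.sum_congr rfl fun g _ => ?_
    simp only [Equiv.inv_apply, Subgroup.coe_inv, inv_inv]
    have hmem : (g : L) * x * (g : L)⁻¹ ∈ X := (Subgroup.mem_normalizer_iff.1 g.2 _).1 x.2
    rw [extendByZero_mem X _ hmem, cjChar_apply X g mu x ⟨_, hmem⟩ rfl]
  · intro a _ ha
    refine extendByZero_not_mem X _ fun hmem => ?_
    apply ha
    simp only [Finset.mem_filter, Finset.mem_univ, true_and]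
    have := hX.ti x x.2 (fun h => hx (Subtype.ext h)) a⁻¹ (by rw [inv_inv]; exact hmem)
    simpa using inv_mem this

open scoped Classical in
/-- The inner product of two characters induced from the same subgroup. -/
theorem gram_self {X : Subgroup L} (hX : TIAb X) [Fintype X]
    [Fintype (Subgroup.normalizer (X : Set L))] (lam mu : X →* ℂˣ) :
    (∑ l, conj (indLin X lam l) * indLin X mu l) * (Nat.card X : ℂ) =
      (X.index : ℂ) * ((Nat.card L : ℂ) - Nat.card (Subgroup.normalizer (X : Set L)) +
        Nat.card X * (Finset.univ.filter fun g : Subgroup.normalizer (X : Set L) =>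
          cjChar X g mu = lam).card) := by
  rw [sum_indLin_mul X lam (f := indLin X mu) (isClassFunction_indFun X _), mul_assoc]
  refine congrArg _ ?_
  have hXne : (Nat.card X : ℂ) ≠ 0 := Nat.cast_ne_zero.2 Nat.card_pos.ne'
  rw [← Finset.add_sum_erase _ _ (Finset.mem_univ (1 : X)), Subgroup.coe_one, map_one, Units.val_one,
    map_one, one_mul, Finset.sum_congr rfl fun x hx => by
      rw [indLin_apply_self hX mu (Finset.mem_erase.1 hx).1]]
  have h1 : indLin X mu 1 = (X.index : ℂ) := by
    unfold indLin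
    rw [indFun_one_apply, map_one, Units.val_one, mul_one]
  rw [h1, add_mul]
  have e : (X.index : ℂ) * (Nat.card X : ℂ) = Nat.card L := by
    rw [← Nat.cast_mul, mul_comm, Subgroup.card_mul_index]
  rw [e, sub_add_eq_add_sub, add_sub_assoc]
  refine congrArg _ ?_
  have h2 : ∀ x : X, conj (lam x : ℂ) * ((Nat.card X : ℂ)⁻¹ *
      ∑ g : Subgroup.normalizer (X : Set L), (cjChar X g mu x : ℂ)) * (Nat.card X : ℂ) =
      ∑ g : Subgroup.normalizer (X : Set L), conj (lam x : ℂ) * (cjChar X g mu x : ℂ) := fun x => by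
    rw [← Finset.mul_sum]
    field_simp
  rw [Finset.sum_mul, Finset.sum_congr rfl fun x _ => h2 x, Finset.sum_erase_eq_sub (Finset.mem_univ _),
    Finset.sum_comm]
  simp only [sum_lin_mul_conj, map_one, Units.val_one, mul_one, Finset.sum_const, Finset.card_univ,
    nsmul_eq_mul, Finset.sum_ite, Finset.sum_const_zero, add_zero]
  rw [← Nat.card_eq_fintype_card]
  ring

/-- The inner product of characters induced from subgroups of coprime order. -/
theorem gram_ne {X Y : Subgroup L} (hco : (Nat.card X).Coprime (Nat.card Y)) [Fintype X]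
    (lam : X →* ℂˣ) (mu : Y →* ℂˣ) :
    ∑ l, conj (indLin X lam l) * indLin Y mu l = (X.index : ℂ) * (Y.index : ℂ) := by
  rw [sum_indLin_mul X lam (f := indLin Y mu) (isClassFunction_indFun Y _)]
  refine congrArg _ ?_
  rw [Finset.sum_eq_single (1 : X)]
  · unfold indLin
    rw [Subgroup.coe_one, indFun_one_apply, map_one, map_one, Units.val_one, map_one, one_mul, mul_one]
  · intro x _ hx
    rw [show indLin Y mu (x : L) = 0 from ?_, mul_zero]
    refine indFun_eq_zero_of_forall Y _ fun g hg => hx ?_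
    have hd : orderOf (x : L) ∣ Nat.card Y := by
      have h := Subgroup.orderOf_dvd_natCard Y hg
      have e : orderOf (g⁻¹ * (x : L) * g) = orderOf (x : L) := by
        have := (MulAut.conj g⁻¹).orderOf_eq (x : L)
        simpa [MulAut.conj_apply] using this
      rwa [e] at h
    exact Subtype.ext (orderOf_eq_one_iff.1 (Nat.eq_one_of_dvd_coprimes hco
      (Subgroup.orderOf_dvd_natCard X x.2) hd))
  · exact fun h => absurd (Finset.mem_univ _) h

/-- Summing the characters of an abelian subgroup. -/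
theorem sum_dual (X : Subgroup L) (hc : ∀ a ∈ X, ∀ b ∈ X, a * b = b * a) [Fintype (X →* ℂˣ)]
    [Fintype X] [DecidableEq X] (x : X) :
    ∑ f : X →* ℂˣ, (f x : ℂ) = if x = 1 then (Nat.card X : ℂ) else 0 := by
  letI : CommGroup X := { (inferInstance : Group X) with
    mul_comm := fun a b => Subtype.ext (hc a a.2 b b.2) }
  haveI : NeZero (Monoid.exponent X : ℂ) :=
    ⟨Nat.cast_ne_zero.mpr Monoid.exponent_ne_zero_of_finite⟩
  split_ifs with hx
  · subst hx
    simp only [map_one, Units.val_one, Finset.sum_const, Finset.card_univ, nsmul_eq_mul, mul_one]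
    rw [← Nat.card_eq_fintype_card, CommGroup.card_monoidHom_of_hasEnoughRootsOfUnity X ℂ]
  · obtain ⟨f₀, hf₀⟩ := CommGroup.exists_apply_ne_one_of_hasEnoughRootsOfUnity X ℂ hx
    have e : (f₀ x : ℂ) * ∑ f : X →* ℂˣ, (f x : ℂ) = ∑ f : X →* ℂˣ, (f x : ℂ) := by
      rw [Finset.mul_sum]
      exact Fintype.sum_equiv (Equiv.mulLeft f₀) _ _ fun f => by simp
    by_contra hne
    exact hf₀ (Units.ext (mul_right_cancel₀ hne (e.trans (one_mul _).symm)))

theorem card_dual (X : Subgroup L) (hc : ∀ a ∈ X, ∀ b ∈ X, a * b = b * a) :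
    Nat.card (X →* ℂˣ) = Nat.card X := by
  letI : CommGroup X := { (inferInstance : Group X) with
    mul_comm := fun a b => Subtype.ext (hc a a.2 b b.2) }
  haveI : NeZero (Monoid.exponent X : ℂ) :=
    ⟨Nat.cast_ne_zero.mpr Monoid.exponent_ne_zero_of_finite⟩
  exact CommGroup.card_monoidHom_of_hasEnoughRootsOfUnity X ℂ

end Cfsg.Agent.JanThom
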