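import Cfsg.Agent.Lib.JanThom.LData
import Cfsg.Agent.Lib.JanThom.LFun

/-!
Normalisers, orbits on linear characters and Gram numbers for the three tori of `LData`.
-/

set_option autoImplicit false
set_option linter.unusedSectionVars false
set_option linter.style.haveILetI false

namespace Cfsg.Agent.JanThom

open Cfsg Cfsg.Agent.Char
open scoped ComplexConjugate

universe v

variable {L : Type v} [Group L] {Q : ℤ}

theorem cjChar_mul (X : Subgroup L) (a b : Subgroup.normalizer (X : Set L)) (f : X →* ℂˣ) :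
    cjChar X (a * b) f = cjChar X b (cjChar X a f) := by
  unfold cjChar
  rw [map_mul]
  rfl

theorem cjChar_one (X : Subgroup L) (f : X →* ℂˣ) : cjChar X 1 f = f := by
  unfold cjChar
  rw [map_one]
  rfl

theorem cjChar_of_cent {X : Subgroup L} (g : Subgroup.normalizer (X : Set L))
    (hg : ∀ x ∈ X, (g : L) * x * (g : L)⁻¹ = x) (f : X →* ℂˣ) : cjChar X g f = f :=
  MonoidHom.ext fun x => cjChar_apply X g f x x (hg x x.2).symm

theorem cjChar_of_inv {X : Subgroup L} (g : Subgroup.normalizer (X : Set L))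
    (hg : ∀ x ∈ X, (g : L) * x * (g : L)⁻¹ = x⁻¹) (f : X →* ℂˣ) : cjChar X g f = f⁻¹ :=
  MonoidHom.ext fun x => by
    rw [cjChar_apply X g f x x⁻¹ (by rw [Subgroup.coe_inv, hg x x.2]), map_inv, MonoidHom.inv_apply]

open scoped Classical in
/-- Counting in a normaliser all of whose elements centralise or invert. -/
theorem count_dihedral {X : Subgroup L} [Fintype (Subgroup.normalizer (X : Set L))] {c : ℕ}
    (hcov : ∀ g ∈ Subgroup.normalizer (X : Set L),
      (∀ x ∈ X, g * x * g⁻¹ = x) ∨ ∀ x ∈ X, g * x * g⁻¹ = x⁻¹)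
    {x₀ : L} (hx₀ : x₀ ∈ X) (hx₀' : x₀ ≠ x₀⁻¹)
    (hcent : Nat.card {g : L // g ∈ Subgroup.normalizer (X : Set L) ∧ g * x₀ * g⁻¹ = x₀} = c)
    (hinv : Nat.card {g : L // g ∈ Subgroup.normalizer (X : Set L) ∧ g * x₀ * g⁻¹ = x₀⁻¹} = c)
    (lam mu : X →* ℂˣ) :
    (Finset.univ.filter fun g : Subgroup.normalizer (X : Set L) => cjChar X g mu = lam).card =
      (if mu = lam then c else 0) + (if mu⁻¹ = lam then c else 0) := by
  have e1 : ∀ g : Subgroup.normalizer (X : Set L), (g : L) * x₀ * (g : L)⁻¹ = x₀ → cjChar X g mu = mu := by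
    intro g hg
    rcases hcov g g.2 with h | h
    · exact cjChar_of_cent g h mu
    · exact absurd ((h x₀ hx₀).symm.trans hg).symm hx₀'
  have e2 : ∀ g : Subgroup.normalizer (X : Set L), ¬ (g : L) * x₀ * (g : L)⁻¹ = x₀ → cjChar X g mu = mu⁻¹ := by
    intro g hg
    rcases hcov g g.2 with h | h
    · exact absurd (h x₀ hx₀) hg
    · exact cjChar_of_inv g h mu
  have c1 : (Finset.univ.filter fun g : Subgroup.normalizer (X : Set L) =>
      (g : L) * x₀ * (g : L)⁻¹ = x₀).card = c := by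
    rw [← hcent, ← Fintype.card_subtype, ← Nat.card_eq_fintype_card]
    exact Nat.card_congr (Equiv.subtypeSubtypeEquivSubtypeInter _ (fun g => g * x₀ * g⁻¹ = x₀))
  have c2' : (Finset.univ.filter fun g : Subgroup.normalizer (X : Set L) =>
      ¬ (g : L) * x₀ * (g : L)⁻¹ = x₀).card = c := by
    rw [← hinv, ← Fintype.card_subtype, ← Nat.card_eq_fintype_card]
    refine Nat.card_congr ((Equiv.subtypeEquivRight fun g => ?_).trans
      (Equiv.subtypeSubtypeEquivSubtypeInter _ (fun g => g * x₀ * g⁻¹ = x₀⁻¹)))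
    rcases hcov g g.2 with h | h
    · rw [h x₀ hx₀]
      exact ⟨fun h' => absurd rfl h', fun h' => absurd h' hx₀'⟩
    · rw [h x₀ hx₀]
      exact ⟨fun _ => rfl, fun _ => Ne.symm hx₀'⟩
  rw [← Finset.card_filter_add_card_filter_not
    (s := Finset.univ.filter fun g : Subgroup.normalizer (X : Set L) => cjChar X g mu = lam)
    (fun g => (g : L) * x₀ * (g : L)⁻¹ = x₀), Finset.filter_filter, Finset.filter_filter]
  congr 1
  · split_ifs with h
    · rw [← c1]
      refine congrArg _ (Finset.filter_congr fun g _ => ⟨fun hg => hg.2, fun hg => ⟨(e1 g hg).trans h, hg⟩⟩)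
    · rw [Finset.card_eq_zero, Finset.filter_eq_empty_iff]
      exact fun g _ hg => h ((e1 g hg.2).symm.trans hg.1)
  · split_ifs with h
    · rw [← c2']
      refine congrArg _ (Finset.filter_congr fun g _ => ⟨fun hg => hg.2, fun hg => ⟨(e2 g hg).trans h, hg⟩⟩)
    · rw [Finset.card_eq_zero, Finset.filter_eq_empty_iff]
      exact fun g _ hg => h ((e2 g hg.2).symm.trans hg.1)

namespace LData

theorem ne_inv_of_odd {X : Subgroup L} (hX : Odd (Nat.card X)) {x : L} (hx : x ∈ X) (hx1 : x ≠ 1) :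
    x ≠ x⁻¹ := fun h => hx1 (orderOf_eq_one_iff.1 (Nat.eq_one_of_dvd_coprimes
  (Nat.coprime_two_right.2 hX) (Subgroup.orderOf_dvd_natCard X hx) (orderOf_dvd_of_pow_eq_one
    (by rw [pow_two]; exact mul_eq_one_iff_eq_inv.2 h))))

theorem mem_normalizer_of_act {X : Subgroup L} {g : L}
    (h : (∀ z ∈ X, g * z * g⁻¹ = z) ∨ ∀ z ∈ X, g * z * g⁻¹ = z⁻¹) [Finite L] :
    g ∈ Subgroup.normalizer (X : Set L) := by
  have hto : ∀ z ∈ X, g * z * g⁻¹ ∈ X := fun z hz => by
    rcases h with h | h <;> rw [h z hz]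
    exacts [hz, inv_mem hz]
  rw [Subgroup.mem_normalizer_iff]
  intro z
  refine ⟨hto z, fun hz => ?_⟩
  obtain ⟨⟨x, hx⟩, hxe⟩ := Finite.surjective_of_injective
    (f := fun x : X => (⟨g * x * g⁻¹, hto x x.2⟩ : X))
    (fun a b hab => Subtype.ext (mul_left_cancel (mul_right_cancel (congrArg Subtype.val hab))))
    ⟨g * z * g⁻¹, hz⟩
  have := mul_left_cancel (mul_right_cancel (congrArg Subtype.val hxe))
  exact this ▸ hx

variable (D : LData L Q)

include D

theorem q_odd : Odd Q.natAbs := by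
  have := D.Q_mod
  rw [Nat.odd_iff]; omega

theorem odd_Zh : Odd (Nat.card D.Zh) := D.card_Zh ▸ D.h_odd'

theorem odd_Zk : Odd (Nat.card D.Zk) := D.card_Zk ▸ D.k_odd'

theorem odd_U : Odd (Nat.card D.U) := D.card_U ▸ D.q_odd

/-- The three coprimality facts. -/
theorem coprime_orders : Nat.Coprime D.h D.k ∧ Nat.Coprime D.h Q.natAbs ∧ Nat.Coprime D.k Q.natAbs := by
  have h1 := D.h_eq
  have h2 := D.k_eq
  have h3 := D.Q_mod
  have key : ∀ a b : ℕ, (∀ d, d ∣ a → d ∣ b → d ∣ 1) → Nat.Coprime a b := fun a b h =>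
    Nat.coprime_of_dvd' fun p _ ha hb => h p ha hb
  have hi : ((4 * D.h : ℕ) : ℤ) = Q + 1 ∨ ((4 * D.h : ℕ) : ℤ) = -(Q + 1) := by
    rw [h1]; exact Int.natAbs_eq (Q + 1) |>.imp (fun h => h.symm) (fun h => by omega)
  have ki : ((2 * D.k : ℕ) : ℤ) = Q - 1 ∨ ((2 * D.k : ℕ) : ℤ) = -(Q - 1) := by
    rw [h2]; exact Int.natAbs_eq (Q - 1) |>.imp (fun h => h.symm) (fun h => by omega)
  have hodd := D.h_odd'
  have kodd := D.k_odd'
  refine ⟨key _ _ fun d ha hb => ?_, key _ _ fun d ha hb => ?_, key _ _ fun d ha hb => ?_⟩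
  · have hd : (d : ℤ) ∣ (D.h : ℤ) := Int.natCast_dvd_natCast.2 ha
    have hd' : (d : ℤ) ∣ (D.k : ℤ) := Int.natCast_dvd_natCast.2 hb
    have h2' : (d : ℤ) ∣ 2 * (D.h : ℤ) - D.k := dvd_sub (hd.mul_left 2) hd'
    have h2'' : 2 * (D.h : ℤ) - D.k = 1 ∨ 2 * (D.h : ℤ) - D.k = -1 := by omega
    have h1' : (d : ℤ) ∣ 1 := by
      rcases h2'' with e | e <;> rw [e] at h2'
      exacts [h2', (dvd_neg.1 h2')]
    exact_mod_cast h1'
  · have hq : (d : ℤ) ∣ Q := Int.natCast_dvd.2 hb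
    have hd : (d : ℤ) ∣ ((4 * D.h : ℕ) : ℤ) := Int.natCast_dvd_natCast.2 (ha.mul_left 4)
    have hQ1 : (d : ℤ) ∣ Q + 1 := by
      rcases hi with e | e <;> rw [e] at hd
      exacts [hd, dvd_neg.1 hd]
    have : (d : ℤ) ∣ 1 := by simpa using dvd_sub hQ1 hq
    exact_mod_cast this
  · have hq : (d : ℤ) ∣ Q := Int.natCast_dvd.2 hb
    have hd : (d : ℤ) ∣ ((2 * D.k : ℕ) : ℤ) := Int.natCast_dvd_natCast.2 (ha.mul_left 2)
    have hQ1 : (d : ℤ) ∣ Q - 1 := by
      rcases ki with e | e <;> rw [e] at hd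
      exacts [hd, dvd_neg.1 hd]
    have : (d : ℤ) ∣ 1 := by simpa using dvd_sub hq hQ1
    exact_mod_cast this

theorem Zh_comm : ∀ a ∈ D.Zh, ∀ b ∈ D.Zh, a * b = b * a := fun a ha b hb => by
  haveI := D.Zh_cyclic
  letI : CommGroup D.Zh := IsCyclic.commGroup
  exact congrArg Subtype.val (mul_comm (⟨a, ha⟩ : D.Zh) ⟨b, hb⟩)

theorem Zk_comm : ∀ a ∈ D.Zk, ∀ b ∈ D.Zk, a * b = b * a := fun a ha b hb => by
  haveI := D.Zk_cyclic
  letI : CommGroup D.Zk := IsCyclic.commGroup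
  exact congrArg Subtype.val (mul_comm (⟨a, ha⟩ : D.Zk) ⟨b, hb⟩)

theorem Cs_act (g : L) (hg : g ∈ Subgroup.centralizer ({D.s} : Set L)) :
    (∀ z ∈ D.Zh, g * z * g⁻¹ = z) ∨ ∀ z ∈ D.Zh, g * z * g⁻¹ = z⁻¹ := by
  rcases D.Cs_cases g hg with h | h
  · left
    intro z hz
    have hle : D.Zh ⊔ Subgroup.zpowers D.s ≤ Subgroup.centralizer ({z} : Set L) :=
      sup_le (fun a ha => Subgroup.mem_centralizer_singleton_iff.2 (D.Zh_comm a ha z hz))
        (Subgroup.zpowers_le.2 (Subgroup.mem_centralizer_singleton_iff.2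
          (Subgroup.mem_centralizer_singleton_iff.1 (D.Zh_le hz)).symm))
    rw [Subgroup.mem_centralizer_singleton_iff.1 (hle h), mul_inv_cancel_right]
  · exact Or.inr h.2.2

theorem exists_Zh_ne : ∃ z ∈ D.Zh, z ≠ (1 : L) := by
  by_contra hno
  push Not at hno
  have : D.Zh = ⊥ := (Subgroup.eq_bot_iff_forall _).2 hno
  have h := D.card_Zh
  rw [this, Subgroup.card_bot] at h
  have := D.h_three'
  omega

theorem exists_Zk_ne : ∃ z ∈ D.Zk, z ≠ (1 : L) := by
  by_contra hno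
  push Not at hno
  have : D.Zk = ⊥ := (Subgroup.eq_bot_iff_forall _).2 hno
  have h := D.card_Zk
  rw [this, Subgroup.card_bot] at h
  have := D.k_five'
  omega

variable [Fintype L]

theorem norm_Zh : (Subgroup.normalizer (D.Zh : Set L) : Subgroup L) =
    Subgroup.centralizer ({D.s} : Set L) := by
  obtain ⟨z, hz, hz1⟩ := D.exists_Zh_ne
  refine le_antisymm (fun g hg => D.ti_h z hz hz1 g ((Subgroup.mem_normalizer_iff.1 hg z).1 hz))
    fun g hg => mem_normalizer_of_act (D.Cs_act g hg)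

theorem tiab_Zh : TIAb D.Zh where
  comm := D.Zh_comm
  ti := fun x hx hx1 g hg => D.norm_Zh ▸ D.ti_h x hx hx1 g hg

theorem norm_Zk_act {g : L} (hg : g ∈ Subgroup.normalizer (D.Zk : Set L)) :
    (∀ z ∈ D.Zk, g * z * g⁻¹ = z) ∨ ∀ z ∈ D.Zk, g * z * g⁻¹ = z⁻¹ := by
  obtain ⟨z, hz, hz1⟩ := D.exists_Zk_ne
  rcases D.ti_k z hz hz1 g ((Subgroup.mem_normalizer_iff.1 hg z).1 hz) with h | h
  · exact Or.inl fun x hx => by rw [D.Zk_comm g h x hx, mul_inv_cancel_right]
  · exact Or.inr h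

theorem tiab_Zk : TIAb D.Zk where
  comm := D.Zk_comm
  ti := fun x hx hx1 g hg => mem_normalizer_of_act (by
    rcases D.ti_k x hx hx1 g hg with h | h
    · exact Or.inl fun y hy => by rw [D.Zk_comm g h y hy, mul_inv_cancel_right]
    · exact Or.inr h)

theorem tiab_U : TIAb D.U where
  comm := D.U_comm
  ti := D.ti_u

open scoped Classical in
theorem norm_Zh_counts [Fintype (Subgroup.normalizer (D.Zh : Set L))] (lam mu : D.Zh →* ℂˣ) :
    Nat.card (Subgroup.normalizer (D.Zh : Set L)) = 4 * D.h ∧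
    ((Finset.univ.filter fun g : Subgroup.normalizer (D.Zh : Set L) => cjChar D.Zh g mu = lam).card =
      (if mu = lam then 2 * D.h else 0) + (if mu⁻¹ = lam then 2 * D.h else 0)) := by
  classical
  obtain ⟨z, hz, hz1⟩ := D.exists_Zh_ne
  have hz' := ne_inv_of_odd D.odd_Zh hz hz1
  have hN : Nat.card (Subgroup.normalizer (D.Zh : Set L)) = 4 * D.h := by
    rw [D.norm_Zh, D.card_Cs]
  refine ⟨hN, ?_⟩
  have hcov : ∀ g ∈ Subgroup.normalizer (D.Zh : Set L),
      (∀ x ∈ D.Zh, g * x * g⁻¹ = x) ∨ ∀ x ∈ D.Zh, g * x * g⁻¹ = x⁻¹ := fun g hg =>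
    D.Cs_act g (D.norm_Zh ▸ hg)
  have hinv : Nat.card {g : L // g ∈ Subgroup.normalizer (D.Zh : Set L) ∧ g * z * g⁻¹ = z⁻¹} = 2 * D.h := by
    rw [← D.inv_h z hz hz1]
    refine Nat.card_congr (Equiv.subtypeEquivRight fun g => ⟨fun h => ?_, fun h =>
      ⟨D.norm_Zh ▸ D.ti_h z hz hz1 g (by rw [h.2.2]; exact inv_mem hz), h.2.2⟩⟩)
    rcases D.Cs_cases g (D.norm_Zh ▸ h.1) with hg | hg
    · exfalso
      rcases hcov g h.1 with ha | ha
      · exact hz' ((ha z hz).symm.trans h.2)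
      · have hle : D.Zh ⊔ Subgroup.zpowers D.s ≤ Subgroup.centralizer ({z} : Set L) :=
          sup_le (fun a ha => Subgroup.mem_centralizer_singleton_iff.2 (D.Zh_comm a ha z hz))
            (Subgroup.zpowers_le.2 (Subgroup.mem_centralizer_singleton_iff.2
              (Subgroup.mem_centralizer_singleton_iff.1 (D.Zh_le hz)).symm))
        have hc := Subgroup.mem_centralizer_singleton_iff.1 (hle hg)
        exact hz' (by rw [← h.2, hc, mul_inv_cancel_right])
    · exact ⟨hg.1, hg.2.1, h.2⟩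
  have key := count_dihedral (c := 2 * D.h) hcov hz hz' ?_ hinv lam mu
  · convert key using 3
  have htot : Nat.card {g : L // g ∈ Subgroup.normalizer (D.Zh : Set L) ∧ g * z * g⁻¹ = z} +
      Nat.card {g : L // g ∈ Subgroup.normalizer (D.Zh : Set L) ∧ g * z * g⁻¹ = z⁻¹} = 4 * D.h := by
    rw [← hN, ← Nat.card_sum]
    refine Nat.card_eq_of_bijective (Sum.elim (fun g => ⟨g.1, g.2.1⟩) (fun g => ⟨g.1, g.2.1⟩)) ⟨?_, ?_⟩
    · rintro (a | a) (a' | a') h <;> simp only [Sum.elim_inl, Sum.elim_inr, Subtype.mk.injEq] at h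
      · exact congrArg Sum.inl (Subtype.ext h)
      · exact absurd (a.2.2.symm.trans (h ▸ a'.2.2)) hz'
      · exact absurd (a'.2.2.symm.trans (h ▸ a.2.2)) hz'
      · exact congrArg Sum.inr (Subtype.ext h)
    · rintro ⟨g, hg⟩
      rcases hcov g hg with h | h
      exacts [⟨Sum.inl ⟨g, hg, h z hz⟩, rfl⟩, ⟨Sum.inr ⟨g, hg, h z hz⟩, rfl⟩]
  omega

open scoped Classical in
theorem norm_Zk_counts [Fintype (Subgroup.normalizer (D.Zk : Set L))] (lam mu : D.Zk →* ℂˣ) :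
    Nat.card (Subgroup.normalizer (D.Zk : Set L)) = 2 * D.k ∧
    ((Finset.univ.filter fun g : Subgroup.normalizer (D.Zk : Set L) => cjChar D.Zk g mu = lam).card =
      (if mu = lam then D.k else 0) + (if mu⁻¹ = lam then D.k else 0)) := by
  classical
  obtain ⟨z, hz, hz1⟩ := D.exists_Zk_ne
  have hz' := ne_inv_of_odd D.odd_Zk hz hz1
  have hcov : ∀ g ∈ Subgroup.normalizer (D.Zk : Set L),
      (∀ x ∈ D.Zk, g * x * g⁻¹ = x) ∨ ∀ x ∈ D.Zk, g * x * g⁻¹ = x⁻¹ := fun g hg => D.norm_Zk_act hg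
  have hcent : Nat.card {g : L // g ∈ Subgroup.normalizer (D.Zk : Set L) ∧ g * z * g⁻¹ = z} = D.k := by
    rw [← D.card_Zk]
    refine Nat.card_congr (Equiv.subtypeEquivRight fun g => ⟨fun h => D.cent_k z hz hz1 g
      (mul_inv_eq_iff_eq_mul.1 h.2), fun h => ⟨Subgroup.le_normalizer h, by
        rw [D.Zk_comm g h z hz, mul_inv_cancel_right]⟩⟩)
  have hinv : Nat.card {g : L // g ∈ Subgroup.normalizer (D.Zk : Set L) ∧ g * z * g⁻¹ = z⁻¹} = D.k := by
    have hk := D.inv_k z hz hz1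
    obtain ⟨⟨a, ha, ha1, haz⟩⟩ : Nonempty {a : L // a * a = 1 ∧ a ≠ 1 ∧ a * z * a⁻¹ = z⁻¹} := by
      have hpos := D.k_five'
      exact (Nat.card_pos_iff.1 (by omega)).1
    have haN : a ∈ Subgroup.normalizer (D.Zk : Set L) := mem_normalizer_of_act (Or.inr (by
      rcases D.ti_k z hz hz1 a (by rw [haz]; exact inv_mem hz) with h | h
      · exact absurd (by rw [← haz, D.Zk_comm a h z hz, mul_inv_cancel_right]) hz'
      · exact h))
    rw [← hcent]
    have hai : a⁻¹ = a := inv_eq_of_mul_eq_one_right ha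
    refine Nat.card_congr ⟨fun g => ⟨a * g.1, mul_mem haN g.2.1, ?_⟩,
      fun g => ⟨a * g.1, mul_mem haN g.2.1, ?_⟩, fun g => Subtype.ext ?_, fun g => Subtype.ext ?_⟩
    · rw [show a * g.1 * z * (a * g.1)⁻¹ = a * (g.1 * z * g.1⁻¹) * a⁻¹ by group, g.2.2, ← conj_inv,
        haz, inv_inv]
    · rw [show a * g.1 * z * (a * g.1)⁻¹ = a * (g.1 * z * g.1⁻¹) * a⁻¹ by group, g.2.2, haz]
    · show a * (a * g.1) = g.1
      rw [← mul_assoc, ha, one_mul]
    · show a * (a * g.1) = g.1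
      rw [← mul_assoc, ha, one_mul]
  refine ⟨?_, by convert count_dihedral hcov hz hz' hcent hinv lam mu using 3⟩
  rw [two_mul]
  conv_rhs => arg 1; rw [← hcent]
  conv_rhs => arg 2; rw [← hinv]
  rw [← Nat.card_sum]
  refine (Nat.card_eq_of_bijective (Sum.elim (fun g => ⟨g.1, g.2.1⟩) (fun g => ⟨g.1, g.2.1⟩)) ⟨?_, ?_⟩).symm
  · rintro (a | a) (a' | a') h <;> simp only [Sum.elim_inl, Sum.elim_inr, Subtype.mk.injEq] at h
    · exact congrArg Sum.inl (Subtype.ext h)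
    · exact absurd (a.2.2.symm.trans (h ▸ a'.2.2)) hz'
    · exact absurd (a'.2.2.symm.trans (h ▸ a.2.2)) hz'
    · exact congrArg Sum.inr (Subtype.ext h)
  · rintro ⟨g, hg⟩
    rcases hcov g hg with h | h
    exacts [⟨Sum.inl ⟨g, hg, h z hz⟩, rfl⟩, ⟨Sum.inr ⟨g, hg, h z hz⟩, rfl⟩]

open scoped Classical in
/-- The stabiliser of a non-trivial character of `U` in the normaliser is `U`. -/
theorem stab_U {g : Subgroup.normalizer (D.U : Set L)} {f : D.U →* ℂˣ} (hf : f ≠ 1)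
    (hg : cjChar D.U g f = f) : (g : L) ∈ D.U := by
  by_contra hgU
  refine hf (MonoidHom.ext fun x => ?_)
  have hinj : Function.Injective (fun u : D.U =>
      (⟨(g : L) * u * (g : L)⁻¹, (Subgroup.mem_normalizer_iff.1 g.2 _).1 u.2⟩ : D.U) * u⁻¹) := by
    intro u u' h
    have h' := congrArg Subtype.val h
    simp only [Subgroup.coe_mul, Subgroup.coe_inv] at h'
    by_contra hne
    have hd : ((u' : L)⁻¹ * u) ∈ D.U := mul_mem (inv_mem u'.2) u.2
    have hd1 : (u' : L)⁻¹ * u ≠ 1 := fun e => hne (Subtype.ext (inv_mul_eq_one.1 e).symm)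
    refine hgU (D.cent_u _ hd hd1 (g : L) ?_)
    have e1 : (g : L) * u * (g : L)⁻¹ = (g : L) * u' * (g : L)⁻¹ * ((u' : L)⁻¹ * u) := by
      rw [← mul_assoc, ← h', inv_mul_cancel_right]
    have e2 : (g : L) * ((u' : L)⁻¹ * u) * (g : L)⁻¹ = (u' : L)⁻¹ * u := by
      calc (g : L) * ((u' : L)⁻¹ * u) * (g : L)⁻¹
          = ((g : L) * u' * (g : L)⁻¹)⁻¹ * ((g : L) * u * (g : L)⁻¹) := by group
        _ = _ := by rw [e1, inv_mul_cancel_left]
    exact mul_inv_eq_iff_eq_mul.1 e2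
  obtain ⟨u, hu⟩ := Finite.surjective_of_injective hinj x
  have hu' : f x = f ⟨(g : L) * u * (g : L)⁻¹, (Subgroup.mem_normalizer_iff.1 g.2 _).1 u.2⟩ * (f u)⁻¹ := by
    rw [← hu, map_mul, map_inv]
  rw [hu', ← cjChar_apply D.U g f u _ rfl, hg, mul_inv_cancel, MonoidHom.one_apply]

open scoped Classical in
theorem U_orbit_count [Fintype (Subgroup.normalizer (D.U : Set L))] {f : D.U →* ℂˣ} (hf : f ≠ 1)
    (g₀ : Subgroup.normalizer (D.U : Set L)) :
    (Finset.univ.filter fun g : Subgroup.normalizer (D.U : Set L) =>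
      cjChar D.U g f = cjChar D.U g₀ f).card = Q.natAbs := by
  rw [← D.card_U, ← Fintype.card_subtype, ← Nat.card_eq_fintype_card]
  refine Nat.card_congr ⟨fun g => ⟨(g.1 : L) * (g₀ : L)⁻¹, ?_⟩,
    fun u => ⟨⟨(u : L) * g₀, mul_mem (Subgroup.le_normalizer u.2) g₀.2⟩, ?_⟩,
    fun g => Subtype.ext (Subtype.ext ?_), fun u => Subtype.ext ?_⟩
  · have h : cjChar D.U (g.1 * g₀⁻¹) f = f := by
      rw [cjChar_mul, g.2, ← cjChar_mul, mul_inv_cancel, cjChar_one]
    simpa using D.stab_U hf h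
  · show cjChar D.U (⟨(u : L), Subgroup.le_normalizer u.2⟩ * g₀) f = cjChar D.U g₀ f
    rw [cjChar_mul, cjChar_of_cent (⟨(u : L), Subgroup.le_normalizer u.2⟩ :
      Subgroup.normalizer (D.U : Set L)) (fun x hx => by
        show (u : L) * x * (u : L)⁻¹ = x
        rw [D.U_comm u u.2 x hx, mul_inv_cancel_right]) f]
  · simp
  · simp

open scoped Classical in
/-- The two orbits on the non-trivial characters of `U`. -/
theorem exists_psi [Fintype (Subgroup.normalizer (D.U : Set L))] [Fintype (D.U →* ℂˣ)] :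
    ∃ ψ ψ' : D.U →* ℂˣ, ψ ≠ 1 ∧ ψ' ≠ 1 ∧ (∀ g, cjChar D.U g ψ ≠ ψ') ∧
      (Finset.univ.image fun g => cjChar D.U g ψ) ∪ (Finset.univ.image fun g => cjChar D.U g ψ') =
        Finset.univ.erase 1 ∧
      ∀ f : D.U →* ℂˣ, f ≠ 1 → 2 * (Finset.univ.image fun g => cjChar D.U g f).card = Q.natAbs - 1 := by
  have hne : ∀ (f : D.U →* ℂˣ) g, f ≠ 1 → cjChar D.U g f ≠ 1 := fun f g hf h => hf (by
    have := congrArg (cjChar D.U g⁻¹) h
    rw [← cjChar_mul, mul_inv_cancel, cjChar_one] at this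
    rw [this]
    exact MonoidHom.ext fun x => rfl)
  have horb : ∀ f : D.U →* ℂˣ, f ≠ 1 →
      2 * (Finset.univ.image fun g => cjChar D.U g f).card = Q.natAbs - 1 := by
    intro f hf
    have hsum := Finset.card_eq_sum_card_image (fun g : Subgroup.normalizer (D.U : Set L) =>
      cjChar D.U g f) Finset.univ
    rw [Finset.sum_const_nat (m := Q.natAbs) fun y hy => by
      obtain ⟨g₀, -, rfl⟩ := Finset.mem_image.1 hy
      exact D.U_orbit_count hf g₀, Finset.card_univ, ← Nat.card_eq_fintype_card] at hsum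
    have h := D.card_NU
    rw [hsum, ← mul_assoc, mul_comm Q.natAbs] at h
    have hq : 0 < Q.natAbs := by have := D.Q_large; omega
    exact Nat.eq_of_mul_eq_mul_right hq h
  have hcard : (Finset.univ.erase (1 : D.U →* ℂˣ)).card = Q.natAbs - 1 := by
    rw [Finset.card_erase_of_mem (Finset.mem_univ _), Finset.card_univ, ← Nat.card_eq_fintype_card,
      card_dual D.U D.U_comm, D.card_U]
  have hq := D.Q_large
  obtain ⟨ψ, hψ⟩ := Finset.card_pos.1 (show 0 < (Finset.univ.erase (1 : D.U →* ℂˣ)).card by omega)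
  have hψ1 := Finset.ne_of_mem_erase hψ
  obtain ⟨ψ', hψ', hψ''⟩ := Finset.exists_mem_notMem_of_card_lt_card
    (show (Finset.univ.image fun g => cjChar D.U g ψ).card < (Finset.univ.erase (1 : D.U →* ℂˣ)).card by
      have := horb ψ hψ1; omega)
  have hψ'1 := Finset.ne_of_mem_erase hψ'
  refine ⟨ψ, ψ', hψ1, hψ'1, fun g h => hψ'' (Finset.mem_image.2 ⟨g, Finset.mem_univ _, h⟩), ?_, horb⟩
  refine Finset.eq_of_subset_of_card_le (Finset.union_subset ?_ ?_) ?_
  · intro y hy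
    obtain ⟨g, -, rfl⟩ := Finset.mem_image.1 hy
    exact Finset.mem_erase.2 ⟨hne ψ g hψ1, Finset.mem_univ _⟩
  · intro y hy
    obtain ⟨g, -, rfl⟩ := Finset.mem_image.1 hy
    exact Finset.mem_erase.2 ⟨hne ψ' g hψ'1, Finset.mem_univ _⟩
  · rw [Finset.card_union_of_disjoint, hcard]
    · have := horb ψ hψ1
      have := horb ψ' hψ'1
      omega
    · rw [Finset.disjoint_left]
      intro y hy hy'
      obtain ⟨g, -, rfl⟩ := Finset.mem_image.1 hy
      obtain ⟨g', -, hg'⟩ := Finset.mem_image.1 hy'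
      refine hψ'' (Finset.mem_image.2 ⟨g * g'⁻¹, Finset.mem_univ _, ?_⟩)
      rw [cjChar_mul, ← hg', ← cjChar_mul, mul_inv_cancel, cjChar_one]

end LData

end Cfsg.Agent.JanThom
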