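import Cfsg.Agent.Lib.JanThom.ULemma

/-!
Facts used to exclude the centralisers `Zg × A₅`: conjugation into the tori of `L`, commutativity of
two-subgroups, and the structure of the exceptional case.
-/

set_option autoImplicit false
set_option linter.unusedSectionVars false
set_option linter.style.haveILetI false

namespace Cfsg.Agent.JanThom

open Subgroup

universe u v

theorem a5_cent_three : ∀ y : alternatingGroup (Fin 5), y ^ 3 = 1 → y ≠ 1 →
    ∀ x : alternatingGroup (Fin 5), x * y = y * x → x ^ 3 = 1 := by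
  decide +kernel

set_option synthInstance.maxSize 4000 in
theorem a5_conj_three : ∀ v : alternatingGroup (Fin 5), v ^ 3 = 1 → v ≠ 1 →
    ∀ g : alternatingGroup (Fin 5), g ^ 3 = 1 → g ≠ 1 →
      ∃ x : alternatingGroup (Fin 5), x * v * x⁻¹ = g ∨ x * v * x⁻¹ = g ^ 2 := by
  decide +kernel

set_option synthInstance.maxSize 4000 in
theorem a5_conj_five : ∀ v : alternatingGroup (Fin 5), v ^ 5 = 1 → v ≠ 1 →
    ∀ g : alternatingGroup (Fin 5), g ^ 5 = 1 → g ≠ 1 →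
      ∃ x : alternatingGroup (Fin 5), x * v * x⁻¹ = g ∨ x * v * x⁻¹ = g ^ 2 ∨
        x * v * x⁻¹ = g ^ 3 ∨ x * v * x⁻¹ = g ^ 4 := by
  decide +kernel

theorem a5_conj {l : ℕ} (hl : l = 3 ∨ l = 5) {v g : alternatingGroup (Fin 5)} (hv : v ^ l = 1)
    (hv1 : v ≠ 1) (hg : g ^ l = 1) (hg1 : g ≠ 1) :
    ∃ x : alternatingGroup (Fin 5), ∃ i : ℕ, x * v * x⁻¹ = g ^ i := by
  rcases hl with rfl | rfl
  · obtain ⟨x, h | h⟩ := a5_conj_three v hv hv1 g hg hg1
    exacts [⟨x, 1, h.trans (pow_one g).symm⟩, ⟨x, 2, h⟩]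
  · obtain ⟨x, h | h | h | h⟩ := a5_conj_five v hv hv1 g hg hg1
    exacts [⟨x, 1, h.trans (pow_one g).symm⟩, ⟨x, 2, h⟩, ⟨x, 3, h⟩, ⟨x, 4, h⟩]

namespace LData

variable {L : Type v} [Group L] {Q : ℤ} (D : LData L Q) [Finite L]

include D

/-- An element of odd prime order dividing `h` is conjugate into `Zh`. -/
theorem conj_Zh {r : ℕ} (hr : r.Prime) (hr2 : r ≠ 2) (hrh : r ∣ D.h) {b : L} (hb : orderOf b = r) :
    ∃ g : L, g * b * g⁻¹ ∈ D.Zh := by
  obtain ⟨g, h | h | h⟩ := D.odd_cases b (hb.symm ▸ hr.odd_of_ne_two hr2)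
  all_goals have ho : orderOf (g * b * g⁻¹) = r := (MulEquiv.orderOf_eq (MulAut.conj g) b).trans hb
  · exact ⟨g, h⟩
  · exact absurd (Nat.eq_one_of_dvd_coprimes D.coprime_orders.1 hrh
      (D.card_Zk ▸ ho ▸ orderOf_dvd_natCard _ h)) hr.ne_one
  · exfalso
    have hd : r ∣ D.p := ho ▸ orderOf_dvd_of_pow_eq_one (D.U_exp _ h)
    exact hr.ne_one (Nat.eq_one_of_dvd_coprimes D.p_coprime.1 hrh hd)

/-- An element of odd prime order not dividing `h p` is conjugate into `Zk`. -/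
theorem conj_Zk {r : ℕ} (hr : r.Prime) (hr2 : r ≠ 2) (hrh : ¬ r ∣ D.h) (hrp : r ≠ D.p) {b : L}
    (hb : orderOf b = r) : ∃ g : L, g * b * g⁻¹ ∈ D.Zk := by
  obtain ⟨g, h | h | h⟩ := D.odd_cases b (hb.symm ▸ hr.odd_of_ne_two hr2)
  all_goals have ho : orderOf (g * b * g⁻¹) = r := (MulEquiv.orderOf_eq (MulAut.conj g) b).trans hb
  · exact absurd (D.card_Zh ▸ ho ▸ orderOf_dvd_natCard _ h) hrh
  · exact ⟨g, h⟩
  · exact absurd ((Nat.prime_dvd_prime_iff_eq hr D.prime_p).1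
      (ho ▸ orderOf_dvd_of_pow_eq_one (D.U_exp _ h))) hrp

end LData

namespace Setup

variable {G : Type u} [Group G] [Finite G] {L : Type v} [Group L] {Q : ℤ} (E : Setup G L Q)

include E in
/-- Two-subgroups are commutative. -/
theorem two_comm {R : Subgroup G} (hR : IsPGroup 2 R) {a b : G} (ha : a ∈ R) (hb : b ∈ R) :
    a * b = b * a := by
  haveI : Fact (Nat.Prime 2) := ⟨Nat.prime_two⟩
  haveI := E.finite_L
  obtain ⟨i, -, hi, hi1, his, hc, -, -, -⟩ := E.D.exists_alt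
  have h8 : 8 ∣ Nat.card G := E.card_P0 hi hc hi1 his ▸ Subgroup.card_subgroup_dvd_card _
  have hf : (Nat.card G).factorization 2 = 3 := by
    refine le_antisymm (Nat.lt_succ_iff.1 (Nat.lt_of_not_le fun h => E.two ?_)) ?_
    · exact (pow_dvd_pow 2 h).trans (Nat.ordProj_dvd _ _)
    · exact (Nat.prime_two.pow_dvd_iff_le_factorization Nat.card_pos.ne').1 h8
  let P : Sylow 2 G := Sylow.ofCard (E.P0 hi hc) (by
    rw [E.card_P0 hi hc hi1 his, hf]; norm_num)
  haveI := AbelInv.comm_of_two (P := P) ⟨⟨fun a b => Subtype.ext (E.P0_comm hi hc a.2 b.2)⟩⟩ hR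
  exact congrArg Subtype.val (mul_comm' (⟨a, ha⟩ : R) ⟨b, hb⟩)

variable [IsSimpleGroup G] {E}

/-- An element of odd prime order commuting with an involution, moved into `L`. -/
theorem exists_conj_L {u g : G} (hu2 : u * u = 1) (hu1 : u ≠ 1) (hgu : g * u = u * g) {r : ℕ}
    (hr : r.Prime) (hr2 : r ≠ 2) (hgr : orderOf g = r) :
    ∃ c : G, ∃ b : L, c * u * c⁻¹ = E.τ ∧ c * g * c⁻¹ = E.ι (1, b) ∧ orderOf b = r := by
  obtain ⟨d, hd⟩ := isConj_iff.1 (E.conj_t hu2 hu1)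
  have hcomm : d⁻¹ * g * d * E.τ = E.τ * (d⁻¹ * g * d) := by
    calc d⁻¹ * g * d * E.τ = d⁻¹ * (g * (d * E.τ * d⁻¹)) * d := by group
      _ = d⁻¹ * (d * E.τ * d⁻¹ * g) * d := by rw [hd, hgu]
      _ = E.τ * (d⁻¹ * g * d) := by group
  obtain ⟨⟨e, b⟩, heb⟩ := E.cent _ hcomm
  have hord : orderOf (e, b) = r := by
    rw [← orderOf_injective E.ι E.inj, heb]
    have h := MulEquiv.orderOf_eq (MulAut.conj d⁻¹) g
    rw [MulAut.conj_apply, inv_inv] at h
    rw [h, hgr]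
  have he : e = 1 := by
    have h1 := pow_orderOf_eq_one (e, b)
    rw [hord, Prod.pow_mk] at h1
    obtain ⟨i, hi⟩ := hr.odd_of_ne_two hr2
    have h2 : e ^ r = 1 := congrArg Prod.fst h1
    rwa [hi, pow_succ, pow_mul, pow_two, C2_sq, one_pow, one_mul] at h2
  subst he
  refine ⟨d⁻¹, b, ?_, ?_, by rw [← hord, Prod.orderOf_mk, orderOf_one, Nat.lcm_one_left]⟩
  · rw [← hd]; group
  · rw [inv_inv, heb]

/-- ... and then into a given class of subgroups of `L`. -/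
theorem exists_conj_sub {u g : G} (hu2 : u * u = 1) (hu1 : u ≠ 1) (hgu : g * u = u * g) {r : ℕ}
    (hr : r.Prime) (hr2 : r ≠ 2) (hgr : orderOf g = r) {Y : Subgroup L}
    (hY : ∀ b : L, orderOf b = r → ∃ m : L, m * b * m⁻¹ ∈ Y) :
    ∃ c : G, ∃ b ∈ Y, c * u * c⁻¹ = E.τ ∧ c * g * c⁻¹ = E.ι (1, b) ∧ orderOf b = r := by
  obtain ⟨c, b, hcu, hcg, hb⟩ := exists_conj_L (E := E) hu2 hu1 hgu hr hr2 hgr
  obtain ⟨m, hm⟩ := hY b hb
  refine ⟨E.ι (1, m) * c, m * b * m⁻¹, hm, ?_, ?_, (MulEquiv.orderOf_eq (MulAut.conj m) b).trans hb⟩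
  · calc E.ι (1, m) * c * u * (E.ι (1, m) * c)⁻¹ = E.ι (1, m) * (c * u * c⁻¹) * (E.ι (1, m))⁻¹ := by group
      _ = E.τ := by rw [hcu, E.τ_comm, mul_inv_cancel_right]
  · calc E.ι (1, m) * c * g * (E.ι (1, m) * c)⁻¹ = E.ι (1, m) * (c * g * c⁻¹) * (E.ι (1, m))⁻¹ := by group
      _ = _ := by
        rw [hcg, ← map_inv, ← map_mul, ← map_mul]
        exact congrArg E.ι (Prod.ext (by simp) rfl)

/-- The data of the exceptional case, valid for every element of the torus. -/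
structure A5Data (E : Setup G L Q) (y u : G) where
  X : Subgroup G
  iso : X ≃* alternatingGroup (Fin 5)
  E4_le : E.E4 ≤ X
  comm : ∀ x ∈ X, ∀ z ∈ E.Zg, x * z = z * x
  inf : X ⊓ E.Zg = ⊥
  dec : ∀ z ∈ E.Zg, z ≠ 1 → ∀ x : G, x * z = z * x → ∃ v ∈ X, ∃ c ∈ E.Zg, x = v * c
  y_mem : y ∈ X
  u_comm : ∀ x ∈ X, u * x = x * u
  fused : ∀ z ∈ E.Zg, y * z = z * y

variable {y u : G}

theorem exists_A5Data (hy : E.IsY y) (hu2 : u * u = 1) (huτ : u * E.τ = E.τ * u)
    (hinv : ∀ z ∈ E.Zg, u * z * u⁻¹ = z⁻¹) (hyu : y * u = u * y) {z : G} (hz : z ∈ E.Zg)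
    (hz1 : z ≠ 1) (hyz : y * z = z * y) (hA : E.IsA5Case z) : Nonempty (A5Data E y u) := by
  classical
  obtain ⟨X, ⟨e⟩, hEX, hXZ, hinf, hiff⟩ := hA
  have huniq : ∀ v ∈ X, ∀ v' ∈ X, ∀ c ∈ E.Zg, ∀ c' ∈ E.Zg, v * c = v' * c' → v = v' ∧ c = c' := by
    intro v hv v' hv' c hc c' hc' h
    have h1 : v'⁻¹ * v = c' * c⁻¹ := by
      calc v'⁻¹ * v = v'⁻¹ * (v * c) * c⁻¹ := by group
        _ = c' * c⁻¹ := by rw [h]; group
    have h2 : v'⁻¹ * v = 1 := mem_bot.1 (hinf ▸ mem_inf.2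
      ⟨mul_mem (inv_mem hv') hv, h1 ▸ mul_mem hc' (inv_mem hc)⟩)
    have h3 : v = v' := (inv_mul_eq_one.1 h2).symm
    refine ⟨h3, ?_⟩
    rw [h3] at h
    exact mul_left_cancel h
  have hdec : ∀ w ∈ E.Zg, w ≠ 1 → ∀ x : G, x * w = w * x → ∃ v ∈ X, ∃ c ∈ E.Zg, x = v * c := by
    intro w hw hw1 x hx
    refine (hiff x).1 ?_
    have hle : centralizer ({z} : Set G) ≤ centralizer ({w} : Set G) := fun q hq => by
      obtain ⟨v, hv, c, hc, rfl⟩ := (hiff q).1 (mem_centralizer_singleton_iff.1 hq)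
      exact mul_mem (mem_centralizer_singleton_iff.2 (hXZ v hv w hw))
        (T_le_cent hw (E.Zg_le_T hc))
    have hyw : y * w = w * y := mem_centralizer_singleton_iff.1
      (hle (mem_centralizer_singleton_iff.2 hyz))
    have heq : centralizer ({z} : Set G) = centralizer ({w} : Set G) := by
      refine eq_of_le_of_card_ge hle ?_
      have hcard : 60 * E.D.h ≤ Nat.card (centralizer ({z} : Set G)) := by
        rw [← card_a5, ← Nat.card_congr e.toEquiv, ← E.card_Zg, ← Nat.card_prod]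
        refine Nat.card_le_card_of_injective (fun q : X × E.Zg =>
          (⟨(q.1 : G) * q.2, mem_centralizer_singleton_iff.2
            ((hiff _).2 ⟨q.1, q.1.2, q.2, q.2.2, rfl⟩)⟩ : centralizer ({z} : Set G))) ?_
        rintro ⟨a, b⟩ ⟨a', b'⟩ hq
        obtain ⟨h1, h2⟩ := huniq a a.2 a' a'.2 b b.2 b' b'.2 (congrArg Subtype.val hq)
        exact Prod.ext (Subtype.ext h1) (Subtype.ext h2)
      refine le_trans ?_ hcard
      rcases fused_card hy hw hw1 hyw with h | ⟨h, -⟩ <;> rw [h]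
      omega
    exact mem_centralizer_singleton_iff.1 (heq ▸ mem_centralizer_singleton_iff.2 hx)
  have hu : u⁻¹ = u := inv_eq_of_mul_eq_one_right hu2
  have hinvol : ∀ x ∈ X, x * x = 1 → u * x * u⁻¹ ∈ X := by
    intro x hx hx2
    have hxz : x * z⁻¹ = z⁻¹ * x := hXZ x hx _ (inv_mem hz)
    have hzu : z = u * z⁻¹ * u⁻¹ := by rw [hinv _ (inv_mem hz), inv_inv]
    have hc : u * x * u⁻¹ * z = z * (u * x * u⁻¹) := by
      calc u * x * u⁻¹ * z = u * x * u⁻¹ * (u * z⁻¹ * u⁻¹) := by rw [← hzu]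
        _ = u * (x * z⁻¹) * u⁻¹ := by group
        _ = u * (z⁻¹ * x) * u⁻¹ := by rw [hxz]
        _ = u * z⁻¹ * u⁻¹ * (u * x * u⁻¹) := by group
        _ = z * (u * x * u⁻¹) := by rw [← hzu]
    obtain ⟨v, hv, w, hw, he⟩ := (hiff _).1 hc
    have hvw : Commute v w := hXZ v hv w hw
    have h2 : (v * v) * (w * w) = 1 * 1 := by
      calc (v * v) * (w * w) = v * (v * w) * w := by group
        _ = v * (w * v) * w := by rw [hvw.eq]
        _ = (v * w) * (v * w) := by group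
        _ = u * (x * x) * u⁻¹ := by rw [← he]; group
        _ = 1 * 1 := by rw [hx2]; group
    obtain ⟨-, hw2⟩ := huniq _ (mul_mem hv hv) 1 (one_mem _) _ (mul_mem hw hw) 1 (one_mem _) h2
    rw [he, E.eq_one_of_sq hw (k := 1) (by rw [pow_one, pow_two]; exact hw2), mul_one]
    exact hv
  have hX : ∀ x ∈ X, u * x * u⁻¹ ∈ X := by
    intro x hx
    obtain ⟨a, ha, b, hb, hab⟩ := a5_two_invol (e ⟨x, hx⟩)
    have hsq : ∀ q, q * q = 1 → ((e.symm q : X) : G) * (e.symm q : X) = 1 := fun q hq => by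
      rw [← Subgroup.coe_mul, ← map_mul, hq, map_one]; rfl
    have he : x = ((e.symm a : X) : G) * (e.symm b : X) := by
      rw [← Subgroup.coe_mul, ← map_mul, ← hab, e.symm_apply_apply]
    rw [he, show u * (((e.symm a : X) : G) * (e.symm b : X)) * u⁻¹ =
      (u * (e.symm a : X) * u⁻¹) * (u * (e.symm b : X) * u⁻¹) by group]
    exact mul_mem (hinvol _ (e.symm a).2 (hsq a ha)) (hinvol _ (e.symm b).2 (hsq b hb))
  have hyX : y ∈ X := by
    obtain ⟨v, hv, w, hw, he⟩ := (hiff y).1 hyz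
    have h1 : (u * v * u⁻¹) * w⁻¹ = v * w := by
      calc (u * v * u⁻¹) * w⁻¹ = (u * v * u⁻¹) * (u * w * u⁻¹) := by rw [hinv w hw]
        _ = u * y * u⁻¹ := by rw [he]; group
        _ = v * w := by rw [← hyu, mul_inv_cancel_right, he]
    obtain ⟨-, hw2⟩ := huniq _ (hX v hv) v hv _ (inv_mem hw) w hw h1
    rw [he, E.eq_one_of_sq hw (k := 1) (by
      rw [pow_one, pow_two]; exact mul_eq_one_iff_eq_inv.2 hw2.symm), mul_one]
    exact hv
  let θ0 : X → X := fun x => ⟨u * (x : G) * u⁻¹, hX x x.2⟩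
  have hθ0 : ∀ x, θ0 (θ0 x) = x := fun x => Subtype.ext (by
    show u * (u * (x : G) * u⁻¹) * u⁻¹ = x
    calc u * (u * (x : G) * u⁻¹) * u⁻¹ = (u * u) * x * (u * u)⁻¹ := by group
      _ = x := by rw [hu2]; group)
  let θ : X ≃* X :=
    { toFun := θ0
      invFun := θ0
      left_inv := hθ0
      right_inv := hθ0
      map_mul' := fun x x' => Subtype.ext (by
        show u * ((x : G) * x') * u⁻¹ = u * x * u⁻¹ * (u * x' * u⁻¹)
        group) }
  obtain ⟨π, hπ⟩ := (AutAlt.bijective_conjNormal (n := 5) (by norm_num) (by norm_num)).2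
    (e.symm.trans (θ.trans e))
  have hcommπ : ∀ x : X, u * (x : G) = x * u → π * (e x : Equiv.Perm (Fin 5)) = e x * π := by
    intro x hx
    have h := congrArg Subtype.val (DFunLike.congr_fun hπ (e x))
    rw [MulAut.conjNormal_apply] at h
    have hθx : θ x = x := Subtype.ext (show u * (x : G) * u⁻¹ = x by rw [hx, mul_inv_cancel_right])
    simp only [MulEquiv.trans_apply, e.symm_apply_apply, hθx] at h
    exact mul_inv_eq_iff_eq_mul.1 h
  let τX : X := ⟨E.τ, hEX E.τ_mem_E4⟩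
  let yX : X := ⟨y, hyX⟩
  have hinj : ∀ x : X, x ≠ 1 → (e x : Equiv.Perm (Fin 5)) ≠ 1 := fun x hx h =>
    hx (e.injective (Subtype.ext (h.trans (by rw [map_one]; rfl))))
  have hπ1 : π = 1 := by
    by_contra hπ1
    refine s5_fix (e yX : Equiv.Perm (Fin 5)) ?_ (hinj _ fun h => hy.not_mem_T ?_) π
      (hcommπ yX hyu.symm) hπ1 (e τX : Equiv.Perm (Fin 5)) ?_ (hinj _ fun h =>
        E.τ_ne (congrArg Subtype.val h)) (Equiv.Perm.mem_alternatingGroup.1 (e τX).2) ?_ ?_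
      (hcommπ τX huτ)
    · rw [← Subgroup.coe_pow, ← map_pow, show yX ^ 3 = 1 from Subtype.ext hy.cube, map_one]; rfl
    · rw [show y = 1 from congrArg Subtype.val h]; exact one_mem _
    · rw [← Subgroup.coe_mul, ← map_mul, show τX * τX = 1 from Subtype.ext E.τ_sq, map_one]; rfl
    · simp only [← Subgroup.coe_inv, ← Subgroup.coe_mul, ← map_inv, ← map_mul]
      refine congrArg (fun q : X => ((e q : alternatingGroup (Fin 5)) : Equiv.Perm (Fin 5))) ?_
      refine Subtype.ext ?_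
      show y * E.τ * y⁻¹ * E.τ = E.τ * (y * E.τ * y⁻¹)
      rw [hy.tau]
      exact E.T_comm (E.E4_le_T E.σ_mem_E4) (E.E4_le_T E.τ_mem_E4)
    · simp only [← Subgroup.coe_inv, ← Subgroup.coe_mul, ← map_inv, ← map_mul]
      refine fun h => E.τ_ne_σ ?_
      have h' := congrArg Subtype.val (e.injective (Subtype.ext h))
      simp only [Subgroup.coe_mul, Subgroup.coe_inv, yX, τX] at h'
      rw [hy.tau] at h'
      exact h'.symm
  have hfix : ∀ x ∈ X, u * x = x * u := by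
    intro x hx
    have h := DFunLike.congr_fun hπ (e ⟨x, hx⟩)
    rw [hπ1, map_one, MulAut.one_apply] at h
    simp only [MulEquiv.trans_apply, e.symm_apply_apply] at h
    exact mul_inv_eq_iff_eq_mul.1 (congrArg Subtype.val (e.injective h.symm) :)
  exact ⟨⟨X, e, hEX, hXZ, hinf, hdec, hyX, hfix, fun w hw => hXZ y hyX w hw⟩⟩

end Setup

end Cfsg.Agent.JanThom
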