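import Mathlib

/-!
The arithmetic excluding the row shape with one entry `e = ±2`.
Signed conventions: `Q % 8 = 3`, `4 H = Q + 1`, `v = (Q - 1) / 2`.
-/

set_option autoImplicit false

namespace Cfsg.Agent.JanThom

theorem four_rows {Q P X D R : ℤ} {K : ℚ} {N : ℕ} (hQ : Q % 8 = 3) (hQa : 27 ≤ |Q|)
    (hpp : IsPrimePow Q.natAbs) (hP : P ≠ 0) (hX : X ≠ 0) (hD : D ≠ 0) (hR : R ≠ 0)
    (hsum : 1 + P + 2 * X + 2 * D = 0) (hPR : P = 2 * R + 1)
    (cR : 2 * (Q + 1) ∣ 2 * R - (Q + 1)) (cD : 2 * (Q + 1) ∣ 2 * D + (Q + 7))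
    (hb : 1 - (Q : ℚ) ^ 2 / P + ((Q : ℚ) + 1) ^ 2 / (2 * (R : ℚ)) = K * ((Q : ℚ) - 1))
    (he : 1 + (Q : ℚ) ^ 2 / P + 2 * ((Q : ℚ) - 1) ^ 2 / X + ((Q : ℚ) - 1) ^ 2 / (2 * (D : ℚ)) =
      K * ((Q : ℚ) ^ 2 - 6 * Q + 1) / (Q + 1))
    (hf : 1 + (Q : ℚ) ^ 2 / P + 2 * ((Q : ℚ) - 1) ^ 2 / X + 9 * ((Q : ℚ) - 1) ^ 2 / (2 * (D : ℚ)) =
      K * ((Q : ℚ) + 1))
    (hN : (N : ℚ) * |K| = (Q : ℚ) ^ 2 * ((Q : ℚ) ^ 2 - 1) ^ 2)
    (hdvd : |Q| * (Q ^ 2 - 1) ∣ (N : ℤ)) : False := by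
  obtain ⟨v, hv⟩ : ∃ v, Q = 2 * v + 1 := ⟨Q / 2, by omega⟩
  have hvodd : v % 2 = 1 := by omega
  have hv0 : v ≠ 0 := by rcases abs_cases Q with ⟨e, e1⟩ | ⟨e, e1⟩ <;> omega
  have hQ0 : Q ≠ 0 := by omega
  have hQ1 : Q + 1 ≠ 0 := by omega
  have hQq : (Q : ℚ) ≠ 0 := by exact_mod_cast hQ0
  have hQ1q : (Q : ℚ) + 1 ≠ 0 := by exact_mod_cast hQ1
  have hDq : (D : ℚ) ≠ 0 := by exact_mod_cast hD
  have hPq : (P : ℚ) ≠ 0 := by exact_mod_cast hP
  have hRq : (R : ℚ) ≠ 0 := by exact_mod_cast hR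
  have hXq : (X : ℚ) ≠ 0 := by exact_mod_cast hX
  have hK : K * (2 * Q * D) = ((Q : ℚ) - 1) ^ 2 * (Q + 1) := by
    have h : 4 * ((Q : ℚ) - 1) ^ 2 / D = K * (8 * Q) / (Q + 1) := by
      have e : K * (8 * (Q : ℚ)) / (Q + 1) = K * ((Q : ℚ) + 1) - K * ((Q : ℚ) ^ 2 - 6 * Q + 1) / (Q + 1) := by
        field_simp; ring
      rw [e, ← hf, ← he]
      field_simp
      ring
    field_simp at h
    linear_combination -(1 / 4 : ℚ) * h
  -- the order forces `v ∣ D`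
  have hvD : v ∣ D := by
    have hkey : (N : ℤ) = 2 * |Q| ^ 3 * |Q + 1| * |D| := by
      have hKne : K ≠ 0 := fun h => by
        rw [h, zero_mul] at hK
        have : ((Q : ℚ) - 1) ≠ 0 := by exact_mod_cast (show Q - 1 ≠ 0 by omega)
        exact mul_ne_zero (pow_ne_zero 2 this) hQ1q hK.symm
      have h2 : |K| * (2 * |(Q : ℚ)| * |(D : ℚ)|) = ((Q : ℚ) - 1) ^ 2 * |(Q : ℚ) + 1| := by
        have := congrArg abs hK
        rwa [abs_mul, abs_mul, abs_mul, abs_two, abs_mul, abs_pow, sq_abs] at this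
      have h3 : ((N : ℤ) : ℚ) = ((2 * |Q| ^ 3 * |Q + 1| * |D| : ℤ) : ℚ) := by
        push_cast
        refine mul_right_cancel₀ (abs_ne_zero.2 hKne) ?_
        rw [hN, show 2 * |(Q : ℚ)| ^ 3 * |(Q : ℚ) + 1| * |(D : ℚ)| * |K| =
          |(Q : ℚ)| ^ 2 * |(Q : ℚ) + 1| * (|K| * (2 * |(Q : ℚ)| * |(D : ℚ)|)) by ring, h2, sq_abs,
          show |(Q : ℚ) + 1| = |(Q : ℚ) + 1| from rfl]
        rw [show (Q : ℚ) ^ 2 * |(Q : ℚ) + 1| * (((Q : ℚ) - 1) ^ 2 * |(Q : ℚ) + 1|) =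
          (Q : ℚ) ^ 2 * ((Q : ℚ) - 1) ^ 2 * |(Q : ℚ) + 1| ^ 2 by ring, sq_abs]
        ring
      exact_mod_cast h3
    rw [hkey, show 2 * |Q| ^ 3 * |Q + 1| * |D| = |Q| * (2 * |Q| ^ 2 * |Q + 1| * |D|) by ring,
      mul_dvd_mul_iff_left (abs_ne_zero.2 hQ0)] at hdvd
    have h4 : (Q - 1) * (Q + 1) ∣ 2 * Q ^ 2 * D * (Q + 1) := by
      have e : |2 * Q ^ 2 * D * (Q + 1)| = 2 * |Q| ^ 2 * |Q + 1| * |D| := by
        rw [abs_mul, abs_mul, abs_mul, abs_two, abs_pow]; ring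
      rw [← dvd_abs, e]
      refine dvd_trans (Dvd.intro 1 (by ring)) hdvd
    rw [mul_dvd_mul_iff_right hQ1, show Q - 1 = 2 * v by omega, show 2 * Q ^ 2 * D = 2 * (Q ^ 2 * D) by ring,
      mul_dvd_mul_iff_left two_ne_zero] at h4
    exact (IsCoprime.pow_right (n := 2) ⟨-2, 1, by rw [hv]; ring⟩ : IsCoprime v (Q ^ 2)).dvd_of_dvd_mul_left h4
  obtain ⟨d, rfl⟩ := hvD
  obtain ⟨t, ht⟩ := cR
  set j := 2 * t + 1 with hj
  have hP1 : P = 1 + (Q + 1) * j := by rw [hPR, hj]; linear_combination ht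
  set m := t + 1 with hm
  have hjm : j = 2 * m - 1 := by omega
  have hd3 : Q + 1 ∣ d - 3 := by
    obtain ⟨w, hw⟩ := cD
    have hdodd : d % 2 = 1 := by
      have h2 : (2 * (v * d) + (Q + 7)) % 4 = 0 := by
        rw [hw]; rw [show 2 * (Q + 1) * w = 4 * ((v + 1) * w) by rw [hv]; ring]; omega
      rcases Int.emod_two_eq d with h | h
      · obtain ⟨r, hr⟩ : ∃ r, d = 2 * r := ⟨d / 2, by omega⟩
        rw [hr, show 2 * (v * (2 * r)) = 4 * (v * r) by ring] at h2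
        omega
      · exact h
    obtain ⟨r, hr⟩ : ∃ r, d = 2 * r + 1 := ⟨d / 2, by omega⟩
    refine ⟨r + 1 - w, ?_⟩
    rw [hv] at hw ⊢
    rw [hr] at hw ⊢
    linarith
  -- the first equation
  have hmain : v ^ 2 * P * j = Q * d * m ^ 2 := by
    have hvq : (v : ℚ) ≠ 0 := by exact_mod_cast hv0
    have h : ((v ^ 2 * P * j : ℤ) : ℚ) * (8 * v) * ((Q : ℚ) + 1) ^ 2 =
        ((Q * d * m ^ 2 : ℤ) : ℚ) * (8 * v) * ((Q : ℚ) + 1) ^ 2 := by
      have hQv : (Q : ℚ) = 2 * v + 1 := by exact_mod_cast hv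
      have hPR' : (P : ℚ) = 2 * R + 1 := by exact_mod_cast hPR
      have hjq : 2 * (R : ℚ) = ((Q : ℚ) + 1) * (j : ℚ) := by
        have : 2 * R = (Q + 1) * j := by linear_combination ht
        exact_mod_cast this
      have hmq : (j : ℚ) = 2 * (m : ℚ) - 1 := by exact_mod_cast hjm
      have h1 : K * ((Q : ℚ) - 1) * ((P : ℚ) * (2 * R)) = ((P : ℚ) + Q) ^ 2 := by
        rw [← hb]; field_simp; rw [hPR']; ring
      push_cast at hK ⊢
      rw [hjq] at h1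
      have h2 : ((P : ℚ) + Q) = ((Q : ℚ) + 1) * (2 * m) := by
        rw [hPR', hjq, hmq]; ring
      rw [h2] at h1
      rw [hQv] at hK h1 ⊢
      linear_combination -2 * (v : ℚ) * (P : ℚ) * (j : ℚ) * (2 * v + 2) * hK +
        2 * (v : ℚ) * (2 * v + 1) * (d : ℚ) * h1
    have h' := mul_right_cancel₀ (pow_ne_zero 2 hQ1q) h
    exact_mod_cast mul_right_cancel₀ (mul_ne_zero (by norm_num) hvq) h'
  obtain ⟨p, n, hp, hn, hqn⟩ := hpp
  have hp' : Prime (p : ℤ) := Nat.prime_iff_prime_int.1 hp.nat_prime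
  have hQp : Q = (p : ℤ) ^ n ∨ Q = -(p : ℤ) ^ n := by
    have h := Int.natAbs_eq Q
    rw [← hqn] at h
    push_cast at h
    exact h
  have hpQ : (p : ℤ) ∣ Q := by
    rcases hQp with e | e <;> rw [e]
    exacts [dvd_pow_self _ hn.ne', dvd_neg.2 (dvd_pow_self _ hn.ne')]
  have hQcop : ∀ {a : ℤ}, ¬ (p : ℤ) ∣ a → IsCoprime Q a := fun {a} ha => by
    have h : IsCoprime ((p : ℤ) ^ n) a := ((hp'.coprime_iff_not_dvd).2 ha).pow_left
    rcases hQp with e | e <;> rw [e]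
    exacts [h, h.neg_left]
  have hQPj : Q ∣ P * j := by
    refine (IsCoprime.pow_right (n := 2) ?_ : IsCoprime Q (v ^ 2)).dvd_of_dvd_mul_left
      ⟨d * m ^ 2, by linear_combination hmain⟩
    exact ⟨1, -2, by rw [hv]; ring⟩
  have hP2 : P = 2 * m + Q * j := by linear_combination hP1 + hjm
  have hjmc : IsCoprime j m := ⟨-1, 2, by rw [hjm]; ring⟩
  have hva : |Q| ≤ 2 * |v| + 1 ∧ 13 ≤ |v| ∧ 2 * |v| ≤ |Q| + 1 := by
    rcases abs_cases Q with ⟨e, e1⟩ | ⟨e, e1⟩ <;> rcases abs_cases v with ⟨e', e2⟩ | ⟨e', e2⟩ <;> omega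
  have pick : ∀ x : ℤ, x ∣ v → Q ∣ 2 * x - 1 → x = -v := by
    intro x hx hQx
    have hxv : |x| ≤ |v| := Int.le_of_dvd (abs_pos.2 hv0) ((abs_dvd _ _).2 ((dvd_abs _ _).2 hx))
    obtain ⟨i, hi⟩ := hQx
    have hxv' := abs_le.1 hxv
    have hi' : i = 1 ∨ i = -1 := by
      by_contra hc
      rcases (show i ≤ -2 ∨ i = 0 ∨ 2 ≤ i by omega) with h | h | h
      · rcases abs_cases Q with ⟨e, h'⟩ | ⟨e, h'⟩ <;> nlinarith [hva.2.2]
      · subst h; omega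
      · rcases abs_cases Q with ⟨e, h'⟩ | ⟨e, h'⟩ <;> nlinarith [hva.2.2]
    rcases hi' with rfl | rfl
    · exfalso
      have hxe : x = v + 1 := by omega
      rw [hxe] at hx
      have h1 : v + 1 ∣ (1 : ℤ) := by simpa using dvd_sub (dvd_refl (v + 1)) hx
      rcases Int.isUnit_iff.1 (isUnit_of_dvd_one h1) with h | h <;> omega
    · omega
  by_cases hpj : (p : ℤ) ∣ j
  · -- `Q ∣ j`
    have hpm : ¬ (p : ℤ) ∣ m := fun h => hp'.not_isUnit (hjmc.isUnit_of_dvd' hpj h)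
    have hpP : ¬ (p : ℤ) ∣ P := fun h => by
      have h2 : (p : ℤ) ∣ 2 * m := by
        have := dvd_sub h (hpQ.mul_right j)
        rwa [hP2, add_sub_cancel_right] at this
      rcases hp'.dvd_or_dvd h2 with h3 | h3
      · have h2m : p ∣ 2 := by exact_mod_cast h3
        have := (Nat.prime_dvd_prime_iff_eq hp.nat_prime Nat.prime_two).1 h2m
        subst this
        rw [hv] at hpQ
        omega
      · exact hpm h3
    have hQj : Q ∣ j := (hQcop hpP).dvd_of_dvd_mul_left hQPj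
    have hmP : IsCoprime (m ^ 2) (P * j) := by
      refine (IsCoprime.mul_right ?_ hjmc.symm).pow_left
      rw [hP2]
      have h : IsCoprime m (Q * j) := IsCoprime.mul_right (hQcop hpm).symm hjmc.symm
      rw [show 2 * m + Q * j = Q * j + m * 2 by ring]
      exact h.add_mul_left_right 2
    have hm2 : m ∣ v := by
      refine (Int.pow_dvd_pow_iff two_ne_zero).1 (hmP.dvd_of_dvd_mul_right ⟨Q * d, ?_⟩)
      linear_combination hmain
    rw [hjm] at hQj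
    have hmv := pick m hm2 hQj
    have hjQ : j = -Q := by omega
    have hdP : d = -P := by
      rw [hjQ, hmv] at hmain
      have : (Q * v ^ 2) * (d + P) = 0 := by linear_combination -hmain
      rcases mul_eq_zero.1 this with h | h
      · exact absurd h (mul_ne_zero hQ0 (pow_ne_zero 2 hv0))
      · omega
    have h4 : Q + 1 ∣ 4 := by
      rw [hdP, hP1, hjQ] at hd3
      have h' := dvd_sub (dvd_mul_right (Q + 1) Q) hd3
      rwa [show (Q + 1) * Q - (-(1 + (Q + 1) * -Q) - 3) = 4 by ring] at h'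
    have h5 := Int.le_of_dvd (by norm_num) ((abs_dvd _ _).2 h4)
    rcases abs_cases (Q + 1) with ⟨e, e1⟩ | ⟨e, e1⟩ <;> rcases abs_cases Q with ⟨e', e2⟩ | ⟨e', e2⟩ <;> omega
  · -- `Q ∣ m`
    have hQP : Q ∣ P := (hQcop hpj).dvd_of_dvd_mul_right hQPj
    have hQ2m : Q ∣ 2 * m := by
      have := dvd_sub hQP (dvd_mul_right Q j)
      rwa [hP2, add_sub_cancel_right] at this
    obtain ⟨i, hi⟩ : Q ∣ m :=
      (show IsCoprime Q 2 from ⟨1, -v, by rw [hv]; ring⟩).dvd_of_dvd_mul_left hQ2m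
    set l := 2 * i + j with hl
    have hPl : P = Q * l := by rw [hP2, hi, hl]; ring
    have hred : v ^ 2 * l * j = d * (Q * i) ^ 2 := by
      refine mul_left_cancel₀ hQ0 ?_
      rw [hPl, hi] at hmain
      linear_combination hmain
    have hci : IsCoprime ((Q * i) ^ 2) j := by rw [← hi]; exact hjmc.symm.pow_left
    have hvl : (Q * i) ^ 2 ∣ v ^ 2 * l := hci.dvd_of_dvd_mul_right ⟨d, by linear_combination hred⟩
    have hl' : l = 2 * i * (Q + 1) - 1 := by rw [hl, hjm, hi]; ring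
    have hiv : i ∣ v := by
      refine (Int.pow_dvd_pow_iff two_ne_zero).1 ((IsCoprime.pow_left (m := 2) ?_).dvd_of_dvd_mul_right
        (dvd_trans ⟨Q ^ 2, by ring⟩ hvl))
      exact ⟨2 * (Q + 1), -1, by rw [hl']; ring⟩
    have hQl : Q ^ 2 ∣ l := by
      refine (IsCoprime.pow (show IsCoprime Q v from ⟨1, -2, by rw [hv]; ring⟩)).dvd_of_dvd_mul_left
        (dvd_trans ⟨i ^ 2, by ring⟩ hvl)
    have hi1 : Q ∣ 2 * i - 1 := by
      have := dvd_sub (dvd_trans (dvd_pow_self Q two_ne_zero) hQl) (dvd_mul_right Q (2 * i))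
      rwa [show l - Q * (2 * i) = 2 * i - 1 by rw [hl']; ring] at this
    have hiv' := pick i hiv hi1
    have hl2 : l = -Q ^ 2 := by rw [hl', hiv', hv]; ring
    have hj2 : j = -(Q ^ 2 - Q + 1) := by rw [hjm, hi, hiv', hv]; ring
    have hd2 : d = Q ^ 2 - Q + 1 := by
      rw [hl2, hj2, hiv'] at hred
      have : (Q ^ 2 * v ^ 2) * (d - (Q ^ 2 - Q + 1)) = 0 := by linear_combination -hred
      rcases mul_eq_zero.1 this with h | h
      · exact absurd h (mul_ne_zero (pow_ne_zero 2 hQ0) (pow_ne_zero 2 hv0))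
      · omega
    have hPv : P = -Q ^ 3 := by rw [hPl, hl2]; ring
    have hXv : X = Q * (Q - 1) := by
      rw [hPv, hd2] at hsum
      rw [hv] at hsum ⊢
      linarith
    -- the second equation fails
    rw [hPv, hXv, hd2] at he
    push_cast at he hK
    rw [hd2] at hK
    push_cast at hK
    have hQv : (Q : ℚ) = 2 * v + 1 := by exact_mod_cast hv
    have hR' : (Q : ℚ) ^ 2 - Q + 1 ≠ 0 := by nlinarith
    have hQm : (Q : ℚ) - 1 ≠ 0 := by exact_mod_cast (show Q - 1 ≠ 0 by omega)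
    have hvv : (v : ℚ) = ((Q : ℚ) - 1) / 2 := by rw [hQv]; ring
    rw [hvv] at he hK
    have hKv : K = ((Q : ℚ) - 1) * (Q + 1) / (Q * ((Q : ℚ) ^ 2 - Q + 1)) := by
      rw [eq_div_iff (mul_ne_zero hQq hR')]
      refine mul_right_cancel₀ hQm ?_
      linear_combination hK
    rw [hKv] at he
    generalize hW : (Q : ℚ) ^ 2 - Q + 1 = W at he hR'
    field_simp at he
    have : ((Q : ℚ) - 1) * ((Q : ℚ) + 1) ^ 2 ≠ 0 := mul_ne_zero hQm (pow_ne_zero 2 hQ1q)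
    apply this
    subst hW
    linear_combination (1 / 2 : ℚ) * he

end Cfsg.Agent.JanThom
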