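import Cfsg.Agent.Lib.JanThom.CentR

/-!
Consequences of the shape of the centraliser of a torus element: orders, elements normalising the
cyclic subgroup it generates, and the action on the Sylow subgroups of the torus.
-/

set_option autoImplicit false
set_option linter.unusedSectionVars false
set_option linter.style.haveILetI false

namespace Cfsg.Agent.JanThom

open Subgroup

universe u v

/-- In a cyclic subgroup an element whose order divides that of `a` is a power of `a`. -/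
theorem mem_zpowers_cyclic {G : Type u} [Group G] [Finite G] {Z : Subgroup G} (hZ : IsCyclic Z)
    {a x : G} (ha : a ∈ Z) (hx : x ∈ Z) (hd : x ^ orderOf a = 1) : x ∈ zpowers a := by
  classical
  haveI := hZ
  haveI : Fintype Z := Fintype.ofFinite Z
  set a' : Z := ⟨a, ha⟩
  set x' : Z := ⟨x, hx⟩
  have hoa : orderOf a' = orderOf a := (Subgroup.orderOf_coe a').symm
  set S := (Finset.univ : Finset Z).filter fun w => w ^ orderOf a = 1 with hS
  set W := (Finset.univ : Finset Z).filter fun w => w ∈ zpowers a' with hW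
  have hWS : W ⊆ S := fun w hw => by
    simp only [hW, Finset.mem_filter, Finset.mem_univ, true_and] at hw
    simp only [hS, Finset.mem_filter, Finset.mem_univ, true_and]
    obtain ⟨j, rfl⟩ := mem_zpowers_iff.1 hw
    rw [← hoa, ← zpow_natCast, ← _root_.zpow_mul, mul_comm, _root_.zpow_mul, zpow_natCast,
      pow_orderOf_eq_one, _root_.one_zpow]
  have hcardW : W.card = orderOf a := by
    rw [hW, ← Fintype.card_subtype, ← hoa, ← Nat.card_zpowers, ← Nat.card_eq_fintype_card]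
  have heq := Finset.eq_of_subset_of_card_le hWS
    (hcardW.symm ▸ IsCyclic.card_pow_eq_one_le (orderOf_pos a))
  have hxW : x' ∈ W := heq ▸ (by
    simp only [hS, Finset.mem_filter, Finset.mem_univ, true_and]
    exact Subtype.ext (by simpa using hd))
  simp only [hW, Finset.mem_filter, Finset.mem_univ, true_and] at hxW
  obtain ⟨j, hj⟩ := mem_zpowers_iff.1 hxW
  exact mem_zpowers_iff.2 ⟨j, by simpa [a', x'] using congrArg Subtype.val hj⟩

namespace Setup

variable {G : Type u} [Group G] [Finite G] {L : Type v} [Group L] {Q : ℤ} {E : Setup G L Q} {y z : G}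

theorem Zg_cyclic (E : Setup G L Q) : IsCyclic E.Zg := by
  haveI := E.D.Zh_cyclic
  exact isCyclic_of_surjective ((E.ι.comp (MonoidHom.inr C2 L)).subgroupMap E.D.Zh)
    (MonoidHom.subgroupMap_surjective _ _)

theorem card_T (E : Setup G L Q) : Nat.card E.T = 4 * E.D.h := by
  rw [← E.card_E4, ← E.card_Zg, ← Nat.card_prod]
  refine (Nat.card_congr (Equiv.ofBijective (fun p : E.E4 × E.Zg =>
    (⟨(p.1 : G) * p.2, mul_mem (E.E4_le_T p.1.2) (E.Zg_le_T p.2.2)⟩ : E.T)) ⟨?_, ?_⟩)).symm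
  · rintro ⟨e, u⟩ ⟨e', u'⟩ h
    have h' : (e : G) * u = e' * u' := congrArg Subtype.val h
    have h1 : (e' : G)⁻¹ * e = u' * (u : G)⁻¹ := by
      calc (e' : G)⁻¹ * e = (e' : G)⁻¹ * (e * u) * (u : G)⁻¹ := by group
        _ = u' * (u : G)⁻¹ := by rw [h']; group
    have h2 := E.E4_inf_Zg (mul_mem (inv_mem e'.2) e.2) (h1 ▸ mul_mem u'.2 (inv_mem u.2))
    have he : (e : G) = e' := (inv_mul_eq_one.1 h2).symm
    refine Prod.ext (Subtype.ext he) (Subtype.ext ?_)
    rw [he] at h'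
    exact mul_left_cancel h'
  · rintro ⟨t, ht⟩
    obtain ⟨e, he, u, hu, rfl⟩ := E.mem_T_split ht
    exact ⟨(⟨e, he⟩, ⟨u, hu⟩), rfl⟩

theorem T_le_cent (hz : z ∈ E.Zg) : E.T ≤ centralizer ({z} : Set G) := fun t ht =>
  mem_centralizer_singleton_iff.2 (E.T_comm ht (E.Zg_le_T hz))

/-- Powers of `y` normalise the torus. -/
theorem IsY.pow_T_conj (hy : E.IsY y) (i : ℕ) {t : G} (ht : t ∈ E.T) : y ^ i * t * (y ^ i)⁻¹ ∈ E.T := by
  induction i generalizing t with
  | zero => simpa using ht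
  | succ i ih =>
    rw [pow_succ, show y ^ i * y * t * (y ^ i * y)⁻¹ = y ^ i * (y * t * y⁻¹) * (y ^ i)⁻¹ by group]
    exact ih (hy.T_conj ht)

/-- The centraliser of a torus element commuting with `y`. -/
theorem fused_card (hy : E.IsY y) (hz : z ∈ E.Zg) (hz1 : z ≠ 1) (hyz : y * z = z * y) :
    Nat.card (centralizer ({z} : Set G)) = 12 * E.D.h ∨
      (Nat.card (centralizer ({z} : Set G)) = 60 * E.D.h ∧ E.IsA5Case z) := by
  rcases cent_cases hy hz hz1 with h | ⟨-, h | h⟩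
  · exact absurd hyz h.1
  · left
    have hmem : ∀ i : Fin 3, ∀ t ∈ E.T, y ^ (i : ℕ) * t ∈ centralizer ({z} : Set G) := fun i t ht =>
      mul_mem (pow_mem (mem_centralizer_singleton_iff.2 hyz) _) (T_le_cent hz ht)
    rw [show 12 * E.D.h = 3 * (4 * E.D.h) by ring, ← E.card_T, ← Nat.card_fin 3, ← Nat.card_prod]
    refine (Nat.card_congr (Equiv.ofBijective (fun p : Fin 3 × E.T =>
      (⟨_, hmem p.1 p.2 p.2.2⟩ : centralizer ({z} : Set G))) ⟨?_, ?_⟩)).symm
    · rintro ⟨i, t⟩ ⟨j, t'⟩ he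
      have he' : y ^ (i : ℕ) * t = y ^ (j : ℕ) * t' := congrArg Subtype.val he
      have hno : ∀ i j : Fin 3, ∀ t t' : E.T, (j : ℕ) ≤ i → y ^ (i : ℕ) * t = y ^ (j : ℕ) * t' → i = j := by
        intro i j t t' hji he'
        by_contra hne
        have h1 : y ^ ((i : ℕ) - j) * t = t' := by
          refine mul_left_cancel (a := y ^ (j : ℕ)) ?_
          rw [← mul_assoc, ← pow_add, Nat.add_sub_of_le hji, he']
        have h2 : y ^ ((i : ℕ) - j) ∈ E.T := by
          rw [eq_mul_inv_of_mul_eq h1]; exact mul_mem t'.2 (inv_mem t.2)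
        refine hy.not_mem_T ?_
        have h3 := i.isLt
        have h4 : (i : ℕ) ≠ j := fun h => hne (Fin.ext h)
        rcases (show (i : ℕ) - j = 1 ∨ (i : ℕ) - j = 2 by omega) with h5 | h5 <;> rw [h5] at h2
        · rwa [pow_one] at h2
        · have h6 := pow_mem h2 2
          rwa [← pow_mul, show 2 * 2 = 3 + 1 from rfl, pow_succ, hy.cube, one_mul] at h6
      have hij : i = j := by
        rcases le_total (j : ℕ) i with h' | h'
        · exact hno i j t t' h' he'
        · exact (hno j i t' t h' he'.symm).symm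
      subst hij
      exact Prod.ext rfl (Subtype.ext (mul_left_cancel he'))
    · rintro ⟨x, hx⟩
      obtain ⟨i, hi, t, ht, rfl⟩ := h x (mem_centralizer_singleton_iff.1 hx)
      exact ⟨(⟨i, hi⟩, ⟨t, ht⟩), rfl⟩
  · right
    refine ⟨?_, h⟩
    obtain ⟨X, ⟨e⟩, -, hXZ, hinf, hiff⟩ := h
    have hmem : ∀ u ∈ X, ∀ w ∈ E.Zg, u * w ∈ centralizer ({z} : Set G) := fun u hu w hw =>
      mem_centralizer_singleton_iff.2 ((hiff _).2 ⟨u, hu, w, hw, rfl⟩)
    rw [← card_a5, ← Nat.card_congr e.toEquiv, ← E.card_Zg, ← Nat.card_prod]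
    refine (Nat.card_congr (Equiv.ofBijective (fun p : X × E.Zg =>
      (⟨_, hmem p.1 p.1.2 p.2 p.2.2⟩ : centralizer ({z} : Set G))) ⟨?_, ?_⟩)).symm
    · rintro ⟨u, w⟩ ⟨u', w'⟩ he
      have he' : (u : G) * w = u' * w' := congrArg Subtype.val he
      have h1 : (u' : G)⁻¹ * u = w' * (w : G)⁻¹ := by
        calc (u' : G)⁻¹ * u = (u' : G)⁻¹ * (u * w) * (w : G)⁻¹ := by group
          _ = w' * (w : G)⁻¹ := by rw [he']; group
      have h2 : (u' : G)⁻¹ * u = 1 := mem_bot.1 (hinf ▸ mem_inf.2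
        ⟨mul_mem (inv_mem u'.2) u.2, h1 ▸ mul_mem w'.2 (inv_mem w.2)⟩)
      have hu : (u : G) = u' := (inv_mul_eq_one.1 h2).symm
      refine Prod.ext (Subtype.ext hu) (Subtype.ext ?_)
      rw [hu] at he'
      exact mul_left_cancel he'
    · rintro ⟨x, hx⟩
      obtain ⟨u, hu, w, hw, rfl⟩ := (hiff x).1 (mem_centralizer_singleton_iff.1 hx)
      exact ⟨(⟨u, hu⟩, ⟨w, hw⟩), rfl⟩

/-- Sixtieth powers of elements of the centraliser lie in the torus. -/
theorem pow_sixty_mem (hy : E.IsY y) (hz : z ∈ E.Zg) (hz1 : z ≠ 1) {x : G} (hx : x * z = z * x) :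
    x ^ 60 ∈ E.T := by
  rcases cent_cases hy hz hz1 with h | ⟨-, h | h⟩
  · exact pow_mem (h.2 x hx) _
  · obtain ⟨i, -, t, ht, rfl⟩ := h x hx
    have h1 : ∀ n : ℕ, ∃ t' ∈ E.T, (y ^ i * t) ^ n = y ^ (i * n) * t' := by
      intro n
      induction n with
      | zero => exact ⟨1, one_mem _, by simp⟩
      | succ n ih =>
        obtain ⟨t', ht', he⟩ := ih
        have h2 : (y ^ i)⁻¹ * t' * y ^ i ∈ E.T := by
          have h3 : (y ^ i)⁻¹ = y ^ (2 * i) := inv_eq_of_mul_eq_one_right (by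
            rw [← pow_add, show i + 2 * i = 3 * i by ring, pow_mul, hy.cube, one_pow])
          have h4 := hy.pow_T_conj (2 * i) ht'
          rwa [← h3, inv_inv] at h4
        refine ⟨(y ^ i)⁻¹ * t' * y ^ i * t, mul_mem h2 ht, ?_⟩
        rw [pow_succ, he, Nat.mul_succ, pow_add]
        group
    obtain ⟨t', ht', he⟩ := h1 60
    rw [he, show i * 60 = 3 * (20 * i) by ring, pow_mul, hy.cube, one_pow, one_mul]
    exact ht'
  · obtain ⟨X, ⟨e⟩, -, hXZ, -, hiff⟩ := h
    obtain ⟨u, hu, w, hw, rfl⟩ := (hiff x).1 hx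
    have h60 : u ^ 60 = 1 := by
      have h1 := pow_card_eq_one' (x := (⟨u, hu⟩ : X))
      rw [Nat.card_congr e.toEquiv, card_a5] at h1
      exact congrArg Subtype.val h1
    rw [(show Commute u w from hXZ u hu w hw).mul_pow, h60, one_mul]
    exact E.Zg_le_T (pow_mem hw _)

/-- Elements of the centraliser of order prime to thirty lie in the torus. -/
theorem mem_Zg_of_cent (hy : E.IsY y) (hz : z ∈ E.Zg) (hz1 : z ≠ 1) {x : G} (hx : x * z = z * x)
    (hco : (orderOf x).Coprime 30) : x ∈ E.Zg := by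
  have h60 : (orderOf x).Coprime 60 := by
    have h2 : (orderOf x).Coprime 2 := hco.coprime_dvd_right (by norm_num)
    simpa using hco.mul_right h2
  obtain ⟨m, hm⟩ := exists_pow_eq_self_of_coprime (x := x) h60.symm
  refine E.odd_mem_T (hm ▸ pow_mem (pow_sixty_mem hy hz hz1 hx) m) ?_
  exact Nat.coprime_two_right.1 (hco.coprime_dvd_right (by norm_num))

/-- An element normalising `⟨z⟩` fixes or inverts `z`, if `y` centralises it. -/
theorem norm_cases (hy : E.IsY y) (hz : z ∈ E.Zg) (hz1 : z ≠ 1) (hyz : y * z = z * y) {x : G}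
    (hx : x * z * x⁻¹ ∈ zpowers z) : x * z * x⁻¹ = z ∨ x * z * x⁻¹ = z⁻¹ := by
  classical
  haveI : Fact (Nat.Prime 2) := ⟨Nat.prime_two⟩
  set C := centralizer ({z} : Set G) with hC
  have hxc : ∀ e ∈ E.E4, x * e * x⁻¹ ∈ C := by
    intro e he
    rw [hC, mem_centralizer_singleton_iff]
    -- `zpowers z` is normalised by `x`
    have hsur : z ∈ (zpowers z).map (MulAut.conj x).toMonoidHom := by
      have hle : (zpowers z).map (MulAut.conj x).toMonoidHom = zpowers z := by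
        refine eq_of_le_of_card_ge ?_ ?_
        · rw [MonoidHom.map_zpowers, zpowers_le]
          exact hx
        · rw [card_map_of_injective (MulAut.conj x).injective]
      rw [hle]; exact mem_zpowers z
    obtain ⟨w, hw, hwz⟩ := hsur
    obtain ⟨j, rfl⟩ := mem_zpowers_iff.1 hw
    have hce : Commute e z := E.T_comm (E.E4_le_T he) (E.Zg_le_T hz)
    have hwz' : z = x * z ^ j * x⁻¹ := hwz.symm
    calc x * e * x⁻¹ * z = x * e * x⁻¹ * (x * z ^ j * x⁻¹) := by rw [← hwz']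
      _ = x * (e * z ^ j) * x⁻¹ := by group
      _ = x * (z ^ j * e) * x⁻¹ := by rw [(hce.zpow_right j).eq]
      _ = x * z ^ j * x⁻¹ * (x * e * x⁻¹) := by group
      _ = z * (x * e * x⁻¹) := by rw [← hwz']
  obtain ⟨P, hP⟩ := exists_sylow hy hz hz1
  let K : Subgroup C := (E.E4.map (MulAut.conj x).toMonoidHom).comap C.subtype
  have hK : IsPGroup 2 K := by
    refine (IsPGroup.of_card (n := 2) (G := (E.E4.map (MulAut.conj x).toMonoidHom : Subgroup G)) ?_).comap_of_injective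
      C.subtype C.subtype_injective
    rw [card_map_of_injective (MulAut.conj x).injective, E.card_E4]; norm_num
  obtain ⟨R, hR⟩ := hK.exists_le_sylow
  obtain ⟨c, hc⟩ := MulAction.exists_smul_eq C R P
  have hmem : ∀ e ∈ E.E4, ((c : G) * x) * e * ((c : G) * x)⁻¹ ∈ E.E4 := fun e he => by
    have h : c * ⟨x * e * x⁻¹, hxc e he⟩ * c⁻¹ ∈ (P : Subgroup C) := by
      rw [← hc, Sylow.coe_subgroup_smul]
      exact smul_mem_pointwise_smul _ (MulAut.conj c) _ (hR ⟨e, he, by simp⟩)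
    rw [hP] at h
    simpa [mem_subgroupOf, mul_assoc] using h
  obtain ⟨i, d, -, hdτ, hdσ, hcx⟩ := hy.norm_E4 (hmem _ E.τ_mem_E4) (hmem _ E.σ_mem_E4)
  have hczc : Commute (c : G) z := mem_centralizer_singleton_iff.1 c.2
  have hyi : Commute (y ^ i) z := (show Commute y z from hyz).pow_left i
  have hxd : x = (c : G)⁻¹ * y ^ i * d := by
    calc x = (c : G)⁻¹ * ((c : G) * x) := by group
      _ = (c : G)⁻¹ * y ^ i * d := by rw [hcx]; group
  have hcy : ∀ w : G, Commute ((c : G)⁻¹ * y ^ i) w →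
      (c : G)⁻¹ * y ^ i * w * ((c : G)⁻¹ * y ^ i)⁻¹ = w := fun w hw => by
    rw [hw.eq, mul_inv_cancel_right]
  have hcm : Commute ((c : G)⁻¹ * y ^ i) z := hczc.inv_left.mul_left hyi
  rcases E.cent_E4 hdτ hdσ with h | h
  · left
    rw [hxd]
    calc (c : G)⁻¹ * y ^ i * d * z * ((c : G)⁻¹ * y ^ i * d)⁻¹
        = (c : G)⁻¹ * y ^ i * (d * z * d⁻¹) * ((c : G)⁻¹ * y ^ i)⁻¹ := by group
      _ = z := by rw [E.T_comm h (E.Zg_le_T hz), mul_inv_cancel_right, hcy z hcm]
  · right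
    rw [hxd]
    calc (c : G)⁻¹ * y ^ i * d * z * ((c : G)⁻¹ * y ^ i * d)⁻¹
        = (c : G)⁻¹ * y ^ i * (d * z * d⁻¹) * ((c : G)⁻¹ * y ^ i)⁻¹ := by group
      _ = z⁻¹ := by rw [h z hz, hcy z⁻¹ hcm.inv_right]

/-- An element of odd order normalising `⟨z⟩` centralises it, if `y` does. -/
theorem centralise_of_norm (hy : E.IsY y) (hz : z ∈ E.Zg) (hz1 : z ≠ 1) (hyz : y * z = z * y) {x : G}
    (ho : Odd (orderOf x)) (hx : x * z * x⁻¹ ∈ zpowers z) : x * z = z * x := by
  rcases norm_cases hy hz hz1 hyz hx with h | h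
  · exact mul_inv_eq_iff_eq_mul.1 h
  · exfalso
    have hpow : ∀ j : ℕ, x ^ (2 * j + 1) * z * (x ^ (2 * j + 1))⁻¹ = z⁻¹ := by
      intro j
      induction j with
      | zero => simpa using h
      | succ j ih =>
        calc x ^ (2 * (j + 1) + 1) * z * (x ^ (2 * (j + 1) + 1))⁻¹
            = x * (x * (x ^ (2 * j + 1) * z * (x ^ (2 * j + 1))⁻¹) * x⁻¹) * x⁻¹ := by
              rw [show 2 * (j + 1) + 1 = (2 * j + 1) + 1 + 1 by ring, pow_succ', pow_succ']
              group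
          _ = z⁻¹ := by
              rw [ih, show x * z⁻¹ * x⁻¹ = (x * z * x⁻¹)⁻¹ by group, h, inv_inv, h]
    obtain ⟨j, hj⟩ := ho
    have h' := hpow j
    rw [← hj, pow_orderOf_eq_one, one_mul, inv_one, mul_one] at h'
    exact E.Zg_inv_ne hz hz1 h'.symm

/-- The centraliser of an element of prime order `l ≠ 3` of the torus centralises the `l`-elements of
the torus. -/
theorem cent_lpart (hy : E.IsY y) {l : ℕ} (hl : l.Prime) (hl3 : l ≠ 3) (hz : z ∈ E.Zg)
    (hzl : orderOf z = l) {x v : G} (hx : x * z = z * x) (hv : v ∈ E.Zg) {k : ℕ}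
    (hvk : v ^ l ^ k = 1) : x * v = v * x := by
  have hz1 : z ≠ 1 := fun h => hl.ne_one (by rw [← hzl, h, orderOf_one])
  rcases cent_cases hy hz hz1 with h | ⟨hyz, h | h⟩
  · exact E.T_comm (h.2 x hx) (E.Zg_le_T hv)
  · obtain ⟨i, -, t, ht, rfl⟩ := h x hx
    suffices hyv : Commute y v from
      ((hyv.pow_left i).mul_left (E.T_comm ht (E.Zg_le_T hv))).eq
    by_cases hv1 : v = 1
    · rw [hv1]; exact Commute.one_right y
    obtain ⟨k', -, hk'⟩ := (Nat.dvd_prime_pow hl).1 (orderOf_dvd_of_pow_eq_one hvk)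
    have hk'0 : k' ≠ 0 := by
      rintro rfl
      rw [pow_zero, orderOf_eq_one_iff] at hk'
      exact hv1 hk'
    have hyv : y * v * y⁻¹ ∈ zpowers v := mem_zpowers_cyclic E.Zg_cyclic hv (hy.Zg_conj hv) (by
      rw [conj_pow, pow_orderOf_eq_one, mul_one, mul_inv_cancel])
    obtain ⟨m, hm⟩ := mem_zpowers_iff.1 hyv
    have hzv : z ∈ zpowers v := mem_zpowers_cyclic E.Zg_cyclic hv hz (by
      rw [hk', ← orderOf_dvd_iff_pow_eq_one, hzl]; exact dvd_pow_self l hk'0)
    obtain ⟨j, hj⟩ := mem_zpowers_iff.1 hzv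
    have hconj : ∀ n : ℤ, y * v ^ n * y⁻¹ = v ^ (m * n) := fun n => by
      rw [← conj_zpow, ← hm, _root_.zpow_mul]
    have hN : ((orderOf v : ℕ) : ℤ) ∣ j * (m - 1) := by
      rw [orderOf_dvd_iff_zpow_eq_one, mul_sub, mul_one, zpow_sub, mul_comm j m, ← hconj j, hj, hyz,
        mul_inv_cancel_right, mul_inv_cancel]
    have hNj : ¬ ((orderOf v : ℕ) : ℤ) ∣ j := fun h => hz1 (by
      rw [← hj]; exact orderOf_dvd_iff_zpow_eq_one.1 h)
    have hlm : (l : ℤ) ∣ m - 1 := by
      by_contra hlm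
      refine hNj (IsCoprime.dvd_of_dvd_mul_right ?_ hN)
      rw [hk', Nat.cast_pow]
      exact ((Nat.prime_iff_prime_int.1 hl).coprime_iff_not_dvd.2 hlm).pow_left
    have h3 : v ^ (m * (m * m)) = v := by
      rw [← hconj, ← hconj, hm]
      calc y * (y * (y * v * y⁻¹) * y⁻¹) * y⁻¹ = y ^ 3 * v * (y ^ 3)⁻¹ := by rw [pow_succ, pow_two]; group
        _ = v := by rw [hy.cube]; group
    have hN3 : ((orderOf v : ℕ) : ℤ) ∣ (m - 1) * (m * m + m + 1) := by
      rw [orderOf_dvd_iff_zpow_eq_one, show (m - 1) * (m * m + m + 1) = m * (m * m) - 1 by ring,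
        zpow_sub, h3, zpow_one, mul_inv_cancel]
    have hN1 : ((orderOf v : ℕ) : ℤ) ∣ m - 1 := by
      refine IsCoprime.dvd_of_dvd_mul_right ?_ hN3
      rw [hk', Nat.cast_pow]
      refine ((Nat.prime_iff_prime_int.1 hl).coprime_iff_not_dvd.2 fun hd => hl3 ?_).pow_left
      have h3' : (l : ℤ) ∣ 3 := by
        have := dvd_sub hd (dvd_mul_of_dvd_left hlm (m + 2))
        rwa [show m * m + m + 1 - (m - 1) * (m + 2) = 3 by ring] at this
      exact (Nat.prime_dvd_prime_iff_eq hl Nat.prime_three).1 (by exact_mod_cast h3')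
    rw [orderOf_dvd_iff_zpow_eq_one, zpow_sub, zpow_one, mul_inv_eq_one] at hN1
    exact mul_inv_eq_iff_eq_mul.1 (hm.symm.trans hN1)
  · obtain ⟨X, -, -, hXZ, -, hiff⟩ := h
    obtain ⟨u, hu, w, hw, rfl⟩ := (hiff x).1 hx
    exact ((show Commute u v from hXZ u hu v hv).mul_left
      (E.T_comm (E.Zg_le_T hw) (E.Zg_le_T hv))).eq

end Setup

end Cfsg.Agent.JanThom
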