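import Cfsg.Agent.Lib.JanThom.Section
import Cfsg.Agent.Lib.JanThom.LGram

/-!
The integer columns `e`, `b`, `w`, `gh`, `gk` of the `τ`-section and their relations.
-/

set_option autoImplicit false
set_option linter.unusedSectionVars false
set_option linter.style.haveILetI false

namespace Cfsg.Agent.JanThom

open Cfsg Cfsg.Agent.Char
open scoped ComplexConjugate Classical

universe u v

variable {G : Type u} [Group G] {L : Type v} [Group L] {Q : ℤ}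

/-- The sign `ε` with `Q = ε q`. -/
noncomputable def eps (Q : ℤ) : ℤ := if 0 ≤ Q then 1 else -1

namespace LData

variable (D : LData L Q) [Fintype L]

include D in
theorem arith : (eps Q = 1 ∨ eps Q = -1) ∧ Q = eps Q * (Q.natAbs : ℤ) ∧
    (Q.natAbs : ℤ) = 4 * D.h - eps Q ∧ (D.k : ℤ) = 2 * D.h - eps Q := by
  have h1 := D.h_eq
  have h2 := D.k_eq
  have h3 := D.Q_mod
  have h4 := D.Q_large
  unfold eps
  split_ifs with h
  · refine ⟨Or.inl rfl, ?_, ?_, ?_⟩ <;> omega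
  · refine ⟨Or.inr rfl, ?_, ?_, ?_⟩ <;> omega

include D in
theorem card_L' : (Nat.card L : ℤ) = 4 * D.h * D.k * Q.natAbs := by
  obtain ⟨he, -, hq, hk⟩ := D.arith
  have h := D.card_L
  have h1 : 1 ≤ Q.natAbs ^ 2 := by
    have := D.Q_large; nlinarith
  have h' : (2 : ℤ) * (Nat.card L : ℤ) = (Q.natAbs : ℤ) * ((Q.natAbs : ℤ) ^ 2 - 1) := by
    generalize Q.natAbs = q at h h1 ⊢
    have := congrArg (Nat.cast (R := ℤ)) h
    push_cast [Nat.cast_sub h1] at this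
    exact this
  refine mul_left_cancel₀ (two_ne_zero (α := ℤ)) ?_
  rw [h', hq, hk]
  rcases he with e | e <;> rw [e] <;> ring

include D in
theorem invCount_one : Setup.invCount (1 : L) = D.k * Q.natAbs := by
  unfold Setup.invCount
  have hI : Nat.card {a : L // a * a = 1 ∧ a ≠ 1 ∧ a * 1 * a⁻¹ = 1⁻¹} = Nat.card {a : L // IsConj D.s a} := by
    refine Nat.card_congr (Equiv.subtypeEquivRight fun a => ⟨fun h => D.invol a h.1 h.2.1, fun h => ?_⟩)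
    obtain ⟨c, rfl⟩ := isConj_iff.1 h
    refine ⟨?_, fun e => D.s_ne (conj_eq_one_iff.1 e), by simp⟩
    rw [show c * D.s * c⁻¹ * (c * D.s * c⁻¹) = c * (D.s * D.s) * c⁻¹ by group, D.s_sq, mul_one,
      mul_inv_cancel]
  rw [hI, show Nat.card {a : L // IsConj D.s a} = (classFinset D.s).card from ?_, card_classFinset]
  · have h := Subgroup.card_mul_index (Subgroup.centralizer ({D.s} : Set L))
    rw [D.card_Cs] at h
    have hL : Nat.card L = 4 * D.h * D.k * Q.natAbs := by exact_mod_cast D.card_L'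
    rw [hL, mul_assoc (4 * D.h) D.k] at h
    exact Nat.eq_of_mul_eq_mul_left (by have := D.h_three'; omega) h
  · rw [← Fintype.card_coe, ← Nat.card_eq_fintype_card]
    exact Nat.card_congr (Equiv.subtypeEquivRight fun a => mem_classFinset.symm)

/-- A pair of representatives of the two orbits on non-trivial characters of `U`. -/
def IsPsiPair (D : LData L Q) (p : (D.U →* ℂˣ) × (D.U →* ℂˣ)) : Prop :=
  p.1 ≠ 1 ∧ p.2 ≠ 1 ∧ (∀ g, cjChar D.U g p.1 ≠ p.2) ∧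
    ∀ f : D.U →* ℂˣ, f ≠ 1 → ∃ g, cjChar D.U g p.1 = f ∨ cjChar D.U g p.2 = f

theorem exists_psiPair : ∃ p, D.IsPsiPair p := by
  haveI : Finite (D.U →* ℂˣ) :=
    Nat.finite_of_card_ne_zero (by rw [card_dual D.U D.U_comm]; exact Nat.card_pos.ne')
  haveI : Fintype (D.U →* ℂˣ) := Fintype.ofFinite _
  obtain ⟨ψ, ψ', h1, h2, h3, h4, -⟩ := D.exists_psi
  refine ⟨(ψ, ψ'), h1, h2, h3, fun f hf => ?_⟩
  have hmem : f ∈ Finset.univ.erase (1 : D.U →* ℂˣ) := Finset.mem_erase.2 ⟨hf, Finset.mem_univ _⟩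
  rw [← h4, Finset.mem_union, Finset.mem_image, Finset.mem_image] at hmem
  rcases hmem with ⟨g, -, hg⟩ | ⟨g, -, hg⟩
  exacts [⟨g, Or.inl hg⟩, ⟨g, Or.inr hg⟩]

/-- The first orbit representative. -/
noncomputable def psi : D.U →* ℂˣ := (Classical.choose D.exists_psiPair).1

/-- The second orbit representative. -/
noncomputable def psi' : D.U →* ℂˣ := (Classical.choose D.exists_psiPair).2

theorem psi_spec : D.IsPsiPair (D.psi, D.psi') := Classical.choose_spec D.exists_psiPair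

theorem card_NU' : (Nat.card (Subgroup.normalizer (D.U : Set L)) : ℤ) * 2 =
    Q.natAbs * ((Q.natAbs : ℤ) - 1) := by
  have h := D.card_NU
  have h1 : 1 ≤ Q.natAbs := by have := D.Q_large; omega
  generalize Q.natAbs = q at h h1 ⊢
  have := congrArg (Nat.cast (R := ℤ)) h
  push_cast [Nat.cast_sub h1] at this
  linarith

end LData

namespace Setup

variable (E : Setup G L Q) [Fintype G] [Fintype L]

/-- `z` on the torus `Zh`. -/
noncomputable def zh (lam : E.D.Zh →* ℂˣ) (χ : IrrCharacter G) : ℤ := E.z E.D.odd_Zh lam χ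

/-- `z` on the torus `Zk`. -/
noncomputable def zk (mu : E.D.Zk →* ℂˣ) (χ : IrrCharacter G) : ℤ := E.z E.D.odd_Zk mu χ

/-- `z` on `U`. -/
noncomputable def zu (f : E.D.U →* ℂˣ) (χ : IrrCharacter G) : ℤ := E.z E.D.odd_U f χ

/-- The column `ρ`. -/
noncomputable def rho (χ : IrrCharacter G) : ℤ := E.zu E.D.psi χ + E.zu E.D.psi' χ

/-- The column `w`. -/
noncomputable def wc (χ : IrrCharacter G) : ℤ := E.zu E.D.psi χ - E.zu E.D.psi' χ

/-- The column `e`. -/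
noncomputable def ec (χ : IrrCharacter G) : ℤ := E.zh 1 χ - 2 * E.rho χ

/-- The column `b`. -/
noncomputable def bc (χ : IrrCharacter G) : ℤ := E.zk 1 χ - E.rho χ

/-- The differences on `Zh`. -/
noncomputable def gh (lam : E.D.Zh →* ℂˣ) (χ : IrrCharacter G) : ℤ := E.zh lam χ - E.zh 1 χ

/-- The differences on `Zk`. -/
noncomputable def gk (mu : E.D.Zk →* ℂˣ) (χ : IrrCharacter G) : ℤ := E.zk mu χ - E.zk 1 χ

/-! ### Basic Gram numbers -/

theorem index_mul {X : Subgroup L} : (X.index : ℂ) * (Nat.card X : ℂ) = (Nat.card L : ℂ) := by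
  rw [← Nat.cast_mul, mul_comm, Subgroup.card_mul_index]

theorem gram_tiab {X : Subgroup L} [Fintype X] [Fintype (Subgroup.normalizer (X : Set L))]
    (hX : TIAb X) (hodd : Odd (Nat.card X)) (lam mu : X →* ℂˣ) :
    (∑ χ, E.z hodd lam χ * E.z hodd mu χ) * (Nat.card X : ℤ) ^ 2 =
      2 * ((Nat.card L : ℤ) - Nat.card (Subgroup.normalizer (X : Set L)) +
        Nat.card X * (Finset.univ.filter fun g : Subgroup.normalizer (X : Set L) =>
          cjChar X g mu = lam).card) := by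
  refine Int.cast_injective (α := ℂ) ?_
  have h1 := E.z_gram hodd hodd lam mu
  have h2 : (∑ l, conj (indLin X lam l) * indLin X mu l) * (Nat.card X : ℂ) =
      (X.index : ℂ) * ((Nat.card L : ℂ) - Nat.card (Subgroup.normalizer (X : Set L)) +
        Nat.card X * (Finset.univ.filter fun g : Subgroup.normalizer (X : Set L) =>
          cjChar X g mu = lam).card) := by
    convert gram_self hX lam mu
  have hL : (Nat.card L : ℂ) ≠ 0 := Nat.cast_ne_zero.2 Nat.card_pos.ne'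
  have hi := index_mul (X := X)
  refine mul_left_cancel₀ hL ?_
  push_cast at h1 ⊢
  linear_combination (Nat.card X : ℂ) ^ 2 * h1 + 2 * (Nat.card X : ℂ) * h2 +
    2 * ((Nat.card L : ℂ) - Nat.card (Subgroup.normalizer (X : Set L)) +
      Nat.card X * (Finset.univ.filter fun g : Subgroup.normalizer (X : Set L) =>
          cjChar X g mu = lam).card) * hi

theorem gram_co {X Y : Subgroup L} [Fintype X] (hX : Odd (Nat.card X)) (hY : Odd (Nat.card Y))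
    (hco : (Nat.card X).Coprime (Nat.card Y)) (lam : X →* ℂˣ) (mu : Y →* ℂˣ) :
    (∑ χ, E.z hX lam χ * E.z hY mu χ) * ((Nat.card X : ℤ) * Nat.card Y) = 2 * (Nat.card L : ℤ) := by
  refine Int.cast_injective (α := ℂ) ?_
  have h1 := E.z_gram hX hY lam mu
  rw [gram_ne hco lam mu] at h1
  have hL : (Nat.card L : ℂ) ≠ 0 := Nat.cast_ne_zero.2 Nat.card_pos.ne'
  have hi := index_mul (X := X)
  have hj := index_mul (X := Y)
  refine mul_left_cancel₀ hL ?_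
  push_cast at h1 ⊢
  linear_combination (Nat.card X : ℂ) * (Nat.card Y : ℂ) * h1 +
    2 * (Y.index : ℂ) * (Nat.card Y : ℂ) * hi + 2 * (Nat.card L : ℂ) * hj

theorem gram_hh (lam mu : E.D.Zh →* ℂˣ) :
    (∑ χ, E.zh lam χ * E.zh mu χ) * (E.D.h : ℤ) ^ 2 =
      2 * ((Nat.card L : ℤ) - 4 * E.D.h + 2 * (E.D.h : ℤ) ^ 2 *
        ((if mu = lam then 1 else 0) + (if mu⁻¹ = lam then 1 else 0))) := by
  obtain ⟨hN, hc⟩ := E.D.norm_Zh_counts lam mu
  have h := E.gram_tiab E.D.tiab_Zh E.D.odd_Zh lam mu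
  rw [hc, hN, E.D.card_Zh] at h
  unfold zh
  rw [h]
  push_cast
  split_ifs <;> ring

theorem gram_kk (lam mu : E.D.Zk →* ℂˣ) :
    (∑ χ, E.zk lam χ * E.zk mu χ) * (E.D.k : ℤ) ^ 2 =
      2 * ((Nat.card L : ℤ) - 2 * E.D.k + (E.D.k : ℤ) ^ 2 *
        ((if mu = lam then 1 else 0) + (if mu⁻¹ = lam then 1 else 0))) := by
  obtain ⟨hN, hc⟩ := E.D.norm_Zk_counts lam mu
  have h := E.gram_tiab E.D.tiab_Zk E.D.odd_Zk lam mu
  rw [hc, hN, E.D.card_Zk] at h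
  unfold zk
  rw [h]
  push_cast
  split_ifs <;> ring

theorem gram_uu :
    (∑ χ, E.zu E.D.psi χ * E.zu E.D.psi χ) * (Q.natAbs : ℤ) ^ 2 =
      2 * ((Nat.card L : ℤ) - Nat.card (Subgroup.normalizer (E.D.U : Set L)) + (Q.natAbs : ℤ) ^ 2) ∧
    (∑ χ, E.zu E.D.psi' χ * E.zu E.D.psi' χ) * (Q.natAbs : ℤ) ^ 2 =
      2 * ((Nat.card L : ℤ) - Nat.card (Subgroup.normalizer (E.D.U : Set L)) + (Q.natAbs : ℤ) ^ 2) ∧
    (∑ χ, E.zu E.D.psi χ * E.zu E.D.psi' χ) * (Q.natAbs : ℤ) ^ 2 =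
      2 * ((Nat.card L : ℤ) - Nat.card (Subgroup.normalizer (E.D.U : Set L))) := by
  obtain ⟨h1, h2, h3, -⟩ := E.D.psi_spec
  have self : ∀ f : E.D.U →* ℂˣ, f ≠ 1 →
      (∑ χ, E.zu f χ * E.zu f χ) * (Q.natAbs : ℤ) ^ 2 =
      2 * ((Nat.card L : ℤ) - Nat.card (Subgroup.normalizer (E.D.U : Set L)) + (Q.natAbs : ℤ) ^ 2) := by
    intro f hf
    have h := E.gram_tiab E.D.tiab_U E.D.odd_U f f
    rw [E.D.card_U] at h
    have hc := E.D.U_orbit_count hf 1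
    rw [cjChar_one] at hc
    rw [hc] at h
    unfold zu
    rw [h]
    push_cast
    ring
  refine ⟨self _ h1, self _ h2, ?_⟩
  have h := E.gram_tiab E.D.tiab_U E.D.odd_U E.D.psi E.D.psi'
  rw [E.D.card_U, show (Finset.univ.filter fun g : Subgroup.normalizer (E.D.U : Set L) =>
    cjChar E.D.U g E.D.psi' = E.D.psi) = ∅ from Finset.filter_eq_empty_iff.2 fun g _ hg => h3 g⁻¹ (by
      show cjChar E.D.U g⁻¹ E.D.psi = E.D.psi'
      rw [← hg, ← cjChar_mul, mul_inv_cancel, cjChar_one])] at h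
  unfold zu
  rw [h]
  simp

theorem gram_hk (lam : E.D.Zh →* ℂˣ) (mu : E.D.Zk →* ℂˣ) :
    (∑ χ, E.zh lam χ * E.zk mu χ) * ((E.D.h : ℤ) * E.D.k) = 2 * (Nat.card L : ℤ) := by
  have h := E.gram_co E.D.odd_Zh E.D.odd_Zk (by rw [E.D.card_Zh, E.D.card_Zk]; exact E.D.coprime_orders.1)
    lam mu
  rwa [E.D.card_Zh, E.D.card_Zk] at h

theorem gram_hu (lam : E.D.Zh →* ℂˣ) (f : E.D.U →* ℂˣ) :
    (∑ χ, E.zh lam χ * E.zu f χ) * ((E.D.h : ℤ) * Q.natAbs) = 2 * (Nat.card L : ℤ) := by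
  have h := E.gram_co E.D.odd_Zh E.D.odd_U (by rw [E.D.card_Zh, E.D.card_U]; exact E.D.coprime_orders.2.1)
    lam f
  rwa [E.D.card_Zh, E.D.card_U] at h

theorem gram_ku (mu : E.D.Zk →* ℂˣ) (f : E.D.U →* ℂˣ) :
    (∑ χ, E.zk mu χ * E.zu f χ) * ((E.D.k : ℤ) * Q.natAbs) = 2 * (Nat.card L : ℤ) := by
  have h := E.gram_co E.D.odd_Zk E.D.odd_U (by rw [E.D.card_Zk, E.D.card_U]; exact E.D.coprime_orders.2.2)
    mu f
  rwa [E.D.card_Zk, E.D.card_U] at h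

/-! ### The Gram matrix of the columns -/

theorem hne : (E.D.h : ℤ) ≠ 0 ∧ (E.D.k : ℤ) ≠ 0 ∧ (Q.natAbs : ℤ) ≠ 0 := by
  have := E.D.h_three'
  have := E.D.k_five'
  have := E.D.Q_large
  refine ⟨?_, ?_, ?_⟩ <;> omega

theorem vals_hh (lam mu : E.D.Zh →* ℂˣ) :
    ∑ χ, E.zh lam χ * E.zh mu χ = 64 * (E.D.h : ℤ) - 48 * eps Q +
      4 * ((if mu = lam then 1 else 0) + (if mu⁻¹ = lam then 1 else 0)) := by
  obtain ⟨he, -, hq, hk⟩ := E.D.arith
  have h1 := E.gram_hh lam mu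
  rw [E.D.card_L', hk, hq] at h1
  refine mul_right_cancel₀ (pow_ne_zero 2 E.hne.1) (h1.trans ?_)
  rcases he with e | e <;> rw [e] <;> ring

theorem vals_kk (lam mu : E.D.Zk →* ℂˣ) :
    ∑ χ, E.zk lam χ * E.zk mu χ = 8 * (E.D.k : ℤ) + 12 * eps Q +
      2 * ((if mu = lam then 1 else 0) + (if mu⁻¹ = lam then 1 else 0)) := by
  obtain ⟨he, -, hq, hk⟩ := E.D.arith
  have h1 := E.gram_kk lam mu
  rw [E.D.card_L', hq] at h1
  refine mul_right_cancel₀ (pow_ne_zero 2 E.hne.2.1) (h1.trans ?_)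
  rw [hk]
  rcases he with e | e <;> rw [e] <;> ring

theorem vals_hk (lam : E.D.Zh →* ℂˣ) (mu : E.D.Zk →* ℂˣ) :
    ∑ χ, E.zh lam χ * E.zk mu χ = 8 * (Q.natAbs : ℤ) := by
  refine mul_right_cancel₀ (mul_ne_zero E.hne.1 E.hne.2.1) ((E.gram_hk lam mu).trans ?_)
  rw [E.D.card_L']; ring

theorem vals_hu (lam : E.D.Zh →* ℂˣ) (f : E.D.U →* ℂˣ) :
    ∑ χ, E.zh lam χ * E.zu f χ = 8 * (E.D.k : ℤ) := by
  refine mul_right_cancel₀ (mul_ne_zero E.hne.1 E.hne.2.2) ((E.gram_hu lam f).trans ?_)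
  rw [E.D.card_L']; ring

theorem vals_ku (mu : E.D.Zk →* ℂˣ) (f : E.D.U →* ℂˣ) :
    ∑ χ, E.zk mu χ * E.zu f χ = 8 * (E.D.h : ℤ) := by
  refine mul_right_cancel₀ (mul_ne_zero E.hne.2.1 E.hne.2.2) ((E.gram_ku mu f).trans ?_)
  rw [E.D.card_L']; ring

theorem vals_uu_self {f : E.D.U →* ℂˣ} (hf : f ≠ 1) (g : Subgroup.normalizer (E.D.U : Set L)) :
    ∑ χ, E.zu (cjChar E.D.U g f) χ * E.zu f χ = (Q.natAbs : ℤ) + 1 := by
  have h := E.gram_tiab E.D.tiab_U E.D.odd_U (cjChar E.D.U g f) f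
  rw [E.D.card_U, E.D.U_orbit_count hf g] at h
  obtain ⟨he, -, hq, hk⟩ := E.D.arith
  have hN := E.D.card_NU'
  have h8 : 8 * (E.D.h : ℤ) * E.D.k = (Q.natAbs : ℤ) ^ 2 - 1 := by
    rw [hk, hq]; rcases he with e | e <;> rw [e] <;> ring
  rw [E.D.card_L'] at h
  refine mul_right_cancel₀ (pow_ne_zero 2 E.hne.2.2) ?_
  unfold zu
  linear_combination h - hN + (Q.natAbs : ℤ) * h8

theorem vals_uu :
    ∑ χ, E.zu E.D.psi χ * E.zu E.D.psi χ = (Q.natAbs : ℤ) + 1 ∧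
    ∑ χ, E.zu E.D.psi' χ * E.zu E.D.psi' χ = (Q.natAbs : ℤ) + 1 ∧
    ∑ χ, E.zu E.D.psi χ * E.zu E.D.psi' χ = (Q.natAbs : ℤ) - 1 := by
  obtain ⟨p1, p2, -, -⟩ := E.D.psi_spec
  obtain ⟨he, -, hq, hk⟩ := E.D.arith
  have hN := E.D.card_NU'
  have h8 : 8 * (E.D.h : ℤ) * E.D.k = (Q.natAbs : ℤ) ^ 2 - 1 := by
    rw [hk, hq]; rcases he with e | e <;> rw [e] <;> ring
  obtain ⟨-, -, u3⟩ := E.gram_uu
  rw [E.D.card_L'] at u3
  refine ⟨?_, ?_, mul_right_cancel₀ (pow_ne_zero 2 E.hne.2.2) ?_⟩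
  · have h := E.vals_uu_self p1 1
    rwa [cjChar_one] at h
  · have h := E.vals_uu_self p2 1
    rwa [cjChar_one] at h
  linear_combination u3 - hN + (Q.natAbs : ℤ) * h8

theorem eq_of_sq_sum {f g : IrrCharacter G → ℤ} {a : ℤ} (h1 : ∑ χ, f χ * f χ = a)
    (h2 : ∑ χ, g χ * g χ = a) (h3 : ∑ χ, f χ * g χ = a) (χ : IrrCharacter G) : f χ = g χ := by
  have h : ∑ χ, (f χ - g χ) ^ 2 = 0 := by
    have : ∀ χ, (f χ - g χ) ^ 2 = f χ * f χ + g χ * g χ - 2 * (f χ * g χ) := fun χ => by ring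
    simp only [this, Finset.sum_sub_distrib, Finset.sum_add_distrib, ← Finset.mul_sum, h1, h2, h3]
    ring
  have := (Finset.sum_eq_zero_iff_of_nonneg fun χ _ => sq_nonneg (f χ - g χ)).1 h χ (Finset.mem_univ _)
  exact sub_eq_zero.1 (pow_eq_zero_iff two_ne_zero |>.1 this)

theorem inv_inv' {X : Subgroup L} (f : X →* ℂˣ) : f⁻¹⁻¹ = f := MonoidHom.ext fun _ => by simp

theorem zh_inv (lam : E.D.Zh →* ℂˣ) (χ : IrrCharacter G) : E.zh lam⁻¹ χ = E.zh lam χ :=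
  eq_of_sq_sum (f := E.zh lam⁻¹) (g := E.zh lam)
    (a := 64 * (E.D.h : ℤ) - 48 * eps Q + 4 * (1 + if lam⁻¹ = lam then 1 else 0))
    (by rw [vals_hh, if_pos rfl]; simp [inv_inv', eq_comm])
    (by rw [vals_hh, if_pos rfl])
    (by rw [vals_hh, add_comm (if lam = lam⁻¹ then _ else _), if_pos rfl]; simp [eq_comm]) χ

theorem zk_inv (lam : E.D.Zk →* ℂˣ) (χ : IrrCharacter G) : E.zk lam⁻¹ χ = E.zk lam χ :=
  eq_of_sq_sum (f := E.zk lam⁻¹) (g := E.zk lam)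
    (a := 8 * (E.D.k : ℤ) + 12 * eps Q + 2 * (1 + if lam⁻¹ = lam then 1 else 0))
    (by rw [vals_kk, if_pos rfl]; simp [inv_inv', eq_comm])
    (by rw [vals_kk, if_pos rfl])
    (by rw [vals_kk, add_comm (if lam = lam⁻¹ then _ else _), if_pos rfl]; simp [eq_comm]) χ

theorem zu_cj {f : E.D.U →* ℂˣ} (hf : f ≠ 1) (g : Subgroup.normalizer (E.D.U : Set L))
    (χ : IrrCharacter G) : E.zu (cjChar E.D.U g f) χ = E.zu f χ := by
  have hf' : cjChar E.D.U g f ≠ 1 := fun h => hf (by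
    have := congrArg (cjChar E.D.U g⁻¹) h
    rw [← cjChar_mul, mul_inv_cancel, cjChar_one] at this
    rw [this]
    exact MonoidHom.ext fun x => rfl)
  refine eq_of_sq_sum (f := E.zu (cjChar E.D.U g f)) (g := E.zu f) ?_ ?_ (E.vals_uu_self hf g) χ
  · have h := E.vals_uu_self hf' 1
    rwa [cjChar_one] at h
  · have h := E.vals_uu_self hf 1
    rwa [cjChar_one] at h

theorem dual_ne_inv {X : Subgroup L} (hX : Odd (Nat.card X)) {lam : X →* ℂˣ} (h : lam ≠ 1) :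
    lam⁻¹ ≠ lam := fun e => h (MonoidHom.ext fun x => by
  have hx : lam x * lam x = 1 := by
    have := congrArg (fun f : X →* ℂˣ => f x) e
    simp only [MonoidHom.inv_apply] at this
    exact inv_eq_iff_mul_eq_one.1 this
  have h1 : orderOf (lam x) ∣ 2 := orderOf_dvd_of_pow_eq_one (by rw [pow_two, hx])
  have h2 : orderOf (lam x) ∣ Nat.card X := (orderOf_map_dvd lam x).trans (orderOf_dvd_natCard x)
  rw [MonoidHom.one_apply, orderOf_eq_one_iff.1 (Nat.eq_one_of_dvd_coprimes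
    (Nat.coprime_two_right.2 hX) h2 h1)])

/-! ### The Gram matrix of the columns -/

theorem sum_sub_mul (f g f' : IrrCharacter G → ℤ) :
    ∑ χ, (f χ - g χ) * f' χ = ∑ χ, f χ * f' χ - ∑ χ, g χ * f' χ := by
  rw [← Finset.sum_sub_distrib]
  exact Finset.sum_congr rfl fun χ _ => sub_mul _ _ _

theorem inv_one' (X : Subgroup L) : (1 : X →* ℂˣ)⁻¹ = 1 := MonoidHom.ext fun _ => by simp

theorem rho_mul (f : IrrCharacter G → ℤ) :
    ∑ χ, f χ * E.rho χ = ∑ χ, f χ * E.zu E.D.psi χ + ∑ χ, f χ * E.zu E.D.psi' χ := by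
  simp only [rho, mul_add, Finset.sum_add_distrib]

theorem wc_mul (f : IrrCharacter G → ℤ) :
    ∑ χ, f χ * E.wc χ = ∑ χ, f χ * E.zu E.D.psi χ - ∑ χ, f χ * E.zu E.D.psi' χ := by
  simp only [wc, mul_sub, Finset.sum_sub_distrib]

theorem rho_rho : ∑ χ, E.rho χ * E.rho χ = 4 * (Q.natAbs : ℤ) := by
  obtain ⟨u1, u2, u3⟩ := E.vals_uu
  have : ∀ χ, E.rho χ * E.rho χ = E.zu E.D.psi χ * E.zu E.D.psi χ +
      E.zu E.D.psi' χ * E.zu E.D.psi' χ + 2 * (E.zu E.D.psi χ * E.zu E.D.psi' χ) := fun χ => by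
    unfold rho; ring
  simp only [this, Finset.sum_add_distrib, ← Finset.mul_sum, u1, u2, u3]
  ring

theorem rho_wc : ∑ χ, E.rho χ * E.wc χ = 0 := by
  obtain ⟨u1, u2, -⟩ := E.vals_uu
  have : ∀ χ, E.rho χ * E.wc χ = E.zu E.D.psi χ * E.zu E.D.psi χ -
      E.zu E.D.psi' χ * E.zu E.D.psi' χ := fun χ => by
    unfold rho wc; ring
  simp only [this, Finset.sum_sub_distrib, u1, u2, sub_self]

theorem zh_rho (lam : E.D.Zh →* ℂˣ) : ∑ χ, E.zh lam χ * E.rho χ = 16 * (E.D.k : ℤ) := by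
  rw [E.rho_mul, E.vals_hu, E.vals_hu]; ring

theorem zk_rho (mu : E.D.Zk →* ℂˣ) : ∑ χ, E.zk mu χ * E.rho χ = 16 * (E.D.h : ℤ) := by
  rw [E.rho_mul, E.vals_ku, E.vals_ku]; ring

theorem zh_wc (lam : E.D.Zh →* ℂˣ) : ∑ χ, E.zh lam χ * E.wc χ = 0 := by
  rw [E.wc_mul, E.vals_hu, E.vals_hu, sub_self]

theorem zk_wc (mu : E.D.Zk →* ℂˣ) : ∑ χ, E.zk mu χ * E.wc χ = 0 := by
  rw [E.wc_mul, E.vals_ku, E.vals_ku, sub_self]

theorem gram_ec : ∑ χ, E.ec χ * E.ec χ = 8 := by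
  have : ∀ χ, E.ec χ * E.ec χ = E.zh 1 χ * E.zh 1 χ - 4 * (E.zh 1 χ * E.rho χ) +
      4 * (E.rho χ * E.rho χ) := fun χ => by unfold ec; ring
  simp only [this, Finset.sum_add_distrib, Finset.sum_sub_distrib, ← Finset.mul_sum, E.vals_hh,
    E.zh_rho, E.rho_rho, inv_one', if_true]
  obtain ⟨he, -, hq, hk⟩ := E.D.arith
  rcases he with e | e <;> rw [e] at hq hk ⊢ <;> linarith

theorem gram_bc : ∑ χ, E.bc χ * E.bc χ = 4 := by
  have : ∀ χ, E.bc χ * E.bc χ = E.zk 1 χ * E.zk 1 χ - 2 * (E.zk 1 χ * E.rho χ) +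
      E.rho χ * E.rho χ := fun χ => by unfold bc; ring
  simp only [this, Finset.sum_add_distrib, Finset.sum_sub_distrib, ← Finset.mul_sum, E.vals_kk,
    E.zk_rho, E.rho_rho, inv_one', if_true]
  obtain ⟨he, -, hq, hk⟩ := E.D.arith
  rcases he with e | e <;> rw [e] at hq hk ⊢ <;> linarith

theorem gram_wc : ∑ χ, E.wc χ * E.wc χ = 4 := by
  obtain ⟨u1, u2, u3⟩ := E.vals_uu
  have : ∀ χ, E.wc χ * E.wc χ = E.zu E.D.psi χ * E.zu E.D.psi χ +
      E.zu E.D.psi' χ * E.zu E.D.psi' χ - 2 * (E.zu E.D.psi χ * E.zu E.D.psi' χ) := fun χ => by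
    unfold wc; ring
  simp only [this, Finset.sum_add_distrib, Finset.sum_sub_distrib, ← Finset.mul_sum, u1, u2, u3]
  ring

theorem gram_ec_bc : ∑ χ, E.ec χ * E.bc χ = 0 := by
  have : ∀ χ, E.ec χ * E.bc χ = E.zh 1 χ * E.zk 1 χ - E.zh 1 χ * E.rho χ -
      2 * (E.zk 1 χ * E.rho χ) + 2 * (E.rho χ * E.rho χ) := fun χ => by unfold ec bc; ring
  simp only [this, Finset.sum_add_distrib, Finset.sum_sub_distrib, ← Finset.mul_sum, E.vals_hk,
    E.zh_rho, E.zk_rho, E.rho_rho]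
  obtain ⟨he, -, hq, hk⟩ := E.D.arith
  rcases he with e | e <;> rw [e] at hq hk <;> linarith

theorem gram_ec_wc : ∑ χ, E.ec χ * E.wc χ = 0 := by
  have : ∀ χ, E.ec χ * E.wc χ = E.zh 1 χ * E.wc χ - 2 * (E.rho χ * E.wc χ) := fun χ => by
    unfold ec; ring
  simp only [this, Finset.sum_sub_distrib, ← Finset.mul_sum, E.zh_wc, E.rho_wc]
  ring

theorem gram_bc_wc : ∑ χ, E.bc χ * E.wc χ = 0 := by
  have : ∀ χ, E.bc χ * E.wc χ = E.zk 1 χ * E.wc χ - E.rho χ * E.wc χ := fun χ => by unfold bc; ring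
  simp only [this, Finset.sum_sub_distrib, E.zk_wc, E.rho_wc, sub_self]

theorem gram_gk {mu : E.D.Zk →* ℂˣ} (hmu : mu ≠ 1) :
    (∑ χ, E.gk mu χ * E.gk mu χ = 6) ∧ (∑ χ, E.gk mu χ * E.bc χ = -4) ∧
    (∑ χ, E.gk mu χ * E.ec χ = 0) ∧ (∑ χ, E.gk mu χ * E.wc χ = 0) := by
  have h1 : (1 : E.D.Zk →* ℂˣ) ≠ mu := hmu.symm
  have h2 : mu⁻¹ ≠ mu := dual_ne_inv E.D.odd_Zk hmu
  have e0 : ∀ χ, E.gk mu χ * E.gk mu χ = E.zk mu χ * E.zk mu χ - 2 * (E.zk mu χ * E.zk 1 χ) +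
      E.zk 1 χ * E.zk 1 χ := fun χ => by unfold gk; ring
  have e1 : ∀ χ, E.gk mu χ * E.bc χ = E.zk mu χ * E.zk 1 χ - E.zk mu χ * E.rho χ -
      E.zk 1 χ * E.zk 1 χ + E.zk 1 χ * E.rho χ := fun χ => by unfold gk bc; ring
  have e2 : ∀ χ, E.gk mu χ * E.ec χ = E.zh 1 χ * E.zk mu χ - 2 * (E.zk mu χ * E.rho χ) -
      E.zh 1 χ * E.zk 1 χ + 2 * (E.zk 1 χ * E.rho χ) := fun χ => by unfold gk ec; ring
  have e3 : ∀ χ, E.gk mu χ * E.wc χ = E.zk mu χ * E.wc χ - E.zk 1 χ * E.wc χ := fun χ => by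
    unfold gk; ring
  refine ⟨?_, ?_, ?_, ?_⟩
  · simp only [e0, Finset.sum_add_distrib, Finset.sum_sub_distrib, ← Finset.mul_sum, E.vals_kk,
      inv_one', if_true, if_neg h1, if_neg h2]
    ring
  · simp only [e1, Finset.sum_add_distrib, Finset.sum_sub_distrib, E.vals_kk, E.zk_rho,
      inv_one', if_true, if_neg h1]
    ring
  · simp only [e2, Finset.sum_add_distrib, Finset.sum_sub_distrib, ← Finset.mul_sum, E.vals_hk,
      E.zk_rho]
    ring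
  · simp only [e3, Finset.sum_sub_distrib, E.zk_wc, sub_self]

theorem gram_gk_gk {mu nu : E.D.Zk →* ℂˣ} (hmu : mu ≠ 1) (hnu : nu ≠ 1) (h : nu ≠ mu)
    (h' : nu⁻¹ ≠ mu) : ∑ χ, E.gk mu χ * E.gk nu χ = 4 := by
  have h1 : (1 : E.D.Zk →* ℂˣ) ≠ mu := hmu.symm
  have h3 : nu⁻¹ ≠ 1 := fun e => hnu (by rw [← inv_inv' nu, e, inv_one'])
  have e0 : ∀ χ, E.gk mu χ * E.gk nu χ = E.zk mu χ * E.zk nu χ - E.zk mu χ * E.zk 1 χ -
      E.zk 1 χ * E.zk nu χ + E.zk 1 χ * E.zk 1 χ := fun χ => by unfold gk; ring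
  simp only [e0, Finset.sum_add_distrib, Finset.sum_sub_distrib, E.vals_kk,
    inv_one', if_true, if_neg h1, if_neg h, if_neg h', if_neg hnu, if_neg h3]
  ring

theorem gram_gh {lam : E.D.Zh →* ℂˣ} (hlam : lam ≠ 1) :
    (∑ χ, E.gh lam χ * E.gh lam χ = 12) ∧ (∑ χ, E.gh lam χ * E.ec χ = -8) ∧
    (∑ χ, E.gh lam χ * E.bc χ = 0) ∧ (∑ χ, E.gh lam χ * E.wc χ = 0) := by
  have h1 : (1 : E.D.Zh →* ℂˣ) ≠ lam := hlam.symm
  have h2 : lam⁻¹ ≠ lam := dual_ne_inv E.D.odd_Zh hlam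
  have e0 : ∀ χ, E.gh lam χ * E.gh lam χ = E.zh lam χ * E.zh lam χ -
      2 * (E.zh lam χ * E.zh 1 χ) + E.zh 1 χ * E.zh 1 χ := fun χ => by unfold gh; ring
  have e1 : ∀ χ, E.gh lam χ * E.ec χ = E.zh lam χ * E.zh 1 χ - 2 * (E.zh lam χ * E.rho χ) -
      E.zh 1 χ * E.zh 1 χ + 2 * (E.zh 1 χ * E.rho χ) := fun χ => by unfold gh ec; ring
  have e2 : ∀ χ, E.gh lam χ * E.bc χ = E.zh lam χ * E.zk 1 χ - E.zh lam χ * E.rho χ -
      E.zh 1 χ * E.zk 1 χ + E.zh 1 χ * E.rho χ := fun χ => by unfold gh bc; ring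
  have e3 : ∀ χ, E.gh lam χ * E.wc χ = E.zh lam χ * E.wc χ - E.zh 1 χ * E.wc χ := fun χ => by
    unfold gh; ring
  refine ⟨?_, ?_, ?_, ?_⟩
  · simp only [e0, Finset.sum_add_distrib, Finset.sum_sub_distrib, ← Finset.mul_sum, E.vals_hh,
      inv_one', if_true, if_neg h1, if_neg h2]
    ring
  · simp only [e1, Finset.sum_add_distrib, Finset.sum_sub_distrib, ← Finset.mul_sum, E.vals_hh,
      E.zh_rho, inv_one', if_true, if_neg h1]
    ring
  · simp only [e2, Finset.sum_add_distrib, Finset.sum_sub_distrib, E.vals_hk, E.zh_rho]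
    ring
  · simp only [e3, Finset.sum_sub_distrib, E.zh_wc, sub_self]

theorem gram_gh_gk (lam : E.D.Zh →* ℂˣ) (mu : E.D.Zk →* ℂˣ) :
    ∑ χ, E.gh lam χ * E.gk mu χ = 0 := by
  have e0 : ∀ χ, E.gh lam χ * E.gk mu χ = E.zh lam χ * E.zk mu χ - E.zh lam χ * E.zk 1 χ -
      E.zh 1 χ * E.zk mu χ + E.zh 1 χ * E.zk 1 χ := fun χ => by unfold gh gk; ring
  simp only [e0, Finset.sum_add_distrib, Finset.sum_sub_distrib, E.vals_hk]
  ring

end Setup

end Cfsg.Agent.JanThom
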