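import Cfsg.Agent.Lib.JanThom.Cols

/-!
Linear identities, parity, the principal row and the class-product sums of the `τ`-section columns.
-/

set_option autoImplicit false
set_option linter.unusedSectionVars false
set_option linter.style.haveILetI false

namespace Cfsg.Agent.JanThom

open Cfsg Cfsg.Agent.Char
open scoped ComplexConjugate Classical

universe u v

variable {G : Type u} [Group G] {L : Type v} [Group L] {Q : ℤ} [Fintype L]

noncomputable instance dualZh (D : LData L Q) : Fintype (D.Zh →* ℂˣ) :=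
  @Fintype.ofFinite _ (Nat.finite_of_card_ne_zero
    (by rw [card_dual D.Zh D.Zh_comm]; exact Nat.card_pos.ne'))

noncomputable instance dualZk (D : LData L Q) : Fintype (D.Zk →* ℂˣ) :=
  @Fintype.ofFinite _ (Nat.finite_of_card_ne_zero
    (by rw [card_dual D.Zk D.Zk_comm]; exact Nat.card_pos.ne'))

namespace Setup

variable (E : Setup G L Q) [Fintype G]

/-- The integer value at `τ`. -/
noncomputable def tv (χ : IrrCharacter G) : ℤ := ∑ lam : E.D.Zh →* ℂˣ, E.zh lam χ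

variable [IsSimpleGroup G]

theorem tv_cast (χ : IrrCharacter G) : (E.tv χ : ℂ) = (χ : G → ℂ) E.τ := by
  unfold tv zh
  push_cast
  exact E.z_sum E.D.odd_Zh E.D.Zh_comm χ

theorem tv_h (χ : IrrCharacter G) :
    E.tv χ = (E.D.h : ℤ) * E.zh 1 χ + ∑ lam : E.D.Zh →* ℂˣ, E.gh lam χ := by
  have hc : (Finset.univ : Finset (E.D.Zh →* ℂˣ)).card = E.D.h := by
    rw [Finset.card_univ, ← Nat.card_eq_fintype_card, card_dual E.D.Zh E.D.Zh_comm, E.D.card_Zh]
  unfold gh tv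
  rw [Finset.sum_sub_distrib, Finset.sum_const, hc, nsmul_eq_mul]
  ring

theorem tv_k (χ : IrrCharacter G) :
    E.tv χ = (E.D.k : ℤ) * E.zk 1 χ + ∑ mu : E.D.Zk →* ℂˣ, E.gk mu χ := by
  have hc : (Finset.univ : Finset (E.D.Zk →* ℂˣ)).card = E.D.k := by
    rw [Finset.card_univ, ← Nat.card_eq_fintype_card, card_dual E.D.Zk E.D.Zk_comm, E.D.card_Zk]
  have h : ∑ mu : E.D.Zk →* ℂˣ, E.zk mu χ = E.tv χ := by
    refine Int.cast_injective (α := ℂ) ?_
    rw [tv_cast]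
    unfold zk
    push_cast
    exact E.z_sum E.D.odd_Zk E.D.Zk_comm χ
  unfold gk
  rw [Finset.sum_sub_distrib, Finset.sum_const, hc, nsmul_eq_mul, h]
  ring

theorem rho_eq (χ : IrrCharacter G) :
    eps Q * E.rho χ = (E.D.k : ℤ) * E.bc χ - (E.D.h : ℤ) * E.ec χ +
      ∑ mu : E.D.Zk →* ℂˣ, E.gk mu χ - ∑ lam : E.D.Zh →* ℂˣ, E.gh lam χ := by
  obtain ⟨-, -, -, hk⟩ := E.D.arith
  have h1 := E.tv_h χ
  have h2 := E.tv_k χ
  unfold bc ec
  linear_combination h2 - h1 + E.rho χ * hk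

theorem sum_inv_even {X : Subgroup L} [Fintype (X →* ℂˣ)] (hX : Odd (Nat.card X))
    (f : (X →* ℂˣ) → ℤ) (h1 : f 1 = 0) (hinv : ∀ l, f l⁻¹ = f l) : Even (∑ l, f l) := by
  have h : (∑ l, (f l : ZMod 2)) = 0 := by
    refine Finset.sum_involution (fun l _ => l⁻¹) (fun l _ => ?_) (fun l _ hl e => ?_)
      (fun l _ => Finset.mem_univ _) (fun l _ => inv_inv' l)
    · rw [hinv, ← two_mul, show (2 : ZMod 2) = 0 from rfl, zero_mul]
    · exact dual_ne_inv hX (fun e' => hl (by rw [e', h1, Int.cast_zero])) e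
  rw [← Int.cast_sum] at h
  exact even_iff_two_dvd.2 ((ZMod.intCast_zmod_eq_zero_iff_dvd _ 2).1 h)

theorem gh_inv (lam : E.D.Zh →* ℂˣ) (χ : IrrCharacter G) : E.gh lam⁻¹ χ = E.gh lam χ := by
  unfold gh; rw [E.zh_inv]

theorem gk_inv (mu : E.D.Zk →* ℂˣ) (χ : IrrCharacter G) : E.gk mu⁻¹ χ = E.gk mu χ := by
  unfold gk; rw [E.zk_inv]

theorem gh_one (χ : IrrCharacter G) : E.gh 1 χ = 0 := sub_self _

theorem gk_one (χ : IrrCharacter G) : E.gk 1 χ = 0 := sub_self _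

/-- The parity relations. -/
theorem parity (χ : IrrCharacter G) :
    Even (E.rho χ + E.bc χ + E.ec χ) ∧ Even (E.wc χ + E.rho χ) ∧
      Even (E.ec χ + E.bc χ + E.wc χ) := by
  have hh := sum_inv_even E.D.odd_Zh (fun l => E.gh l χ) (E.gh_one χ) (fun l => E.gh_inv l χ)
  have hk := sum_inv_even E.D.odd_Zk (fun l => E.gk l χ) (E.gk_one χ) (fun l => E.gk_inv l χ)
  have hr := E.rho_eq χ
  have hho : Odd (E.D.h : ℤ) := by exact_mod_cast E.D.h_odd'
  have hko : Odd (E.D.k : ℤ) := by exact_mod_cast E.D.k_odd'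
  have hw : Even (E.wc χ + E.rho χ) := ⟨E.zu E.D.psi χ, by unfold wc rho; ring⟩
  have h1 : Even (E.rho χ + E.bc χ + E.ec χ) := by
    have he : Odd (eps Q) := by rcases E.D.arith.1 with e | e <;> rw [e] <;> decide
    have h2 : Even (eps Q * E.rho χ - (E.D.k : ℤ) * E.bc χ + (E.D.h : ℤ) * E.ec χ) := by
      rw [hr, show ∀ a b c d : ℤ, a - b + c - d - a + b = c - d from fun a b c d => by ring]
      exact hk.sub hh
    simp only [Int.even_add, Int.even_sub, Int.even_mul, Int.not_even_iff_odd.2 he,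
      Int.not_even_iff_odd.2 hho, Int.not_even_iff_odd.2 hko, false_or] at h2 ⊢
    exact h2
  refine ⟨h1, hw, ?_⟩
  obtain ⟨a, ha⟩ := h1
  obtain ⟨b, hb⟩ := hw
  exact ⟨a + b - E.rho χ, by omega⟩

/-! ### The principal row -/

theorem z_principal {X : Subgroup L} [Fintype X] (hX : Odd (Nat.card X)) (lam : X →* ℂˣ) :
    E.z hX lam (principal G) = if lam = 1 then 1 else 0 := by
  have h := E.z_spec hX lam (principal G)
  have h2 := sum_lin_mul_conj X lam 1
  simp only [MonoidHom.one_apply, Units.val_one, mul_one] at h2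
  simp only [principal, mul_one] at h
  rw [h2] at h
  refine Int.cast_injective (α := ℂ) (mul_right_cancel₀ (Nat.cast_ne_zero.2
    (Nat.card_pos (α := X)).ne' : (Nat.card X : ℂ) ≠ 0) (h.trans ?_))
  by_cases e : lam = 1
  · rw [if_pos e, if_pos e.symm, Int.cast_one, one_mul]
  · rw [if_neg e, if_neg (Ne.symm e), Int.cast_zero, zero_mul]

theorem cols_principal :
    E.ec (principal G) = 1 ∧ E.bc (principal G) = 1 ∧ E.wc (principal G) = 0 ∧
      E.rho (principal G) = 0 ∧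
      (∀ lam, lam ≠ 1 → E.gh lam (principal G) = -1) ∧
      (∀ mu, mu ≠ 1 → E.gk mu (principal G) = -1) := by
  obtain ⟨p1, p2, -, -⟩ := E.D.psi_spec
  unfold ec bc wc rho gh gk zh zk zu
  simp only [E.z_principal, if_neg p1, if_neg p2, if_pos]
  refine ⟨by norm_num, by norm_num, by norm_num, by norm_num, fun l hl => ?_, fun l hl => ?_⟩ <;>
    rw [if_neg hl] <;> norm_num

/-! ### Sums against the class-product weight -/

/-- The weighted sum of a column. -/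
noncomputable def wsum (f : IrrCharacter G → ℤ) : ℂ :=
  ∑ χ, (f χ : ℂ) * ((χ : G → ℂ) E.τ ^ 2 / (χ : G → ℂ) 1)

/-- The constant `|C(τ)|²`. -/
noncomputable def cc : ℂ := (2 * (Nat.card L : ℂ)) ^ 2

theorem wsum_add (f g : IrrCharacter G → ℤ) : E.wsum (fun χ => f χ + g χ) = E.wsum f + E.wsum g := by
  simp only [wsum, Int.cast_add, add_mul, Finset.sum_add_distrib]

theorem wsum_sub (f g : IrrCharacter G → ℤ) : E.wsum (fun χ => f χ - g χ) = E.wsum f - E.wsum g := by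
  simp only [wsum, Int.cast_sub, sub_mul, Finset.sum_sub_distrib]

theorem wsum_smul (a : ℤ) (f : IrrCharacter G → ℤ) : E.wsum (fun χ => a * f χ) = (a : ℂ) * E.wsum f := by
  simp only [wsum, Int.cast_mul, Finset.mul_sum, mul_assoc]

theorem z_wsum {X : Subgroup L} [Fintype X] (hX : Odd (Nat.card X)) (lam : X →* ℂˣ) {c : ℕ}
    (hc : ∀ x : X, x ≠ 1 → invCount (x : L) = c) :
    E.wsum (E.z hX lam) * (Nat.card X : ℂ) * (Nat.card G : ℂ) =
      2 * cc (L := L) * ((if lam = 1 then (c : ℂ) * Nat.card X else 0) +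
        ((E.D.k : ℂ) * Q.natAbs - c)) := by
  unfold wsum cc
  rw [E.z_pair hX lam, Finset.mul_sum]
  have h2 := sum_lin_mul_conj X lam 1
  simp only [MonoidHom.one_apply, Units.val_one, mul_one] at h2
  have hval : ∀ x : X, conj (lam x : ℂ) * ((2 * invCount (x : L) : ℕ) : ℂ) =
      2 * (c : ℂ) * conj (lam x : ℂ) + if x = 1 then 2 * ((E.D.k : ℂ) * Q.natAbs - c) else 0 := by
    intro x
    by_cases hx : x = 1
    · subst hx
      rw [Subgroup.coe_one, E.D.invCount_one, if_pos rfl, map_one, Units.val_one, map_one]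
      push_cast
      ring
    · rw [hc x hx, if_neg hx, add_zero]
      push_cast
      ring
  rw [← Finset.mul_sum, Finset.sum_congr rfl fun x _ => hval x, Finset.sum_add_distrib,
    Finset.sum_ite_eq' Finset.univ (1 : X), if_pos (Finset.mem_univ _), ← Finset.mul_sum, h2]
  by_cases e : lam = 1
  · rw [if_pos e, if_pos e.symm]; ring
  · rw [if_neg e, if_neg (Ne.symm e)]; ring

theorem zh_wsum (lam : E.D.Zh →* ℂˣ) :
    E.wsum (E.zh lam) * (E.D.h : ℂ) * (Nat.card G : ℂ) =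
      2 * cc (L := L) * ((if lam = 1 then 2 * (E.D.h : ℂ) * E.D.h else 0) +
        ((E.D.k : ℂ) * Q.natAbs - 2 * E.D.h)) := by
  have h := E.z_wsum E.D.odd_Zh lam (c := 2 * E.D.h)
    (fun x hx => E.D.inv_h x x.2 fun e => hx (Subtype.ext e))
  rw [E.D.card_Zh] at h
  push_cast at h
  exact h

theorem zk_wsum (mu : E.D.Zk →* ℂˣ) :
    E.wsum (E.zk mu) * (E.D.k : ℂ) * (Nat.card G : ℂ) =
      2 * cc (L := L) * ((if mu = 1 then (E.D.k : ℂ) * E.D.k else 0) +
        ((E.D.k : ℂ) * Q.natAbs - E.D.k)) := by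
  have h := E.z_wsum E.D.odd_Zk mu (c := E.D.k)
    (fun x hx => E.D.inv_k x x.2 fun e => hx (Subtype.ext e))
  rw [E.D.card_Zk] at h
  exact h

theorem zu_wsum {f : E.D.U →* ℂˣ} (hf : f ≠ 1) :
    E.wsum (E.zu f) * (Nat.card G : ℂ) =
      2 * cc (L := L) * ((E.D.k : ℂ) - (1 - (eps Q : ℂ)) / 2) := by
  have h := E.z_wsum E.D.odd_U f (c := if Q < 0 then Q.natAbs else 0)
    (fun x hx => E.D.inv_u x x.2 fun e => hx (Subtype.ext e))
  rw [E.D.card_U, if_neg hf, zero_add] at h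
  have hq : (Q.natAbs : ℂ) ≠ 0 := Nat.cast_ne_zero.2 (by have := E.D.Q_large; omega)
  refine mul_right_cancel₀ hq ?_
  unfold eps
  by_cases hQ : Q < 0
  · rw [if_pos hQ] at h
    rw [if_neg (not_le.2 hQ)]
    push_cast
    unfold zu
    linear_combination h
  · rw [if_neg hQ] at h
    rw [if_pos (not_lt.1 hQ)]
    push_cast at h ⊢
    unfold zu
    linear_combination h

theorem rho_wsum :
    E.wsum E.rho * (Nat.card G : ℂ) = 4 * cc (L := L) * ((E.D.k : ℂ) - (1 - (eps Q : ℂ)) / 2) := by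
  obtain ⟨p1, p2, -, -⟩ := E.D.psi_spec
  have e : E.wsum E.rho = E.wsum (E.zu E.D.psi) + E.wsum (E.zu E.D.psi') := E.wsum_add _ _
  rw [e, add_mul, E.zu_wsum p1, E.zu_wsum p2]
  ring

theorem wc_wsum : E.wsum E.wc * (Nat.card G : ℂ) = 0 := by
  obtain ⟨p1, p2, -, -⟩ := E.D.psi_spec
  have e : E.wsum E.wc = E.wsum (E.zu E.D.psi) - E.wsum (E.zu E.D.psi') := E.wsum_sub _ _
  rw [e, sub_mul, E.zu_wsum p1, E.zu_wsum p2, sub_self]

theorem arith_C : (Q.natAbs : ℂ) = 4 * (E.D.h : ℂ) - (eps Q : ℂ) ∧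
    (E.D.k : ℂ) = 2 * (E.D.h : ℂ) - (eps Q : ℂ) ∧ (eps Q : ℂ) * (eps Q : ℂ) = 1 := by
  obtain ⟨he, -, hq, hk⟩ := E.D.arith
  refine ⟨?_, ?_, by rcases he with e | e <;> rw [e] <;> norm_num⟩
  · have := congrArg (Int.cast (R := ℂ)) hq
    simpa only [Int.cast_sub, Int.cast_mul, Int.cast_ofNat, Int.cast_natCast] using this
  · have := congrArg (Int.cast (R := ℂ)) hk
    simpa only [Int.cast_sub, Int.cast_mul, Int.cast_ofNat, Int.cast_natCast] using this

theorem ec_wsum :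
    E.wsum E.ec * (4 * (E.D.h : ℂ)) * (Nat.card G : ℂ) =
      cc (L := L) * ((Q.natAbs : ℂ) ^ 2 - 6 * (eps Q : ℂ) * Q.natAbs + 1) := by
  obtain ⟨hq, hk, he⟩ := E.arith_C
  have h1 := E.zh_wsum 1
  rw [if_pos rfl] at h1
  have h2 := E.rho_wsum
  have e : E.wsum E.ec = E.wsum (E.zh 1) - 2 * E.wsum E.rho := by
    show E.wsum (fun χ => E.zh 1 χ - 2 * E.rho χ) = _
    rw [E.wsum_sub, E.wsum_smul]
    norm_num
  rw [e]
  rw [hk, hq] at h1
  rw [hk] at h2
  rw [hq]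
  linear_combination 4 * h1 - 8 * (E.D.h : ℂ) * h2 + cc (L := L) * he

theorem bc_wsum :
    E.wsum E.bc * (Nat.card G : ℂ) = cc (L := L) * ((Q.natAbs : ℂ) - (eps Q : ℂ)) := by
  obtain ⟨hq, hk, -⟩ := E.arith_C
  have h1 := E.zk_wsum 1
  rw [if_pos rfl] at h1
  have h2 := E.rho_wsum
  have hk0 : (E.D.k : ℂ) ≠ 0 := Nat.cast_ne_zero.2 (by have := E.D.k_five'; omega)
  have e : E.wsum E.bc = E.wsum (E.zk 1) - E.wsum E.rho := E.wsum_sub _ _
  refine mul_right_cancel₀ hk0 ?_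
  rw [e]
  rw [hk, hq] at h1 ⊢
  rw [hk] at h2
  linear_combination h1 - (2 * (E.D.h : ℂ) - (eps Q : ℂ)) * h2

theorem gk_wsum {mu : E.D.Zk →* ℂˣ} (hmu : mu ≠ 1) :
    E.wsum (E.gk mu) * (Nat.card G : ℂ) = -(2 * cc (L := L) * (E.D.k : ℂ)) := by
  have hk0 : (E.D.k : ℂ) ≠ 0 := Nat.cast_ne_zero.2 (by have := E.D.k_five'; omega)
  have h1 := E.zk_wsum 1
  have h2 := E.zk_wsum mu
  rw [if_pos rfl] at h1
  rw [if_neg hmu] at h2
  have e : E.wsum (E.gk mu) = E.wsum (E.zk mu) - E.wsum (E.zk 1) := E.wsum_sub _ _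
  refine mul_right_cancel₀ hk0 ?_
  rw [e]
  linear_combination h2 - h1

theorem gh_wsum {lam : E.D.Zh →* ℂˣ} (hlam : lam ≠ 1) :
    E.wsum (E.gh lam) * (Nat.card G : ℂ) = -(4 * cc (L := L) * (E.D.h : ℂ)) := by
  have hh0 : (E.D.h : ℂ) ≠ 0 := Nat.cast_ne_zero.2 (by have := E.D.h_three'; omega)
  have h1 := E.zh_wsum 1
  have h2 := E.zh_wsum lam
  rw [if_pos rfl] at h1
  rw [if_neg hlam] at h2
  have e : E.wsum (E.gh lam) = E.wsum (E.zh lam) - E.wsum (E.zh 1) := E.wsum_sub _ _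
  refine mul_right_cancel₀ hh0 ?_
  rw [e]
  linear_combination h2 - h1

/-! ### Orthogonality to the degrees -/

/-- The degree-weighted sum of a column. -/
noncomputable def dsum (f : IrrCharacter G → ℤ) : ℂ := ∑ χ, (f χ : ℂ) * (χ : G → ℂ) 1

theorem cols_deg :
    dsum E.ec = 0 ∧ dsum E.bc = 0 ∧ dsum E.wc = 0 ∧
      (∀ lam, dsum (E.gh lam) = 0) ∧ (∀ mu, dsum (E.gk mu) = 0) := by
  have hz : ∀ {X : Subgroup L} (hX : Odd (Nat.card X)) (lam : X →* ℂˣ),
      dsum (E.z hX lam) = 0 := fun hX lam => E.z_deg hX lam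
  simp only [dsum] at hz ⊢
  unfold ec bc wc rho gh gk zh zk zu
  push_cast
  simp only [sub_mul, add_mul, mul_assoc, mul_add, Finset.sum_sub_distrib, Finset.sum_add_distrib,
    ← Finset.mul_sum, hz]
  simp

end Setup

end Cfsg.Agent.JanThom
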