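import Cfsg.Agent.Lib.JanThom.PSL2Tori
import Cfsg.Agent.Lib.AbelInv.Semilinear
import Cfsg.Agent.Lib.AbelInv.Setup
import Cfsg.Agent.Lib.AlperinRankTwo.Simple
import Cfsg.Agent.Lib.EightAut.Aut
import Cfsg.Agent.Lib.JankoOne.Main
import Cfsg.Agent.Lib.JankoRee.PSL2Four
import Cfsg.Agent.S0251
import Cfsg.Agent.S0252
import Cfsg.Agent.S0253
import Cfsg.Agent.S3189

/-!
The reduction to `q ≡ ±3 (mod 8)`, `q ≥ 11`.
-/

set_option autoImplicit false
set_option linter.unusedSectionVars false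
set_option linter.style.haveILetI false

namespace Cfsg.Agent.JanThom

open Subgroup

universe u v

variable {G : Type u} [Group G] [Finite G]

/-- The action of the normaliser of an abelian Sylow 2-subgroup. -/
noncomputable abbrev autS (P : Sylow 2 G) : Subgroup (MulAut (P : Subgroup G)) :=
  (P : Subgroup G).normalizerMonoidHom.range

theorem autS_smul (P : Sylow 2 G) (n : normalizer ((P : Subgroup G) : Set G)) (a : (P : Subgroup G)) :
    (((⟨(P : Subgroup G).normalizerMonoidHom n, n, rfl⟩ : autS P) • a : (P : Subgroup G)) : G) =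
      (n : G) * (a : G) * (n : G)⁻¹ := rfl

theorem autS_faith (P : Sylow 2 G) : ∀ r : autS P, (∀ a : (P : Subgroup G), r • a = a) → r = 1 :=
  fun _ h => Subtype.ext (MulEquiv.ext h)

theorem autS_card (P : Sylow 2 G) : Nat.card (autS P) =
    (centralizer ((P : Subgroup G) : Set G)).relIndex (normalizer ((P : Subgroup G) : Set G)) := by
  rw [← Subgroup.index_ker, Subgroup.normalizerMonoidHom_ker]
  rfl

theorem autS_odd (P : Sylow 2 G) (hP : ∀ a ∈ (P : Subgroup G), ∀ b ∈ (P : Subgroup G), a * b = b * a) :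
    Odd (Nat.card (autS P)) := by
  rw [autS_card, Nat.odd_iff, ← Nat.two_dvd_ne_zero]
  intro h
  have hle : centralizer ((P : Subgroup G) : Set G) ≤ normalizer ((P : Subgroup G) : Set G) :=
    centralizer_le_normalizer _
  exact P.not_dvd_index (h.trans ((dvd_mul_right _ _).trans
    ((Subgroup.relIndex_mul_index hle).dvd.trans
      (Subgroup.index_dvd_of_le (fun a ha => Subgroup.mem_centralizer_iff.2 fun b hb =>
        hP b hb a ha)))))

theorem autS_fix [IsSimpleGroup G] (hG : ¬ IsMulCommutative G) (P : Sylow 2 G)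
    (hP : IsMulCommutative (P : Subgroup G)) {a : (P : Subgroup G)} (ha : orderOf (a : G) = 2) :
    ∃ r : autS P, r • a ≠ a := by
  by_contra! h
  haveI : Fact (Nat.Prime 2) := ⟨Nat.prime_two⟩
  refine AlperinRankTwo.not_weakly_closed hG P ha a.2 fun g hg => ?_
  obtain ⟨n, hn, he⟩ := Sylow.conj_eq_normalizer_conj_of_mem P (a : G) g⁻¹ a.2 (by rw [inv_inv]; exact hg)
  have h1 := congrArg Subtype.val (h ⟨(P : Subgroup G).normalizerMonoidHom ⟨n⁻¹, inv_mem hn⟩, _, rfl⟩)
  rw [autS_smul] at h1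
  rw [inv_inv] at he h1
  rw [he]
  exact h1

/-- `Z₂ × L` seen inside the group. -/
theorem exists_prod_hom {L : Type v} [Group L] [Finite L] {t : G} (ht : orderOf t = 2)
    (hZ : center L = ⊥) (e : centralizer ({t} : Set G) ≃* Multiplicative (ZMod 2) × L) :
    ∃ φ : Multiplicative (ZMod 2) × L →* G, Function.Injective φ ∧ φ.range = centralizer ({t} : Set G) ∧
      φ (Multiplicative.ofAdd 1, 1) = t := by
  have htC : t ∈ centralizer ({t} : Set G) := mem_centralizer_singleton_iff.2 rfl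
  set z := e ⟨t, htC⟩ with hz
  have hcen : ∀ y, z * y = y * z := fun y => by
    obtain ⟨x, rfl⟩ := e.surjective y
    rw [hz, ← map_mul, ← map_mul]
    exact congrArg e (Subtype.ext (mem_centralizer_singleton_iff.1 x.2).symm)
  have h2 : z.2 = 1 := mem_bot.1 (hZ ▸ mem_center_iff.2 fun g => by
    simpa using (congrArg Prod.snd (hcen (1, g))).symm)
  have hz1 : z ≠ 1 := fun h => by
    have := congrArg Subtype.val (e.injective (h.trans (map_one e).symm))
    simp only [OneMemClass.coe_one] at this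
    rw [this, orderOf_one] at ht
    norm_num at ht
  have h1 : z.1 = Multiplicative.ofAdd 1 := by
    have : z.1 ≠ 1 := fun h => hz1 (Prod.ext h h2)
    revert this
    generalize z.1 = a
    revert a
    decide
  refine ⟨(centralizer ({t} : Set G)).subtype.comp e.symm.toMonoidHom,
    (centralizer ({t} : Set G)).subtype_injective.comp e.symm.injective, ?_, ?_⟩
  · rw [MonoidHom.range_comp, MonoidHom.range_eq_top.2 e.symm.surjective, ← MonoidHom.range_eq_map,
      Subgroup.range_subtype]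
  · show ((e.symm (Multiplicative.ofAdd 1, 1) : centralizer ({t} : Set G)) : G) = t
    rw [show (Multiplicative.ofAdd (1 : ZMod 2), (1 : L)) = z from Prod.ext h1.symm h2.symm, hz,
      e.symm_apply_apply]

theorem not_comm_of_centralizer {L : Type v} [Group L] {φ : L →* G} (hφ : Function.Injective φ)
    (hL : ¬ IsMulCommutative L) : ¬ IsMulCommutative G := fun h =>
  hL ⟨⟨fun a b => hφ (by rw [map_mul, map_mul, h.is_comm.comm])⟩⟩

theorem center_psl2 {F : Type v} [Field F] [Fintype F] (hq : 4 ≤ Fintype.card F)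
    (hna : ¬ IsMulCommutative (Matrix.ProjectiveSpecialLinearGroup (Fin 2) F)) :
    center (Matrix.ProjectiveSpecialLinearGroup (Fin 2) F) = ⊥ := by
  haveI : IsSimpleGroup (Matrix.ProjectiveSpecialLinearGroup (Fin 2) F) :=
    Matrix.ProjectiveSpecialLinearGroup.rank_two_simple (by rw [Nat.card_eq_fintype_card]; exact hq)
  rcases (inferInstance : (center (Matrix.ProjectiveSpecialLinearGroup (Fin 2) F)).Normal).eq_bot_or_eq_top
    with e | e
  · exact e
  · exact absurd ⟨⟨fun a b => (mem_center_iff.1 (e ▸ mem_top b) a)⟩⟩ hna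

theorem alt4_facts : (∀ z : alternatingGroup (Fin 4), (∀ g, g * z = z * g) → z = 1) ∧
    (∃ a b : alternatingGroup (Fin 4), a * b ≠ b * a) := by
  constructor <;> decide +kernel

theorem alt4_three' : ∀ y a : alternatingGroup (Fin 4),
    ¬ (y ^ 3 = 1 ∧ y ≠ 1 ∧ a * a = 1 ∧ a ≠ 1 ∧ y * a * y⁻¹ = a) := by
  decide +kernel

theorem alt4_three (y : alternatingGroup (Fin 4)) (h3 : y ^ 3 = 1) (h1 : y ≠ 1)
    (a : alternatingGroup (Fin 4)) (ha : a * a = 1) (ha1 : a ≠ 1) : y * a * y⁻¹ ≠ a :=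
  fun h => alt4_three' y a ⟨h3, h1, ha, ha1, h⟩

theorem z2_cases : ∀ a : Multiplicative (ZMod 2), a = 1 ∨ a = Multiplicative.ofAdd 1 := by decide

theorem z2_sq : ∀ a : Multiplicative (ZMod 2), a * a = 1 := by decide

theorem z2_three : ∀ a b c : Multiplicative (ZMod 2), a ≠ b → c ≠ b → a = c := by decide

theorem alt4_solvable : Group.IsSolvable (alternatingGroup (Fin 4)) := by
  have h1 : ∀ a b : alternatingGroup (Fin 4),
      (a * b * a⁻¹ * b⁻¹) * (a * b * a⁻¹ * b⁻¹) = 1 := by decide +kernel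
  have h2 : ∀ a b : alternatingGroup (Fin 4), a * a = 1 → b * b = 1 → a * b * a⁻¹ * b⁻¹ = 1 := by
    decide +kernel
  have hmul : ∀ a b : alternatingGroup (Fin 4), a * a = 1 → b * b = 1 → (a * b) * (a * b) = 1 := by
    decide +kernel
  let K : Subgroup (alternatingGroup (Fin 4)) :=
    { carrier := {a | a * a = 1}
      one_mem' := one_mul 1
      mul_mem' := fun {a b} ha hb => hmul a b ha hb
      inv_mem' := fun {a} ha => by
        show a⁻¹ * a⁻¹ = 1
        rw [← _root_.mul_inv_rev, show a * a = 1 from ha, inv_one] }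
  refine (Group.isSolvable_def _).2 ⟨2, eq_bot_iff.2 ?_⟩
  have hd : derivedSeries (alternatingGroup (Fin 4)) 1 ≤ K := by
    rw [derivedSeries_succ, derivedSeries_zero, Subgroup.commutator_le]
    exact fun a _ b _ => h1 a b
  rw [derivedSeries_succ, Subgroup.commutator_le]
  exact fun a ha b hb => mem_bot.2 (h2 a b (hd ha) (hd hb))

theorem alt4_invol_mul : ∀ a b : alternatingGroup (Fin 4), a * a = 1 → b * b = 1 → (a * b) * (a * b) = 1 := by
  decide +kernel

/-- No group has the centraliser `Z₂ × A₄`. -/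
theorem false_three [IsSimpleGroup G] (hab : ∀ P : Sylow 2 G, ∀ a b : P, a * b = b * a) {t : G}
    (ht : orderOf t = 2) (e : centralizer ({t} : Set G) ≃* Multiplicative (ZMod 2) × alternatingGroup (Fin 4)) :
    False := by
  classical
  haveI : Fact (Nat.Prime 2) := ⟨Nat.prime_two⟩
  obtain ⟨φ, hφ, hrange, hφt⟩ := exists_prod_hom ht
    (eq_bot_iff.2 fun z hz => mem_bot.2 (alt4_facts.1 z fun g => mem_center_iff.1 hz g)) e
  have hG : ¬ IsMulCommutative G := fun h => by
    obtain ⟨a, b, hne⟩ := alt4_facts.2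
    exact hne (congrArg Prod.snd (hφ (show φ (1, a * b) = φ (1, b * a) from by
      rw [show ((1 : Multiplicative (ZMod 2)), a * b) = (1, a) * (1, b) from rfl,
        show ((1 : Multiplicative (ZMod 2)), b * a) = (1, b) * (1, a) from rfl, map_mul, map_mul,
        h.is_comm.comm])) :)
  obtain ⟨P, htP⟩ := (IsPGroup.of_card (n := 1) (G := zpowers t) (by
    rw [Nat.card_zpowers, ht, pow_one])).exists_le_sylow
  have htP' : t ∈ (P : Subgroup G) := htP (mem_zpowers t)
  have hPc : ∀ a ∈ (P : Subgroup G), ∀ b ∈ (P : Subgroup G), a * b = b * a := fun a ha b hb =>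
    congrArg Subtype.val (hab P ⟨a, ha⟩ ⟨b, hb⟩)
  have hP : IsMulCommutative (P : Subgroup G) := ⟨⟨fun a b => hab P a b⟩⟩
  have hPC : (P : Subgroup G) ≤ φ.range := hrange ▸ fun x hx =>
    mem_centralizer_singleton_iff.2 (hPc x hx t htP')
  have hcardC : Nat.card φ.range = 24 := by
    rw [← Nat.card_congr (MonoidHom.ofInjective hφ).toEquiv, Nat.card_prod,
      Nat.card_congr Multiplicative.toAdd, Nat.card_zmod, nat_card_alternatingGroup, Nat.card_fin]
    rfl
  -- the Sylow subgroup is elementary of order eight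
  have hP8 : Nat.card (P : Subgroup G) = 8 := by
    obtain ⟨Q⟩ := (inferInstance : Nonempty (Sylow 2 φ.range))
    obtain ⟨R, hR⟩ := (Q.2.map φ.range.subtype).exists_le_sylow
    have h1 := Subgroup.card_dvd_of_le hPC
    have h2 := Subgroup.card_le_of_le hR
    rw [card_map_of_injective φ.range.subtype_injective, Nat.card_congr (Sylow.equiv R P).toEquiv,
      Q.card_eq_multiplicity, hcardC] at h2
    rw [hcardC] at h1
    obtain ⟨k, hk⟩ := IsPGroup.iff_card.1 P.2
    rw [hk] at h1 h2 ⊢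
    have h3 : (24 : ℕ).factorization 2 = 3 := by
      rw [show (24 : ℕ) = 2 ^ 3 * 3 by norm_num, Nat.factorization_mul (by norm_num) (by norm_num),
        Nat.Prime.factorization_pow Nat.prime_two, Nat.Prime.factorization Nat.prime_three]
      simp
    rw [h3] at h2
    have hk3 : 3 ≤ k := (Nat.pow_le_pow_iff_right (le_refl 2)).1 h2
    have hk4 : k < 4 := by
      by_contra hh
      have h5 : 2 ^ 4 ∣ 24 := (pow_dvd_pow 2 (not_lt.1 hh)).trans h1
      norm_num at h5
    rw [show k = 3 by omega]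
    norm_num
  have hinv : ∀ x ∈ (P : Subgroup G), x * x = 1 := by
    intro x hx
    obtain ⟨⟨a, l⟩, rfl⟩ := hPC hx
    rw [← map_mul, ← map_one φ]
    congr 1
    refine Prod.ext ?_ ?_
    · exact z2_sq a
    · have ho : orderOf (φ (a, l)) ∣ 8 := by
        rw [← hP8, ← Subgroup.orderOf_mk (φ (a, l)) hx]; exact orderOf_dvd_natCard _
      rw [orderOf_injective φ hφ, orderOf_dvd_iff_pow_eq_one] at ho
      have hl : l ^ 8 = 1 := congrArg Prod.snd ho
      show l * l = 1
      clear hx ho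
      revert l; decide +kernel
  have hS : Cfsg.IsElementaryAbelian 2 (P : Subgroup G) := ⟨hP, fun a ha => by rw [pow_two]; exact hinv a ha⟩
  have hsq : ∀ a : (P : Subgroup G), a * a = 1 := fun a => Subtype.ext (hinv a a.2)
  have hfix : ∀ a : (P : Subgroup G), a ≠ 1 → ∃ r : autS P, r • a ≠ a := fun a ha =>
    autS_fix hG P hP (orderOf_eq_prime (hS.2 _ a.2) fun h => ha (Subtype.ext h))
  -- an element of order three centralising t and acting
  obtain ⟨y, hy3, hy1⟩ : ∃ y : alternatingGroup (Fin 4), y ^ 3 = 1 ∧ y ≠ 1 := by decide +kernel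
  have hyN : φ (1, y) ∈ normalizer ((P : Subgroup G) : Set G) := by
    refine Subgroup.mem_normalizer_fintype fun x hx => ?_
    obtain ⟨⟨a, l⟩, rfl⟩ := hPC hx
    have hll : l * l = 1 := congrArg Prod.snd (hφ (show φ ((a, l) * (a, l)) = φ 1 by
      rw [map_mul, map_one]; exact hinv _ hx) :)
    have hmem : ∀ b : Multiplicative (ZMod 2), ∀ m : alternatingGroup (Fin 4), m * m = 1 →
        φ (b, m) ∈ (P : Subgroup G) := by
      intro b m hm
      let T : Subgroup G :=
        { carrier := {g | ∃ p : Multiplicative (ZMod 2) × alternatingGroup (Fin 4), p.2 * p.2 = 1 ∧ φ p = g}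
          one_mem' := ⟨1, one_mul 1, map_one φ⟩
          mul_mem' := by
            rintro _ _ ⟨p, hp, rfl⟩ ⟨p', hp', rfl⟩
            exact ⟨p * p', alt4_invol_mul _ _ hp hp', map_mul φ p p'⟩
          inv_mem' := by
            rintro _ ⟨p, hp, rfl⟩
            exact ⟨p⁻¹, by rw [Prod.snd_inv, ← mul_inv_rev, hp, inv_one], map_inv φ p⟩ }
      have hPT : (P : Subgroup G) ≤ T := fun g hg => by
        obtain ⟨p, rfl⟩ := hPC hg
        exact ⟨p, congrArg Prod.snd (hφ (show φ (p * p) = φ 1 by rw [map_mul, map_one]; exact hinv _ hg) :), rfl⟩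
      have hT2 : IsPGroup 2 T := fun g => ⟨1, Subtype.ext (by
        obtain ⟨p, hp, hpg⟩ := g.2
        rw [pow_one, Subgroup.coe_pow, ← hpg, ← map_pow, pow_two]
        refine (congrArg φ (Prod.ext ?_ hp)).trans (map_one φ)
        exact z2_sq p.1)⟩
      rw [← P.3 hT2 hPT]
      exact ⟨(b, m), hm, rfl⟩
    rw [← map_inv, ← map_mul, ← map_mul]
    refine hmem _ _ ?_
    show y * l * y⁻¹ * (y * l * y⁻¹) = 1
    calc y * l * y⁻¹ * (y * l * y⁻¹) = y * (l * l) * y⁻¹ := by group
      _ = 1 := by rw [hll, mul_one, mul_inv_cancel]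
  let r₀ : autS P := ⟨(P : Subgroup G).normalizerMonoidHom ⟨φ (1, y), hyN⟩, _, rfl⟩
  let t₀ : (P : Subgroup G) := ⟨t, htP'⟩
  have hr₀t : r₀ • t₀ = t₀ := Subtype.ext (by
    show φ (1, y) * t * (φ (1, y))⁻¹ = t
    rw [← hφt, ← map_inv, ← map_mul, ← map_mul]
    congr 1
    exact Prod.ext (by simp) (by simp))
  have hr₀ : r₀ ≠ 1 := by
    intro h
    obtain ⟨a, ha⟩ : ∃ a : (P : Subgroup G), a ≠ 1 ∧ a ≠ t₀ := by
      haveI := Fintype.ofFinite (P : Subgroup G)
      obtain ⟨a, -, ha⟩ := Finset.exists_mem_notMem_of_card_lt_card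
        (s := ({1, t₀} : Finset (P : Subgroup G))) (t := Finset.univ) (lt_of_le_of_lt Finset.card_le_two (by
          rw [Finset.card_univ, ← Nat.card_eq_fintype_card, hP8]; norm_num))
      exact ⟨a, fun e => ha (by simp [e]), fun e => ha (by simp [e])⟩
    obtain ⟨⟨b, l⟩, hbl⟩ := hPC a.2
    have hll : l * l = 1 := congrArg Prod.snd (hφ (show φ ((b, l) * (b, l)) = φ 1 by
      rw [map_mul, map_one, hbl]; exact hinv _ a.2) :)
    have hl1 : l ≠ 1 := by
      intro hl
      subst hl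
      have hb := z2_cases b
      rcases hb with rfl | rfl
      · exact ha.1 (Subtype.ext (by rw [← hbl, OneMemClass.coe_one]; exact map_one φ))
      · exact ha.2 (Subtype.ext (hbl.symm.trans hφt))
    have h1 : φ (1, y) * (a : G) * (φ (1, y))⁻¹ = a := congrArg Subtype.val
      (show r₀ • a = a by rw [h, one_smul])
    rw [← hbl, ← map_inv, ← map_mul, ← map_mul] at h1
    exact alt4_three y hy3 hy1 l hll hl1 (congrArg Prod.snd (hφ h1) :)
  have hr3 : r₀ ^ 3 = 1 := Subtype.ext (by
    show (P : Subgroup G).normalizerMonoidHom ⟨φ (1, y), hyN⟩ ^ 3 = 1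
    rw [← map_pow, ← map_one (P : Subgroup G).normalizerMonoidHom]
    congr 1
    exact Subtype.ext (show φ (1, y) ^ 3 = 1 by rw [← map_pow, Prod.pow_mk, one_pow, hy3]; exact map_one φ))
  have h3 : 3 ∣ Nat.card (autS P) := by
    haveI : Fact (Nat.Prime 3) := ⟨Nat.prime_three⟩
    rw [← orderOf_eq_prime hr3 hr₀]
    exact orderOf_dvd_natCard _
  rcases EightAut.eight_cases hP8 hsq (autS_odd P hPc) (autS_faith P) hfix with h7 | ⟨htr, -⟩
  · rw [h7] at h3
    norm_num at h3
  have hsolC : Group.IsSolvable φ.range := by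
    haveI := alt4_solvable
    exact Group.isSolvable_of_surjective (f := φ.rangeRestrict) φ.rangeRestrict_surjective
  have hsol : ∀ u : G, orderOf u = 2 → Group.IsSolvable ↥(centralizer ({u} : Set G)) := by
    intro u hu
    obtain ⟨R, huR⟩ := (IsPGroup.of_card (n := 1) (G := zpowers u) (by
      rw [Nat.card_zpowers, hu, pow_one])).exists_le_sylow
    obtain ⟨g, hg⟩ := MulAction.exists_smul_eq G R P
    have hmem : g * u * g⁻¹ ∈ (P : Subgroup G) := by
      rw [← hg, Sylow.coe_subgroup_smul]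
      exact ⟨u, huR (mem_zpowers u), rfl⟩
    have hu1 : u ≠ 1 := fun e => by rw [e, orderOf_one] at hu; norm_num at hu
    obtain ⟨⟨_, n, rfl⟩, hn⟩ := htr t₀ ⟨_, hmem⟩ (fun e => by
      have := congrArg Subtype.val e
      rw [OneMemClass.coe_one] at this
      rw [show (t₀ : G) = t from rfl] at this
      rw [this, orderOf_one] at ht
      norm_num at ht) fun e => hu1 (conj_eq_one_iff.1 (congrArg Subtype.val e))
    have hn' : (n : G) * t * (n : G)⁻¹ = g * u * g⁻¹ := congrArg Subtype.val hn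
    set c := g⁻¹ * (n : G)
    have hc : c * t * c⁻¹ = u := by
      rw [show c * t * c⁻¹ = g⁻¹ * ((n : G) * t * (n : G)⁻¹) * g by simp only [c]; group, hn']
      group
    have hmap : centralizer ({u} : Set G) ≤ φ.range.map (MulAut.conj c).toMonoidHom := by
      intro x hx
      refine ⟨c⁻¹ * x * c, ?_, by show c * (c⁻¹ * x * c) * c⁻¹ = x; group⟩
      show c⁻¹ * x * c ∈ φ.range
      rw [hrange, mem_centralizer_singleton_iff]
      have hxu := mem_centralizer_singleton_iff.1 hx
      rw [← hc] at hxu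
      calc c⁻¹ * x * c * t = c⁻¹ * (x * (c * t * c⁻¹)) * c := by group
        _ = c⁻¹ * (c * t * c⁻¹ * x) * c := by rw [hxu]
        _ = _ := by group
    haveI := hsolC
    haveI : Group.IsSolvable ↥(φ.range.map (MulAut.conj c).toMonoidHom) :=
      Group.isSolvable_of_surjective (f := (MulAut.conj c).toMonoidHom.subgroupMap φ.range)
        (MonoidHom.subgroupMap_surjective _ _)
    exact Group.isSolvable_of_isSolvable_injective (f := Subgroup.inclusion hmap)
      (Subgroup.inclusion_injective _)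
  have h7 := S3189.result hG P hS hP8 hsol
  rw [← autS_card P] at h7
  rw [h7] at h3
  norm_num at h3

/-- No group has the centraliser `Z₂ × SL₂(2ⁿ)`, `n ≥ 3`. -/
theorem false_even [IsSimpleGroup G] (hab : ∀ P : Sylow 2 G, ∀ a b : P, a * b = b * a) {F : Type v} [Field F]
    [Fintype F] {n : ℕ} (hn : 3 ≤ n) (hF : Fintype.card F = 2 ^ n) {t : G} (ht : orderOf t = 2)
    (e : centralizer ({t} : Set G) ≃* Multiplicative (ZMod 2) × Matrix.ProjectiveSpecialLinearGroup (Fin 2) F) :
    False := by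
  classical
  haveI : Fact (Nat.Prime 2) := ⟨Nat.prime_two⟩
  have hq8 : 8 ≤ Fintype.card F := hF ▸ Nat.pow_le_pow_right (n := 2) (by norm_num) hn
  haveI : CharP F 2 := by
    obtain ⟨p, hp⟩ := CharP.exists F
    obtain ⟨m, hpp, hm⟩ := FiniteField.card F p
    have h2 : 2 ∣ p ^ (m : ℕ) := by rw [← hm, hF]; exact dvd_pow_self 2 (by omega)
    rw [(Nat.prime_dvd_prime_iff_eq Nat.prime_two hpp).1 (Nat.prime_two.dvd_of_dvd_pow h2)]
    exact hp
  have hup : ∀ a : F, PSL2Inv.pr (PStable.upp a) ∈ unip F := fun a => mem_unip.2 ⟨a, rfl⟩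
  -- a pair of non-commuting elements
  let D : Fˣ → Matrix.SpecialLinearGroup (Fin 2) F := fun c =>
    ⟨!![(c : F), 0; 0, (c : F)⁻¹], by rw [Matrix.det_fin_two_of]; simp⟩
  have hD : ∀ c : Fˣ, D c ∈ bor F := fun c => mem_bor.2 (by simp [D])
  have hDconj : ∀ (c : Fˣ) (a : F), PSL2Inv.pr (D c) * PSL2Inv.pr (PStable.upp a) * (PSL2Inv.pr (D c))⁻¹ =
      PSL2Inv.pr (PStable.upp ((c : F) ^ 2 * a)) := fun c a => by
    rw [pr_conj_upp (hD c) a]
    simp [D]
  have hsqinj : ∀ c d : F, c ^ 2 = d ^ 2 → c = d := fun c d h => CharTwo.sq_injective h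
  have hna : ¬ IsMulCommutative (Matrix.ProjectiveSpecialLinearGroup (Fin 2) F) := fun h => by
    obtain ⟨c, hc⟩ : ∃ c : Fˣ, c ≠ 1 := by
      haveI : Nontrivial Fˣ := Fintype.one_lt_card_iff_nontrivial.1 (by rw [Fintype.card_units]; omega)
      exact exists_ne 1
    have h1 := hDconj c 1
    rw [h.is_comm.comm, mul_one, inv_mul_cancel_left] at h1
    exact hc (Units.ext (hsqinj _ _ (by rw [← unip_injective h1, Units.val_one, one_pow])))
  obtain ⟨φ, hφ, hrange, hφt⟩ := exists_prod_hom ht (center_psl2 (by omega) hna) e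
  have hG : ¬ IsMulCommutative G := not_comm_of_centralizer
    (φ := φ.comp (MonoidHom.inr _ _)) (hφ.comp fun a b h => by simpa using h) hna
  -- the Sylow subgroup
  set V := (⊤ : Subgroup (Multiplicative (ZMod 2))).prod (unip F) with hV
  set T := V.map φ with hT
  have hz2 := z2_sq
  have hu2 : ∀ x ∈ unip F, x * x = 1 := fun x hx => by
    rw [← pow_two]; exact unip_exp (F := F) 2 x hx
  have hTsq : ∀ x ∈ T, x * x = 1 := by
    rintro _ ⟨⟨a, l⟩, hl, rfl⟩
    rw [← map_mul, ← map_one φ]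
    exact congrArg φ (Prod.ext (hz2 a) (hu2 l hl.2))
  have hT2 : IsPGroup 2 T := fun x => ⟨1, Subtype.ext (by
    rw [pow_one, Subgroup.coe_pow, pow_two]; exact hTsq x x.2)⟩
  have hcT : Nat.card T = 2 * 2 ^ n := by
    rw [hT, card_map_of_injective hφ, hV, Nat.card_congr (Subgroup.prodEquiv _ _).toEquiv, Nat.card_prod,
      Subgroup.card_top, Nat.card_congr Multiplicative.toAdd, Nat.card_zmod, card_unip,
      Nat.card_eq_fintype_card, hF]
  obtain ⟨P, hTP⟩ := hT2.exists_le_sylow
  have htT : t ∈ T := ⟨_, ⟨trivial, one_mem _⟩, hφt⟩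
  have hPc : ∀ a ∈ (P : Subgroup G), ∀ b ∈ (P : Subgroup G), a * b = b * a := fun a ha b hb =>
    congrArg Subtype.val (hab P ⟨a, ha⟩ ⟨b, hb⟩)
  have hP : IsMulCommutative (P : Subgroup G) := ⟨⟨fun a b => hab P a b⟩⟩
  have hTeq : T = (P : Subgroup G) := by
    refine Subgroup.eq_of_le_of_card_ge hTP ?_
    have hPC : (P : Subgroup G) ≤ φ.range := hrange ▸ fun x hx =>
      mem_centralizer_singleton_iff.2 (hPc x hx t (hTP htT))
    have h1 := Subgroup.card_dvd_of_le hPC
    rw [← Nat.card_congr (MonoidHom.ofInjective hφ).toEquiv, Nat.card_prod,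
      Nat.card_congr Multiplicative.toAdd, Nat.card_zmod] at h1
    obtain ⟨k, hk⟩ := IsPGroup.iff_card.1 P.2
    rw [hk] at h1 ⊢
    rw [hcT]
    have hL : Nat.card (Matrix.ProjectiveSpecialLinearGroup (Fin 2) F) =
        2 ^ n * ((2 ^ n - 1) * (2 ^ n + 1)) := by
      have h := ProjLine.two_mul_card_psl (F := F)
      rw [Nat.card_eq_fintype_card (α := F), hF,
        show Nat.gcd 2 (2 ^ n - 1) = 1 from (Nat.coprime_two_left.2 (by
          refine Nat.Even.sub_odd Nat.one_le_two_pow ?_ odd_one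
          exact (Nat.even_pow).2 ⟨even_two, by omega⟩)), one_mul] at h
      refine Nat.eq_of_mul_eq_mul_right (show 0 < 2 ^ n - 1 by omega) ?_
      rw [h]
      ring
    rw [hL, ← mul_assoc] at h1
    have hev : Even (2 ^ n) := (Nat.even_pow).2 ⟨even_two, by omega⟩
    have hodd : Odd ((2 ^ n - 1) * (2 ^ n + 1)) :=
      (Nat.Even.sub_odd Nat.one_le_two_pow hev odd_one).mul (hev.add_one)
    exact Nat.le_of_dvd (by positivity)
      ((Nat.Coprime.pow_left k (Nat.coprime_two_left.2 hodd)).dvd_of_dvd_mul_right h1)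
  letI := AbelInv.commOf (P : Subgroup G) hP
  -- the elements of the torus
  have hgN : ∀ c : Fˣ, φ (1, PSL2Inv.pr (D c)) ∈ normalizer ((P : Subgroup G) : Set G) := fun c => by
    rw [← hTeq]
    refine Subgroup.mem_normalizer_fintype fun x hx => ?_
    obtain ⟨⟨a, l⟩, ⟨-, hl⟩, rfl⟩ := hx
    obtain ⟨b, rfl⟩ := mem_unip.1 hl
    rw [← map_inv, ← map_mul, ← map_mul]
    refine ⟨_, ⟨trivial, ?_⟩, rfl⟩
    show PSL2Inv.pr (D c) * PSL2Inv.pr (PStable.upp b) * (PSL2Inv.pr (D c))⁻¹ ∈ unip F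
    rw [hDconj]
    exact hup _
  let w : Multiplicative (ZMod 2) → F → (P : Subgroup G) := fun a b =>
    ⟨φ (a, PSL2Inv.pr (PStable.upp b)), hTeq ▸ ⟨_, ⟨trivial, hup b⟩, rfl⟩⟩
  have hw : ∀ x : (P : Subgroup G), ∃ a b, x = w a b := fun x => by
    obtain ⟨⟨a, l⟩, ⟨-, hl⟩, he⟩ := hTeq.ge x.2
    obtain ⟨b, rfl⟩ := mem_unip.1 hl
    exact ⟨a, b, Subtype.ext he.symm⟩
  have hwinj : ∀ a b a' b', w a b = w a' b' → a = a' ∧ b = b' := fun a b a' b' h => by
    have h' := hφ (congrArg Subtype.val h :)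
    exact ⟨congrArg Prod.fst h', unip_injective (congrArg Prod.snd h' :)⟩
  let g : Fˣ → autS P := fun c => ⟨(P : Subgroup G).normalizerMonoidHom ⟨_, hgN c⟩, _, rfl⟩
  have hg : ∀ c a b, g c • w a b = w a ((c : F) ^ 2 * b) := fun c a b => Subtype.ext (by
    show φ (1, PSL2Inv.pr (D c)) * φ (a, PSL2Inv.pr (PStable.upp b)) * (φ (1, PSL2Inv.pr (D c)))⁻¹ = _
    rw [← map_inv, ← map_mul, ← map_mul]
    refine congrArg φ (Prod.ext ?_ (hDconj c b))
    simp)
  set t₀ := w (Multiplicative.ofAdd 1) 0 with ht₀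
  have ht₀' : (t₀ : G) = t := by
    show φ (_, PSL2Inv.pr (PStable.upp 0)) = t
    rw [PStable.upp_zero, map_one PSL2Inv.pr, hφt]
  have hsqP : ∀ z : (P : Subgroup G), z * z = 1 := fun z => Subtype.ext (hTsq z (hTeq.ge z.2))
  have ht₀1 : t₀ ≠ 1 := fun h => by
    rw [h, OneMemClass.coe_one] at ht₀'
    rw [← ht₀', orderOf_one] at ht
    norm_num at ht
  have hodd : Odd (Nat.card (autS P)) := autS_odd P hPc
  -- transitivity
  have hsquare : ∀ d : F, d ≠ 0 → ∃ c : Fˣ, (c : F) ^ 2 = d := fun d hd => by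
    obtain ⟨c, hc⟩ := FiniteField.isSquare_of_char_two (ringChar.eq F 2) d
    exact ⟨Units.mk0 c fun h => hd (by rw [hc, h, mul_zero]), by rw [Units.val_mk0, pow_two, hc]⟩
  set O := MulAction.orbit (autS P) t₀ with hO
  have hflat : ∀ a b b', b ≠ 0 → b' ≠ 0 → w a b ∈ O → w a b' ∈ O := by
    intro a b b' hb hb' hmem
    obtain ⟨c, hc⟩ := hsquare (b' / b) (div_ne_zero hb' hb)
    rw [hO, ← MulAction.orbit_eq_iff.2 hmem]
    exact ⟨g c, by rw [← div_mul_cancel₀ b' hb, ← hc]; exact hg c a b⟩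
  have hone : ∀ a, w a 0 = 1 ∨ w a 0 = t₀ := fun a => by
    have ha := z2_cases a
    rcases ha with rfl | rfl
    · exact Or.inl (Subtype.ext (by
        show φ (1, PSL2Inv.pr (PStable.upp 0)) = 1
        rw [PStable.upp_zero, map_one]; exact map_one φ))
    · exact Or.inr rfl
  have hOodd : Odd (Nat.card O) := hodd.of_dvd_nat ⟨Nat.card (MulAction.stabilizer (autS P) t₀), by
    rw [← Nat.card_prod]
    exact (Nat.card_congr (MulAction.orbitProdStabilizerEquivGroup (autS P) t₀)).symm⟩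
  have hO1 : (1 : (P : Subgroup G)) ∉ O := by
    rintro ⟨r, hr⟩
    exact ht₀1 (smul_eq_iff_eq_inv_smul _ |>.1 (show r • t₀ = 1 from hr) |>.trans (smul_one _))
  have htrans : ∀ z : (P : Subgroup G), z * z = 1 → z ≠ 1 → ∃ r : autS P, r • t₀ = z := by
    intro z _ hz1
    suffices hall : ∀ a (b : F), b ≠ 0 → w a b ∈ O by
      obtain ⟨a, b, rfl⟩ := hw z
      by_cases hb : b = 0
      · subst hb
        rcases hone a with h | h
        · exact absurd h hz1
        · exact ⟨1, by rw [one_smul, h]⟩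
      · exact hall a b hb
    -- a moved point and parity
    obtain ⟨r, hr⟩ := autS_fix hG P hP (a := t₀) (by rw [ht₀']; exact ht)
    have hrO : r • t₀ ∈ O := ⟨r, rfl⟩
    obtain ⟨a₁, b₁, he₁⟩ := hw (r • t₀)
    have hb₁ : b₁ ≠ 0 := by
      rintro rfl
      rcases hone a₁ with h | h
      · exact hO1 (h ▸ he₁ ▸ hrO)
      · exact hr (he₁.trans h)
    intro a b hb
    by_cases ha : a = a₁
    · exact ha ▸ hflat a₁ b₁ b hb₁ hb (he₁ ▸ hrO)
    by_contra hnot
    have hOeq : O = insert t₀ (Set.range fun c : Fˣ => w a₁ (c : F)) := by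
      ext x
      constructor
      · intro hx
        obtain ⟨a', b', rfl⟩ := hw x
        by_cases hb' : b' = 0
        · subst hb'
          rcases hone a' with h | h
          · exact absurd (h ▸ hx) hO1
          · exact Or.inl h
        · have ha' : a' = a₁ := by
            by_contra hne
            have : a' = a := z2_three a' a₁ a hne ha
            exact hnot (this ▸ hflat a' b' b hb' hb hx)
          exact Or.inr ⟨Units.mk0 b' hb', by rw [ha']; rfl⟩
      · rintro (rfl | ⟨c, rfl⟩)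
        · exact MulAction.mem_orbit_self _
        · exact hflat a₁ b₁ c hb₁ c.ne_zero (he₁ ▸ hrO)
    have hcard : Nat.card O = 2 ^ n := by
      rw [hOeq, Nat.card_coe_set_eq, Set.ncard_insert_of_notMem (by
          rintro ⟨c, hc⟩
          exact c.ne_zero ((hwinj _ _ _ _ hc).2)) (Set.toFinite _), ← Nat.card_coe_set_eq,
        Nat.card_range_of_injective (fun c c' h => Units.ext (hwinj _ _ _ _ h).2),
        Nat.card_units, Nat.card_eq_fintype_card, hF, Nat.sub_add_cancel Nat.one_le_two_pow]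
    rw [hcard] at hOodd
    exact absurd hOodd (Nat.not_odd_iff_even.2 ((Nat.even_pow).2 ⟨even_two, by omega⟩))
  have hcard : Nat.card {z : (P : Subgroup G) // z * z = 1} = 2 ^ (n + 1) := by
    rw [Nat.card_congr (Equiv.subtypeUnivEquiv hsqP), ← hTeq, hcT, pow_succ']
  have hSh := AbelInv.shape P.2 hodd (autS_faith P) (hsqP t₀) ht₀1 htrans (r := n + 1) (by omega) hcard
  have he : Nat.card Fˣ ≤ Nat.card (MulAction.stabilizer (autS P) t₀) := by
    refine Nat.card_le_card_of_injective (fun c => (⟨g c, MulAction.mem_stabilizer_iff.2 (by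
      rw [ht₀, hg, mul_zero])⟩ : MulAction.stabilizer (autS P) t₀)) fun c c' h => ?_
    have h' : g c = g c' := congrArg Subtype.val h
    have h1 := hg c 1 1
    rw [h', hg] at h1
    exact Units.ext (hsqinj _ _ (by simpa using ((hwinj _ _ _ _ h1).2).symm))
  have h1 := Nat.le_of_dvd (by omega) hSh.dvd
  rw [Nat.card_units, Nat.card_eq_fintype_card, hF] at he
  have h2 : n + 2 < 2 ^ n := by
    clear * - hn
    induction n, hn using Nat.le_induction with
    | base => norm_num
    | succ m hm ih => rw [pow_succ]; omega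
  omega

/-- The reduction. -/
theorem reduce [IsSimpleGroup G] (hab : ∀ P : Sylow 2 G, ∀ a b : P, a * b = b * a) {F : Type v} [Field F]
    [Fintype F] (hq : 3 ≤ Fintype.card F) (t : G) (ht : orderOf t = 2)
    (hC : Nonempty (centralizer ({t} : Set G) ≃*
      Multiplicative (ZMod 2) × Matrix.ProjectiveSpecialLinearGroup (Fin 2) F)) :
    ((Fintype.card F = 4 ∨ Fintype.card F = 5) ∧ Cfsg.IsJ1 G) ∨
      ((Fintype.card F % 8 = 3 ∨ Fintype.card F % 8 = 5) ∧ 11 ≤ Fintype.card F) := by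
  classical
  haveI : Fact (Nat.Prime 2) := ⟨Nat.prime_two⟩
  obtain ⟨e⟩ := hC
  have hJ : Nonempty (Matrix.ProjectiveSpecialLinearGroup (Fin 2) F ≃* alternatingGroup (Fin 5)) →
      Cfsg.IsJ1 G := fun ⟨i⟩ => by
    obtain ⟨P, htP⟩ := (IsPGroup.of_card (n := 1) (G := zpowers t) (by
      rw [Nat.card_zpowers, ht, pow_one])).exists_le_sylow
    have htP' : t ∈ (P : Subgroup G) := htP (mem_zpowers t)
    exact JankoOne.isJ1_of_centralizer t ⟨ht, P, htP', fun x hx =>
      congrArg Subtype.val (hab P ⟨x, hx⟩ ⟨t, htP'⟩)⟩ (e.trans (MulEquiv.prodCongr (MulEquiv.refl _) i))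
  rcases Nat.even_or_odd (Fintype.card F) with hev | hodd
  · obtain ⟨p, hp⟩ := CharP.exists F
    obtain ⟨⟨n, hn0⟩, hpp, hn⟩ := FiniteField.card F p
    simp only [PNat.mk_coe] at hn
    have hp2 : p = 2 := ((Nat.prime_dvd_prime_iff_eq Nat.prime_two hpp).1
      (Nat.prime_two.dvd_of_dvd_pow (hn ▸ even_iff_two_dvd.1 hev))).symm
    subst hp2
    rcases (show n = 1 ∨ n = 2 ∨ 3 ≤ n by omega) with rfl | rfl | h3
    · rw [hn] at hq; norm_num at hq
    · exact Or.inl ⟨Or.inl hn, hJ (S0252.result hn)⟩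
    · exact (false_even hab h3 hn ht e).elim
  by_cases h3 : Fintype.card F = 3
  · obtain ⟨i⟩ := S0251.result h3
    exact (false_three hab ht (e.trans (MulEquiv.prodCongr (MulEquiv.refl _) i))).elim
  by_cases h5 : Fintype.card F = 5
  · exact Or.inl ⟨Or.inr h5, hJ (S0253.result h5)⟩
  right
  obtain ⟨r, hr⟩ := id hodd
  have hq7 : 7 ≤ Fintype.card F := by omega
  obtain ⟨V⟩ := (inferInstance : Nonempty (Sylow 2 (Matrix.ProjectiveSpecialLinearGroup (Fin 2) F)))
  let ι : Matrix.ProjectiveSpecialLinearGroup (Fin 2) F →* G :=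
    (centralizer ({t} : Set G)).subtype.comp (e.symm.toMonoidHom.comp (MonoidHom.inr _ _))
  have hι : Function.Injective ι := (centralizer ({t} : Set G)).subtype_injective.comp
    (e.symm.injective.comp fun a b h => by simpa using h)
  have hV : IsMulCommutative (V : Subgroup (Matrix.ProjectiveSpecialLinearGroup (Fin 2) F)) := by
    obtain ⟨R, hR⟩ := (V.2.map ι).exists_le_sylow
    refine ⟨⟨fun a b => Subtype.ext (hι ?_)⟩⟩
    rw [Subgroup.coe_mul, Subgroup.coe_mul, map_mul, map_mul]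
    exact congrArg Subtype.val (hab R ⟨_, hR (mem_map_of_mem ι a.2)⟩ ⟨_, hR (mem_map_of_mem ι b.2)⟩)
  obtain ⟨h4, -, -⟩ := JankoRee.psl2_sylow hodd (by omega) V hV
  by_contra hcon
  have hcon' : Fintype.card F % 8 = 1 ∨ Fintype.card F % 8 = 7 := by omega
  have hcard := two_mul_card_L (F := F) (by rw [Nat.card_eq_fintype_card]; exact hodd)
  rw [Nat.card_eq_fintype_card (α := F)] at hcard
  have h16 : 2 ^ 3 ∣ Nat.card (Matrix.ProjectiveSpecialLinearGroup (Fin 2) F) := by
    set N := Nat.card (Matrix.ProjectiveSpecialLinearGroup (Fin 2) F)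
    rcases hcon' with hk | hk
    · obtain ⟨k, hk⟩ : ∃ k, Fintype.card F = 8 * k + 1 := ⟨Fintype.card F / 8, by omega⟩
      refine ⟨(8 * k + 1) * k * (4 * k + 1), ?_⟩
      rw [hk, show 8 * k + 1 - 1 = 8 * k by omega] at hcard
      linarith
    · obtain ⟨k, hk⟩ : ∃ k, Fintype.card F = 8 * k + 7 := ⟨Fintype.card F / 8, by omega⟩
      refine ⟨(8 * k + 7) * (4 * k + 3) * (k + 1), ?_⟩
      rw [hk, show 8 * k + 7 - 1 = 8 * k + 6 by omega] at hcard
      linarith
  obtain ⟨Q, hQ⟩ := Sylow.exists_subgroup_card_pow_prime 2 h16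
  obtain ⟨R, hR⟩ := (IsPGroup.of_card hQ).exists_le_sylow
  have h8 := Subgroup.card_le_of_le hR
  rw [hQ, Nat.card_congr (Sylow.equiv R V).toEquiv, h4] at h8
  omega

end Cfsg.Agent.JanThom
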