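import Cfsg.Agent.Lib.JanThom.Galois
import Cfsg.Agent.Lib.Char.OddIndexReal
import Cfsg.Agent.Lib.Char.FrobeniusSchur

/-!
Square roots and Frobenius–Schur indicators on the `τ`-section.
-/

set_option autoImplicit false
set_option linter.unusedSectionVars false
set_option linter.style.haveILetI false

namespace Cfsg.Agent.JanThom

open Cfsg Cfsg.Agent.Char Cfsg.Agent.OddIndexReal Setup
open scoped ComplexConjugate Classical

universe u v

variable {G : Type u} [Group G] {L : Type v} [Group L] {Q : ℤ} [Fintype G] [IsSimpleGroup G]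

/-- The indicator of reality. -/
noncomputable def realI (χ : IrrCharacter G) : ℤ := if cjPerm χ = χ then 1 else 0

theorem nu_of_not_real {χ : IrrCharacter G} (h : cjPerm χ ≠ χ) : nu (χ : G → ℂ) = 0 := by
  rcases FSchur.irr_indicator χ with ⟨-, h0⟩ | ⟨hr, -⟩
  · exact h0
  · exact absurd (Subtype.ext (funext fun g => (cjPerm_conj χ g).trans (hr g))) h

theorem nu_of_odd {χ : IrrCharacter G} (hodd : Odd (charDegree (χ : G → ℂ))) :
    nu (χ : G → ℂ) = (realI χ : ℂ) := by
  unfold realI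
  split_ifs with h
  · have hr : ∀ g, conj ((χ : G → ℂ) g) = (χ : G → ℂ) g := fun g => by
      rw [← cjPerm_conj, h]
    rcases FSchur.irr_indicator χ with ⟨h', -⟩ | ⟨-, h1 | ⟨-, m, hm, hd⟩⟩
    · exact absurd hr h'
    · rw [Int.cast_one]; exact h1
    · exfalso
      rw [CharX.irr_deg] at hd
      have : charDegree (χ : G → ℂ) = m := by exact_mod_cast hd
      exact (Nat.not_even_iff_odd.2 hodd) (this ▸ hm)
  · rw [Int.cast_zero]; exact nu_of_not_real h

theorem nu_mul_conj (χ : IrrCharacter G) (g : G) :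
    nu (χ : G → ℂ) * conj ((χ : G → ℂ) g) = nu (χ : G → ℂ) * (χ : G → ℂ) g := by
  by_cases h : cjPerm χ = χ
  · rw [← cjPerm_conj, h]
  · rw [nu_of_not_real h, zero_mul, zero_mul]

namespace Setup

variable [Fintype L] (E : Setup G L Q)

theorem no_roots {x : L} (hx : Odd (orderOf x)) : IsEmpty {s : G // s * s = E.ι (c2, x)} := by
  refine ⟨fun ⟨s, hs⟩ => ?_⟩
  set r := s ^ orderOf x with hr
  have h : r * r = E.τ := by
    rw [hr, ← pow_add, ← two_mul, pow_mul, pow_two, hs]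
    exact E.sec_pow hx dvd_rfl hx
  obtain ⟨⟨a, l⟩, he⟩ := E.cent r (show r * E.τ = E.τ * r by rw [← h, mul_assoc])
  rw [← he, ← map_mul, Prod.mk_mul_mk, C2_sq] at h
  exact c2_ne (congrArg Prod.fst (E.inj h)).symm

theorem sum_nu_val {x : L} (hx : Odd (orderOf x)) :
    ∑ χ : IrrCharacter G, nu (χ : G → ℂ) * (χ : G → ℂ) (E.ι (c2, x)) = 0 := by
  haveI := E.no_roots hx
  have h := sum_nu_mul (E.ι (c2, x))
  rw [Nat.card_of_isEmpty, Nat.cast_zero] at h
  rw [← h]
  exact Finset.sum_congr rfl fun χ _ => (nu_mul_conj χ _).symm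

theorem sum_nu_z {X : Subgroup L} [Fintype X] (hX : Odd (Nat.card X)) (lam : X →* ℂˣ) :
    ∑ χ : IrrCharacter G, (E.z hX lam χ : ℂ) * nu (χ : G → ℂ) = 0 := by
  refine (mul_left_inj' (Nat.cast_ne_zero.2 (Nat.card_pos (α := X)).ne' : (Nat.card X : ℂ) ≠ 0)).1 ?_
  rw [zero_mul, Finset.sum_mul]
  calc ∑ χ : IrrCharacter G, (E.z hX lam χ : ℂ) * nu (χ : G → ℂ) * (Nat.card X : ℂ)
      = ∑ χ : IrrCharacter G, ∑ x : X,
          conj (lam x : ℂ) * (nu (χ : G → ℂ) * (χ : G → ℂ) (E.ι (c2, (x : L)))) := by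
        refine Finset.sum_congr rfl fun χ _ => ?_
        rw [mul_right_comm, E.z_spec, Finset.sum_mul]
        exact Finset.sum_congr rfl fun x _ => by ring
    _ = 0 := by
        rw [Finset.sum_comm]
        refine Finset.sum_eq_zero fun x _ => ?_
        rw [← Finset.mul_sum, E.sum_nu_val (hX.of_dvd_nat (Subgroup.orderOf_dvd_natCard X x.2)),
          mul_zero]

theorem sum_nu_cols :
    ∑ χ : IrrCharacter G, (E.ec χ : ℂ) * nu (χ : G → ℂ) = 0 ∧
    ∑ χ : IrrCharacter G, (E.bc χ : ℂ) * nu (χ : G → ℂ) = 0 := by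
  have hh : ∀ l, ∑ χ : IrrCharacter G, (E.z E.D.odd_Zh l χ : ℂ) * nu (χ : G → ℂ) = 0 := E.sum_nu_z _
  have hk : ∀ l, ∑ χ : IrrCharacter G, (E.z E.D.odd_Zk l χ : ℂ) * nu (χ : G → ℂ) = 0 := E.sum_nu_z _
  have hu : ∀ l, ∑ χ : IrrCharacter G, (E.z E.D.odd_U l χ : ℂ) * nu (χ : G → ℂ) = 0 := E.sum_nu_z _
  unfold ec bc rho zh zk zu
  push_cast
  simp only [sub_mul, add_mul, mul_assoc, mul_add, Finset.sum_sub_distrib, Finset.sum_add_distrib,
    ← Finset.mul_sum, hh, hk, hu]
  simp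

theorem nu_principal : nu ((principal G : IrrCharacter G) : G → ℂ) = 1 := by
  have h : Odd (charDegree ((principal G : IrrCharacter G) : G → ℂ)) := by
    show Odd (charDegree (fun _ : G => (1 : ℂ)))
    rw [CharX.charDegree_one]; exact odd_one
  rw [nu_of_odd h]
  unfold realI
  rw [if_pos (show cjPerm (principal G) = principal G from Subtype.ext (funext fun g => rfl)), Int.cast_one]

end Setup

end Cfsg.Agent.JanThom
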