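import Cfsg.Agent.Lib.JanThom.CentAux
import Cfsg.Agent.Lib.Char.Basic

/-!
A torus element of prime order `l` fixed by `y`: its centraliser `M`, the subgroup `N` of elements
fixing or inverting it, and the two linear characters of `M`.
-/

set_option autoImplicit false
set_option linter.unusedSectionVars false
set_option linter.style.haveILetI false

namespace Cfsg.Agent.JanThom

open Subgroup Cfsg.Agent.Char
open scoped ComplexConjugate Classical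

universe u v

namespace Setup

variable {G : Type u} [Group G] [Finite G] {L : Type v} [Group L] {Q : ℤ}

/-- The configuration: a torus element of prime order fixed by `y` with centraliser `⟨y⟩T`. -/
structure FixData (E : Setup G L Q) where
  y : G
  u : G
  w : G
  l : ℕ
  hl : l.Prime
  hl2 : l ≠ 2
  hl3 : l ≠ 3
  hp3 : E.D.p ≠ 3
  isY : E.IsY y
  hu2 : u * u = 1
  huτ : u * E.τ = E.τ * u
  huσ : u * E.σ = E.σ * u
  hinv : ∀ z ∈ E.Zg, u * z * u⁻¹ = z⁻¹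
  hyu : y * u = u * y
  hw : w ∈ E.Zg
  hwl : orderOf w = l
  hyw : y * w = w * y
  hcent : ∀ x : G, x * w = w * x → ∃ i : ℕ, i < 3 ∧ ∃ t ∈ E.T, x = y ^ i * t

namespace FixData

variable {E : Setup G L Q} (F : E.FixData)

theorem w_ne : F.w ≠ 1 := fun h => F.hl.ne_one (by rw [← F.hwl, h, orderOf_one])

theorem l_dvd : F.l ∣ E.D.h := F.hwl ▸ E.card_Zg ▸ orderOf_dvd_natCard _ F.hw

theorem l_coprime : F.l.Coprime 12 := (F.hl.coprime_iff_not_dvd).2 fun h => by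
  have h12 : F.l ≤ 12 := Nat.le_of_dvd (by norm_num) h
  have h2 := F.hl.two_le
  have h3 := F.hl2
  have h4 := F.hl3
  interval_cases hl : F.l <;> first | omega | exact absurd (hl ▸ F.hl) (by norm_num)

/-- The exponent sending `M` onto `⟨w⟩`. -/
def e : ℕ := 12 * (E.D.h / F.l)

theorem e_mul : F.e * F.l = 12 * E.D.h := by
  rw [e, mul_assoc, Nat.div_mul_cancel F.l_dvd]

theorem e_eq : F.e = 3 * (4 * (E.D.h / F.l)) := by rw [e]; ring

theorem e_even : Even F.e := ⟨6 * (E.D.h / F.l), by rw [e]; ring⟩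

/-- The centraliser of `w`. -/
def M : Subgroup G := centralizer ({F.w} : Set G)

theorem mem_M {x : G} : x ∈ F.M ↔ x * F.w = F.w * x := mem_centralizer_singleton_iff

theorem T_le_M : E.T ≤ F.M := T_le_cent F.hw

theorem y_mem : F.y ∈ F.M := F.mem_M.2 F.hyw

theorem rep {x : G} (hx : x ∈ F.M) : ∃ i : ℕ, i < 3 ∧ ∃ t ∈ E.T, x = F.y ^ i * t :=
  F.hcent x (F.mem_M.1 hx)

theorem zpowers_le_Zg : zpowers F.w ≤ E.Zg := zpowers_le.2 F.hw

theorem pow_comm {a : G} (ha : a ∈ zpowers F.w) (i : ℕ) : Commute (F.y ^ i) a := by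
  obtain ⟨n, rfl⟩ := mem_zpowers_iff.1 ha
  exact (((show Commute F.y F.w from F.hyw).pow_left i).zpow_right n)

theorem gen {c : G} (hc : c ∈ zpowers F.w) (hc1 : c ≠ 1) : F.w ∈ zpowers c := by
  haveI := Fact.mk F.hl
  refine mem_zpowers_cyclic E.Zg_cyclic (F.zpowers_le_Zg hc) F.hw ?_
  have hd : orderOf c ∣ F.l := F.hwl ▸ orderOf_dvd_of_mem_zpowers hc
  rcases (Nat.dvd_prime F.hl).1 hd with h | h
  · exact absurd (orderOf_eq_one_iff.1 h) hc1
  · rw [h, ← F.hwl, pow_orderOf_eq_one]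

theorem sq_eq_one {c : G} (hc : c ∈ zpowers F.w) (h : c * c = 1) : c = 1 :=
  E.eq_one_of_sq (F.zpowers_le_Zg hc) (k := 1) (by rw [pow_one, pow_two, h])

/-- Powers of the torus landing in `⟨w⟩`. -/
theorem T_pow_mem {t : G} (ht : t ∈ E.T) : t ^ (4 * (E.D.h / F.l)) ∈ zpowers F.w := by
  obtain ⟨d, hd, z, hz, rfl⟩ := E.mem_T_split ht
  rw [(show Commute d z from E.T_comm (E.E4_le_T hd) (E.Zg_le_T hz)).mul_pow,
    show d ^ (4 * (E.D.h / F.l)) = 1 by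
      rw [show 4 * (E.D.h / F.l) = 2 * (2 * (E.D.h / F.l)) by ring, pow_mul, pow_two, E.E4_sq hd,
        one_pow], one_mul]
  refine mem_zpowers_cyclic E.Zg_cyclic F.hw (pow_mem hz _) ?_
  rw [F.hwl, ← pow_mul, mul_assoc, Nat.div_mul_cancel F.l_dvd, mul_comm, pow_mul, ← E.card_Zg,
    show z ^ Nat.card E.Zg = 1 from congrArg Subtype.val (pow_card_eq_one' (x := (⟨z, hz⟩ : E.Zg))),
    one_pow]

theorem conj_T_pow {t : G} (ht : t ∈ E.T) (i : ℕ) :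
    (F.y ^ i * t * (F.y ^ i)⁻¹) ^ (4 * (E.D.h / F.l)) = t ^ (4 * (E.D.h / F.l)) := by
  rw [conj_pow, (F.pow_comm (F.T_pow_mem ht) i).eq, mul_inv_cancel_right]

/-- The homomorphism `x ↦ x ^ e` on a coset of the torus. -/
theorem pow_e {t : G} (ht : t ∈ E.T) (i : ℕ) :
    (F.y ^ i * t) ^ F.e = (t ^ (4 * (E.D.h / F.l))) ^ 3 := by
  have hA := F.isY.pow_T_conj (2 * i) ht
  have hB := F.isY.pow_T_conj i ht
  have h3 : F.y ^ (2 * i) * F.y ^ i = 1 := by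
    rw [← pow_add, show 2 * i + i = 3 * i by ring, pow_mul, F.isY.cube, one_pow]
  have hcube : (F.y ^ i * t) ^ 3 =
      (F.y ^ i * t * (F.y ^ i)⁻¹) * (F.y ^ (2 * i) * t * (F.y ^ (2 * i))⁻¹) * t := by
    have hinv : (F.y ^ (2 * i))⁻¹ = F.y ^ i := inv_eq_of_mul_eq_one_right h3
    have h2 : F.y ^ (2 * i) = F.y ^ i * F.y ^ i := by rw [two_mul, pow_add]
    rw [hinv, h2, pow_succ, pow_two]
    group
  rw [F.e_eq, pow_mul, hcube,
    (show Commute (F.y ^ i * t * (F.y ^ i)⁻¹ * (F.y ^ (2 * i) * t * (F.y ^ (2 * i))⁻¹)) t from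
      E.T_comm (mul_mem hB hA) ht).mul_pow,
    (show Commute (F.y ^ i * t * (F.y ^ i)⁻¹) (F.y ^ (2 * i) * t * (F.y ^ (2 * i))⁻¹) from
      E.T_comm hB hA).mul_pow, F.conj_T_pow ht, F.conj_T_pow ht, pow_succ, pow_two]

theorem pow_e_mem {x : G} (hx : x ∈ F.M) : x ^ F.e ∈ zpowers F.w := by
  obtain ⟨i, -, t, ht, rfl⟩ := F.rep hx
  rw [F.pow_e ht]
  exact pow_mem (F.T_pow_mem ht) 3

theorem conj_inv_T {t : G} (ht : t ∈ E.T) (j : ℕ) : (F.y ^ j)⁻¹ * t * F.y ^ j ∈ E.T := by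
  have h3 : (F.y ^ j)⁻¹ = F.y ^ (2 * j) := inv_eq_of_mul_eq_one_right (by
    rw [← pow_add, show j + 2 * j = 3 * j by ring, pow_mul, F.isY.cube, one_pow])
  have h4 := F.isY.pow_T_conj (2 * j) ht
  rwa [← h3, inv_inv] at h4

theorem pow_e_mul {a b : G} (ha : a ∈ F.M) (hb : b ∈ F.M) :
    (a * b) ^ F.e = a ^ F.e * b ^ F.e := by
  obtain ⟨i, -, t, ht, rfl⟩ := F.rep ha
  obtain ⟨j, -, t', ht', rfl⟩ := F.rep hb
  have ht2 := F.conj_inv_T ht j
  have hn : ((F.y ^ j)⁻¹ * t * F.y ^ j) ^ (4 * (E.D.h / F.l)) = t ^ (4 * (E.D.h / F.l)) := by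
    rw [← F.conj_T_pow ht2 j]
    congr 1
    group
  rw [show F.y ^ i * t * (F.y ^ j * t') = F.y ^ (i + j) * ((F.y ^ j)⁻¹ * t * F.y ^ j * t') by
      rw [pow_add]; group, F.pow_e (mul_mem ht2 ht'), F.pow_e ht, F.pow_e ht',
    (show Commute _ t' from E.T_comm ht2 ht').mul_pow, hn,
    (show Commute (t ^ (4 * (E.D.h / F.l))) (t' ^ (4 * (E.D.h / F.l))) from
      E.T_comm (E.Zg_le_T (F.zpowers_le_Zg (F.T_pow_mem ht)))
        (E.Zg_le_T (F.zpowers_le_Zg (F.T_pow_mem ht')))).mul_pow]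

theorem y_pow_e : F.y ^ F.e = 1 := by
  rw [F.e_eq, pow_mul, F.isY.cube, one_pow]

theorem E4_pow_e {d : G} (hd : d ∈ E.E4) : d ^ F.e = 1 := by
  obtain ⟨r, hr⟩ := F.e_even
  rw [hr, ← two_mul, pow_mul, pow_two, E.E4_sq hd, one_pow]

theorem exists_pow_e_ne : ∃ z ∈ E.Zg, z ^ F.e ≠ 1 := by
  haveI := E.Zg_cyclic
  obtain ⟨g, hg⟩ := IsCyclic.exists_generator (α := E.Zg)
  refine ⟨g, g.2, fun h => ?_⟩
  have ho : orderOf (g : G) = E.D.h := by
    rw [Subgroup.orderOf_coe, orderOf_eq_card_of_forall_mem_zpowers hg, E.card_Zg]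
  have hd := orderOf_dvd_of_pow_eq_one h
  rw [ho] at hd
  have h2 : F.l * (E.D.h / F.l) ∣ 12 * (E.D.h / F.l) := by
    rw [Nat.mul_div_cancel' F.l_dvd]; exact hd
  have hm : E.D.h / F.l ≠ 0 := fun h0 => by
    have := Nat.div_mul_cancel F.l_dvd
    rw [h0, zero_mul] at this
    have := E.D.h_three'
    omega
  exact F.hl.ne_one (Nat.eq_one_of_dvd_coprimes F.l_coprime dvd_rfl
    (Nat.dvd_of_mul_dvd_mul_right (Nat.pos_of_ne_zero hm) h2))

/-- `u` inverts the torus. -/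
theorem u_inv_T {t : G} (ht : t ∈ E.T) : F.u * t * F.u⁻¹ = t⁻¹ := by
  obtain ⟨d, hd, z, hz, rfl⟩ := E.mem_T_split ht
  have hd' : F.u * d * F.u⁻¹ = d := by
    refine mul_inv_eq_iff_eq_mul.2 ?_
    rcases E.mem_E4 hd with rfl | rfl | rfl | rfl
    exacts [by rw [mul_one, one_mul], F.huτ, F.huσ,
      ((show Commute F.u E.τ from F.huτ).mul_right F.huσ).eq]
  calc F.u * (d * z) * F.u⁻¹ = (F.u * d * F.u⁻¹) * (F.u * z * F.u⁻¹) := by group
    _ = d⁻¹ * z⁻¹ := by rw [hd', F.hinv z hz, inv_eq_of_mul_eq_one_right (E.E4_sq hd)]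
    _ = (d * z)⁻¹ := by
        rw [mul_inv_rev]; exact E.T_comm (inv_mem (E.E4_le_T hd)) (inv_mem (E.Zg_le_T hz))

theorem u_inv : F.u⁻¹ = F.u := inv_eq_of_mul_eq_one_right F.hu2

theorem u_w : F.u * F.w * F.u⁻¹ = F.w⁻¹ := F.hinv F.w F.hw

theorem u_not_mem : F.u ∉ F.M := fun h => E.Zg_inv_ne F.hw F.w_ne (by
  rw [← F.u_w, F.mem_M.1 h, mul_inv_cancel_right])

/-- The elements fixing or inverting `w`. -/
def N : Subgroup G where
  carrier := {g | g * F.w * g⁻¹ = F.w ∨ g * F.w * g⁻¹ = F.w⁻¹}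
  one_mem' := Or.inl (by group)
  mul_mem' {a b} ha hb := by
    have hc : a * b * F.w * (a * b)⁻¹ = a * (b * F.w * b⁻¹) * a⁻¹ := by group
    have ha' : ∀ {x : G}, a * F.w * a⁻¹ = x → a * F.w⁻¹ * a⁻¹ = x⁻¹ := fun h => by
      rw [← h]; group
    show _ ∨ _
    rw [hc]
    rcases hb with hb | hb <;> rw [hb]
    · exact ha
    · rcases ha with ha | ha <;> rw [ha' ha]
      · exact Or.inr rfl
      · exact Or.inl (inv_inv _)
  inv_mem' {a} ha := by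
    show _ ∨ _
    rcases ha with ha | ha
    · exact Or.inl (by conv_lhs => rw [← ha]
                       group)
    · refine Or.inr ?_
      have h : a * F.w⁻¹ * a⁻¹ = F.w := by
        rw [show a * F.w⁻¹ * a⁻¹ = (a * F.w * a⁻¹)⁻¹ by group, ha, inv_inv]
      conv_lhs => rw [← h]
      group

theorem mem_N {g : G} : g ∈ F.N ↔ g * F.w * g⁻¹ = F.w ∨ g * F.w * g⁻¹ = F.w⁻¹ := Iff.rfl

theorem M_le_N : F.M ≤ F.N := fun x hx => Or.inl (by rw [F.mem_M.1 hx, mul_inv_cancel_right])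

theorem u_mem : F.u ∈ F.N := Or.inr F.u_w

theorem mul_u_mem {g : G} (hg : g ∈ F.N) (hgM : g ∉ F.M) : g * F.u ∈ F.M := by
  rcases F.mem_N.1 hg with h | h
  · exact absurd (F.mem_M.2 (mul_inv_eq_iff_eq_mul.1 h)) hgM
  · refine F.mem_M.2 (mul_inv_eq_iff_eq_mul.1 ?_)
    calc g * F.u * F.w * (g * F.u)⁻¹ = g * (F.u * F.w * F.u⁻¹) * g⁻¹ := by group
      _ = (g * F.w * g⁻¹)⁻¹ := by rw [F.u_w]; group
      _ = F.w := by rw [h, inv_inv]

theorem N_conj_M {g x : G} (hg : g ∈ F.N) (hx : x ∈ F.M) : g * x * g⁻¹ ∈ F.M := by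
  have hc : Commute (g * x * g⁻¹) (g * F.w * g⁻¹) := by
    show _ * _ = _ * _
    calc g * x * g⁻¹ * (g * F.w * g⁻¹) = g * (x * F.w) * g⁻¹ := by group
      _ = g * (F.w * x) * g⁻¹ := by rw [F.mem_M.1 hx]
      _ = _ := by group
  rcases F.mem_N.1 hg with h | h <;> rw [h] at hc
  · exact F.mem_M.2 hc.eq
  · exact F.mem_M.2 (Commute.inv_right_iff.1 hc).eq

/-- Fusion of elements with non-trivial `e`-th power. -/
theorem ti {a b g : G} (ha : a ∈ F.M) (hb : b ∈ F.M) (hae : a ^ F.e ≠ 1) (h : g * a * g⁻¹ = b) :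
    g ∈ F.N := by
  refine norm_cases F.isY F.hw F.w_ne F.hyw ?_
  have hconj : g * a ^ F.e * g⁻¹ ∈ zpowers F.w := by
    rw [← conj_pow, h]; exact F.pow_e_mem hb
  obtain ⟨n, hn⟩ := mem_zpowers_iff.1 (F.gen (F.pow_e_mem ha) hae)
  have h2 := zpow_mem hconj n
  rwa [conj_zpow, hn] at h2

theorem exists_lam : ∃ f : G → ℂ, f 1 = 1 ∧
    (∀ a ∈ zpowers F.w, ∀ b ∈ zpowers F.w, f (a * b) = f a * f b) ∧
    (∀ a ∈ zpowers F.w, f a = 1 → a = 1) ∧ ∀ a ∈ zpowers F.w, conj (f a) = f a⁻¹ := by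
  have hl0 : F.l ≠ 0 := F.hl.ne_zero
  have hζ := Complex.isPrimitiveRoot_exp F.l hl0
  set ζ : ℂˣ := (hζ.isUnit hl0).unit
  have hζ' : IsPrimitiveRoot ζ F.l := hζ.isUnit_unit hl0
  let wX : zpowers F.w := ⟨F.w, mem_zpowers _⟩
  have hgen : ∀ x : zpowers F.w, x ∈ zpowers wX := fun x => by
    obtain ⟨n, hn⟩ := mem_zpowers_iff.1 x.2
    exact mem_zpowers_iff.2 ⟨n, Subtype.ext (by simpa [wX] using hn)⟩
  have hord : orderOf wX = F.l := by rw [← Subgroup.orderOf_coe, F.hwl]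
  have hdvd : orderOf ζ ∣ orderOf wX := by rw [hord, hζ'.eq_orderOf]
  let φ : zpowers F.w →* ℂˣ := monoidHomOfForallMemZpowers hgen hdvd
  have hφ : φ wX = ζ := monoidHomOfForallMemZpowers_apply_gen hgen hdvd
  refine ⟨fun a => if h : a ∈ zpowers F.w then (φ ⟨a, h⟩ : ℂ) else 1, ?_, ?_, ?_, ?_⟩
  · dsimp only
    rw [dif_pos (one_mem _)]
    exact congrArg Units.val (map_one φ)
  · intro a ha b hb
    dsimp only
    rw [dif_pos (mul_mem ha hb), dif_pos ha, dif_pos hb, ← Units.val_mul, ← map_mul]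
    rfl
  · intro a ha h
    dsimp only at h
    rw [dif_pos ha, Units.val_eq_one] at h
    obtain ⟨n, hn⟩ := mem_zpowers_iff.1 (hgen ⟨a, ha⟩)
    rw [← hn, map_zpow, hφ, hζ'.zpow_eq_one_iff_dvd, ← hord, orderOf_dvd_iff_zpow_eq_one, hn] at h
    exact congrArg Subtype.val h
  · intro a ha
    dsimp only
    rw [dif_pos ha, dif_pos (inv_mem ha)]
    exact (IsCharacter.inv (IsIrrCharacter.isCharacter (isIrrCharacter_linear φ))
      (⟨a, ha⟩ : zpowers F.w)).symm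

/-- The faithful character of `⟨w⟩`, extended to `G`. -/
noncomputable def lam : G → ℂ := Classical.choose F.exists_lam

theorem lam_spec : F.lam 1 = 1 ∧
    (∀ a ∈ zpowers F.w, ∀ b ∈ zpowers F.w, F.lam (a * b) = F.lam a * F.lam b) ∧
    (∀ a ∈ zpowers F.w, F.lam a = 1 → a = 1) ∧
    ∀ a ∈ zpowers F.w, conj (F.lam a) = F.lam a⁻¹ :=
  Classical.choose_spec F.exists_lam

/-- The character of order `l` of `M`. -/
noncomputable def Lam (x : G) : ℂ := F.lam (x ^ F.e)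

theorem Lam_one : F.Lam 1 = 1 := by rw [Lam, one_pow]; exact F.lam_spec.1

theorem Lam_mul {a b : G} (ha : a ∈ F.M) (hb : b ∈ F.M) : F.Lam (a * b) = F.Lam a * F.Lam b := by
  rw [Lam, F.pow_e_mul ha hb]
  exact F.lam_spec.2.1 _ (F.pow_e_mem ha) _ (F.pow_e_mem hb)

theorem Lam_inv {a : G} (ha : a ∈ F.M) : F.Lam a⁻¹ = conj (F.Lam a) := by
  rw [Lam, Lam, inv_pow, F.lam_spec.2.2.2 _ (F.pow_e_mem ha)]

theorem Lam_eq_one {a : G} (ha : a ∈ F.M) : F.Lam a = 1 ↔ a ^ F.e = 1 :=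
  ⟨F.lam_spec.2.2.1 _ (F.pow_e_mem ha), fun h => by rw [Lam, h]; exact F.lam_spec.1⟩

theorem Lam_mul_conj {a : G} (ha : a ∈ F.M) : F.Lam a * conj (F.Lam a) = 1 := by
  rw [← F.Lam_inv ha, ← F.Lam_mul ha (inv_mem ha), mul_inv_cancel, F.Lam_one]

theorem Lam_u {a : G} (ha : a ∈ F.M) : F.Lam (F.u * a * F.u⁻¹) = conj (F.Lam a) := by
  rw [← F.Lam_inv ha, Lam, Lam, conj_pow, inv_pow, F.hinv _ (F.zpowers_le_Zg (F.pow_e_mem ha))]

theorem Lam_sq_ne {a : G} (ha : a ∈ F.M) (h : a ^ F.e ≠ 1) : F.Lam a * F.Lam a ≠ 1 := fun h2 => by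
  rw [← F.Lam_mul ha ha, F.Lam_eq_one (mul_mem ha ha), F.pow_e_mul ha ha] at h2
  exact h (F.sq_eq_one (F.pow_e_mem ha) h2)

/-- The character of order three of `M`. -/
noncomputable def psi (ω : ℂ) (x : G) : ℂ :=
  if x ∈ E.T then 1 else if F.y⁻¹ * x ∈ E.T then ω else ω ^ 2

theorem psi_rep {ω : ℂ} (hω : ω ^ 3 = 1) {t : G} (ht : t ∈ E.T) (i : ℕ) :
    F.psi ω (F.y ^ i * t) = ω ^ i := by
  have hy : F.y ^ i = F.y ^ (i % 3) := by
    conv_lhs => rw [← Nat.mod_add_div i 3, pow_add, pow_mul, F.isY.cube, one_pow, mul_one]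
  have hw : ω ^ i = ω ^ (i % 3) := by
    conv_lhs => rw [← Nat.mod_add_div i 3, pow_add, pow_mul, hω, one_pow, mul_one]
  rw [hy, hw]
  have h1 : F.y ∉ E.T := F.isY.not_mem_T
  have h2 : F.y ^ 2 ∉ E.T := fun h => h1 (by
    have := pow_mem h 2
    rwa [← pow_mul, show 2 * 2 = 3 + 1 from rfl, pow_succ, F.isY.cube, one_mul] at this)
  rcases (show i % 3 = 0 ∨ i % 3 = 1 ∨ i % 3 = 2 by omega) with h | h | h <;> rw [h] <;> unfold psi
  · rw [pow_zero, one_mul, if_pos ht, pow_zero]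
  · rw [pow_one, if_neg fun h' => h1 ((E.T.mul_mem_cancel_right ht).1 h'),
      if_pos (by rw [inv_mul_cancel_left]; exact ht), pow_one]
  · rw [if_neg fun h' => h2 ((E.T.mul_mem_cancel_right ht).1 h'), if_neg fun h' => h1 ?_]
    rw [pow_two, mul_assoc, inv_mul_cancel_left] at h'
    exact (E.T.mul_mem_cancel_right ht).1 h'

theorem psi_T (ω : ℂ) {t : G} (ht : t ∈ E.T) : F.psi ω t = 1 := if_pos ht

theorem psi_y {ω : ℂ} (hω : ω ^ 3 = 1) : F.psi ω F.y = ω := by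
  have := F.psi_rep hω (one_mem E.T) 1
  rwa [pow_one, mul_one, pow_one] at this

theorem psi_mul {ω : ℂ} (hω : ω ^ 3 = 1) {a b : G} (ha : a ∈ F.M) (hb : b ∈ F.M) :
    F.psi ω (a * b) = F.psi ω a * F.psi ω b := by
  obtain ⟨i, -, t, ht, rfl⟩ := F.rep ha
  obtain ⟨j, -, t', ht', rfl⟩ := F.rep hb
  rw [show F.y ^ i * t * (F.y ^ j * t') = F.y ^ (i + j) * ((F.y ^ j)⁻¹ * t * F.y ^ j * t') by
      rw [pow_add]; group, F.psi_rep hω (mul_mem (F.conj_inv_T ht j) ht'), F.psi_rep hω ht,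
    F.psi_rep hω ht', pow_add]

theorem psi_pointwise (ω ω' : ℂ) (x : G) : F.psi (ω * ω') x = F.psi ω x * F.psi ω' x := by
  unfold psi; split_ifs <;> ring

theorem psi_triv (x : G) : F.psi 1 x = 1 := by
  unfold psi; split_ifs <;> ring

theorem psi_conj (ω : ℂ) (x : G) : conj (F.psi ω x) = F.psi (conj ω) x := by
  unfold psi; split_ifs <;> simp

theorem root_mul_conj {ω : ℂ} (hω : ω ^ 3 = 1) : ω * conj ω = 1 := by
  rw [Complex.mul_conj', Complex.norm_eq_one_of_pow_eq_one hω (by norm_num)]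
  norm_num

theorem psi_inv {ω : ℂ} (hω : ω ^ 3 = 1) {x : G} (hx : x ∈ F.M) :
    F.psi ω x⁻¹ = F.psi (conj ω) x := by
  have h1 : F.psi ω x * F.psi ω x⁻¹ = 1 := by
    rw [← F.psi_mul hω hx (inv_mem hx), mul_inv_cancel, F.psi_T ω (one_mem _)]
  have h2 : F.psi ω x * F.psi (conj ω) x = 1 := by
    rw [← F.psi_pointwise, root_mul_conj hω, F.psi_triv]
  exact mul_left_cancel₀ (fun h => by rw [h, zero_mul] at h1; exact zero_ne_one h1)
    (h1.trans h2.symm)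

theorem psi_u {ω : ℂ} (hω : ω ^ 3 = 1) {x : G} (hx : x ∈ F.M) :
    F.psi ω (F.u * x * F.u⁻¹) = F.psi ω x := by
  obtain ⟨i, -, t, ht, rfl⟩ := F.rep hx
  have hyu : Commute F.u (F.y ^ i) := (show Commute F.u F.y from F.hyu.symm).pow_right i
  rw [show F.u * (F.y ^ i * t) * F.u⁻¹ = F.y ^ i * (F.u * t * F.u⁻¹) by
      rw [← mul_assoc, hyu.eq]; group, F.u_inv_T ht, F.psi_rep hω (inv_mem ht), F.psi_rep hω ht]

theorem psi_eq_one {ω : ℂ} (hω : ω ^ 3 = 1) (hω1 : ω ≠ 1) {x : G} (hx : x ∈ F.M)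
    (h : F.psi ω x = 1) : x ∈ E.T := by
  obtain ⟨i, hi, t, ht, rfl⟩ := F.rep hx
  rw [F.psi_rep hω ht] at h
  have hprim : orderOf ω = 3 := by
    haveI := Fact.mk Nat.prime_three
    exact orderOf_eq_prime hω hω1
  have hd := orderOf_dvd_of_pow_eq_one h
  rw [hprim] at hd
  have hi0 : i = 0 := by omega
  rw [hi0, pow_zero, one_mul]
  exact ht

end FixData

end Setup

end Cfsg.Agent.JanThom
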