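import Cfsg.Agent.Lib.JanThom.A5Basic

/-!
The order of the torus is prime to the orders of the elements of the complement: no `l ∈ {3, 5}`
divides `h` in the case `Zg × A₅`, and `y` centralises no torus element of order three at all.
-/

set_option autoImplicit false
set_option linter.unusedSectionVars false
set_option linter.style.haveILetI false

namespace Cfsg.Agent.JanThom

open Subgroup

universe u v

namespace Setup

variable {G : Type u} [Group G] [Finite G] [IsSimpleGroup G] {L : Type v} [Group L] {Q : ℤ}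
  {E : Setup G L Q} {y u : G}

/-- An element of order `l` of the torus and one of `X` cannot be exchanged. -/
theorem no_swap (hinv : ∀ z ∈ E.Zg, u * z * u⁻¹ = z⁻¹) {z g d : G} {l : ℕ} (hl : l.Prime)
    (hz : z ∈ E.Zg) (hzl : orderOf z = l) (hgl : orderOf g = l) (hug : u * g = g * u) (hu2 : u * u = 1)
    (hzg : z * g = g * z) {i j : ℕ} (hdz : d * z * d⁻¹ = g ^ i) (hdg : d * g * d⁻¹ = z ^ j) :
    False := by
  classical
  haveI : Fact (Nat.Prime 2) := ⟨Nat.prime_two⟩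
  haveI : Fact l.Prime := ⟨hl⟩
  have hz1 : z ≠ 1 := fun h => hl.ne_one (by rw [← hzl, h, orderOf_one])
  have hg1 : g ≠ 1 := fun h => hl.ne_one (by rw [← hgl, h, orderOf_one])
  have huz : u * z * u⁻¹ = z⁻¹ := hinv z hz
  set R := zpowers z ⊔ zpowers g with hR
  set H := normalizer (R : Set G) with hH
  have hzR : z ∈ R := (le_sup_left : zpowers z ≤ R) (mem_zpowers z)
  have hgR : g ∈ R := (le_sup_right : zpowers g ≤ R) (mem_zpowers g)
  have memH : ∀ q : G, q * z * q⁻¹ ∈ R → q * g * q⁻¹ ∈ R → q ∈ H := by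
    intro q h1 h2
    have hle : R.map (MulAut.conj q).toMonoidHom ≤ R := by
      rw [hR, Subgroup.map_sup, MonoidHom.map_zpowers, MonoidHom.map_zpowers]
      exact sup_le (zpowers_le.2 h1) (zpowers_le.2 h2)
    have heq := eq_of_le_of_card_ge hle
      (le_of_eq (card_map_of_injective (MulAut.conj q).injective).symm)
    refine mem_normalizer_iff.2 fun x => ⟨fun hx => hle ⟨x, hx, rfl⟩, fun hx => ?_⟩
    rw [← heq] at hx
    obtain ⟨x', hx', hxx⟩ := hx
    have : x' = x := mul_left_cancel (mul_right_cancel hxx)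
    exact this ▸ hx'
  -- agreement on the generators
  set ρ := R.normalizerMonoidHom with hρ
  have agree : ∀ a b : H, (a : G) * z * (a : G)⁻¹ = (b : G) * z * (b : G)⁻¹ →
      (a : G) * g * (a : G)⁻¹ = (b : G) * g * (b : G)⁻¹ → ρ a = ρ b := by
    intro a b h1 h2
    have hq : ∀ x, (a : G) * x * (a : G)⁻¹ = (b : G) * x * (b : G)⁻¹ →
        Commute ((b : G)⁻¹ * a) x := fun x h => by
      refine mul_inv_eq_iff_eq_mul.1 ?_
      calc (b : G)⁻¹ * a * x * ((b : G)⁻¹ * a)⁻¹ = (b : G)⁻¹ * ((a : G) * x * (a : G)⁻¹) * b := by group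
        _ = x := by rw [h]; group
    have hle : R ≤ centralizer ({(b : G)⁻¹ * a} : Set G) :=
      sup_le (zpowers_le.2 (mem_centralizer_singleton_iff.2 (hq z h1).symm))
        (zpowers_le.2 (mem_centralizer_singleton_iff.2 (hq g h2).symm))
    refine MulEquiv.ext fun x => Subtype.ext ?_
    have hx := mem_centralizer_singleton_iff.1 (hle x.2)
    show (a : G) * x * (a : G)⁻¹ = (b : G) * x * (b : G)⁻¹
    calc (a : G) * x * (a : G)⁻¹ = (b : G) * (((b : G)⁻¹ * a) * x) * (a : G)⁻¹ := by group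
      _ = (b : G) * ((x : G) * ((b : G)⁻¹ * a)) * (a : G)⁻¹ := by rw [hx]
      _ = (b : G) * x * (b : G)⁻¹ := by group
  -- the conjugate of `u`
  set e := d * u * d⁻¹ with he
  have hgcd : ∀ {x : G}, orderOf x = l → ∀ {k : ℕ}, x ^ k ≠ 1 → x ∈ zpowers (x ^ k) :=
    fun hx k hk => mem_zpowers_cyclic (Z := zpowers _) (by infer_instance)
      (pow_mem (mem_zpowers _) k) (mem_zpowers _) (by
        have : orderOf (_ ^ k) = l := orderOf_eq_prime (by
          rw [← pow_mul, mul_comm, pow_mul, ← hx, pow_orderOf_eq_one, one_pow]) hk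
        rw [this, ← hx, pow_orderOf_eq_one])
  have hzj : z ^ j ≠ 1 := fun h => hg1 (by rwa [h, conj_eq_one_iff] at hdg)
  have hgi : g ^ i ≠ 1 := fun h => hz1 (by rwa [h, conj_eq_one_iff] at hdz)
  have hez : e * z * e⁻¹ = z := by
    have hc : Commute e (z ^ j) := by
      show e * z ^ j = z ^ j * e
      rw [he, ← hdg]
      calc d * u * d⁻¹ * (d * g * d⁻¹) = d * (u * g) * d⁻¹ := by group
        _ = d * (g * u) * d⁻¹ := by rw [hug]
        _ = d * g * d⁻¹ * (d * u * d⁻¹) := by group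
    obtain ⟨n, hn⟩ := mem_zpowers_iff.1 (hgcd hzl hzj)
    have hc' := hc.zpow_right n
    rw [hn] at hc'
    rw [hc'.eq, mul_inv_cancel_right]
  have heg : e * g * e⁻¹ = g⁻¹ := by
    have hc : e * g ^ i * e⁻¹ = (g ^ i)⁻¹ := by
      rw [he, ← hdz]
      calc d * u * d⁻¹ * (d * z * d⁻¹) * (d * u * d⁻¹)⁻¹ = d * (u * z * u⁻¹) * d⁻¹ := by group
        _ = (d * z * d⁻¹)⁻¹ := by rw [huz]; group
    obtain ⟨n, hn⟩ := mem_zpowers_iff.1 (hgcd hgl hgi)
    have hc' := congrArg (fun x => x ^ n) hc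
    simp only [conj_zpow, _root_.inv_zpow, hn] at hc'
    exact hc'
  have hugu : u * g * u⁻¹ = g := by rw [hug, mul_inv_cancel_right]
  let uH : H := ⟨u, memH u (by rw [huz]; exact inv_mem hzR) (by rw [hugu]; exact hgR)⟩
  let eH : H := ⟨e, memH e (by rw [hez]; exact hzR) (by rw [heg]; exact inv_mem hgR)⟩
  let dH : H := ⟨d, memH d (by rw [hdz]; exact pow_mem hgR i) (by rw [hdg]; exact pow_mem hzR j)⟩
  set U := ρ uH with hU
  set V := ρ eH with hV
  set D := ρ dH with hD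
  have hDUD : D * U * D⁻¹ = V := by
    rw [hD, hU, ← map_inv, ← map_mul, ← map_mul]
    exact congrArg ρ (Subtype.ext rfl)
  have hd2z : d * d * z * (d * d)⁻¹ = z ^ (j * i) := by
    calc d * d * z * (d * d)⁻¹ = d * (d * z * d⁻¹) * d⁻¹ := by group
      _ = _ := by rw [hdz, ← conj_pow, hdg, ← pow_mul]
  have hd2g : d * d * g * (d * d)⁻¹ = g ^ (i * j) := by
    calc d * d * g * (d * d)⁻¹ = d * (d * g * d⁻¹) * d⁻¹ := by group
      _ = _ := by rw [hdg, ← conj_pow, hdz, ← pow_mul]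
  have hcommD : Commute (D * D) U := by
    show D * D * U = U * (D * D)
    rw [hD, hU, ← map_mul, ← map_mul, ← map_mul]
    refine agree _ _ ?_ ?_
    · show d * d * u * z * (d * d * u)⁻¹ = u * (d * d) * z * (u * (d * d))⁻¹
      calc d * d * u * z * (d * d * u)⁻¹ = d * d * (u * z * u⁻¹) * (d * d)⁻¹ := by group
        _ = (d * d * z * (d * d)⁻¹)⁻¹ := by rw [huz]; simp only [mul_assoc, mul_inv_rev, inv_inv]
        _ = (z ^ (j * i))⁻¹ := by rw [hd2z]
        _ = u * z ^ (j * i) * u⁻¹ := by rw [← conj_pow, huz, _root_.inv_pow]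
        _ = u * (d * d) * z * (u * (d * d))⁻¹ := by rw [← hd2z]; group
    · show d * d * u * g * (d * d * u)⁻¹ = u * (d * d) * g * (u * (d * d))⁻¹
      calc d * d * u * g * (d * d * u)⁻¹ = d * d * (u * g * u⁻¹) * (d * d)⁻¹ := by group
        _ = g ^ (i * j) := by rw [hugu, hd2g]
        _ = u * g ^ (i * j) * u⁻¹ := by rw [← conj_pow, hugu]
        _ = u * (d * d) * g * (u * (d * d))⁻¹ := by rw [← hd2g]; group
  have hUV : Commute U V := by
    show U * V = V * U
    rw [hU, hV, ← map_mul, ← map_mul]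
    refine agree _ _ ?_ ?_
    · show u * e * z * (u * e)⁻¹ = e * u * z * (e * u)⁻¹
      calc u * e * z * (u * e)⁻¹ = u * (e * z * e⁻¹) * u⁻¹ := by group
        _ = (e * z * e⁻¹)⁻¹ := by rw [hez, huz]
        _ = e * z⁻¹ * e⁻¹ := by group
        _ = e * u * z * (e * u)⁻¹ := by rw [← huz]; group
    · show u * e * g * (u * e)⁻¹ = e * u * g * (e * u)⁻¹
      calc u * e * g * (u * e)⁻¹ = u * (e * g * e⁻¹) * u⁻¹ := by group
        _ = (u * g * u⁻¹)⁻¹ := by rw [heg]; group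
        _ = e * g * e⁻¹ := by rw [hugu, heg]
        _ = e * (u * g * u⁻¹) * e⁻¹ := by rw [hugu]
        _ = e * u * g * (e * u)⁻¹ := by group
  have hU2 : U * U = 1 := by
    rw [hU, ← map_mul, show uH * uH = 1 from Subtype.ext hu2, map_one]
  have hV2 : V * V = 1 := by
    rw [hV, ← map_mul, show eH * eH = 1 from Subtype.ext (by
      show e * e = 1
      calc e * e = d * (u * u) * d⁻¹ := by rw [he]; group
        _ = 1 := by rw [hu2]; group), map_one]
  -- a two-element exchanging them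
  obtain ⟨a, m, hm, hord⟩ := Nat.exists_eq_two_pow_mul_odd (n := orderOf D) (orderOf_pos D).ne'
  obtain ⟨s, rfl⟩ := hm
  set D' := D ^ (2 * s + 1) with hD'
  have hD'2 : D' ^ 2 ^ a = 1 := by rw [hD', ← pow_mul, mul_comm, ← hord, pow_orderOf_eq_one]
  have hD'U : D' * U * D'⁻¹ = V := by
    have h2 : Commute (D ^ (2 * s)) U := by
      rw [pow_mul, pow_two]; exact hcommD.pow_left s
    calc D' * U * D'⁻¹ = D * (D ^ (2 * s) * U) * (D ^ (2 * s))⁻¹ * D⁻¹ := by
          rw [hD', pow_succ']; group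
      _ = D * (U * D ^ (2 * s)) * (D ^ (2 * s))⁻¹ * D⁻¹ := by rw [h2.eq]
      _ = V := by rw [← hDUD]; group
  have hD'V : D' * V * D'⁻¹ = U := by
    have h2 : Commute (D' * D') U := by
      rw [hD', ← pow_add, show 2 * s + 1 + (2 * s + 1) = 2 * (2 * s + 1) by ring, pow_mul, pow_two]
      exact hcommD.pow_left _
    calc D' * V * D'⁻¹ = D' * D' * U * (D' * D')⁻¹ := by rw [← hD'U]; group
      _ = U := by rw [h2.eq, mul_inv_cancel_right]
  set K := ρ.range
  have hUr : U ∈ K := ⟨uH, rfl⟩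
  have hVr : V ∈ K := ⟨eH, rfl⟩
  have hD'r : D' ∈ K := pow_mem (show D ∈ K from ⟨dH, rfl⟩) _
  let U' : K := ⟨U, hUr⟩
  let V' : K := ⟨V, hVr⟩
  let W' : K := ⟨D', hD'r⟩
  have ptwo : ∀ x : K, (∃ k, x ^ 2 ^ k = 1) → IsPGroup 2 (zpowers x) := fun x ⟨k, hk⟩ => by
    obtain ⟨k', -, hk'⟩ := (Nat.dvd_prime_pow Nat.prime_two).1 (orderOf_dvd_of_pow_eq_one hk)
    exact IsPGroup.of_card (n := k') (by rw [Nat.card_zpowers, hk'])
  have hpU : IsPGroup 2 (zpowers U') := ptwo U' ⟨1, Subtype.ext (by simpa [pow_two] using hU2)⟩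
  have hpV : IsPGroup 2 (zpowers V') := ptwo V' ⟨1, Subtype.ext (by simpa [pow_two] using hV2)⟩
  have hpW : IsPGroup 2 (zpowers W') := ptwo W' ⟨a, Subtype.ext (by simpa using hD'2)⟩
  set B := zpowers U' ⊔ zpowers V' with hB
  have hpB : IsPGroup 2 B := hpU.to_sup_of_normal_left' hpV ((zpowers_le.2
    (mem_centralizer_iff.2 fun x hx => by
      obtain ⟨n, rfl⟩ := mem_zpowers_iff.1 hx
      exact ((show Commute U' V' from Subtype.ext hUV.eq).zpow_left n).eq)).trans
    (centralizer_le_normalizer _))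
  have hWB : zpowers W' ≤ normalizer (B : Set K) := by
    rw [zpowers_le]
    have hle : B.map (MulAut.conj W').toMonoidHom ≤ B := by
      rw [hB, Subgroup.map_sup, MonoidHom.map_zpowers, MonoidHom.map_zpowers]
      refine sup_le (zpowers_le.2 ?_) (zpowers_le.2 ?_)
      · rw [show (MulAut.conj W').toMonoidHom U' = V' from Subtype.ext hD'U]
        exact (le_sup_right : zpowers V' ≤ B) (mem_zpowers V')
      · rw [show (MulAut.conj W').toMonoidHom V' = U' from Subtype.ext hD'V]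
        exact (le_sup_left : zpowers U' ≤ B) (mem_zpowers U')
    have heq := eq_of_le_of_card_ge hle
      (le_of_eq (card_map_of_injective (MulAut.conj W').injective).symm)
    refine mem_normalizer_iff.2 fun x => ⟨fun hx => hle ⟨x, hx, rfl⟩, fun hx => ?_⟩
    rw [← heq] at hx
    obtain ⟨x', hx', hxx⟩ := hx
    have : x' = x := mul_left_cancel (mul_right_cancel hxx)
    exact this ▸ hx'
  obtain ⟨S, hS⟩ := (hpB.to_sup_of_normal_left' hpW hWB).exists_le_sylow
  obtain ⟨P0⟩ := (inferInstance : Nonempty (Sylow 2 H))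
  let P := P0.mapSurjective ρ.rangeRestrict_surjective
  obtain ⟨c, hc⟩ := MulAction.exists_smul_eq K S P
  have hP : ∀ x ∈ (P : Subgroup K), ∀ x' ∈ (P : Subgroup K), x * x' = x' * x := by
    rintro _ ⟨q, hq, rfl⟩ _ ⟨q', hq', rfl⟩
    rw [← map_mul, ← map_mul]
    refine congrArg _ (Subtype.ext ?_)
    show (q : G) * q' = q' * q
    exact E.two_comm (P0.2.map H.subtype) (mem_map_of_mem _ hq) (mem_map_of_mem _ hq')
  have hS' : ∀ x ∈ (S : Subgroup K), ∀ x' ∈ (S : Subgroup K), x * x' = x' * x := by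
    intro x hx x' hx'
    have hm : ∀ q ∈ (S : Subgroup K), c * q * c⁻¹ ∈ (P : Subgroup K) := fun q hq => by
      rw [← hc, Sylow.coe_subgroup_smul]
      exact ⟨q, hq, rfl⟩
    have h := hP _ (hm x hx) _ (hm x' hx')
    rw [show c * x * c⁻¹ * (c * x' * c⁻¹) = c * (x * x') * c⁻¹ by group,
      show c * x' * c⁻¹ * (c * x * c⁻¹) = c * (x' * x) * c⁻¹ by group] at h
    exact mul_left_cancel (mul_right_cancel h)
  have h1 : W' * U' = U' * W' := hS' _ (hS ((le_sup_right : zpowers W' ≤ B ⊔ zpowers W') (mem_zpowers W')))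
    _ (hS ((le_sup_left : B ≤ B ⊔ zpowers W') ((le_sup_left : zpowers U' ≤ B) (mem_zpowers U'))))
  have hUeqV : V = U := by
    rw [← hD'U, show D' * U = U * D' from congrArg Subtype.val h1, mul_inv_cancel_right]
  have h2 := congrArg (fun f : MulAut R => ((f ⟨z, hzR⟩ : R) : G)) hUeqV
  simp only [hU, hV, hρ] at h2
  have h3 : e * z * e⁻¹ = u * z * u⁻¹ := h2
  rw [hez, huz] at h3
  exact E.Zg_inv_ne hz hz1 h3.symm

/-- In the exceptional case neither three nor five divides `h`. -/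
theorem A5Data.not_dvd (hu2 : u * u = 1) (hu1 : u ≠ 1) (hinv : ∀ z ∈ E.Zg, u * z * u⁻¹ = z⁻¹)
    (A : A5Data E y u) {l : ℕ} (hl35 : l = 3 ∨ l = 5) : ¬ l ∣ E.D.h := by
  classical
  intro hlh
  haveI := E.finite_L
  have hl : l.Prime := by rcases hl35 with rfl | rfl <;> norm_num
  haveI : Fact l.Prime := ⟨hl⟩
  have hl2 : l ≠ 2 := by rcases hl35 with rfl | rfl <;> norm_num
  obtain ⟨z0, hz0⟩ := exists_prime_orderOf_dvd_card' (G := E.Zg) l (E.card_Zg.symm ▸ hlh)
  set z : G := (z0 : G) with hzdef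
  have hz : z ∈ E.Zg := z0.2
  have hzl : orderOf z = l := by rw [hzdef, Subgroup.orderOf_coe, hz0]
  have hz1 : z ≠ 1 := fun h => hl.ne_one (by rw [← hzl, h, orderOf_one])
  obtain ⟨g0, hg0⟩ := exists_prime_orderOf_dvd_card' (G := A.X) l (by
    rw [Nat.card_congr A.iso.toEquiv, card_a5]; rcases hl35 with rfl | rfl <;> norm_num)
  set g : G := (g0 : G) with hgdef
  have hgl : orderOf g = l := by rw [hgdef, Subgroup.orderOf_coe, hg0]
  have hug : u * g = g * u := A.u_comm g g0.2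
  have hzg : z * g = g * z := (A.comm g g0.2 z hz).symm
  obtain ⟨c, b, hb, hcu, hcg, hbl⟩ := exists_conj_sub (E := E) hu2 hu1 hug.symm hl hl2 hgl
    (fun b hb => E.D.conj_Zh hl hl2 hlh hb)
  have hbord : orderOf (E.ι (1, b)) = l := by
    rw [orderOf_injective E.ι E.inj, Prod.orderOf_mk, orderOf_one, Nat.lcm_one_left, hbl]
  have hbz : E.ι (1, b) ∈ zpowers z := mem_zpowers_cyclic E.Zg_cyclic hz (E.ι_mem_Zg hb) (by
    rw [hzl, ← hbord, pow_orderOf_eq_one])
  have hzb : z ∈ zpowers (E.ι (1, b)) := mem_zpowers_cyclic E.Zg_cyclic (E.ι_mem_Zg hb) hz (by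
    rw [hbord, ← hzl, pow_orderOf_eq_one])
  set w := c * z * c⁻¹ with hw
  have hwz : w * z = z * w := by
    obtain ⟨n, hn⟩ := mem_zpowers_iff.1 hzb
    have hc : Commute w (E.ι (1, b)) := by
      show w * E.ι (1, b) = E.ι (1, b) * w
      rw [hw, ← hcg]
      calc c * z * c⁻¹ * (c * g * c⁻¹) = c * (z * g) * c⁻¹ := by group
        _ = c * (g * z) * c⁻¹ := by rw [hzg]
        _ = c * g * c⁻¹ * (c * z * c⁻¹) := by group
    rw [← hn]
    exact (hc.zpow_right n).eq
  have hτw : E.τ * w * E.τ⁻¹ = w⁻¹ := by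
    rw [← hcu, hw]
    calc c * u * c⁻¹ * (c * z * c⁻¹) * (c * u * c⁻¹)⁻¹ = c * (u * z * u⁻¹) * c⁻¹ := by group
      _ = (c * z * c⁻¹)⁻¹ := by rw [hinv z hz]; group
  obtain ⟨v, hv, c0, hc0, hvc⟩ := A.dec z hz hz1 w hwz
  have hc01 : c0 = 1 := by
    have hτX : E.τ ∈ A.X := A.E4_le E.τ_mem_E4
    have hvc' : Commute v c0 := A.comm v hv c0 hc0
    have h1 : (v * (E.τ * v * E.τ⁻¹)) * (c0 * c0) = 1 := by
      calc (v * (E.τ * v * E.τ⁻¹)) * (c0 * c0)
          = v * ((E.τ * v * E.τ⁻¹) * c0) * c0 := by group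
        _ = v * (c0 * (E.τ * v * E.τ⁻¹)) * c0 := by
            rw [A.comm _ (mul_mem (mul_mem hτX hv) (inv_mem hτX)) c0 hc0]
        _ = (v * c0) * (E.τ * (v * c0) * E.τ⁻¹) := by
            rw [show E.τ * (v * c0) * E.τ⁻¹ = (E.τ * v * E.τ⁻¹) * (E.τ * c0 * E.τ⁻¹) by group,
              A.comm _ hτX c0 hc0, mul_inv_cancel_right]
            group
        _ = 1 := by rw [← hvc, hτw, mul_inv_cancel]
    have h2 : c0 * c0 = 1 := mem_bot.1 (A.inf ▸ mem_inf.2 ⟨by
      rw [← inv_eq_of_mul_eq_one_right h1]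
      exact inv_mem (mul_mem hv (mul_mem (mul_mem hτX hv) (inv_mem hτX))), mul_mem hc0 hc0⟩)
    exact E.eq_one_of_sq hc0 (k := 1) (by rw [pow_one, pow_two]; exact h2)
  rw [hc01, mul_one] at hvc
  have hwl : orderOf w = l := by rw [hw]; exact (MulEquiv.orderOf_eq (MulAut.conj c) z).trans hzl
  have hwX : w ∈ A.X := hvc ▸ hv
  let wX : A.X := ⟨w, hwX⟩
  obtain ⟨x, i, hx⟩ := a5_conj hl35 (v := A.iso wX) (g := A.iso g0)
    (by rw [← map_pow, show wX ^ l = 1 from Subtype.ext (by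
      show w ^ l = 1
      rw [← hwl, pow_orderOf_eq_one]), map_one])
    (fun h => hl.ne_one (by
      rw [← hwl, show w = 1 from congrArg Subtype.val (A.iso.injective (h.trans (map_one _).symm)), orderOf_one]))
    (by rw [← map_pow, show g0 ^ l = 1 by rw [← hg0, pow_orderOf_eq_one], map_one])
    (fun h => hl.ne_one (by
      rw [← hg0, A.iso.injective (h.trans (map_one _).symm), orderOf_one]))
  set xX : A.X := A.iso.symm x with hxX
  have hxw : (xX : G) * w * (xX : G)⁻¹ = g ^ i := by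
    have h : xX * wX * xX⁻¹ = g0 ^ i := by
      apply A.iso.injective
      rw [map_mul, map_mul, map_inv, map_pow, hxX, A.iso.apply_symm_apply]
      exact hx
    exact congrArg Subtype.val h
  obtain ⟨j, hj⟩ := (mem_powers_iff_mem_zpowers (x := z)).2 hbz
  refine no_swap hinv hl hz hzl hgl hug hu2 hzg (d := (xX : G) * c) (i := i) (j := j) ?_ ?_
  · calc (xX : G) * c * z * ((xX : G) * c)⁻¹ = (xX : G) * (c * z * c⁻¹) * (xX : G)⁻¹ := by group
      _ = g ^ i := hxw
  · calc (xX : G) * c * g * ((xX : G) * c)⁻¹ = (xX : G) * (c * g * c⁻¹) * (xX : G)⁻¹ := by group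
      _ = (xX : G) * z ^ j * (xX : G)⁻¹ := by rw [hcg, ← hj]
      _ = z ^ j := by rw [A.comm _ xX.2 _ (pow_mem hz j), mul_inv_cancel_right]

/-- If no centraliser is `Zg × A₅` then `y` centralises no torus element of order three. -/
theorem not_three_of_A4 (hy : E.IsY y) (hu2 : u * u = 1) (hu1 : u ≠ 1)
    (hinv : ∀ z ∈ E.Zg, u * z * u⁻¹ = z⁻¹) (hyu : y * u = u * y) {z : G} (hz : z ∈ E.Zg)
    (hzl : orderOf z = 3) (hyz : y * z = z * y) (hA : ¬ E.IsA5Case z) : False := by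
  classical
  haveI := E.finite_L
  haveI : Fact (Nat.Prime 3) := ⟨Nat.prime_three⟩
  have hz1 : z ≠ 1 := fun h => by rw [h, orderOf_one] at hzl; norm_num at hzl
  have hy3 : orderOf y = 3 := orderOf_eq_prime hy.cube fun h => hy.not_mem_T (h ▸ one_mem _)
  have h3h : 3 ∣ E.D.h := hzl ▸ E.card_Zg ▸ orderOf_dvd_natCard _ hz
  obtain ⟨c, b, hb, hcu, hcy, hbl⟩ := exists_conj_sub (E := E) hu2 hu1 hyu Nat.prime_three
    (by norm_num) hy3 (fun b hb => E.D.conj_Zh Nat.prime_three (by norm_num) h3h hb)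
  have hbord : orderOf (E.ι (1, b)) = 3 := by
    rw [orderOf_injective E.ι E.inj, Prod.orderOf_mk, orderOf_one, Nat.lcm_one_left, hbl]
  have hzb : z ∈ zpowers (E.ι (1, b)) := mem_zpowers_cyclic E.Zg_cyclic (E.ι_mem_Zg hb) hz (by
    rw [hbord, ← hzl, pow_orderOf_eq_one])
  set w := c * z * c⁻¹ with hw
  have hwz : w * z = z * w := by
    obtain ⟨n, hn⟩ := mem_zpowers_iff.1 hzb
    have hc : Commute w (E.ι (1, b)) := by
      show w * E.ι (1, b) = E.ι (1, b) * w
      rw [hw, ← hcy]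
      calc c * z * c⁻¹ * (c * y * c⁻¹) = c * (z * y) * c⁻¹ := by group
        _ = c * (y * z) * c⁻¹ := by rw [hyz]
        _ = c * y * c⁻¹ * (c * z * c⁻¹) := by group
    rw [← hn]
    exact (hc.zpow_right n).eq
  have hτw : E.τ * w * E.τ⁻¹ = w⁻¹ := by
    rw [← hcu, hw]
    calc c * u * c⁻¹ * (c * z * c⁻¹) * (c * u * c⁻¹)⁻¹ = c * (u * z * u⁻¹) * c⁻¹ := by group
      _ = (c * z * c⁻¹)⁻¹ := by rw [hinv z hz]; group
  rcases cent_cases hy hz hz1 with h | ⟨-, h | h⟩
  · exact h.1 hyz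
  · obtain ⟨i, hi, t, ht, hwt⟩ := h w hwz
    have hτ' : (y ^ i)⁻¹ * E.τ * y ^ i ∈ E.T := by
      have h3 : (y ^ i)⁻¹ = y ^ (2 * i) := inv_eq_of_mul_eq_one_right (by
        rw [← pow_add, show i + 2 * i = 3 * i by ring, pow_mul, hy.cube, one_pow])
      have h4 := hy.pow_T_conj (2 * i) (E.E4_le_T E.τ_mem_E4)
      rwa [← h3, inv_inv] at h4
    have hmem : (y ^ i) ^ 2 ∈ E.T := by
      have ht' : y ^ i * t⁻¹ * (y ^ i)⁻¹ ∈ E.T := hy.pow_T_conj i (inv_mem ht)
      have key : (y ^ i) ^ 2 = (y ^ i * t⁻¹ * (y ^ i)⁻¹) *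
          ((y ^ i)⁻¹ * E.τ * y ^ i * t * E.τ⁻¹)⁻¹ := by
        have h5 : y ^ i * ((y ^ i)⁻¹ * E.τ * y ^ i * t * E.τ⁻¹) =
            (y ^ i)⁻¹ * (y ^ i * t⁻¹ * (y ^ i)⁻¹) := by
          calc y ^ i * ((y ^ i)⁻¹ * E.τ * y ^ i * t * E.τ⁻¹) = E.τ * (y ^ i * t) * E.τ⁻¹ := by group
            _ = (y ^ i * t)⁻¹ := by rw [← hwt]; exact hτw
            _ = (y ^ i)⁻¹ * (y ^ i * t⁻¹ * (y ^ i)⁻¹) := by group
        set a := (y ^ i)⁻¹ * E.τ * y ^ i * t * E.τ⁻¹
        set b' := y ^ i * t⁻¹ * (y ^ i)⁻¹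
        calc (y ^ i) ^ 2 = y ^ i * (y ^ i * a) * a⁻¹ := by rw [pow_two]; group
          _ = y ^ i * ((y ^ i)⁻¹ * b') * a⁻¹ := by rw [h5]
          _ = b' * a⁻¹ := by group
      rw [key]
      exact mul_mem ht' (inv_mem (mul_mem (mul_mem hτ' ht) (inv_mem (E.E4_le_T E.τ_mem_E4))))
    have hi0 : i = 0 := by
      by_contra hi0
      refine hy.not_mem_T ?_
      rcases (show i = 1 ∨ i = 2 by omega) with rfl | rfl
      · have h6 := pow_mem hmem 2
        rwa [← pow_mul, ← pow_mul, show 1 * (2 * 2) = 3 + 1 from rfl, pow_succ, hy.cube, one_mul] at h6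
      · rwa [← pow_mul, show 2 * 2 = 3 + 1 from rfl, pow_succ, hy.cube, one_mul] at hmem
    rw [hi0, pow_zero, one_mul] at hwt
    rw [hwt, E.T_comm (E.E4_le_T E.τ_mem_E4) ht, mul_inv_cancel_right] at hτw
    have hw2 : w ^ 2 = 1 := by rw [hwt, pow_two]; exact mul_eq_one_iff_eq_inv.2 hτw
    have hwl : orderOf w = 3 := by rw [hw]; exact (MulEquiv.orderOf_eq (MulAut.conj c) z).trans hzl
    have hdvd := orderOf_dvd_of_pow_eq_one hw2
    rw [hwl] at hdvd
    norm_num at hdvd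
  · exact hA h

end Setup

end Cfsg.Agent.JanThom
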