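import Cfsg.Agent.Lib.JanThom.CentAux

/-!
The subgroup of odd `l'`-elements of the centraliser of an element of a self-centralising odd abelian
subgroup `Y` of `L` which centralises a conjugate of a torus element of order `l`.
-/

set_option autoImplicit false
set_option linter.unusedSectionVars false
set_option linter.style.haveILetI false

namespace Cfsg.Agent.JanThom

open Subgroup

universe u v

namespace Setup

variable {G : Type u} [Group G] [Finite G] {L : Type v} [Group L] {Q : ℤ} {E : Setup G L Q} {y : G}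

/-- The odd `l'`-elements of the centraliser form a subgroup. -/
theorem exists_kernel (hy : E.IsY y) {Y : Subgroup L} {a : L}
    (hcentY : ∀ b : L, b * a = a * b → b ∈ Y) (hYodd : Odd (Nat.card Y)) {c z w : G} {l : ℕ}
    (hl : l.Prime) (hl30 : l.Coprime 30) (hz : z ∈ E.Zg) (hzl : orderOf z = l)
    (hw : w = c * z * c⁻¹) (hwg : w * E.ι (1, a) = E.ι (1, a) * w) (hfused : y * z = z * y) :
    ∃ Mg : Subgroup G, ∀ x, x ∈ Mg ↔
      x * E.ι (1, a) = E.ι (1, a) * x ∧ Odd (orderOf x) ∧ (orderOf x).Coprime l := by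
  classical
  haveI := E.finite_L
  haveI : Fact (Nat.Prime 2) := ⟨Nat.prime_two⟩
  haveI : Fact l.Prime := ⟨hl⟩
  have hl7 : 7 ≤ l := by
    by_contra h7
    push Not at h7
    interval_cases l <;> first | (revert hl30; decide) | (revert hl; norm_num)
  have hz1 : z ≠ 1 := fun h => hl.ne_one (by rw [← hzl, h, orderOf_one])
  have hwl : orderOf w = l := by rw [hw]; exact (MulEquiv.orderOf_eq (MulAut.conj c) z).trans hzl
  have hw1 : w ≠ 1 := fun h => hl.ne_one (by rw [← hwl, h, orderOf_one])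
  have hwodd : Odd (orderOf w) := hwl ▸ hl.odd_of_ne_two (by omega)
  set g := E.ι (1, a) with hgdef
  have hτord : orderOf E.τ = 2 := orderOf_eq_prime (by rw [pow_two]; exact E.τ_sq) E.τ_ne
  have hτg : E.τ * g = g * E.τ := (E.τ_comm (1, a)).symm
  set Cg := centralizer ({g} : Set G) with hCg
  have hcent : ∀ {x : G}, x ∈ Cg ↔ x * g = g * x := mem_centralizer_singleton_iff
  -- the Sylow two-subgroup of `Cg`
  let t : Cg := ⟨E.τ, hcent.2 hτg⟩
  have htord : orderOf t = 2 := by rw [← Subgroup.orderOf_coe]; exact hτord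
  have two_small : ∀ R : Subgroup Cg, IsPGroup 2 R → t ∈ R → R = zpowers t := by
    intro R hR htR
    refine le_antisymm (fun x hx => ?_) (zpowers_le.2 htR)
    have key : ∀ v : Cg, (∃ k, v ^ 2 ^ k = 1) → (v : G) * E.τ = E.τ * v → v = 1 ∨ v = t := by
      rintro v ⟨k, hk⟩ hvτ
      obtain ⟨⟨e, b⟩, hvb⟩ := E.cent _ hvτ
      have hb : b ∈ Y := by
        refine hcentY b ?_
        have h := hcent.1 v.2
        rw [← hvb, hgdef, ← map_mul, ← map_mul] at h
        exact congrArg Prod.snd (E.inj h)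
      replace hvb := hvb.symm
      have h1 : b ^ 2 ^ k = 1 := by
        have h := congrArg (fun q : Cg => (q : G)) hk
        simp only [Subgroup.coe_pow, Subgroup.coe_one, hvb, ← map_pow, Prod.pow_mk] at h
        exact congrArg Prod.snd (E.inj (h.trans (map_one E.ι).symm))
      have h2 : b = 1 := orderOf_eq_one_iff.1 (Nat.eq_one_of_dvd_coprimes
        ((Nat.coprime_two_right.2 hYodd).pow_right k) (orderOf_dvd_natCard _ hb)
        (orderOf_dvd_of_pow_eq_one h1))
      rcases C2_cases e with rfl | rfl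
      · exact Or.inl (Subtype.ext (by rw [hvb, h2, Prod.mk_one_one, map_one]; rfl))
      · exact Or.inr (Subtype.ext (by rw [hvb, h2]))
    haveI : Nontrivial R := ⟨⟨⟨t, htR⟩, 1, fun h => by
      have h' : t = 1 := congrArg Subtype.val h
      rw [h', orderOf_one] at htord
      norm_num at htord⟩⟩
    haveI := hR.center_nontrivial
    obtain ⟨k, hk⟩ := (hR.to_subgroup (center R)).exists_card_eq
    have hk0 : k ≠ 0 := by
      rintro rfl
      exact (Finite.one_lt_card (α := center R)).ne' (by simpa using hk)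
    obtain ⟨v, hv⟩ := exists_prime_orderOf_dvd_card' (G := center R) 2 (hk ▸ dvd_pow_self 2 hk0)
    set v' : Cg := ((v : R) : Cg) with hv'
    have hvc : ∀ q ∈ R, q * v' = v' * q := fun q hq =>
      congrArg Subtype.val (mem_center_iff.1 v.2 ⟨q, hq⟩)
    rcases key v' ⟨1, by
      have h := congrArg (fun q : center R => ((q : R) : Cg)) (pow_orderOf_eq_one v)
      rw [hv] at h
      simpa using h⟩ (congrArg Subtype.val (hvc t htR).symm) with h | h
    · exfalso
      have h' : v = 1 := Subtype.ext (Subtype.ext h)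
      rw [h', orderOf_one] at hv
      norm_num at hv
    · obtain ⟨j, hj⟩ := hR ⟨x, hx⟩
      rcases key x ⟨j, congrArg Subtype.val hj⟩
        (congrArg Subtype.val (h ▸ hvc x hx)) with h' | h'
      · rw [h']; exact one_mem _
      · rw [h']; exact mem_zpowers t
  let P : Sylow 2 Cg := ⟨zpowers t, IsPGroup.of_card (n := 1) (by
    rw [Nat.card_zpowers, htord, pow_one]), fun {R} hR hle => two_small R hR (hle (mem_zpowers t))⟩
  have hPcases : ∀ x ∈ zpowers t, x = 1 ∨ x = t := by
    intro x hx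
    obtain ⟨j, rfl⟩ := mem_zpowers_iff.1 hx
    have ht2 : t * t = 1 := Subtype.ext E.τ_sq
    rcases Int.even_or_odd' j with ⟨r, rfl | rfl⟩
    · left; rw [_root_.zpow_mul, zpow_two, ht2, _root_.one_zpow]
    · right; rw [zpow_add, _root_.zpow_mul, zpow_two, ht2, _root_.one_zpow, one_mul, zpow_one]
  have hNP : normalizer ((P : Subgroup Cg) : Set Cg) ≤ centralizer ((P : Subgroup Cg) : Set Cg) := by
    intro x hx
    refine mem_centralizer_iff.2 fun q hq => ?_
    rcases hPcases q hq with rfl | rfl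
    · simp
    · rcases hPcases _ ((mem_normalizer_iff.1 hx t).1 (mem_zpowers t)) with h | h
      · exfalso
        rw [conj_eq_one_iff] at h
        rw [h, orderOf_one] at htord
        norm_num at htord
      · exact (mul_inv_eq_iff_eq_mul.1 h).symm
  set O := (MonoidHom.transferSylow P hNP).ker with hO
  have hOodd : Odd (Nat.card O) := by
    rw [← Nat.not_even_iff_odd, even_iff_two_dvd]
    exact MonoidHom.not_dvd_card_ker_transferSylow P hNP
  have hOmem : ∀ x : Cg, Odd (orderOf x) → x ∈ O := by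
    intro x hx
    obtain ⟨k, hk⟩ := P.2 (MonoidHom.transferSylow P hNP x)
    exact MonoidHom.mem_ker.2 (orderOf_eq_one_iff.1 (Nat.eq_one_of_dvd_coprimes
      ((Nat.coprime_two_right.2 hx).pow_right k) (orderOf_map_dvd _ x) (orderOf_dvd_of_pow_eq_one hk)))
  let w' : O := ⟨⟨w, hcent.2 hwg⟩, hOmem _ (by rw [← Subgroup.orderOf_coe]; exact hwodd)⟩
  have hw'l : orderOf w' = l := by rw [← Subgroup.orderOf_coe, ← Subgroup.orderOf_coe]; exact hwl
  -- the Sylow `l`-subgroup of `O`
  obtain ⟨R, hR⟩ := (IsPGroup.of_card (n := 1) (G := zpowers w') (by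
    rw [Nat.card_zpowers, hw'l, pow_one])).exists_le_sylow
  have hwR : w' ∈ (R : Subgroup O) := hR (mem_zpowers w')
  let f : O →* G := Cg.subtype.comp O.subtype
  have hf : Function.Injective f := Cg.subtype_injective.comp O.subtype_injective
  have hfw : f w' = w := rfl
  have hford : ∀ x : O, orderOf (f x) = orderOf x := orderOf_injective f hf
  have hlpow : ∀ x ∈ (R : Subgroup O), ∃ k, f x ^ l ^ k = 1 := fun x hx => by
    obtain ⟨k, hk⟩ := R.2 ⟨x, hx⟩
    exact ⟨k, by rw [← map_pow, show x ^ l ^ k = 1 from congrArg Subtype.val hk, map_one]⟩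
  have hback : ∀ x : G, x * w = w * x → (c⁻¹ * x * c) * z = z * (c⁻¹ * x * c) := fun x hx => by
    calc c⁻¹ * x * c * z = c⁻¹ * (x * (c * z * c⁻¹)) * c := by group
      _ = c⁻¹ * (c * z * c⁻¹ * x) * c := by rw [← hw, hx]
      _ = z * (c⁻¹ * x * c) := by group
  have hordc : ∀ x : G, orderOf (c⁻¹ * x * c) = orderOf x := fun x => by
    have h := MulEquiv.orderOf_eq (MulAut.conj c⁻¹) x
    rwa [MulAut.conj_apply, inv_inv] at h
  have hRZ : ∀ x ∈ (R : Subgroup O), f x * w = w * f x → c⁻¹ * f x * c ∈ E.Zg := fun x hx hxw => by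
    refine mem_Zg_of_cent hy hz hz1 (hback _ hxw) ?_
    rw [hordc]
    obtain ⟨k, hk⟩ := hlpow x hx
    exact (hl30.pow_left k).coprime_dvd_left (orderOf_dvd_of_pow_eq_one hk)
  have hRw : ∀ x ∈ (R : Subgroup O), f x * w = w * f x := by
    intro x hx
    haveI : Nontrivial (R : Subgroup O) := ⟨⟨⟨w', hwR⟩, 1, fun h => hw1 (by
      rw [← hfw, show w' = 1 from congrArg Subtype.val h, map_one])⟩⟩
    haveI := R.2.center_nontrivial
    obtain ⟨k, hk⟩ := (R.2.to_subgroup (center (R : Subgroup O))).exists_card_eq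
    have hk0 : k ≠ 0 := by
      rintro rfl
      exact (Finite.one_lt_card (α := center (R : Subgroup O))).ne' (by simpa using hk)
    obtain ⟨v, hv⟩ := exists_prime_orderOf_dvd_card' (G := center (R : Subgroup O)) l
      (hk ▸ dvd_pow_self l hk0)
    set v' : O := ((v : (R : Subgroup O)) : O) with hv'
    have hvR : v' ∈ (R : Subgroup O) := (v : (R : Subgroup O)).2
    have hvc : ∀ q ∈ (R : Subgroup O), Commute (f q) (f v') := fun q hq => by
      show f q * f v' = f v' * f q
      rw [← map_mul, ← map_mul]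
      exact congrArg f (congrArg Subtype.val (mem_center_iff.1 v.2 ⟨q, hq⟩))
    have hvl : orderOf (f v') = l := by rw [hford, Subgroup.orderOf_coe, Subgroup.orderOf_coe, hv]
    have hvw : f v' * w = w * f v' := hfw ▸ (hvc w' hwR).symm
    have hzv : z ∈ zpowers (c⁻¹ * f v' * c) := mem_zpowers_cyclic E.Zg_cyclic (hRZ v' hvR hvw) hz (by
      rw [hordc, hvl, ← hzl, pow_orderOf_eq_one])
    obtain ⟨j, hj⟩ := mem_zpowers_iff.1 hzv
    have hwv : w = f v' ^ j := by
      rw [hw, ← hj, ← MulAut.conj_apply, map_zpow, MulAut.conj_apply]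
      congr 1
      group
    rw [hwv]
    exact ((hvc x hx).zpow_right j).eq
  have hNR : normalizer ((R : Subgroup O) : Set O) ≤ centralizer ((R : Subgroup O) : Set O) := by
    intro o ho
    have h1 : o * w' * o⁻¹ ∈ (R : Subgroup O) := (mem_normalizer_iff.1 ho w').1 hwR
    have h2 : c⁻¹ * f o * c * z * (c⁻¹ * f o * c)⁻¹ ∈ zpowers z := by
      have e : c⁻¹ * f o * c * z * (c⁻¹ * f o * c)⁻¹ = c⁻¹ * f (o * w' * o⁻¹) * c := by
        rw [map_mul, map_mul, map_inv, hfw, hw]; group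
      refine mem_zpowers_cyclic E.Zg_cyclic hz (e ▸ hRZ _ h1 (hRw _ h1)) ?_
      rw [conj_pow, pow_orderOf_eq_one, mul_one, mul_inv_cancel]
    have hodd : Odd (orderOf (c⁻¹ * f o * c)) := by
      rw [hordc, hford]
      exact hOodd.of_dvd_nat (orderOf_dvd_natCard o)
    have h3 := centralise_of_norm hy hz hz1 hfused hodd h2
    refine mem_centralizer_iff.2 fun v hv => hf ?_
    obtain ⟨k, hk⟩ := hlpow v hv
    have h4 := cent_lpart hy hl (by omega) hz hzl h3 (hRZ v hv (hRw v hv)) (k := k) (by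
      have e : c⁻¹ * f v * c = c⁻¹ * f v * c⁻¹⁻¹ := by rw [inv_inv]
      rw [e, conj_pow, hk, mul_one, mul_inv_cancel])
    rw [map_mul, map_mul]
    calc f v * f o = c * ((c⁻¹ * f v * c) * (c⁻¹ * f o * c)) * c⁻¹ := by group
      _ = c * ((c⁻¹ * f o * c) * (c⁻¹ * f v * c)) * c⁻¹ := by rw [h4]
      _ = f o * f v := by group
  set M := (MonoidHom.transferSylow R hNR).ker with hM
  set Mg := M.map f with hMg
  have hMl : (Nat.card Mg).Coprime l := by
    rw [hMg, card_map_of_injective hf, Nat.coprime_comm, hl.coprime_iff_not_dvd]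
    exact MonoidHom.not_dvd_card_ker_transferSylow R hNR
  have hModd : Odd (Nat.card Mg) := by
    rw [hMg, card_map_of_injective hf]
    exact hOodd.of_dvd_nat (card_subgroup_dvd_card M)
  refine ⟨Mg, fun x => ?_⟩
  constructor
  · intro hx
    have hd := orderOf_dvd_natCard Mg hx
    refine ⟨?_, hModd.of_dvd_nat hd, hMl.coprime_dvd_left hd⟩
    obtain ⟨m, -, rfl⟩ := hx
    exact hcent.1 (m : Cg).2
  · rintro ⟨hxg, hxo, hxl⟩
    refine ⟨⟨⟨x, hcent.2 hxg⟩, hOmem _ (by rw [← Subgroup.orderOf_coe]; exact hxo)⟩, ?_, rfl⟩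
    obtain ⟨k, hk⟩ := R.2 (MonoidHom.transferSylow R hNR
      ⟨⟨x, hcent.2 hxg⟩, hOmem _ (by rw [← Subgroup.orderOf_coe]; exact hxo)⟩)
    refine MonoidHom.mem_ker.2 (orderOf_eq_one_iff.1 (Nat.eq_one_of_dvd_coprimes
      (hxl.pow_right k) ((orderOf_map_dvd _ _).trans ?_) (orderOf_dvd_of_pow_eq_one hk)))
    rw [← Subgroup.orderOf_coe, ← Subgroup.orderOf_coe]

/-- The dihedral group generated by `τ` and an element of odd prime order which it inverts. -/
theorem dihedral_facts (E : Setup G L Q) {w : G} {l : ℕ} (hl : l.Prime) (hl2 : l ≠ 2)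
    (hwl : orderOf w = l) (hinv : E.τ * w * E.τ⁻¹ = w⁻¹) :
    zpowers w ⊓ zpowers E.τ = ⊥ ∧ (∀ e ∈ zpowers E.τ, ∀ q ∈ zpowers w, e * q * e⁻¹ ∈ zpowers w) ∧
      (∀ e ∈ zpowers E.τ, e ≠ 1 → ∀ q ∈ zpowers w, e * q = q * e → q = 1) ∧
      Nat.card ↥(zpowers w ⊔ zpowers E.τ) = l * 2 := by
  have hwodd : Odd (orderOf w) := hwl ▸ hl.odd_of_ne_two hl2
  have hτord : orderOf E.τ = 2 := orderOf_eq_prime (by rw [pow_two]; exact E.τ_sq) E.τ_ne
  set A := zpowers w ⊔ zpowers E.τ with hA
  have hτcases : ∀ e ∈ zpowers E.τ, e = 1 ∨ e = E.τ := by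
    intro e he
    obtain ⟨j, rfl⟩ := mem_zpowers_iff.1 he
    rcases Int.even_or_odd' j with ⟨r, rfl | rfl⟩
    · left; rw [_root_.zpow_mul, zpow_two, E.τ_sq, _root_.one_zpow]
    · right; rw [zpow_add, _root_.zpow_mul, zpow_two, E.τ_sq, _root_.one_zpow, one_mul, zpow_one]
  have hinvW : ∀ q ∈ zpowers w, E.τ * q * E.τ⁻¹ = q⁻¹ := by
    intro q hq
    obtain ⟨j, rfl⟩ := mem_zpowers_iff.1 hq
    rw [← conj_zpow, hinv, _root_.inv_zpow]
  have hUn : ∀ e ∈ zpowers E.τ, ∀ q ∈ zpowers w, e * q * e⁻¹ ∈ zpowers w := by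
    intro e he q hq
    rcases hτcases e he with rfl | rfl
    · simpa using hq
    · rw [hinvW q hq]; exact inv_mem hq
  have hfpf : ∀ e ∈ zpowers E.τ, e ≠ 1 → ∀ q ∈ zpowers w, e * q = q * e → q = 1 := by
    intro e he he1 q hq h
    rcases hτcases e he with rfl | rfl
    · exact absurd rfl he1
    have h1 : q = q⁻¹ := by rw [← hinvW q hq, h, mul_inv_cancel_right]
    refine orderOf_eq_one_iff.1 (Nat.eq_one_of_dvd_coprimes (Nat.coprime_two_right.2 hwodd) ?_
      (orderOf_dvd_of_pow_eq_one (by rw [pow_two]; exact mul_eq_one_iff_eq_inv.2 h1)))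
    have h2 := orderOf_dvd_natCard _ hq
    rwa [Nat.card_zpowers] at h2
  have hinf : zpowers w ⊓ zpowers E.τ = ⊥ := inf_eq_bot_of_coprime (by
    rw [Nat.card_zpowers, Nat.card_zpowers, hτord]
    exact Nat.coprime_two_right.2 hwodd)
  refine ⟨hinf, hUn, hfpf, ?_⟩
  show Nat.card A = l * 2
  refine le_antisymm ?_ (Nat.le_of_dvd Nat.card_pos ?_)
  · have hn : zpowers E.τ ≤ normalizer (zpowers w : Set G) := fun e he => by
      refine mem_normalizer_iff.2 fun q => ⟨hUn e he q, fun hq => ?_⟩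
      have h := hUn e⁻¹ (inv_mem he) _ hq
      simpa [mul_assoc] using h
    rw [← hwl, ← hτord, ← Nat.card_zpowers, ← Nat.card_zpowers, ← Nat.card_prod]
    refine Nat.card_le_card_of_surjective
      (fun q : zpowers w × zpowers E.τ =>
        (⟨(q.1 : G) * q.2, mul_mem (mem_sup_left q.1.2) (mem_sup_right q.2.2)⟩ : A)) ?_
    rintro ⟨x, hx⟩
    rw [hA, ← SetLike.mem_coe, coe_mul_of_right_le_normalizer_left _ _ hn] at hx
    obtain ⟨q, hq, e, he, rfl⟩ := Set.mem_mul.1 hx
    exact ⟨(⟨q, hq⟩, ⟨e, he⟩), rfl⟩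
  · refine Nat.Coprime.mul_dvd_of_dvd_of_dvd ((Nat.coprime_primes hl Nat.prime_two).2 hl2) ?_ ?_
    · rw [← hwl, ← Nat.card_zpowers]; exact card_dvd_of_le le_sup_left
    · rw [← hτord, ← Nat.card_zpowers]; exact card_dvd_of_le le_sup_right

end Setup

end Cfsg.Agent.JanThom
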