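import Cfsg.Agent.Lib.Classical.DicksonTori
import Cfsg.Agent.Lib.Classical.DicksonUnipotent
import Cfsg.Agent.Lib.Classical.ProjLine
import Cfsg.Agent.Lib.Fusion.PSL2Simple

/-!
Tori and the unipotent subgroup of `PSL₂(q)`, `q` odd.
-/

set_option autoImplicit false
set_option linter.unusedSectionVars false
set_option linter.style.haveILetI false

namespace Cfsg.Agent.JanThom

open Matrix PStable Subgroup

variable {F : Type*} [Field F] [Finite F]

local notation "SL2" => Matrix.SpecialLinearGroup (Fin 2) F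
local notation "M2" => Matrix (Fin 2) (Fin 2) F
local notation "L" => Matrix.ProjectiveSpecialLinearGroup (Fin 2) F
local notation "prH" => PSL2Inv.pr (F := F)

theorem two_ne {p : ℕ} [hp : Fact p.Prime] [CharP F p] (hp2 : p ≠ 2) : (2 : F) ≠ 0 := by
  intro h
  have : p ∣ 2 := (CharP.cast_eq_zero_iff F p 2).1 (by exact_mod_cast h)
  exact hp2 ((Nat.prime_dvd_prime_iff_eq hp.out Nat.prime_two).1 this)

theorem two_mul_card_L (hodd : Odd (Nat.card F)) :
    2 * Nat.card L = Nat.card F * (Nat.card F - 1) * (Nat.card F + 1) := by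
  have h1 : 1 < Nat.card F := Finite.one_lt_card
  have h := ProjLine.two_mul_card_psl (F := F)
  rw [show Nat.gcd 2 (Nat.card F - 1) = 2 from Nat.gcd_eq_left (by obtain ⟨r, hr⟩ := hodd; omega)] at h
  refine Nat.eq_of_mul_eq_mul_right (show 0 < Nat.card F - 1 by omega) ?_
  rw [h]
  ring

/-- A semisimple element: the cyclic part, and the normaliser of the cyclic group it generates. -/
theorem exists_torus (p : ℕ) [Fact p.Prime] [CharP F p] (hodd : Odd (Nat.card F)) {g : L} (hg : g ^ p ≠ 1) :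
    ∃ (D R : Subgroup L) (m : ℕ), (2 * m = Nat.card F + 1 ∨ 2 * m = Nat.card F - 1) ∧
      Nat.card D = 2 * m ∧ R ≤ D ∧ Nat.card R = m ∧ IsCyclic R ∧ g ∈ D ∧
      (∀ x : L, x * g * x⁻¹ ∈ zpowers g → x ∈ D) ∧
      ∀ x ∈ D, x ∉ R → x * x = 1 ∧ x ≠ 1 ∧ ∀ r ∈ R, x * r * x⁻¹ = r⁻¹ := by
  obtain ⟨D, m, hm, ⟨e⟩, hD, hN, -⟩ := Dickson.torus_dihedral' p hg
  have hz : Nat.card (Subgroup.center SL2) = 2 := by
    rw [Dickson.card_center]
    exact Nat.gcd_eq_left (by obtain ⟨r, hr⟩ := hodd; omega)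
  rw [hz] at hm
  have hm0 : m ≠ 0 := by
    intro h0
    rw [h0] at hD
    exact Nat.card_pos.ne' (hD.trans (mul_zero 2))
  haveI : NeZero m := ⟨hm0⟩
  let ι : DihedralGroup m →* L := D.subtype.comp e.symm.toMonoidHom
  have hι : Function.Injective ι := D.subtype_injective.comp e.symm.injective
  have hr : ∀ i : ZMod m, DihedralGroup.r i ∈ zpowers (DihedralGroup.r (1 : ZMod m)) := fun i =>
    ⟨(i.val : ℤ), by
      show DihedralGroup.r (1 : ZMod m) ^ (i.val : ℤ) = _
      rw [zpow_natCast, DihedralGroup.r_one_pow, ZMod.natCast_zmod_val]⟩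
  refine ⟨D, (zpowers (DihedralGroup.r (1 : ZMod m))).map ι, m, hm, hD, ?_, ?_, ?_,
    hN g (by rw [mul_inv_cancel_right]; exact mem_zpowers g), hN, ?_⟩
  · rintro _ ⟨x, -, rfl⟩
    exact (e.symm x).2
  · rw [card_map_of_injective hι, Nat.card_zpowers, DihedralGroup.orderOf_r_one]
  · exact isCyclic_of_surjective
      ((zpowers (DihedralGroup.r (1 : ZMod m))).equivMapOfInjective ι hι).toMonoidHom
      ((zpowers (DihedralGroup.r (1 : ZMod m))).equivMapOfInjective ι hι).surjective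
  · intro x hx hxR
    obtain ⟨a, rfl⟩ : ∃ a, ι a = x := ⟨e ⟨x, hx⟩, by simp [ι]⟩
    rcases a with i | i
    · exact absurd (mem_map_of_mem ι (hr i)) hxR
    refine ⟨?_, fun h => ?_, ?_⟩
    · rw [← map_mul, DihedralGroup.sr_mul_self, map_one]
    · exact hxR (h ▸ one_mem _)
    · rintro _ ⟨y, hy, rfl⟩
      obtain ⟨k, rfl⟩ := mem_zpowers_iff.1 hy
      rw [← map_inv, ← map_mul, ← map_mul, ← map_inv]
      congr 1
      have h1 : DihedralGroup.sr i * DihedralGroup.r (1 : ZMod m) * (DihedralGroup.sr i)⁻¹ =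
          (DihedralGroup.r (1 : ZMod m))⁻¹ := by simp
      rw [← conj_zpow, h1, _root_.inv_zpow]

/-- The cyclic part of a semisimple element of order at least three is its centraliser. -/
theorem exists_torus_cent (p : ℕ) [Fact p.Prime] [CharP F p] (hodd : Odd (Nat.card F)) {g : L}
    (hg : g ^ p ≠ 1) (hg2 : g * g ≠ 1) :
    ∃ (R : Subgroup L) (m : ℕ), (2 * m = Nat.card F + 1 ∨ 2 * m = Nat.card F - 1) ∧
      Nat.card R = m ∧ IsCyclic R ∧ g ∈ R ∧ (∀ x : L, x * g = g * x ↔ x ∈ R) ∧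
      (∀ x : L, x * g * x⁻¹ ∈ zpowers g → x ∈ R ∨ (x * x = 1 ∧ x ≠ 1 ∧ ∀ r ∈ R, x * r * x⁻¹ = r⁻¹)) ∧
      Nat.card {a : L // a * a = 1 ∧ a ≠ 1 ∧ a * g * a⁻¹ = g⁻¹} = m := by
  classical
  obtain ⟨D, R, m, hm, hD, hRD, hR, hRc, hgD, hN, hout⟩ := exists_torus p hodd hg
  have hgR : g ∈ R := by
    by_contra h
    exact hg2 (hout g hgD h).1
  have hcomm : ∀ r ∈ R, r * g = g * r := by
    intro r hr
    haveI := hRc
    letI := IsCyclic.commGroup (α := R)
    exact congrArg Subtype.val (mul_comm (⟨r, hr⟩ : R) ⟨g, hgR⟩)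
  have hinv : ∀ x : L, x * g * x⁻¹ = g⁻¹ → x ∈ D ∧ x ∉ R := by
    intro x hx
    refine ⟨hN x (hx ▸ inv_mem (mem_zpowers g)), fun hxR => hg2 ?_⟩
    rw [hcomm x hxR, mul_inv_cancel_right] at hx
    exact mul_eq_one_iff_eq_inv.2 hx
  refine ⟨R, m, hm, hR, hRc, hgR, fun x => ⟨fun hx => ?_, hcomm x⟩, fun x hx => ?_, ?_⟩
  · have hxD : x ∈ D := hN x (by rw [hx, mul_inv_cancel_right]; exact mem_zpowers g)
    by_contra hxR
    have h := (hout x hxD hxR).2.2 g hgR
    rw [hx, mul_inv_cancel_right] at h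
    exact hg2 (mul_eq_one_iff_eq_inv.2 h)
  · by_cases hxR : x ∈ R
    · exact Or.inl hxR
    · exact Or.inr (hout x (hN x hx) hxR)
  · have hc : Nat.card {a : L // a * a = 1 ∧ a ≠ 1 ∧ a * g * a⁻¹ = g⁻¹} =
        Nat.card {a : L // a ∈ (D : Set L) \ (R : Set L)} :=
      Nat.card_congr (Equiv.subtypeEquivRight fun a =>
        ⟨fun h => ⟨(hinv a h.2.2).1, (hinv a h.2.2).2⟩,
          fun h => ⟨(hout a h.1 h.2).1, (hout a h.1 h.2).2.1, (hout a h.1 h.2).2.2 g hgR⟩⟩)
    rw [hc, Nat.card_coe_set_eq ((D : Set L) \ (R : Set L)),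
      Set.ncard_sdiff (fun a ha => hRD ha) (Set.toFinite _), ← Nat.card_coe_set_eq, ← Nat.card_coe_set_eq]
    show Nat.card D - Nat.card R = m
    omega

variable (F) in
/-- The upper unitriangular subgroup. -/
def unip : Subgroup L := (transPart (⊤ : Subgroup SL2)).map prH

theorem mem_unip {x : L} : x ∈ unip F ↔ ∃ a : F, prH (upp a) = x := by
  constructor
  · rintro ⟨_, ⟨a, -, rfl⟩, rfl⟩; exact ⟨a, rfl⟩
  · rintro ⟨a, rfl⟩; exact ⟨upp a, ⟨a, trivial, rfl⟩, rfl⟩

theorem unip_injective {a b : F} (h : prH (upp a) = prH (upp b)) : a = b := by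
  by_contra hne
  have h1 : prH (upp (a + -b)) = 1 := by
    rw [← upp_mul, map_mul, h, ← map_mul, upp_mul, add_neg_cancel, upp_zero, map_one]
  exact not_isSc_upp (by rwa [← sub_eq_add_neg, sub_ne_zero]) (Dickson.pr_eq_one.1 h1)

theorem card_unip : Nat.card (unip F) = Nat.card F :=
  (Nat.card_eq_of_bijective (fun a : F => (⟨prH (upp a), mem_unip.2 ⟨a, rfl⟩⟩ : unip F))
    ⟨fun a b h => unip_injective (congrArg Subtype.val h :),
      fun x => by
        obtain ⟨a, ha⟩ := mem_unip.1 x.2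
        exact ⟨a, Subtype.ext ha⟩⟩).symm

theorem unip_comm : ∀ a ∈ unip F, ∀ b ∈ unip F, a * b = b * a := by
  intro x hx y hy
  obtain ⟨a, rfl⟩ := mem_unip.1 hx
  obtain ⟨b, rfl⟩ := mem_unip.1 hy
  rw [← map_mul, ← map_mul, upp_mul, upp_mul, add_comm]

theorem unip_exp (p : ℕ) [Fact p.Prime] [CharP F p] : ∀ a ∈ unip F, a ^ p = 1 := by
  intro x hx
  obtain ⟨a, rfl⟩ := mem_unip.1 hx
  rw [← map_pow, upp_pow_char, map_one]

variable (F) in
/-- The triangular elements. -/
def bor : Subgroup SL2 := borel (⊤ : Subgroup SL2)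

theorem mem_bor {x : SL2} : x ∈ bor F ↔ (x : M2) 1 0 = 0 := ⟨fun h => h.2, fun h => ⟨trivial, h⟩⟩

theorem pr_conj_upp {x : SL2} (hx : x ∈ bor F) (a : F) :
    prH x * prH (upp a) * (prH x)⁻¹ = prH (upp ((x : M2) 0 0 ^ 2 * a)) := by
  rw [← map_inv, ← map_mul, ← map_mul, borel_conj_upp (H := (⊤ : Subgroup SL2)) hx]

theorem normalizer_unip : Subgroup.normalizer ((unip F : Subgroup L) : Set L) = (bor F).map prH := by
  ext g
  constructor
  · intro hg
    obtain ⟨x, rfl⟩ := PSL2Inv.pr_surjective g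
    refine ⟨x, mem_bor.2 ?_, rfl⟩
    have h := (mem_normalizer_iff.1 hg (prH (upp (1 : F)))).1 (mem_unip.2 ⟨1, rfl⟩)
    obtain ⟨a, ha⟩ := mem_unip.1 h
    rw [← map_inv, ← map_mul, ← map_mul] at ha
    have hd := det_one x
    have key : ∀ c : F, ((x * upp 1 * x⁻¹ : SL2) : M2) 1 0 = c → c = -((x : M2) 1 0) ^ 2 := by
      intro c hc
      rw [← hc, Matrix.SpecialLinearGroup.coe_mul, Matrix.SpecialLinearGroup.coe_mul,
        Matrix.SpecialLinearGroup.coe_inv, Matrix.adjugate_fin_two, upp_val]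
      simp [Matrix.mul_apply, Fin.sum_univ_two]
      ring
    rcases PSL2Inv.pr_eq_iff.1 ha with e | e
    · have := key 0 (by rw [e, upp_val]; simp)
      simpa using this.symm
    · have := key 0 (by rw [e, Matrix.SpecialLinearGroup.coe_mul, SL2Inv.coe_negOne, upp_val]; simp)
      simpa using this.symm
  · rintro ⟨x, hx, rfl⟩
    refine Subgroup.mem_normalizer_fintype fun y hy => ?_
    obtain ⟨a, rfl⟩ := mem_unip.1 hy
    exact mem_unip.2 ⟨_, (pr_conj_upp hx a).symm⟩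

theorem card_bor : Nat.card (bor F) = Nat.card F * (Nat.card F - 1) := by
  rw [← Nat.card_units, mul_comm, ← Nat.card_prod]
  let Y : Fˣ × F → SL2 := fun c =>
    ⟨!![(c.1 : F), c.2; 0, (c.1 : F)⁻¹], by rw [Matrix.det_fin_two_of]; simp⟩
  refine (Nat.card_eq_of_bijective (fun c => (⟨Y c, mem_bor.2 (by simp [Y])⟩ : bor F)) ⟨?_, ?_⟩).symm
  · intro c c' h
    have h' := congrArg (fun y : bor F => ((y : SL2) : M2)) h
    refine Prod.ext (Units.ext ?_) ?_
    · simpa [Y] using congrFun (congrFun h' 0) 0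
    · simpa [Y] using congrFun (congrFun h' 0) 1
  · rintro ⟨x, hx⟩
    have h10 := mem_bor.1 hx
    have hd := det_one x
    rw [h10, mul_zero, sub_zero] at hd
    refine ⟨(Units.mk0 _ (left_ne_zero_of_mul_eq_one hd), (x : M2) 0 1), Subtype.ext (Subtype.ext ?_)⟩
    apply PStable.ext2
    · simp [Y]
    · simp [Y]
    · simp [Y, h10]
    · simp [Y, inv_eq_of_mul_eq_one_right hd]

theorem saturated_bor : Dickson.Saturated (bor F) := by
  rintro x ⟨c, hc⟩
  exact mem_bor.2 (by rw [hc]; simp)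

theorem two_mul_card_normalizer_unip (hodd : Odd (Nat.card F)) :
    2 * Nat.card (Subgroup.normalizer ((unip F : Subgroup L) : Set L)) = Nat.card F * (Nat.card F - 1) := by
  have h := Dickson.card_map (saturated_bor (F := F))
  rw [card_bor, Dickson.card_center,
    Nat.gcd_eq_left (by obtain ⟨r, hr⟩ := hodd; omega : 2 ∣ Nat.card F - 1)] at h
  rw [normalizer_unip, h]

/-- The involutions in the normaliser inverting a nontrivial unipotent element. -/
theorem card_inv_unip (p : ℕ) [Fact p.Prime] [CharP F p] (hp2 : p ≠ 2) {a : F} (ha : a ≠ 0) :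
    2 * Nat.card {g : L // (g * g = 1 ∧ g ≠ 1 ∧ g * prH (upp a) * g⁻¹ = (prH (upp a))⁻¹) ∧
      g ∈ Subgroup.normalizer ((unip F : Subgroup L) : Set L)} =
      Nat.card {c : F // c ^ 2 = -1} * Nat.card F := by
  classical
  haveI := Fintype.ofFinite F
  have h2 := two_ne (F := F) hp2
  set B := {x : SL2 // (x : M2) 1 0 = 0 ∧ (x : M2) 0 0 ^ 2 = -1} with hB
  set I := {g : L // (g * g = 1 ∧ g ≠ 1 ∧ g * prH (upp a) * g⁻¹ = (prH (upp a))⁻¹) ∧
      g ∈ Subgroup.normalizer ((unip F : Subgroup L) : Set L)} with hI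
  have hB' : Nat.card B = Nat.card {c : F // c ^ 2 = -1} * Nat.card F := by
    rw [← Nat.card_prod]
    refine (Nat.card_eq_of_bijective (fun c : {c : F // c ^ 2 = -1} × F =>
      (⟨⟨!![(c.1 : F), c.2; 0, -(c.1 : F)], by
        rw [Matrix.det_fin_two_of]; linear_combination -c.1.2⟩, by simp, by simpa using c.1.2⟩ : B))
      ⟨?_, ?_⟩).symm
    · intro c c' h
      have h' := congrArg (fun y : B => ((y.1 : SL2) : M2)) h
      refine Prod.ext (Subtype.ext ?_) ?_
      · simpa using congrFun (congrFun h' 0) 0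
      · simpa using congrFun (congrFun h' 0) 1
    · rintro ⟨x, h10, h00⟩
      have hd := det_one x
      rw [h10, mul_zero, sub_zero] at hd
      refine ⟨(⟨(x : M2) 0 0, h00⟩, (x : M2) 0 1), Subtype.ext (Subtype.ext ?_)⟩
      apply PStable.ext2
      · simp
      · simp
      · simp [h10]
      · simp only [Matrix.of_apply, Matrix.cons_val_one, Matrix.cons_val_zero, Matrix.cons_val',
          Matrix.cons_val_fin_one]
        linear_combination (x : M2) 0 0 * hd - (x : M2) 1 1 * h00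
  have htr : ∀ x : SL2, (x : M2) 1 0 = 0 → (x : M2) 0 0 ^ 2 = -1 → (x : M2).trace = 0 := by
    intro x h10 h00
    have hd := det_one x
    rw [h10, mul_zero, sub_zero] at hd
    rw [Matrix.trace_fin_two]
    linear_combination (x : M2) 1 1 * h00 - (x : M2) 0 0 * hd
  let f : B → I := fun x => ⟨prH x.1, ⟨PSL2Inv.pr_mul_self (htr _ x.2.1 x.2.2),
    PSL2Inv.pr_ne_one h2 (htr _ x.2.1 x.2.2), by
      rw [pr_conj_upp (mem_bor.2 x.2.1), x.2.2, ← map_inv, upp_inv, neg_one_mul]⟩, by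
      rw [normalizer_unip]; exact ⟨x.1, mem_bor.2 x.2.1, rfl⟩⟩
  have hsurj : Function.Surjective f := by
    rintro ⟨g, ⟨hg2, hg1, hinv⟩, hN⟩
    rw [normalizer_unip] at hN
    obtain ⟨x, hx, rfl⟩ := hN
    rw [pr_conj_upp hx, ← map_inv, upp_inv] at hinv
    have h := unip_injective hinv
    have h00 : (x : M2) 0 0 ^ 2 = -1 := mul_right_cancel₀ ha (by rw [h, neg_one_mul])
    exact ⟨⟨x, mem_bor.1 hx, h00⟩, rfl⟩
  have hfib : ∀ y : I, Nat.card {x : B // f x = y} = 2 := by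
    intro y
    obtain ⟨x, rfl⟩ := hsurj y
    have hneg : ((SL2Inv.negOne * x.1 : SL2) : M2) 1 0 = 0 ∧
        ((SL2Inv.negOne * x.1 : SL2) : M2) 0 0 ^ 2 = -1 := by
      rw [Matrix.SpecialLinearGroup.coe_mul, SL2Inv.coe_negOne]
      simp [x.2.1, x.2.2]
    refine Nat.card_eq_two_iff.2 ⟨⟨x, rfl⟩, ⟨⟨_, hneg⟩, Subtype.ext (by
      show prH (SL2Inv.negOne * x.1) = prH x.1
      rw [map_mul, PSL2Inv.pr_negOne, one_mul])⟩, ?_, ?_⟩
    · intro h
      have h' : x.1 = SL2Inv.negOne * x.1 := congrArg (fun z : {z : B // f z = f x} => z.1.1) h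
      have h00 := congrArg (fun z : SL2 => (z : M2) 0 0) h'
      simp only [Matrix.SpecialLinearGroup.coe_mul, SL2Inv.coe_negOne, Matrix.neg_mul, Matrix.one_mul,
        Matrix.neg_apply] at h00
      have h0 : (x.1 : M2) 0 0 = 0 := by
        have : (2 : F) * (x.1 : M2) 0 0 = 0 := by linear_combination h00
        exact (mul_eq_zero.1 this).resolve_left h2
      have := x.2.2
      rw [h0] at this
      simp at this
    · refine Set.eq_univ_of_forall fun z => ?_
      have hz : prH x.1 = prH z.1.1 := (congrArg Subtype.val z.2).symm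
      rcases PSL2Inv.pr_eq_iff.1 hz with e | e
      · exact Or.inl (Subtype.ext (Subtype.ext e))
      · exact Or.inr (Subtype.ext (Subtype.ext e))
  rw [← hB', Nat.card_congr (Equiv.sigmaFiberEquiv f).symm, Nat.card_sigma]
  rw [Finset.sum_congr rfl fun y _ => hfib y, Finset.sum_const, Finset.card_univ,
    ← Nat.card_eq_fintype_card, smul_eq_mul, mul_comm]

end Cfsg.Agent.JanThom
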