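import Cfsg.Agent.Lib.JanThom.TFam
import Cfsg.Agent.Lib.JanThom.Galois
import Cfsg.Agent.Lib.JanThom.FS
import Cfsg.Agent.Lib.Char.Degree

/-!
Integer and rational forms of the column relations, ready for the case analysis on the rows.
-/

set_option autoImplicit false
set_option linter.unusedSectionVars false
set_option linter.style.haveILetI false

namespace Cfsg.Agent.JanThom

open Cfsg Cfsg.Agent.Char Cfsg.Agent.OddIndexReal
open scoped ComplexConjugate Classical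

universe u v

variable {G : Type u} [Group G] {L : Type v} [Group L] {Q : ℤ}

/-- The degree as an integer. -/
noncomputable def dgi (χ : IrrCharacter G) : ℤ := (charDegree (χ : G → ℂ) : ℤ)

/-- The signed constant `K`. -/
noncomputable def Setup.Kq (_E : Setup G L Q) : ℚ :=
  (eps Q : ℚ) * (2 * (Nat.card L : ℚ)) ^ 2 / (Nat.card G : ℚ)

namespace Setup

variable [Fintype L] [Fintype G] [IsSimpleGroup G] (E : Setup G L Q)

theorem dgi_pos (χ : IrrCharacter G) : 0 < dgi χ := Int.natCast_pos.2 (CharX.irr_deg_pos χ)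

theorem dgi_cast (χ : IrrCharacter G) : (dgi χ : ℂ) = (χ : G → ℂ) 1 := by
  rw [dgi, Int.cast_natCast, CharX.irr_deg]

theorem dgi_principal : dgi (principal G) = 1 := by
  unfold dgi
  show ((charDegree (fun _ : G => (1 : ℂ)) : ℕ) : ℤ) = 1
  rw [CharX.charDegree_one, Nat.cast_one]

theorem tv_principal : E.tv (principal G) = 1 := by
  refine Int.cast_injective (α := ℂ) ?_
  rw [E.tv_cast, Int.cast_one]; rfl

theorem dgi_gal (χ : IrrCharacter G) : dgi (E.gal χ) = dgi χ :=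
  Int.cast_injective (α := ℂ) (by rw [dgi_cast, dgi_cast, E.gal_row.deg])

theorem dgi_cj (χ : IrrCharacter G) : dgi (cjPerm χ) = dgi χ :=
  Int.cast_injective (α := ℂ) (by rw [dgi_cast, dgi_cast, cjPerm_apply, inv_one])

/-- `ε h`, so that `Q + 1 = 4 Hs`. -/
noncomputable def Hs : ℤ := eps Q * E.D.h

theorem Q_eq : Q = 4 * E.Hs - 1 := by
  obtain ⟨he, hQ, hq, -⟩ := E.D.arith
  unfold Hs
  rcases he with e | e <;> rw [e] at hQ hq ⊢ <;> omega

/-- The rational weighted sum. -/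
noncomputable def wq (f : IrrCharacter G → ℤ) : ℚ :=
  ∑ χ, (f χ : ℚ) * ((E.tv χ : ℚ) ^ 2 / (dgi χ : ℚ))

theorem wq_cast (f : IrrCharacter G → ℤ) : ((E.wq f : ℚ) : ℂ) = E.wsum f := by
  unfold wq wsum
  rw [Rat.cast_sum]
  refine Finset.sum_congr rfl fun χ _ => ?_
  push_cast
  rw [E.tv_cast, dgi_cast]

theorem sum_dgi {f : IrrCharacter G → ℤ} (h : dsum f = 0) : ∑ χ, f χ * dgi χ = 0 := by
  refine Int.cast_injective (α := ℂ) ?_
  push_cast
  simp only [dgi_cast]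
  exact h

theorem card_G_ne : (Nat.card G : ℚ) ≠ 0 := Nat.cast_ne_zero.2 Nat.card_pos.ne'

theorem wq_of {f : IrrCharacter G → ℤ} {c x : ℚ} (hc : c ≠ 0)
    (h : E.wsum f * (c : ℂ) * (Nat.card G : ℂ) = cc (L := L) * (x : ℂ)) :
    E.wq f = (2 * (Nat.card L : ℚ)) ^ 2 / (Nat.card G : ℚ) * x / c := by
  have hN := card_G_ne (G := G)
  rw [eq_div_iff hc, div_mul_eq_mul_div, eq_div_iff hN]
  refine Rat.cast_injective (α := ℂ) ?_
  push_cast
  rw [E.wq_cast]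
  exact h

theorem ec_wq : E.wq E.ec = E.Kq * ((Q : ℚ) ^ 2 - 6 * Q + 1) / ((Q : ℚ) + 1) := by
  obtain ⟨he, hQ, hq, -⟩ := E.D.arith
  have hh : (E.D.h : ℚ) ≠ 0 := Nat.cast_ne_zero.2 (by have := E.D.h_three'; omega)
  rw [E.wq_of (c := 4 * (E.D.h : ℚ)) (x := (Q.natAbs : ℚ) ^ 2 - 6 * (eps Q : ℚ) * Q.natAbs + 1)
    (mul_ne_zero four_ne_zero hh) (by push_cast; exact E.ec_wsum)]
  unfold Kq
  have hQ' : (Q : ℚ) = (eps Q : ℚ) * (Q.natAbs : ℚ) := by
    have := congrArg (Int.cast (R := ℚ)) hQ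
    rwa [Int.cast_mul, Int.cast_natCast] at this
  have hq' : (Q.natAbs : ℚ) = 4 * (E.D.h : ℚ) - (eps Q : ℚ) := by
    have := congrArg (Int.cast (R := ℚ)) hq
    rwa [Int.cast_sub, Int.cast_mul, Int.cast_natCast, Int.cast_natCast, Int.cast_ofNat] at this
  have e1 : (Q : ℚ) + 1 = (eps Q : ℚ) * (4 * (E.D.h : ℚ)) := by
    rw [hQ', hq']; rcases he with e | e <;> rw [e] <;> norm_num <;> ring
  rw [e1, hQ']
  rcases he with e | e <;> rw [e] <;> push_cast <;> ring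

theorem bc_wq : E.wq E.bc = E.Kq * ((Q : ℚ) - 1) := by
  obtain ⟨he, hQ, -, -⟩ := E.D.arith
  rw [E.wq_of (c := 1) (x := (Q.natAbs : ℚ) - (eps Q : ℚ)) one_ne_zero
    (by push_cast; rw [mul_one]; exact E.bc_wsum)]
  unfold Kq
  have hQ' : (Q : ℚ) = (eps Q : ℚ) * (Q.natAbs : ℚ) := by
    have := congrArg (Int.cast (R := ℚ)) hQ
    rwa [Int.cast_mul, Int.cast_natCast] at this
  rw [hQ']
  rcases he with e | e <;> rw [e] <;> push_cast <;> ring

/-- The shifted difference column `gk + b`. -/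
noncomputable def cv (mu : E.D.Zk →* ℂˣ) (χ : IrrCharacter G) : ℤ := E.gk mu χ + E.bc χ

theorem cv_facts {mu : E.D.Zk →* ℂˣ} (hmu : mu ≠ 1) :
    (∑ χ, E.cv mu χ * E.cv mu χ = 2) ∧ E.cv mu (principal G) = 0 ∧
    (∀ χ, E.cv mu (E.gal χ) = E.cv mu χ) ∧ (∑ χ, E.cv mu χ * E.ec χ = 0) ∧
    (∑ χ, E.cv mu χ * E.bc χ = 0) ∧ (∑ χ, E.cv mu χ * dgi χ = 0) ∧ E.wq (E.cv mu) = 0 := by
  obtain ⟨g1, g2, g3, -⟩ := E.gram_gk hmu
  obtain ⟨-, cb, -, -, -, cgk⟩ := E.cols_principal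
  have gbe : ∑ χ, E.bc χ * E.ec χ = 0 := by
    rw [← E.gram_ec_bc]; exact Finset.sum_congr rfl fun χ _ => mul_comm _ _
  obtain ⟨-, db, -, -, dgk⟩ := E.cols_deg
  refine ⟨?_, ?_, fun χ => ?_, ?_, ?_, ?_, ?_⟩
  · have : ∀ χ, E.cv mu χ * E.cv mu χ =
        E.gk mu χ * E.gk mu χ + 2 * (E.gk mu χ * E.bc χ) + E.bc χ * E.bc χ := fun χ => by unfold cv; ring
    simp only [this, Finset.sum_add_distrib, ← Finset.mul_sum, g1, g2, E.gram_bc]
    norm_num
  · unfold cv; rw [cgk mu hmu, cb]; norm_num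
  · unfold cv; rw [E.gal_row.gk, E.gal_row.b]
  · simp only [cv, add_mul, Finset.sum_add_distrib, g3, gbe]; norm_num
  · simp only [cv, add_mul, Finset.sum_add_distrib, g2, E.gram_bc]; norm_num
  · simp only [cv, add_mul, Finset.sum_add_distrib, sum_dgi (dgk mu), sum_dgi db]; norm_num
  · refine Rat.cast_injective (α := ℂ) ?_
    rw [E.wq_cast, Rat.cast_zero]
    have e : E.wsum (E.cv mu) = E.wsum (E.gk mu) + E.wsum E.bc := E.wsum_add _ _
    refine (mul_left_inj' (Nat.cast_ne_zero.2 (Nat.card_pos (α := G)).ne' : (Nat.card G : ℂ) ≠ 0)).1 ?_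
    obtain ⟨hq, hk, -⟩ := E.arith_C
    rw [e, add_mul, E.gk_wsum hmu, E.bc_wsum, hq, hk]
    ring

/-- The sum of the shifted columns. -/
noncomputable def Ysum (χ : IrrCharacter G) : ℤ :=
  ∑ mu ∈ Finset.univ.erase (1 : E.D.Zk →* ℂˣ), E.cv mu χ

theorem tv_of_gh {χ : IrrCharacter G} (hg : ∀ l, l ≠ 1 → E.gh l χ = -E.ec χ) :
    E.tv χ = E.ec χ + 2 * E.Hs * (E.bc χ - E.ec χ + E.Ysum χ) := by
  have ch : ((Finset.univ.erase (1 : E.D.Zh →* ℂˣ)).card : ℤ) = (E.D.h : ℤ) - 1 := by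
    rw [Finset.cast_card_erase_of_mem (Finset.mem_univ _), Finset.card_univ, ← Nat.card_eq_fintype_card,
      card_dual E.D.Zh E.D.Zh_comm, E.D.card_Zh]
  have ck : ((Finset.univ.erase (1 : E.D.Zk →* ℂˣ)).card : ℤ) = (E.D.k : ℤ) - 1 := by
    rw [Finset.cast_card_erase_of_mem (Finset.mem_univ _), Finset.card_univ, ← Nat.card_eq_fintype_card,
      card_dual E.D.Zk E.D.Zk_comm, E.D.card_Zk]
  have s1 : ∑ l : E.D.Zh →* ℂˣ, E.gh l χ = -(((E.D.h : ℤ) - 1) * E.ec χ) := by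
    rw [← Finset.add_sum_erase _ _ (Finset.mem_univ 1), E.gh_one, zero_add,
      Finset.sum_congr rfl fun l hl => hg l (Finset.ne_of_mem_erase hl), Finset.sum_const,
      nsmul_eq_mul, ch]
    ring
  have s2 : ∑ mu : E.D.Zk →* ℂˣ, E.gk mu χ = E.Ysum χ - ((E.D.k : ℤ) - 1) * E.bc χ := by
    rw [← Finset.add_sum_erase _ _ (Finset.mem_univ 1), E.gk_one, zero_add]
    unfold Ysum cv
    rw [Finset.sum_add_distrib, Finset.sum_const, nsmul_eq_mul, ck]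
    ring
  have hr := E.rho_eq χ
  rw [s1, s2] at hr
  have ht := E.tv_h χ
  rw [s1] at ht
  have hh : E.zh 1 χ = E.ec χ + 2 * E.rho χ := by unfold ec; ring
  rw [hh] at ht
  unfold Hs
  rcases E.D.arith.1 with e | e <;> rw [e] at hr ⊢
  · linear_combination ht + (2 * (E.D.h : ℤ)) * hr
  · linear_combination ht - (2 * (E.D.h : ℤ)) * hr

end Setup

namespace Setup.TFam

variable [Fintype L] [Fintype G] [IsSimpleGroup G] {E : Setup G L Q} (T : E.TFam)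

include T

theorem h_seven : 7 ≤ E.D.h := by
  have h1 := T.h_mod
  have h2 := E.D.h_three'
  omega

theorem Q_large' : 27 ≤ |Q| := by
  have h1 := T.h_seven
  have h2 := E.D.h_eq
  rcases abs_cases Q with ⟨e, e'⟩ | ⟨e, e'⟩ <;> omega

theorem gal_inv (l : E.D.Zh →* ℂˣ) (χ : IrrCharacter G) :
    T.a0 l (E.gal χ) = T.a0 l χ ∧ T.a1 l (E.gal χ) = T.a1 l χ := by
  refine T.galois E.gexp ?_ χ (E.gal χ) (E.gal_apply χ) l
  obtain ⟨-, hodd, hm, -⟩ := E.gexp_spec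
  have h := hm E.D.h (E.D.card_Zh ▸ E.card_dvd_G _) E.not_p_dvd.1
  rw [Nat.one_mod_eq_one.2 (by have := T.h_seven; omega)] at h
  obtain ⟨r, hr⟩ := hodd
  obtain ⟨w, hw⟩ : ∃ w, E.gexp = E.D.h * w + 1 := ⟨E.gexp / E.D.h, by
    have := Nat.div_add_mod E.gexp E.D.h; omega⟩
  obtain ⟨w', hw'⟩ : 2 ∣ w :=
    (Nat.coprime_two_left.2 E.D.h_odd').dvd_of_dvd_mul_left ⟨r, by omega⟩
  rw [hw, hw', ← mul_assoc, mul_comm E.D.h 2, Nat.mul_add_mod, Nat.one_mod_eq_one]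
  have := T.h_seven; omega

theorem cj_inv (l : E.D.Zh →* ℂˣ) (χ : IrrCharacter G) :
    T.a0 l (cjPerm χ) = T.a0 l χ ∧ T.a1 l (cjPerm χ) = T.a1 l χ :=
  T.conj χ (cjPerm χ) (cjPerm_apply χ) l

theorem a0_wq {l : E.D.Zh →* ℂˣ} (hl : l ≠ 1) : E.wq (T.a0 l) = E.Kq * ((Q : ℚ) + 1) := by
  have h := (T.wsum0 l hl).1
  rw [E.wq_of (c := 1) (x := 4 * (E.D.h : ℚ)) one_ne_zero (by push_cast; rw [mul_one]; exact h)]
  unfold Setup.Kq
  have hQ : (Q : ℚ) + 1 = (eps Q : ℚ) * (4 * (E.D.h : ℚ)) := by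
    have h4 := E.Q_eq
    unfold Setup.Hs at h4
    have := congrArg (Int.cast (R := ℚ)) h4
    push_cast at this
    rw [this]; ring
  rw [hQ]
  rcases E.D.arith.1 with e | e <;> rw [e] <;> push_cast <;> ring

theorem a1_wq {l : E.D.Zh →* ℂˣ} (hl : l ≠ 1) : E.wq (T.a1 l) = 0 := by
  refine Rat.cast_injective (α := ℂ) ?_
  rw [E.wq_cast, Rat.cast_zero]; exact (T.wsum0 l hl).2

/-- Three non-trivial characters in different classes modulo inversion. -/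
theorem exists_third (l m : E.D.Zh →* ℂˣ) :
    ∃ n : E.D.Zh →* ℂˣ, n ≠ 1 ∧ n ≠ l ∧ n⁻¹ ≠ l ∧ n ≠ m ∧ n⁻¹ ≠ m := by
  obtain ⟨n, -, hn⟩ := Finset.exists_mem_notMem_of_card_lt_card
    (show ({1, l, l⁻¹, m, m⁻¹} : Finset (E.D.Zh →* ℂˣ)).card < Finset.univ.card from
      lt_of_le_of_lt Finset.card_le_five (by
        rw [Finset.card_univ, ← Nat.card_eq_fintype_card, card_dual E.D.Zh E.D.Zh_comm, E.D.card_Zh]
        have := T.h_seven; omega))
  simp only [Finset.mem_insert, Finset.mem_singleton, not_or] at hn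
  exact ⟨n, hn.1, hn.2.1, fun h => hn.2.2.1 (by rw [← h, Setup.inv_inv']), hn.2.2.2.1,
    fun h => hn.2.2.2.2 (by rw [← h, Setup.inv_inv'])⟩

theorem card_erase : ((Finset.univ.erase (1 : E.D.Zh →* ℂˣ)).card : ℤ) = (E.D.h : ℤ) - 1 := by
  rw [Finset.cast_card_erase_of_mem (Finset.mem_univ _), Finset.card_univ, ← Nat.card_eq_fintype_card,
    card_dual E.D.Zh E.D.Zh_comm, E.D.card_Zh]

theorem congr_const {χ : IrrCharacter G} {x y : ℤ} (h0 : ∀ l, l ≠ 1 → T.a0 l χ = x)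
    (h1 : ∀ l, l ≠ 1 → T.a1 l χ = y) :
    (4 * (E.D.h : ℤ)) ∣ dgi χ + 3 * E.tv χ - 4 * x ∧ (4 * (E.D.h : ℤ)) ∣ dgi χ - E.tv χ - 4 * y := by
  have key : ∀ (f : (E.D.Zh →* ℂˣ) → IrrCharacter G → ℤ) (z : ℤ), f 1 χ = 0 →
      (∀ l, l ≠ 1 → f l χ = z) → ∑ l, f l χ = ((E.D.h : ℤ) - 1) * z := fun f z hf hz => by
    rw [← Finset.add_sum_erase _ _ (Finset.mem_univ 1), hf, zero_add,
      Finset.sum_congr rfl fun l hl => hz l (Finset.ne_of_mem_erase hl), Finset.sum_const,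
      nsmul_eq_mul, T.card_erase]
  obtain ⟨c0, hc0⟩ := T.congr0 χ
  obtain ⟨c1, hc1⟩ := T.congr1 χ
  rw [key T.a0 x (T.at_one χ).1 h0] at hc0
  rw [key T.a1 y (T.at_one χ).2 h1] at hc1
  unfold dgi
  exact ⟨⟨c0 - x, by linear_combination hc0⟩, ⟨c1 - y, by linear_combination hc1⟩⟩

end Setup.TFam

namespace Setup

variable [Fintype L] [Fintype G] [IsSimpleGroup G] (E : Setup G L Q)

/-- The order of `G` against `K`. -/
theorem order_facts :
    ((Nat.card G : ℕ) : ℚ) * |E.Kq| = (Q : ℚ) ^ 2 * ((Q : ℚ) ^ 2 - 1) ^ 2 ∧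
      |Q| * (Q ^ 2 - 1) ∣ ((Nat.card G : ℕ) : ℤ) ∧ 0 < E.Kq * Q := by
  obtain ⟨he, hQ, -, -⟩ := E.D.arith
  have hq := E.D.Q_large
  have hL : (2 * Nat.card L : ℤ) = |Q| * (Q ^ 2 - 1) := by
    have h := E.D.card_L
    have h1 : 1 ≤ Q.natAbs ^ 2 := Nat.one_le_pow _ _ (by omega)
    rw [← Int.natCast_natAbs, ← Int.natAbs_sq Q]
    generalize Q.natAbs = q at h h1 ⊢
    have := congrArg (Nat.cast (R := ℤ)) h
    push_cast [Nat.cast_sub h1] at this
    exact this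
  have hLq : 2 * (Nat.card L : ℚ) = |(Q : ℚ)| * ((Q : ℚ) ^ 2 - 1) := by
    have := congrArg (Int.cast (R := ℚ)) hL
    push_cast at this
    exact this
  have hN := card_G_ne (G := G)
  have habs : |(eps Q : ℚ)| = 1 := by rcases he with e | e <;> rw [e] <;> norm_num
  refine ⟨?_, ?_, ?_⟩
  · unfold Kq
    rw [abs_div, abs_mul, habs, one_mul, abs_pow, abs_of_nonneg (show (0 : ℚ) ≤ 2 * Nat.card L by positivity),
      Nat.abs_cast, mul_div_cancel₀ _ hN, hLq, mul_pow, sq_abs]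
  · rw [← hL]
    have h : Nat.card (C2 × L) ∣ Nat.card G :=
      Subgroup.card_dvd_of_injective E.ι E.inj
    rw [Nat.card_prod, card_C2] at h
    exact_mod_cast h
  · unfold Kq
    have hL0 : (0 : ℚ) < Nat.card L := Nat.cast_pos.2 Nat.card_pos
    have : (0 : ℚ) < (eps Q : ℚ) * Q := by
      have h0 : 0 < eps Q * Q := by unfold eps; split_ifs <;> omega
      exact_mod_cast h0
    rw [div_mul_eq_mul_div]
    refine div_pos ?_ (Nat.cast_pos.2 Nat.card_pos)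
    rw [mul_right_comm]
    positivity

end Setup

end Cfsg.Agent.JanThom
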