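import Cfsg.Agent.Lib.JanThom.RowsBase
import Cfsg.Agent.Lib.JanThom.ArithFour

/-!
The shape with a row `e = ±2` does not occur.
-/

set_option autoImplicit false
set_option linter.unusedSectionVars false
set_option linter.style.haveILetI false

namespace Cfsg.Agent.JanThom

open scoped Classical

/-- Three two-element sets meeting pairwise once and meeting a fourth once share an element of it. -/
theorem common_of_pairs {X : Type*} [DecidableEq X] {U₁ U₂ U₃ T : Finset X} (c1 : U₁.card = 2) (c2 : U₂.card = 2)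
    (c3 : U₃.card = 2) (cT : T.card = 2) (h12 : (U₁ ∩ U₂).card = 1) (h13 : (U₁ ∩ U₃).card = 1)
    (h23 : (U₂ ∩ U₃).card = 1) (t1 : (U₁ ∩ T).card = 1) (t2 : (U₂ ∩ T).card = 1)
    (t3 : (U₃ ∩ T).card = 1) {G : X} (hG1 : G ∈ U₁) (hG2 : G ∈ U₂) : G ∈ U₃ ∧ G ∈ T := by
  have split : ∀ {U : Finset X}, U.card = 2 → G ∈ U → ∃ a, a ≠ G ∧ U = {G, a} := fun {U} hc hm => by
    obtain ⟨a, ha⟩ := Finset.card_eq_one.1
      (show (U.erase G).card = 1 by rw [Finset.card_erase_of_mem hm, hc])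
    have : a ∈ U.erase G := by rw [ha]; simp
    exact ⟨a, (Finset.mem_erase.1 this).1, by rw [← Finset.insert_erase hm, ha]⟩
  have two : ∀ {U V : Finset X}, (U ∩ V).card = 1 → ∀ {u w}, u ∈ U → u ∈ V → w ∈ U → w ∈ V → u = w :=
    fun {U V} hc {u w} h1 h2 h3 h4 =>
      Finset.card_le_one.1 hc.le u (Finset.mem_inter.2 ⟨h1, h2⟩) w (Finset.mem_inter.2 ⟨h3, h4⟩)
  have meets : ∀ {U V : Finset X}, (U ∩ V).card = 1 → ∀ {u w}, U = {u, w} → u ∈ V ∨ w ∈ V := by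
    intro U V hc u w hU
    obtain ⟨z, hz⟩ := Finset.card_eq_one.1 hc
    have hzm : z ∈ U ∩ V := by rw [hz]; simp
    obtain ⟨h1, h2⟩ := Finset.mem_inter.1 hzm
    rw [hU] at h1
    simp only [Finset.mem_insert, Finset.mem_singleton] at h1
    rcases h1 with rfl | rfl
    exacts [Or.inl h2, Or.inr h2]
  obtain ⟨a, haG, hU1⟩ := split c1 hG1
  obtain ⟨b, hbG, hU2⟩ := split c2 hG2
  have haU : a ∈ U₁ := by rw [hU1]; simp
  have hbU : b ∈ U₂ := by rw [hU2]; simp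
  have hab : a ≠ b := fun e => haG (two h12 haU (e ▸ hbU) hG1 hG2)
  have hG3 : G ∈ U₃ := by
    by_contra h
    have ha3 : a ∈ U₃ := (meets h13 hU1).resolve_left h
    have hb3 : b ∈ U₃ := (meets h23 hU2).resolve_left h
    have hU3 : U₃ = {a, b} := (Finset.eq_of_subset_of_card_le (by
      intro i hi
      simp only [Finset.mem_insert, Finset.mem_singleton] at hi
      rcases hi with rfl | rfl <;> assumption) (by rw [c3, Finset.card_pair hab])).symm
    by_cases hT : G ∈ T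
    · rcases meets t3 hU3 with h' | h'
      · exact haG (two t1 haU h' hG1 hT)
      · exact hbG (two t2 hbU h' hG2 hT)
    · exact hab (two t3 ha3 ((meets t1 hU1).resolve_left hT) hb3 ((meets t2 hU2).resolve_left hT))
  refine ⟨hG3, ?_⟩
  by_contra hT
  obtain ⟨e, heG, hU3⟩ := split c3 hG3
  have heU : e ∈ U₃ := by rw [hU3]; simp
  have hae : a ≠ e := fun he => haG (two h13 haU (he ▸ heU) hG1 hG3)
  have hbe : b ≠ e := fun he => hbG (two h23 hbU (he ▸ heU) hG2 hG3)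
  have hsub : ({a, b, e} : Finset X) ⊆ T := by
    intro i hi
    simp only [Finset.mem_insert, Finset.mem_singleton] at hi
    rcases hi with rfl | rfl | rfl
    exacts [(meets t1 hU1).resolve_left hT, (meets t2 hU2).resolve_left hT, (meets t3 hU3).resolve_left hT]
  have := Finset.card_le_card hsub
  rw [cT, Finset.card_insert_of_notMem (by simp [hab, hae]), Finset.card_pair hbe] at this
  omega

/-- A signed sum over at most two units equal to one has a single term. -/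
theorem one_term {X : Type*} [DecidableEq X] {f g : X → ℤ} {U V : Finset X} {s : Finset X}
    (hU : ∀ i ∈ s, f i ≠ 0 → i ∈ U) (hV : ∀ i ∈ s, g i ≠ 0 → i ∈ V) (hUs : U ⊆ s)
    (hf : ∀ i, f i = 0 ∨ f i = 1 ∨ f i = -1) (hg : ∀ i, g i = 0 ∨ g i = 1 ∨ g i = -1)
    (hfU : ∀ i ∈ U, f i ≠ 0) (hgV : ∀ i ∈ V, g i ≠ 0) (hc : U.card = 2)
    (hsum : ∑ i ∈ s, f i * g i = 1) :
    (U ∩ V).card = 1 ∧ ∀ i ∈ U ∩ V, f i * g i = 1 := by
  have h1 : ∑ i ∈ s, f i * g i = ∑ i ∈ U ∩ V, f i * g i := by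
    refine (Finset.sum_subset (Finset.inter_subset_left.trans hUs) fun i hi hn => ?_).symm
    by_contra h
    exact hn (Finset.mem_inter.2 ⟨hU i hi (left_ne_zero_of_mul h), hV i hi (right_ne_zero_of_mul h)⟩)
  rw [h1] at hsum
  have hle : (U ∩ V).card ≤ 2 := hc ▸ Finset.card_le_card Finset.inter_subset_left
  have hval : ∀ i ∈ U ∩ V, f i * g i = 1 ∨ f i * g i = -1 := fun i hi =>
    Cols.unit_mul_cases (hf i) (hg i) (hfU i (Finset.mem_inter.1 hi).1) (hgV i (Finset.mem_inter.1 hi).2)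
  interval_cases hn : (U ∩ V).card
  · rw [Finset.card_eq_zero.1 hn, Finset.sum_empty] at hsum; omega
  · obtain ⟨a, ha⟩ := Finset.card_eq_one.1 hn
    refine ⟨rfl, fun i hi => ?_⟩
    rw [ha, Finset.sum_singleton] at hsum
    rw [ha, Finset.mem_singleton] at hi
    rw [hi]; exact hsum
  · obtain ⟨a, b, hab, he⟩ := Finset.card_eq_two.1 hn
    have ha := hval a (by rw [he]; simp)
    have hb := hval b (by rw [he]; simp)
    rw [he, Finset.sum_pair hab] at hsum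
    omega

namespace Cols.Four

variable {X : Type*} [Fintype X] {c : Cols X} (F : c.Four)

/-- The seven named rows. -/
noncomputable def named : Finset X := {c.o, F.P, F.X₀, F.D, c.τ F.D, F.R, c.τ F.R}

theorem facts : c.e F.R = 0 ∧ c.e (c.τ F.R) = 0 ∧ (c.b F.P = 1 ∨ c.b F.P = -1) ∧
    (c.e F.P = 1 ∨ c.e F.P = -1) ∧ c.b F.P = -c.e F.P ∧ (c.e F.D = 1 ∨ c.e F.D = -1) ∧
    (c.b F.R = 1 ∨ c.b F.R = -1) := by
  obtain ⟨-, hwP, hbD, hbR, hwR, hwD⟩ := F.ne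
  obtain ⟨hbX, hwX, -⟩ := F.X_zero
  have heR : c.e F.R = 0 := by
    by_contra h
    rcases (F.e_ne _).1 h with e | e | e | e | e
    · rw [e, c.o_w] at hwR; exact hwR rfl
    · rw [e, hwP] at hwR; exact hwR rfl
    · rw [e, hwX] at hwR; exact hwR rfl
    · rw [e, hbD] at hbR; exact hbR rfl
    · rw [e, c.τb, hbD] at hbR; exact hbR rfl
  have hP := F.eb_P
  have hPv : (c.b F.P = 1 ∨ c.b F.P = -1) ∧ (c.e F.P = 1 ∨ c.e F.P = -1) ∧ c.b F.P = -c.e F.P := by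
    rcases c.abs_b F.P with h | h | h <;> rw [h] at hP ⊢ <;> omega
  have heD : c.e F.D = 1 ∨ c.e F.D = -1 := by
    have h0 : c.e F.D ≠ 0 := (F.e_ne _).2 (Or.inr (Or.inr (Or.inr (Or.inl rfl))))
    have h2 : ¬ (c.e F.D = 2 ∨ c.e F.D = -2) := fun h => by
      rw [c.e_two_unique h F.e_X, hwX] at hwD; exact hwD rfl
    have := c.abs_e F.D
    omega
  refine ⟨heR, by rw [c.τe, heR], hPv.1, hPv.2.1, hPv.2.2, heD, ?_⟩
  rcases c.abs_b F.R with h | h | h
  exacts [absurd h hbR, Or.inl h, Or.inr h]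

theorem distinct : [c.o, F.P, F.X₀, F.D, c.τ F.D, F.R, c.τ F.R].Nodup := by
  obtain ⟨noP, hwP, hbD, hbR, hwR, hwD⟩ := F.ne
  obtain ⟨hbX, hwX, -⟩ := F.X_zero
  obtain ⟨heR, -, hbP, -⟩ := F.facts
  have hX2 := F.e_X
  have nX : ∀ i, c.b i ≠ 0 ∨ c.w i ≠ 0 → F.X₀ ≠ i := fun i h e => by
    subst e; exact h.elim (absurd hbX) (absurd hwX)
  have nw : ∀ i j, c.w i = 0 → c.w j ≠ 0 → i ≠ j := fun i j hi hj e => hj (e ▸ hi)
  have hτD : c.w (c.τ F.D) ≠ 0 := by rw [c.τw]; exact neg_ne_zero.2 hwD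
  have hτR : c.w (c.τ F.R) ≠ 0 := by rw [c.τw]; exact neg_ne_zero.2 hwR
  have hτDb : c.b (c.τ F.D) = 0 := by rw [c.τb, hbD]
  have hτRb : c.b (c.τ F.R) ≠ 0 := by rw [c.τb]; exact hbR
  have hPb : c.b F.P ≠ 0 := by omega
  have nb : ∀ i j, c.b i = 0 → c.b j ≠ 0 → i ≠ j := fun i j hi hj e => hj (e ▸ hi)
  simp only [List.nodup_cons, List.mem_cons, List.not_mem_nil, List.nodup_nil, or_false, not_or,
    not_false_eq_true, and_true]
  exact ⟨⟨noP, Ne.symm (nX _ (Or.inl (by rw [c.o_b]; norm_num))), nw _ _ c.o_w hwD, nw _ _ c.o_w hτD,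
      nw _ _ c.o_w hwR, nw _ _ c.o_w hτR⟩,
    ⟨Ne.symm (nX _ (Or.inl hPb)), nw _ _ hwP hwD, nw _ _ hwP hτD, nw _ _ hwP hwR, nw _ _ hwP hτR⟩,
    ⟨nX _ (Or.inr hwD), nX _ (Or.inr hτD), nX _ (Or.inr hwR), nX _ (Or.inr hτR)⟩,
    ⟨(c.τ_ne hwD).symm, nb _ _ hbD hbR, nb _ _ hbD hτRb⟩,
    ⟨nb _ _ hτDb hbR, nb _ _ hτDb hτRb⟩,
    (c.τ_ne hwR).symm⟩

/-- The other rows. -/
noncomputable def rest : Finset X := Finset.univ \ F.named

theorem mem_rest {i : X} : i ∈ F.rest ↔ i ∉ F.named := by simp [rest]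

theorem sum_split {M : Type*} [AddCommMonoid M] (f : X → M) : ∑ i, f i =
    f c.o + f F.P + f F.X₀ + f F.D + f (c.τ F.D) + f F.R + f (c.τ F.R) + ∑ i ∈ F.rest, f i := by
  rw [← Finset.sum_add_sum_compl F.named, Finset.compl_eq_univ_sdiff]
  congr 1
  have h := List.sum_toFinset f F.distinct
  simp only [List.toFinset_cons, List.toFinset_nil, List.map_cons, List.map_nil, List.sum_cons,
    List.sum_nil, add_zero, insert_empty_eq] at h
  rw [named, h]
  abel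

theorem rest_zero {i : X} (hi : i ∉ F.named) : c.e i = 0 ∧ c.b i = 0 ∧ c.w i = 0 := by
  simp only [named, Finset.mem_insert, Finset.mem_singleton, not_or] at hi
  obtain ⟨h1, h2, h3, h4, h5, h6, h7⟩ := hi
  refine ⟨?_, ?_, ?_⟩
  · by_contra h
    rcases (F.e_ne i).1 h with e | e | e | e | e
    exacts [h1 e, h2 e, h3 e, h4 e, h5 e]
  · by_contra h
    have hm := c.mem_bS.2 h
    rw [F.bS_eq] at hm
    simp only [Finset.mem_insert, Finset.mem_singleton] at hm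
    rcases hm with e | e | e | e
    exacts [h1 e, h2 e, h6 e, h7 e]
  · by_contra h
    have hm := c.mem_wS.2 h
    rw [F.wS_eq] at hm
    simp only [Finset.mem_insert, Finset.mem_singleton] at hm
    rcases hm with e | e | e | e
    exacts [h6 e, h7 e, h4 e, h5 e]

theorem sum_eb (f : X → ℤ) :
    (∑ i, f i * c.e i = f c.o + f F.P * c.e F.P + f F.X₀ * c.e F.X₀ +
      (f F.D + f (c.τ F.D)) * c.e F.D) ∧
    (∑ i, f i * c.b i = f c.o + f F.P * c.b F.P + (f F.R + f (c.τ F.R)) * c.b F.R) := by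
  obtain ⟨heR, heR', -⟩ := F.facts
  obtain ⟨hbX, -, -⟩ := F.X_zero
  obtain ⟨-, -, hbD, -⟩ := F.ne
  constructor
  · rw [F.sum_split, Finset.sum_eq_zero fun i hi => by
      rw [(F.rest_zero (F.mem_rest.1 hi)).1, mul_zero], heR, heR', c.τe, c.o_e]
    ring
  · rw [F.sum_split, Finset.sum_eq_zero fun i hi => by
      rw [(F.rest_zero (F.mem_rest.1 hi)).2.1, mul_zero], hbX, c.τb, c.τb, hbD, c.o_b]
    ring

/-- The possible values of a vector of norm seven. -/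
theorem seven {a : X → ℤ} (h7 : ∑ i, a i * a i = 7) (ho : a c.o = 1) (hτ : ∀ i, a (c.τ i) = a i)
    (he : ∑ i, a i * c.e i = 6) (hb : ∑ i, a i * c.b i = 0) :
    a F.P = c.e F.P ∧ a F.R = 0 ∧ a (c.τ F.R) = 0 ∧
      ((2 * a F.X₀ = c.e F.X₀ ∧ a F.D = c.e F.D ∧
        ∑ i ∈ F.rest, a i * a i = 2) ∨
       (a F.X₀ = c.e F.X₀ ∧ a F.D = 0 ∧ ∑ i ∈ F.rest, a i * a i = 1)) := by
  rw [(F.sum_eb a).1, ho, hτ] at he
  rw [(F.sum_eb a).2, ho, hτ] at hb
  rw [F.sum_split, ho, hτ, hτ] at h7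
  obtain ⟨-, -, -, hP, hPb, hD, hR⟩ := F.facts
  have hrest : 0 ≤ ∑ i ∈ F.rest, a i * a i :=
    Finset.sum_nonneg fun i _ => mul_self_nonneg _
  obtain ⟨p, hp⟩ : ∃ p, a F.P = c.e F.P * p := ⟨c.e F.P * a F.P, by rcases hP with h | h <;> rw [h] <;> ring⟩
  obtain ⟨t, ht⟩ : ∃ t, a F.D = c.e F.D * t := ⟨c.e F.D * a F.D, by rcases hD with h | h <;> rw [h] <;> ring⟩
  obtain ⟨r, hr⟩ : ∃ r, a F.R = c.b F.R * r := ⟨c.b F.R * a F.R, by rcases hR with h | h <;> rw [h] <;> ring⟩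
  obtain ⟨x, hx⟩ : ∃ x, 2 * a F.X₀ = c.e F.X₀ * x :=
    ⟨if c.e F.X₀ = 2 then a F.X₀ else -a F.X₀, by rcases F.e_X with h | h <;> rw [h] <;> norm_num⟩
  have sq : ∀ {u w : ℤ}, (w = 1 ∨ w = -1) → (w * u) * (w * u) = u * u ∧ w * u * w = u := by
    rintro u w (rfl | rfl) <;> constructor <;> ring
  have hx2 : a F.X₀ * a F.X₀ = x * x ∧ a F.X₀ * c.e F.X₀ = 2 * x := by
    rcases F.e_X with h | h <;> rw [h] at hx ⊢
    · rw [show a F.X₀ = x by omega]; constructor <;> ring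
    · rw [show a F.X₀ = -x by omega]; constructor <;> ring
  rw [hp, (sq hP).2, hx2.2, ht, add_mul, (sq hD).2] at he
  rw [hp, hPb, hr, add_mul, (sq hR).2, mul_neg, (sq hP).2] at hb
  rw [hp, (sq hP).1, hx2.1, ht, (sq hD).1, hr, (sq hR).1] at h7
  have hr0 : r = 0 ∧ p = 1 := by
    have h1 : -2 < r ∧ r < 1 := by constructor <;> nlinarith [mul_self_nonneg x, mul_self_nonneg t]
    rcases (show r = -1 ∨ r = 0 by omega) with e | e
    · exfalso
      subst e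
      obtain rfl : p = -1 := by omega
      nlinarith [mul_self_nonneg (x - 2), mul_self_nonneg (t - 1)]
    · subst e; omega
  obtain ⟨rfl, rfl⟩ := hr0
  refine ⟨by rw [hp, mul_one], by rw [hr, mul_zero], by rw [hτ, hr, mul_zero], ?_⟩
  have ht1 : t = 0 ∨ t = 1 := by
    have : -1 < t ∧ t < 2 := by constructor <;> nlinarith [mul_self_nonneg (x - 2)]
    omega
  rcases ht1 with rfl | rfl
  · obtain rfl : x = 2 := by omega
    exact Or.inr ⟨by linarith, by rw [ht, mul_zero], by omega⟩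
  · obtain rfl : x = 1 := by omega
    exact Or.inl ⟨by rw [hx, mul_one], by rw [ht, mul_one], by omega⟩

/-- The two kinds of norm three vectors. -/
theorem three {a : X → ℤ} (h3 : ∑ i, a i * a i = 3) (ho : a c.o = 0) (hτ : ∀ i, a (c.τ i) = a i)
    (he : ∑ i, a i * c.e i = -2) (hb : ∑ i, a i * c.b i = 0) :
    a F.P = 0 ∧ a F.R = 0 ∧ a (c.τ F.R) = 0 ∧
      ((a F.X₀ = 0 ∧ a F.D = -c.e F.D ∧ ∑ i ∈ F.rest, a i * a i = 1) ∨
       (2 * a F.X₀ = -c.e F.X₀ ∧ a F.D = 0 ∧ ∑ i ∈ F.rest, a i * a i = 2)) := by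
  have hsm := (norm_three h3).1
  rw [(F.sum_eb a).1, ho, hτ] at he
  rw [(F.sum_eb a).2, ho, hτ] at hb
  rw [F.sum_split, ho, hτ, hτ] at h3
  obtain ⟨-, -, hPb, hP, -, hD, hR⟩ := F.facts
  have hrest : 0 ≤ ∑ i ∈ F.rest, a i * a i :=
    Finset.sum_nonneg fun i _ => mul_self_nonneg _
  have hX := F.e_X
  rw [hτ]
  rcases hsm F.P with e1 | e1 | e1 <;> rcases hsm F.R with e2 | e2 | e2 <;>
    rcases hsm F.X₀ with e3 | e3 | e3 <;> rcases hsm F.D with e4 | e4 | e4 <;>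
    rw [e1, e2] at h3 hb <;> rw [e3, e4] at h3 <;> rw [e1, e3, e4] at he <;>
    rw [e1, e2, e3, e4] <;> omega

end Cols.Four

open Cfsg Cfsg.Agent.Char Cfsg.Agent.OddIndexReal

universe u v

variable {G : Type u} [Group G] {L : Type v} [Group L] {Q : ℤ} [Fintype L] [Fintype G] [IsSimpleGroup G]

namespace Setup

variable {E : Setup G L Q}

theorem dvd_Q_one {x : ℤ} (h : (4 * (E.D.h : ℤ)) ∣ x) : Q + 1 ∣ x := by
  have h4 := E.Q_eq
  unfold Hs at h4
  rcases E.D.arith.1 with e | e <;> rw [e] at h4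
  · rwa [show Q + 1 = 4 * (E.D.h : ℤ) by omega]
  · rw [show Q + 1 = -(4 * (E.D.h : ℤ)) by omega]; exact neg_dvd.2 h

theorem sh_ne {T : E.TFam} {l : E.D.Zh →* ℂˣ} (hl : l ≠ 1) : T.sh l ≠ 1 := fun h =>
  hl (T.sh.injective (h.trans T.sh_one.symm))

theorem four_false (T : E.TFam) (F : E.rowCols.Four) : False := by
  have hh7 := T.h_seven
  obtain ⟨l₁, hl₁, -⟩ := T.exists_third 1 1
  -- values of the two families on the named rows
  have A0 := fun l hl => F.seven (T.norm l hl).1 (T.principal l hl).1 (fun χ => (T.gal_inv l χ).1)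
    (T.e0 l hl).1 (T.b0 l).1
  have A1 := fun l hl => F.three (T.norm l hl).2 (T.principal l hl).2 (fun χ => (T.gal_inv l χ).2)
    (T.e0 l hl).2 (T.b0 l).2
  set S := F.rest with hS
  have small : ∀ (f : IrrCharacter G → ℤ) {n : ℤ}, n ≤ 3 → ∑ χ ∈ S, f χ * f χ = n →
      ∀ χ ∈ S, f χ = 0 ∨ f χ = 1 ∨ f χ = -1 := fun f n hn hsum χ hχ => by
    have h := Finset.single_le_sum (fun i _ => mul_self_nonneg (f i)) hχ
    rw [hsum] at h
    have : -2 < f χ ∧ f χ < 2 := by constructor <;> nlinarith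
    omega
  have restcard : ∀ (f : IrrCharacter G → ℤ) {n : ℕ}, (n : ℤ) ≤ 3 → ∑ χ ∈ S, f χ * f χ = n →
      (S.filter fun χ => f χ ≠ 0).card = n := fun f n hn hsum => by
    have hs := small f hn hsum
    have h : ((S.filter fun χ => f χ ≠ 0).card : ℤ) = n := by
      rw [← hsum, Finset.card_filter, Nat.cast_sum]
      refine Finset.sum_congr rfl fun i hi => ?_
      rcases hs i hi with h | h | h <;> simp [h]
    exact_mod_cast h
  have prod0 : ∀ l m, l ≠ 1 → m ≠ 1 →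
      T.a0 l F.X₀ * T.a1 m F.X₀ + 2 * (T.a0 l F.D * T.a1 m F.D) + ∑ χ ∈ S, T.a0 l χ * T.a1 m χ = 0 := by
    intro l m hl hm
    have h := T.a0_a1 l m
    rw [F.sum_split] at h
    have hgD : E.rowCols.τ F.D = E.gal F.D := rfl
    have hgR : E.rowCols.τ F.R = E.gal F.R := rfl
    rw [hgD, hgR, (T.gal_inv l F.D).1, (T.gal_inv m F.D).2, (T.gal_inv l F.R).1, (T.gal_inv m F.R).2,
      show E.rowCols.o = principal G from rfl, (T.principal m hm).2, (A1 m hm).1, (A1 m hm).2.1] at h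
    linear_combination h
  -- the two kinds cannot be mixed
  have prod1 : ∀ l m, l ≠ 1 → m ≠ 1 → m ≠ l → m⁻¹ ≠ l →
      T.a1 l F.X₀ * T.a1 m F.X₀ + 2 * (T.a1 l F.D * T.a1 m F.D) + ∑ χ ∈ S, T.a1 l χ * T.a1 m χ = 2 := by
    intro l m hl hm h1 h2
    have h := T.a1_a1 l m hl hm h1 h2
    rw [F.sum_split] at h
    have hgD : E.rowCols.τ F.D = E.gal F.D := rfl
    have hgR : E.rowCols.τ F.R = E.gal F.R := rfl
    rw [hgD, hgR, (T.gal_inv l F.D).2, (T.gal_inv m F.D).2, (T.gal_inv l F.R).2, (T.gal_inv m F.R).2,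
      show E.rowCols.o = principal G from rfl, (T.principal m hm).2, (A1 m hm).1, (A1 m hm).2.1] at h
    linear_combination h
  have bound1 : ∀ (f g : IrrCharacter G → ℤ), (∑ χ ∈ S, f χ * f χ = 1) →
      (∀ χ ∈ S, g χ = 0 ∨ g χ = 1 ∨ g χ = -1) → -1 ≤ ∑ χ ∈ S, f χ * g χ ∧ ∑ χ ∈ S, f χ * g χ ≤ 1 := by
    intro f g hf hg
    obtain ⟨z, hz⟩ := Finset.card_eq_one.1 (restcard f (n := 1) (by norm_num) (by rw [hf]; norm_num))
    have hzS : z ∈ S := (Finset.mem_filter.1 (show z ∈ S.filter _ by rw [hz]; simp)).1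
    rw [Finset.sum_eq_single_of_mem z hzS fun i hi hne => by
      by_contra h
      have : i ∈ S.filter fun χ => f χ ≠ 0 := Finset.mem_filter.2 ⟨hi, left_ne_zero_of_mul h⟩
      rw [hz, Finset.mem_singleton] at this
      exact hne this]
    rcases small f (n := 1) (by norm_num) hf z hzS with e | e | e <;> rcases hg z hzS with e' | e' | e' <;>
      rw [e, e'] <;> norm_num
  have hX := F.e_X
  obtain ⟨-, -, -, hP, hPb, hD, hR⟩ := F.facts
  by_cases hkind : ∀ l, l ≠ 1 →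
      2 * T.a1 l F.X₀ = -E.rowCols.e F.X₀ ∧ T.a1 l F.D = 0 ∧ ∑ χ ∈ S, T.a1 l χ * T.a1 l χ = 2
  · -- the kind through `X₀`
    have B0 : ∀ l, l ≠ 1 → 2 * T.a0 l F.X₀ = E.rowCols.e F.X₀ ∧
        ∑ χ ∈ S, T.a0 l χ * T.a0 l χ = 2 := by
      intro l hl
      rcases (A0 l hl).2.2.2 with ⟨h1, -, h3⟩ | ⟨h1, h2, h3⟩
      · exact ⟨h1, h3⟩
      · exfalso
        obtain ⟨k1, k2, k3⟩ := hkind l hl
        have h := prod0 l l hl hl
        have hb := bound1 (T.a0 l) (T.a1 l) h3 (small _ (by norm_num) k3)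
        rw [h1, h2, zero_mul, mul_zero, add_zero] at h
        rcases hX with e | e <;> rw [e] at k1 h
        · rw [show T.a1 l F.X₀ = -1 by omega] at h; omega
        · rw [show T.a1 l F.X₀ = 1 by omega] at h; omega
    let U : (E.D.Zh →* ℂˣ) → Finset (IrrCharacter G) := fun l => S.filter fun χ => T.a1 l χ ≠ 0
    let V : (E.D.Zh →* ℂˣ) → Finset (IrrCharacter G) := fun l => S.filter fun χ => T.a0 l χ ≠ 0
    have cU : ∀ l, l ≠ 1 → (U l).card = 2 := fun l hl =>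
      restcard _ (n := 2) (by norm_num) (by rw [(hkind l hl).2.2]; norm_num)
    have cV : ∀ l, l ≠ 1 → (V l).card = 2 := fun l hl =>
      restcard _ (n := 2) (by norm_num) (by rw [(B0 l hl).2]; norm_num)
    have sm : ∀ l, l ≠ 1 → ∀ i, (if i ∈ S then T.a1 l i else 0) = 0 ∨
        (if i ∈ S then T.a1 l i else 0) = 1 ∨ (if i ∈ S then T.a1 l i else 0) = -1 := fun l hl i => by
      split_ifs with h
      exacts [small _ (by norm_num) (hkind l hl).2.2 i h, Or.inl rfl]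
    have sm0 : ∀ l, l ≠ 1 → ∀ i, (if i ∈ S then T.a0 l i else 0) = 0 ∨
        (if i ∈ S then T.a0 l i else 0) = 1 ∨ (if i ∈ S then T.a0 l i else 0) = -1 := fun l hl i => by
      split_ifs with h
      exacts [small _ (by norm_num) (B0 l hl).2 i h, Or.inl rfl]
    have meet : ∀ (f g : IrrCharacter G → ℤ) (A B : Finset (IrrCharacter G)),
        A = S.filter (fun χ => f χ ≠ 0) → B = S.filter (fun χ => g χ ≠ 0) → A.card = 2 →
        (∀ i, (if i ∈ S then f i else 0) = 0 ∨ (if i ∈ S then f i else 0) = 1 ∨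
          (if i ∈ S then f i else 0) = -1) →
        (∀ i, (if i ∈ S then g i else 0) = 0 ∨ (if i ∈ S then g i else 0) = 1 ∨
          (if i ∈ S then g i else 0) = -1) →
        ∑ χ ∈ S, f χ * g χ = 1 → (A ∩ B).card = 1 ∧ ∀ i ∈ A ∩ B, f i * g i = 1 := by
      intro f g A B hA hB hc hf hg hsum
      have h := one_term (f := fun i => if i ∈ S then f i else 0) (g := fun i => if i ∈ S then g i else 0)
        (U := A) (V := B) (s := S) (fun i hi h => by simp only [if_pos hi] at h; rw [hA]; exact Finset.mem_filter.2 ⟨hi, h⟩)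
        (fun i hi h => by simp only [if_pos hi] at h; rw [hB]; exact Finset.mem_filter.2 ⟨hi, h⟩)
        (by rw [hA]; exact Finset.filter_subset _ _) hf hg
        (fun i hi => by
          rw [hA, Finset.mem_filter] at hi; simp only [if_pos hi.1]; exact hi.2)
        (fun i hi => by
          rw [hB, Finset.mem_filter] at hi; simp only [if_pos hi.1]; exact hi.2) hc
        (by rw [← hsum]; exact Finset.sum_congr rfl fun i hi => by simp only [if_pos hi])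
      refine ⟨h.1, fun i hi => ?_⟩
      have h2 := h.2 i hi
      have hiS : i ∈ S := by
        have h3 := (Finset.mem_inter.1 hi).1
        rw [hA, Finset.mem_filter] at h3; exact h3.1
      simpa only [if_pos hiS] using h2
    have m11 : ∀ l m, l ≠ 1 → m ≠ 1 → m ≠ l → m⁻¹ ≠ l →
        (U l ∩ U m).card = 1 ∧ ∀ i ∈ U l ∩ U m, T.a1 l i * T.a1 m i = 1 := by
      intro l m hl hm h1 h2
      refine meet _ _ _ _ rfl rfl (cU l hl) (sm l hl) (sm m hm) ?_
      have h := prod1 l m hl hm h1 h2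
      rw [(hkind l hl).2.1, zero_mul, mul_zero, add_zero] at h
      have e1 := (hkind l hl).1
      have e2 := (hkind m hm).1
      rcases hX with e | e <;> rw [e] at e1 e2
      · rw [show T.a1 l F.X₀ = -1 by omega, show T.a1 m F.X₀ = -1 by omega] at h; linarith
      · rw [show T.a1 l F.X₀ = 1 by omega, show T.a1 m F.X₀ = 1 by omega] at h; linarith
    have m10 : ∀ l m, l ≠ 1 → m ≠ 1 →
        (U l ∩ V m).card = 1 ∧ ∀ i ∈ U l ∩ V m, T.a1 l i * T.a0 m i = 1 := by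
      intro l m hl hm
      refine meet _ _ _ _ rfl rfl (cU l hl) (sm l hl) (sm0 m hm) ?_
      have h := prod0 m l hm hl
      rw [(hkind l hl).2.1, mul_zero, mul_zero, add_zero] at h
      rw [Finset.sum_congr rfl fun χ _ => mul_comm (T.a1 l χ) (T.a0 m χ)]
      have e1 := (hkind l hl).1
      have e2 := (B0 m hm).1
      rcases hX with e | e <;> rw [e] at e1 e2
      · rw [show T.a1 l F.X₀ = -1 by omega, show T.a0 m F.X₀ = 1 by omega] at h; linarith
      · rw [show T.a1 l F.X₀ = 1 by omega, show T.a0 m F.X₀ = -1 by omega] at h; linarith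
    obtain ⟨l₂, hl₂, d12, d12', -⟩ := T.exists_third l₁ l₁
    obtain ⟨c12, v12⟩ := m11 l₁ l₂ hl₁ hl₂ d12 d12'
    obtain ⟨Gr, hGr⟩ := Finset.card_eq_one.1 c12
    have hGm : Gr ∈ U l₁ ∩ U l₂ := by rw [hGr]; simp
    obtain ⟨hG1, hG2⟩ := Finset.mem_inter.1 hGm
    have key : ∀ n m, n ≠ 1 → m ≠ 1 → n ≠ l₁ → n⁻¹ ≠ l₁ → n ≠ l₂ → n⁻¹ ≠ l₂ →
        Gr ∈ U n ∧ Gr ∈ V m := fun n m hn hm a1 a2 a3 a4 =>
      common_of_pairs (cU l₁ hl₁) (cU l₂ hl₂) (cU n hn) (cV m hm) c12 (m11 l₁ n hl₁ hn a1 a2).1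
        (m11 l₂ n hl₂ hn a3 a4).1 (m10 l₁ m hl₁ hm).1 (m10 l₂ m hl₂ hm).1 (m10 n m hn hm).1 hG1 hG2
    obtain ⟨n₀, hn₀, b1, b2, b3, b4⟩ := T.exists_third l₁ l₂
    set g := T.a1 l₁ Gr with hgdef
    have hg : g = 1 ∨ g = -1 := by
      obtain ⟨hGS, hGne⟩ := Finset.mem_filter.1 hG1
      rcases small _ (by norm_num) (hkind l₁ hl₁).2.2 Gr hGS with e | e | e
      exacts [absurd e hGne, Or.inl e, Or.inr e]
    have unit : ∀ {u : ℤ}, g * u = 1 → u = g := by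
      intro u hu; rcases hg with e | e <;> rw [e] at hu ⊢ <;> omega
    have G0 : ∀ m, m ≠ 1 → T.a0 m Gr = g := fun m hm =>
      unit ((m10 l₁ m hl₁ hm).2 Gr (Finset.mem_inter.2 ⟨hG1, (key n₀ m hn₀ hm b1 b2 b3 b4).2⟩))
    have G1 : ∀ n, n ≠ 1 → T.a1 n Gr = g := by
      intro n hn
      by_cases a1 : n = l₁
      · rw [a1]
      by_cases a2 : n⁻¹ = l₁
      · rw [← (T.inv n Gr).2, a2]
      by_cases a3 : n = l₂
      · rw [a3]; exact unit (v12 Gr hGm)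
      by_cases a4 : n⁻¹ = l₂
      · rw [← (T.inv n Gr).2, a4]; exact unit (v12 Gr hGm)
      exact unit ((m11 l₁ n hl₁ hn a1 a2).2 Gr
        (Finset.mem_inter.2 ⟨hG1, (key n l₁ hn hl₁ a1 a2 a3 a4).1⟩))
    obtain ⟨κ, hκ, hκ1⟩ : ∃ κ, E.rowCols.e F.X₀ = 2 * κ ∧ (κ = 1 ∨ κ = -1) := by
      rcases hX with e | e
      exacts [⟨1, by rw [e]; norm_num, Or.inl rfl⟩, ⟨-1, by rw [e]; norm_num, Or.inr rfl⟩]
    have X0v : ∀ l, l ≠ 1 → T.a0 l F.X₀ = κ := fun l hl => by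
      have := (B0 l hl).1; rw [hκ] at this; omega
    have X1v : ∀ l, l ≠ 1 → T.a1 l F.X₀ = -κ := fun l hl => by
      have := (hkind l hl).1; rw [hκ] at this; omega
    obtain ⟨cX0, cX1⟩ := T.congr_const X0v X1v
    obtain ⟨cG0, cG1⟩ := T.congr_const G0 G1
    -- the third row of `a1 l₁`
    obtain ⟨hGS, -⟩ := Finset.mem_filter.1 hG1
    obtain ⟨Fr, hFr⟩ := Finset.card_eq_one.1 (show ((U l₁).erase Gr).card = 1 by
      rw [Finset.card_erase_of_mem hG1, cU l₁ hl₁])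
    have hFm : Fr ∈ (U l₁).erase Gr := by rw [hFr]; simp
    obtain ⟨hFG, hFU⟩ := Finset.mem_erase.1 hFm
    obtain ⟨hFS, hFne⟩ := Finset.mem_filter.1 hFU
    have hsupp : ∀ f : IrrCharacter G → ℚ, ∑ χ, (T.a1 l₁ χ : ℚ) * f χ =
        -(κ : ℚ) * f F.X₀ + ((g : ℚ) * f Gr + (T.a1 l₁ Fr : ℚ) * f Fr) := by
      intro f
      have hXG : F.X₀ ≠ Gr := fun e => F.mem_rest.1 hGS (by rw [← e]; simp [Cols.Four.named])
      have hXF : F.X₀ ≠ Fr := fun e => F.mem_rest.1 hFS (by rw [← e]; simp [Cols.Four.named])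
      rw [← Finset.sum_subset (Finset.subset_univ ({F.X₀, Gr, Fr} : Finset (IrrCharacter G))) ?_,
        Finset.sum_insert (by simp only [Finset.mem_insert, Finset.mem_singleton, not_or]; exact ⟨hXG, hXF⟩),
        Finset.sum_pair (Ne.symm hFG), X1v l₁ hl₁]
      · push_cast; ring
      intro χ _ hχ
      simp only [Finset.mem_insert, Finset.mem_singleton, not_or] at hχ
      have : T.a1 l₁ χ = 0 := by
        by_cases hχn : χ ∈ F.named
        · obtain ⟨k1, k2, k3, -⟩ := A1 l₁ hl₁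
          simp only [Cols.Four.named, Finset.mem_insert, Finset.mem_singleton] at hχn
          rcases hχn with e | e | e | e | e | e | e
          · rw [e]; exact (T.principal l₁ hl₁).2
          · rw [e]; exact k1
          · exact absurd e hχ.1
          · rw [e]; exact (hkind l₁ hl₁).2.1
          · rw [e, show E.rowCols.τ F.D = E.gal F.D from rfl, (T.gal_inv l₁ _).2]
            exact (hkind l₁ hl₁).2.1
          · rw [e]; exact k2
          · rw [e]; exact k3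
        · by_contra hne
          have : χ ∈ (U l₁).erase Gr := Finset.mem_erase.2 ⟨hχ.2.1,
            Finset.mem_filter.2 ⟨F.mem_rest.2 hχn, hne⟩⟩
          rw [hFr, Finset.mem_singleton] at this
          exact hχ.2.2 this
      rw [this, Int.cast_zero, zero_mul]
    have e_d : ∑ χ, (T.a1 l₁ χ : ℚ) * (dgi χ : ℚ) = 0 := by
      exact_mod_cast sum_dgi (T.deg l₁).2
    have e_t : ∑ χ, (T.a1 l₁ χ : ℚ) * (E.tv χ : ℚ) = 0 := by exact_mod_cast (T.tau l₁).2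
    have e_w := T.a1_wq hl₁
    unfold Setup.wq at e_w
    rw [hsupp] at e_d e_t e_w
    have hdX : (dgi F.X₀ : ℚ) ≠ 0 := by exact_mod_cast (dgi_pos F.X₀).ne'
    have hdG : (dgi Gr : ℚ) ≠ 0 := by exact_mod_cast (dgi_pos Gr).ne'
    have hdF : (dgi Fr : ℚ) ≠ 0 := by exact_mod_cast (dgi_pos Fr).ne'
    have hFq : (T.a1 l₁ Fr : ℚ) ≠ 0 := by exact_mod_cast hFne
    have hratio : E.tv F.X₀ * dgi Gr = E.tv Gr * dgi F.X₀ := by
      obtain ⟨r1, -⟩ := equal_ratio (x₁ := -(κ : ℚ) * dgi F.X₀) (x₂ := (g : ℚ) * dgi Gr)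
        (x₃ := (T.a1 l₁ Fr : ℚ) * dgi Fr) (r₁ := (E.tv F.X₀ : ℚ) / dgi F.X₀)
        (r₂ := (E.tv Gr : ℚ) / dgi Gr) (r₃ := (E.tv Fr : ℚ) / dgi Fr)
        (mul_ne_zero (by rcases hκ1 with e | e <;> rw [e] <;> norm_num) hdX)
        (mul_ne_zero (by rcases hg with e | e <;> rw [e] <;> norm_num) hdG) (mul_ne_zero hFq hdF)
        (by linear_combination e_d) (by field_simp; linear_combination e_t)
        (by rw [← e_w]; field_simp; ring)
      rw [div_eq_div_iff hdX hdG] at r1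
      exact_mod_cast r1
    -- reduction modulo `h`
    have h8 : (E.D.h : ℤ) ∣ 8 := by
      have nh : ∀ {x : ℤ}, (4 * (E.D.h : ℤ)) ∣ 4 * x → (E.D.h : ℤ) ∣ x := fun h =>
        (mul_dvd_mul_iff_left (by norm_num : (4 : ℤ) ≠ 0)).1 h
      have t1 : (E.D.h : ℤ) ∣ E.tv F.X₀ - 2 * κ := nh (by
        obtain ⟨c0, h0⟩ := cX0; obtain ⟨c1, h1⟩ := cX1
        exact ⟨c0 - c1, by linear_combination h0 - h1⟩)
      have t2 : (E.D.h : ℤ) ∣ E.tv Gr := nh (by
        obtain ⟨c0, h0⟩ := cG0; obtain ⟨c1, h1⟩ := cG1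
        exact ⟨c0 - c1, by linear_combination h0 - h1⟩)
      have d2 : (E.D.h : ℤ) ∣ dgi Gr - E.tv Gr - 4 * g := dvd_trans (dvd_mul_left _ _) cG1
      obtain ⟨a, ha⟩ := t1; obtain ⟨b, hb⟩ := t2; obtain ⟨e, he⟩ := d2
      have hu : (E.D.h : ℤ) ∣ 8 * (κ * g) :=
        ⟨b * dgi F.X₀ - a * dgi Gr - 2 * κ * e - 2 * κ * b, by
          linear_combination hratio + (-(dgi Gr)) * ha + (-(2 * κ)) * he + (dgi F.X₀ - 2 * κ) * hb⟩
      rcases hκ1 with e1 | e1 <;> rcases hg with e2 | e2 <;> rw [e1, e2] at hu <;> simpa using hu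
    have h8' : E.D.h ∣ 8 := by exact_mod_cast h8
    have hle := Nat.le_of_dvd (by norm_num) h8'
    have hodd := Nat.odd_iff.1 E.D.h_odd'
    rcases (show E.D.h = 7 by omega) with e
    rw [e] at h8'; norm_num at h8'
  · -- the kind through `D`
    push Not at hkind
    obtain ⟨l₀, hl₀, hk₀⟩ := hkind
    have k0 : T.a1 l₀ F.X₀ = 0 ∧ T.a1 l₀ F.D = -E.rowCols.e F.D ∧ ∑ χ ∈ S, T.a1 l₀ χ * T.a1 l₀ χ = 1 := by
      rcases (A1 l₀ hl₀).2.2.2 with h | ⟨h1, h2, h3⟩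
      · exact h
      · exact absurd h3 (hk₀ h1 h2)
    have all : ∀ l, l ≠ 1 → T.a1 l F.X₀ = 0 ∧ T.a1 l F.D = -E.rowCols.e F.D := by
      intro l hl
      by_cases a1 : l = l₀
      · rw [a1]; exact ⟨k0.1, k0.2.1⟩
      by_cases a2 : l⁻¹ = l₀
      · rw [← (T.inv l F.X₀).2, ← (T.inv l F.D).2, a2]; exact ⟨k0.1, k0.2.1⟩
      rcases (A1 l hl).2.2.2 with ⟨h1, h2, -⟩ | ⟨h1, h2, h3⟩
      · exact ⟨h1, h2⟩
      · exfalso
        have h := prod1 l₀ l hl₀ hl a1 a2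
        rw [k0.1, h2, zero_mul, mul_zero, mul_zero, zero_add, zero_add] at h
        have hb := bound1 (T.a1 l₀) (T.a1 l) k0.2.2 (small _ (by norm_num) h3)
        omega
    have B0 : ∀ l, l ≠ 1 → T.a0 l F.X₀ = E.rowCols.e F.X₀ ∧ T.a0 l F.D = 0 ∧
        ∑ χ ∈ S, T.a0 l χ * T.a0 l χ = 1 := by
      intro l hl
      rcases (A0 l hl).2.2.2 with ⟨-, h2, h3⟩ | h
      · exfalso
        have h := prod0 l l₀ hl hl₀
        rw [k0.1, k0.2.1, h2, mul_zero, zero_add] at h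
        have hb := bound1 (T.a1 l₀) (T.a0 l) k0.2.2 (small _ (by norm_num) h3)
        rw [Finset.sum_congr rfl fun χ _ => mul_comm (T.a1 l₀ χ) (T.a0 l χ)] at hb
        rcases hD with e | e <;> rw [e] at h <;> omega
      · exact h
    -- values at `τ`
    have hY : ∀ χ ∈ F.named, χ ≠ principal G → E.Ysum χ = 0 := by
      intro χ hχ hne
      refine Finset.sum_eq_zero fun mu hmu => ?_
      obtain ⟨c2, c0, cτ, ce, cb, -, -⟩ := E.cv_facts (Finset.ne_of_mem_erase hmu)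
      have ce' := (F.sum_eb (E.cv mu)).1
      have cb' := (F.sum_eb (E.cv mu)).2
      have cs := F.sum_split (fun χ => E.cv mu χ * E.cv mu χ)
      have hτD : E.cv mu (E.rowCols.τ F.D) = E.cv mu F.D := cτ _
      have hτR : E.cv mu (E.rowCols.τ F.R) = E.cv mu F.R := cτ _
      rw [show E.rowCols.o = principal G from rfl, c0, hτD] at ce'
      rw [show E.rowCols.o = principal G from rfl, c0, hτR] at cb'
      rw [c2] at cs
      rw [show E.rowCols.o = principal G from rfl, c0, hτD, hτR] at cs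
      have hnn : 0 ≤ ∑ χ ∈ F.rest, E.cv mu χ * E.cv mu χ :=
        Finset.sum_nonneg fun i _ => mul_self_nonneg _
      have ce0 := ce'.symm.trans ce
      have cb0 := cb'.symm.trans cb
      have bnd : ∀ z, z * z ≤ 2 → z = 0 ∨ z = 1 ∨ z = -1 := fun z hz => by
        have : -2 < z ∧ z < 2 := by constructor <;> nlinarith
        omega
      have n1 := mul_self_nonneg (E.cv mu F.P)
      have n2 := mul_self_nonneg (E.cv mu F.X₀)
      have n3 := mul_self_nonneg (E.cv mu F.D)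
      have n4 := mul_self_nonneg (E.cv mu F.R)
      have hz : E.cv mu F.P = 0 ∧ E.cv mu F.X₀ = 0 ∧ E.cv mu F.D = 0 ∧ E.cv mu F.R = 0 := by
        rcases bnd _ (show E.cv mu F.P * E.cv mu F.P ≤ 2 by omega) with e1 | e1 | e1 <;>
        rcases bnd _ (show E.cv mu F.X₀ * E.cv mu F.X₀ ≤ 2 by omega) with e2 | e2 | e2 <;>
        rcases bnd _ (show E.cv mu F.D * E.cv mu F.D ≤ 2 by omega) with e3 | e3 | e3 <;>
        rcases bnd _ (show E.cv mu F.R * E.cv mu F.R ≤ 2 by omega) with e4 | e4 | e4 <;>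
        rw [e1, e2, e3] at ce0 <;> rw [e1, e4] at cb0 <;> rw [e1, e2, e3, e4] at cs <;>
        rw [e1, e2, e3, e4] <;> omega
      simp only [Cols.Four.named, Finset.mem_insert, Finset.mem_singleton] at hχ
      rcases hχ with e | e | e | e | e | e | e <;> rw [e]
      · exact absurd e hne
      · exact hz.1
      · exact hz.2.1
      · exact hz.2.2.1
      · rw [hτD]; exact hz.2.2.1
      · exact hz.2.2.2
      · rw [hτR]; exact hz.2.2.2
    obtain ⟨noP, hwP, hbD, hbR, hwR, hwD⟩ := F.ne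
    obtain ⟨hbX, -, -⟩ := F.X_zero
    obtain ⟨heR, -⟩ := F.facts
    have ghP : ∀ l, l ≠ 1 → E.gh l F.P = -E.rowCols.e F.P := fun l hl => by
      rw [T.gh_eq, (A0 l hl).1, (A1 l hl).1, (A1 _ (sh_ne hl)).1, (A1 _ (sh_ne (sh_ne hl))).1]; ring
    have ghX : ∀ l, l ≠ 1 → E.gh l F.X₀ = -E.rowCols.e F.X₀ := fun l hl => by
      rw [T.gh_eq, (B0 l hl).1, (all l hl).1, (all _ (sh_ne hl)).1, (all _ (sh_ne (sh_ne hl))).1]; ring
    have ghD : ∀ l, l ≠ 1 → E.gh l F.D = -E.rowCols.e F.D := fun l hl => by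
      rw [T.gh_eq, (B0 l hl).2.1, (all l hl).2, (all _ (sh_ne hl)).2, (all _ (sh_ne (sh_ne hl))).2]; ring
    have ghR : ∀ l, l ≠ 1 → E.gh l F.R = -E.rowCols.e F.R := fun l hl => by
      rw [T.gh_eq, (A0 l hl).2.1, (A1 l hl).2.1, (A1 _ (sh_ne hl)).2.1, (A1 _ (sh_ne (sh_ne hl))).2.1, heR]
      ring
    have hdist := F.distinct
    simp only [List.nodup_cons, List.mem_cons, List.not_mem_nil, List.nodup_nil, or_false, not_or,
      not_false_eq_true, and_true] at hdist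
    obtain ⟨⟨q1, q2, q3, -, q5, -⟩, -⟩ := hdist
    have tP := E.tv_of_gh ghP
    have tX := E.tv_of_gh ghX
    have tD := E.tv_of_gh ghD
    have tR := E.tv_of_gh ghR
    rw [hY _ (by simp [Cols.Four.named]) (Ne.symm q1)] at tP
    rw [hY _ (by simp [Cols.Four.named]) (Ne.symm q2)] at tX
    rw [hY _ (by simp [Cols.Four.named]) (Ne.symm q3)] at tD
    rw [hY _ (by simp [Cols.Four.named]) (Ne.symm q5)] at tR
    change E.tv F.P = E.rowCols.e F.P + 2 * E.Hs * (E.rowCols.b F.P - E.rowCols.e F.P + 0) at tP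
    change E.tv F.X₀ = E.rowCols.e F.X₀ + 2 * E.Hs * (E.rowCols.b F.X₀ - E.rowCols.e F.X₀ + 0) at tX
    change E.tv F.D = E.rowCols.e F.D + 2 * E.Hs * (E.rowCols.b F.D - E.rowCols.e F.D + 0) at tD
    change E.tv F.R = E.rowCols.e F.R + 2 * E.Hs * (E.rowCols.b F.R - E.rowCols.e F.R + 0) at tR
    rw [hPb] at tP
    rw [hbX] at tX
    rw [hbD] at tD
    rw [heR] at tR
    obtain ⟨κ, hκ, hκ1⟩ : ∃ κ, E.rowCols.e F.X₀ = 2 * κ ∧ (κ = 1 ∨ κ = -1) := by
      rcases hX with e | e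
      exacts [⟨1, by rw [e]; norm_num, Or.inl rfl⟩, ⟨-1, by rw [e]; norm_num, Or.inr rfl⟩]
    rw [hκ] at tX
    set eP := E.rowCols.e F.P with hePdef
    set eD := E.rowCols.e F.D with heDdef
    set bR := E.rowCols.b F.R with hbRdef
    have hQ := E.Q_eq
    have vP : E.tv F.P = eP * (-Q) := by linear_combination tP + eP * hQ
    have vX : E.tv F.X₀ = κ * (1 - Q) := by linear_combination tX + κ * hQ
    have vD : 2 * E.tv F.D = eD * (1 - Q) := by linear_combination 2 * tD + eD * hQ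
    have vR : 2 * E.tv F.R = bR * (Q + 1) := by linear_combination 2 * tR - bR * hQ
    -- the last row of `a0 l₁`
    obtain ⟨Or', hOr⟩ := Finset.card_eq_one.1
      (restcard (T.a0 l₁) (n := 1) (by norm_num) (by rw [(B0 l₁ hl₁).2.2]; norm_num))
    have hOm : Or' ∈ S.filter fun χ => T.a0 l₁ χ ≠ 0 := by rw [hOr]; simp
    obtain ⟨hOS, hOne⟩ := Finset.mem_filter.1 hOm
    have hO1 : T.a0 l₁ Or' = 1 ∨ T.a0 l₁ Or' = -1 := by
      rcases small _ (n := 1) (by norm_num) (B0 l₁ hl₁).2.2 Or' hOS with e | e | e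
      exacts [absurd e hOne, Or.inl e, Or.inr e]
    -- rational sums over the named rows
    have qsplit : ∀ f : IrrCharacter G → ℚ, ∑ χ, f χ = f (principal G) + f F.P + f F.X₀ + f F.D +
        f (E.gal F.D) + f F.R + f (E.gal F.R) + ∑ χ ∈ S, f χ := fun f => F.sum_split f
    have s0 : ∀ f : IrrCharacter G → ℚ, ∑ χ, (T.a0 l₁ χ : ℚ) * f χ =
        f (principal G) + (eP : ℚ) * f F.P + (2 * κ : ℚ) * f F.X₀ + (T.a0 l₁ Or' : ℚ) * f Or' := by
      intro f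
      rw [qsplit, Finset.sum_eq_single_of_mem Or' hOS fun i hi hne => by
        by_contra h
        have : i ∈ S.filter fun χ => T.a0 l₁ χ ≠ 0 := Finset.mem_filter.2 ⟨hi, fun h' => h (by
          rw [h', Int.cast_zero, zero_mul])⟩
        rw [hOr, Finset.mem_singleton] at this
        exact hne this, (T.principal l₁ hl₁).1, (T.gal_inv l₁ F.D).1, (T.gal_inv l₁ F.R).1,
        (A0 l₁ hl₁).1, (A0 l₁ hl₁).2.1, (B0 l₁ hl₁).1, (B0 l₁ hl₁).2.1, hκ]
      push_cast; ring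
    have se : ∀ f : IrrCharacter G → ℚ, ∑ χ, (E.ec χ : ℚ) * f χ =
        f (principal G) + (eP : ℚ) * f F.P + (2 * κ : ℚ) * f F.X₀ + (eD : ℚ) * (f F.D + f (E.gal F.D)) := by
      intro f
      rw [qsplit, Finset.sum_eq_zero fun i hi => by
        rw [show E.ec i = 0 from (F.rest_zero (F.mem_rest.1 hi)).1, Int.cast_zero, zero_mul],
        E.cols_principal.1, E.gal_row.e, E.gal_row.e, show E.ec F.R = 0 from heR,
        show E.ec F.X₀ = 2 * κ from hκ, show E.ec F.P = eP from rfl, show E.ec F.D = eD from rfl]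
      push_cast; ring
    have sb : ∀ f : IrrCharacter G → ℚ, ∑ χ, (E.bc χ : ℚ) * f χ =
        f (principal G) - (eP : ℚ) * f F.P + (bR : ℚ) * (f F.R + f (E.gal F.R)) := by
      intro f
      rw [qsplit, Finset.sum_eq_zero fun i hi => by
        rw [show E.bc i = 0 from (F.rest_zero (F.mem_rest.1 hi)).2.1, Int.cast_zero, zero_mul],
        E.cols_principal.2.1, E.gal_row.b, E.gal_row.b, show E.bc F.X₀ = 0 from hbX,
        show E.bc F.P = -eP from hPb, show E.bc F.D = 0 from hbD, show E.bc F.R = bR from rfl]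
      push_cast; ring
    have d_e : ∑ χ, (E.ec χ : ℚ) * (dgi χ : ℚ) = 0 := by exact_mod_cast sum_dgi E.cols_deg.1
    have d_b : ∑ χ, (E.bc χ : ℚ) * (dgi χ : ℚ) = 0 := by exact_mod_cast sum_dgi E.cols_deg.2.1
    have d_0 : ∑ χ, (T.a0 l₁ χ : ℚ) * (dgi χ : ℚ) = 0 := by exact_mod_cast sum_dgi (T.deg l₁).1
    have t_0 : ∑ χ, (T.a0 l₁ χ : ℚ) * (E.tv χ : ℚ) = 0 := by exact_mod_cast (T.tau l₁).1
    rw [se, dgi_principal, dgi_gal] at d_e
    rw [sb, dgi_principal, dgi_gal] at d_b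
    rw [s0, dgi_principal] at d_0
    rw [s0, E.tv_principal] at t_0
    have w_e := E.ec_wq
    have w_b := E.bc_wq
    have w_0 := T.a0_wq hl₁
    unfold Setup.wq at w_e w_b w_0
    rw [se, dgi_principal, dgi_gal, E.gal_row.tv, E.tv_principal] at w_e
    rw [sb, dgi_principal, dgi_gal, E.gal_row.tv, E.tv_principal] at w_b
    rw [s0, dgi_principal, E.tv_principal] at w_0
    push_cast at d_e d_b d_0 t_0 w_e w_b w_0
    have cqP : (E.tv F.P : ℚ) = (eP : ℚ) * (-(Q : ℚ)) := by exact_mod_cast vP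
    have cqX : (E.tv F.X₀ : ℚ) = (κ : ℚ) * (1 - (Q : ℚ)) := by exact_mod_cast vX
    have cqD : (E.tv F.D : ℚ) = (eD : ℚ) * (1 - (Q : ℚ)) / 2 := by
      rw [eq_div_iff two_ne_zero, mul_comm]; exact_mod_cast vD
    have cqR : (E.tv F.R : ℚ) = (bR : ℚ) * ((Q : ℚ) + 1) / 2 := by
      rw [eq_div_iff two_ne_zero, mul_comm]; exact_mod_cast vR
    rw [cqP, cqX, cqD] at w_e
    rw [cqP, cqR] at w_b
    rw [cqP, cqX] at w_0 t_0
    have sgn : ∀ {u : ℤ}, (u = 1 ∨ u = -1) → (u : ℚ) * u = 1 ∧ u * u = 1 := by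
      rintro u (rfl | rfl) <;> norm_num
    -- signed degrees
    have hP' : (eP * dgi F.P : ℤ) ≠ 0 := mul_ne_zero (by omega) (dgi_pos _).ne'
    have hX' : (κ * dgi F.X₀ : ℤ) ≠ 0 := mul_ne_zero (by omega) (dgi_pos _).ne'
    have hD' : (eD * dgi F.D : ℤ) ≠ 0 := mul_ne_zero (by omega) (dgi_pos _).ne'
    have hR' : (bR * dgi F.R : ℤ) ≠ 0 := mul_ne_zero (by omega) (dgi_pos _).ne'
    have fr : ∀ (u : ℤ) (t : ℚ) (d : ℤ), (u = 1 ∨ u = -1) →
        (u : ℚ) * (((u : ℚ) * t) ^ 2 / (d : ℚ)) = t ^ 2 / ((u * d : ℤ) : ℚ) := by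
      rintro u t d (rfl | rfl) <;> push_cast <;> simp [div_neg, neg_div, one_div]
    have hOd : (T.a0 l₁ Or' : ℚ) * (dgi Or' : ℚ) = 2 * ((eD * dgi F.D : ℤ) : ℚ) := by
      push_cast; linear_combination d_0 - d_e
    have hOt : (T.a0 l₁ Or' : ℚ) * (E.tv Or' : ℚ) = 3 * ((Q : ℚ) - 1) := by
      linear_combination t_0 + ((Q : ℚ)) * (sgn hP).1 + (2 * ((Q : ℚ) - 1)) * (sgn hκ1).1
    have hfin : (T.a0 l₁ Or' : ℚ) * ((E.tv Or' : ℚ) ^ 2 / (dgi Or' : ℚ)) =
        9 * ((Q : ℚ) - 1) ^ 2 / (2 * ((eD * dgi F.D : ℤ) : ℚ)) := by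
      rw [← hOd]
      have : 9 * ((Q : ℚ) - 1) ^ 2 = ((T.a0 l₁ Or' : ℚ) * (E.tv Or' : ℚ)) ^ 2 := by rw [hOt]; ring
      rw [this]
      rcases hO1 with e | e <;> rw [e] <;> push_cast <;> simp [div_neg, neg_div]
    rw [hfin] at w_0
    have gD : (eD : ℚ) * (((eD : ℚ) * (1 - (Q : ℚ)) / 2) ^ 2 / (dgi F.D : ℚ) +
        ((eD : ℚ) * (1 - (Q : ℚ)) / 2) ^ 2 / (dgi F.D : ℚ)) =
        ((Q : ℚ) - 1) ^ 2 / (2 * ((eD * dgi F.D : ℤ) : ℚ)) := by
      rw [mul_div_assoc, mul_add, fr eD _ _ hD]; ring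
    have gR : (bR : ℚ) * (((bR : ℚ) * ((Q : ℚ) + 1) / 2) ^ 2 / (dgi F.R : ℚ) +
        ((bR : ℚ) * ((Q : ℚ) + 1) / 2) ^ 2 / (dgi F.R : ℚ)) =
        ((Q : ℚ) + 1) ^ 2 / (2 * ((bR * dgi F.R : ℤ) : ℚ)) := by
      rw [mul_div_assoc, mul_add, fr bR _ _ hR]; ring
    have gX : 2 * (κ : ℚ) * (((κ : ℚ) * (1 - (Q : ℚ))) ^ 2 / (dgi F.X₀ : ℚ)) =
        2 * ((Q : ℚ) - 1) ^ 2 / ((κ * dgi F.X₀ : ℤ) : ℚ) := by
      rw [mul_assoc, fr κ _ _ hκ1]; ring
    have gP : (eP : ℚ) * (((eP : ℚ) * (-(Q : ℚ))) ^ 2 / (dgi F.P : ℚ)) =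
        (Q : ℚ) ^ 2 / ((eP * dgi F.P : ℤ) : ℚ) := by
      rw [fr eP _ _ hP, neg_sq]
    rw [gP, gX, gD] at w_e
    rw [gP, gR] at w_b
    rw [gP, gX] at w_0
    -- congruences
    obtain ⟨-, cD1⟩ := T.congr_const (χ := F.D) (fun l hl => (B0 l hl).2.1) (fun l hl => (all l hl).2)
    obtain ⟨-, cR1⟩ := T.congr_const (χ := F.R) (fun l hl => (A0 l hl).2.1) (fun l hl => (A1 l hl).2.1)
    obtain ⟨n1, n2, -⟩ := E.order_facts
    have hpp : IsPrimePow Q.natAbs := by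
      rw [E.D.abs_Q]
      exact (E.D.prime_p.isPrimePow).pow (by obtain ⟨m, hm⟩ := E.D.n_odd; omega)
    refine four_rows E.D.Q_mod T.Q_large' hpp hP' hX' hD' hR' ?_ ?_ ?_ ?_
      (by rw [← w_b]; ring) (by rw [← w_e]; ring) (by rw [← w_0]; ring) n1 n2
    · have : ((1 + eP * dgi F.P + 2 * (κ * dgi F.X₀) + 2 * (eD * dgi F.D) : ℤ) : ℚ) = 0 := by
        push_cast; linear_combination d_e
      exact_mod_cast this
    · have : ((eP * dgi F.P : ℤ) : ℚ) = ((2 * (bR * dgi F.R) + 1 : ℤ) : ℚ) := by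
        push_cast; linear_combination -d_b
      exact_mod_cast this
    · obtain ⟨w, hw⟩ := dvd_Q_one cR1
      refine ⟨bR * w, ?_⟩
      have hbb := (sgn hR).2
      linear_combination (2 * bR) * hw + bR * vR + (Q + 1) * hbb
    · obtain ⟨w, hw⟩ := dvd_Q_one cD1
      refine ⟨eD * w + 0, ?_⟩
      have hee := (sgn hD).2
      linear_combination (2 * eD) * hw + eD * vD + (-(Q - 1) - 8) * hee

end Setup

end Cfsg.Agent.JanThom
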