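import Cfsg.Agent.Lib.JanThom.Setup
import Cfsg.Agent.Lib.JanThom.GenTI
import Cfsg.Agent.Lib.JanThom.LFun
import Cfsg.Agent.Lib.Small.ClassCount
import Cfsg.Agent.Lib.Char.Degree

/-!
The section of the involution `τ`: the integers `z X λ χ = |X|⁻¹ ∑ conj (λ x) χ (τ x)`.
-/

set_option autoImplicit false
set_option linter.unusedSectionVars false
set_option linter.style.haveILetI false

namespace Cfsg.Agent.JanThom

open Cfsg Cfsg.Agent.Char Cfsg.Agent.LocalTI
open scoped ComplexConjugate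

universe u v

variable {G : Type u} [Group G] {L : Type v} [Group L] {Q : ℤ}

namespace Setup

variable (E : Setup G L Q)

/-- The section `τ · (odd order elements)`. -/
def secD (m : C2 × L) : Prop := m.1 = c2 ∧ Odd (orderOf m.2)

theorem sec_pow [Finite L] {l : L} (hl : Odd (orderOf l)) {N : ℕ} (hN : orderOf l ∣ N) (hN2 : Odd N) :
    E.ι (c2, l) ^ N = E.τ := by
  rw [← map_pow, Prod.pow_mk, orderOf_dvd_iff_pow_eq_one.1 hN]
  obtain ⟨j, rfl⟩ := hN2
  rw [pow_succ, pow_mul, pow_two, c2_sq, one_pow, one_mul]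

theorem sec_emb [Finite L] : Emb E.ι (secD (L := L)) where
  inj := E.inj
  ti := by
    rintro ⟨a, l⟩ ⟨a', l'⟩ ⟨ha, hl⟩ ⟨ha', hl'⟩ g hg
    obtain rfl : a = c2 := ha
    obtain rfl : a' = c2 := ha'
    have hN : Odd (orderOf l * orderOf l') := hl.mul hl'
    have h := congrArg (· ^ (orderOf l * orderOf l')) hg
    simp only [conj_pow] at h
    rw [E.sec_pow hl (Dvd.intro _ rfl) hN, E.sec_pow hl' (Dvd.intro_left _ rfl) hN] at h
    obtain ⟨m, hm⟩ := E.cent g (mul_inv_eq_iff_eq_mul.1 h)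
    exact ⟨m, hm⟩

/-- The function on `C2 × L` supported on the section. -/
def secLift (Φ : L → ℂ) (m : C2 × L) : ℂ := if m.1 = c2 then 2 * Φ m.2 else 0

theorem secLift_gen [Fintype L] {Φ : L → ℂ} (hΦ : Cfsg.IsGeneralizedCharacter L Φ) :
    Cfsg.IsGeneralizedCharacter (C2 × L) (secLift Φ) := by
  let sg : C2 →* ℂˣ :=
    { toFun := fun a => if a = c2 then -1 else 1
      map_one' := by rw [if_neg c2_ne.symm]
      map_mul' := fun a b => by
        rcases C2_cases a with rfl | rfl <;> rcases C2_cases b with rfl | rfl <;>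
          simp [c2_ne.symm, c2_sq] }
  have h1 := IsGeneralizedCharacter.comp hΦ (MonoidHom.snd C2 L)
  have h2 : Cfsg.IsGeneralizedCharacter (C2 × L) (fun m => ((sg.comp (MonoidHom.fst C2 L)) m : ℂ)) :=
    IsGeneralizedCharacter.of_isCharacter (IsIrrCharacter.isCharacter (isIrrCharacter_linear _))
  have e : secLift Φ = (fun m => Φ (MonoidHom.snd C2 L m)) -
      (fun m => ((sg.comp (MonoidHom.fst C2 L)) m : ℂ)) * fun m => Φ (MonoidHom.snd C2 L m) := by
    funext m
    simp only [secLift, Pi.sub_apply, Pi.mul_apply, MonoidHom.comp_apply, MonoidHom.coe_fst,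
      MonoidHom.coe_snd, sg, MonoidHom.coe_mk, OneHom.coe_mk]
    split_ifs <;> push_cast <;> ring
  rw [e]
  exact IsGeneralizedCharacter.sub h1 (IsGeneralizedCharacter.mul h2 h1)

theorem lin_vanish [Fintype L] {X : Subgroup L} (hX : Odd (Nat.card X)) (lam : X →* ℂˣ) :
    GenVanish (secD (L := L)) (secLift (indLin X lam)) where
  supp := fun m hm => by
    unfold secLift at hm
    split_ifs at hm with h
    · exact ⟨h, indLin_odd hX (right_ne_zero_of_mul hm)⟩
    · exact absurd rfl hm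
  gen := secLift_gen (indLin_gen X lam)

variable [Fintype G] [Fintype L]

/-- The basic integers of the section. -/
noncomputable def z {X : Subgroup L} (hX : Odd (Nat.card X)) (lam : X →* ℂˣ) (χ : IrrCharacter G) :
    ℤ :=
  gcoef (lin_vanish hX lam) E.ι χ

theorem sum_C2L {f : C2 × L → ℂ} :
    ∑ m, f m = (∑ l, f (1, l)) + ∑ l, f (c2, l) := by
  rw [Fintype.sum_prod_type]
  have : (Finset.univ : Finset C2) = {1, c2} := by
    ext a; simpa using C2_cases a
  rw [this, Finset.sum_pair c2_ne.symm]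

theorem card_C2L : (Fintype.card (C2 × L) : ℂ) = 2 * Fintype.card L := by
  rw [Fintype.card_prod, Nat.cast_mul, ← Nat.card_eq_fintype_card, card_C2]
  norm_num

theorem z_spec {X : Subgroup L} [Fintype X] (hX : Odd (Nat.card X)) (lam : X →* ℂˣ)
    (χ : IrrCharacter G) :
    (E.z hX lam χ : ℂ) * (Nat.card X : ℂ) =
      ∑ x : X, conj (lam x : ℂ) * (χ : G → ℂ) (E.ι (c2, (x : L))) := by
  have h := gcoef_spec (lin_vanish hX lam) E.ι χ
  have hf : Cfsg.IsClassFunction L (fun l => (χ : G → ℂ) (E.ι (c2, l))) := fun b a => by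
    show (χ : G → ℂ) (E.ι (c2, a * b * a⁻¹)) = (χ : G → ℂ) (E.ι (c2, b))
    have e : E.ι (c2, a * b * a⁻¹) = E.ι (1, a) * E.ι (c2, b) * (E.ι (1, a))⁻¹ := by
      rw [← map_inv, ← map_mul, ← map_mul]
      refine congrArg E.ι (Prod.ext ?_ rfl)
      show c2 = 1 * c2 * 1⁻¹
      rw [one_mul, inv_one, mul_one]
    rw [e, IsCharacter.isClassFunction (IsIrrCharacter.isCharacter χ.2)]
  rw [card_C2L, sum_C2L] at h
  simp only [secLift, if_neg c2_ne.symm, map_zero, zero_mul, Finset.sum_const_zero, zero_add,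
    if_true, map_mul, map_ofNat, mul_assoc] at h
  rw [← Finset.mul_sum, sum_indLin_mul X lam hf] at h
  have hL : (Fintype.card L : ℂ) = (X.index : ℂ) * (Nat.card X : ℂ) := by
    rw [← Nat.cast_mul, mul_comm, Subgroup.card_mul_index, Nat.card_eq_fintype_card]
  rw [hL] at h
  refine mul_left_cancel₀ (mul_ne_zero two_ne_zero
    (Nat.cast_ne_zero.2 (Subgroup.index_ne_zero_of_finite (H := X)) : (X.index : ℂ) ≠ 0)) ?_
  show 2 * (X.index : ℂ) * ((gcoef (lin_vanish hX lam) E.ι χ : ℂ) * (Nat.card X : ℂ)) = _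
  linear_combination h

/-- Orthogonality in the section. -/
theorem z_gram {X Y : Subgroup L} (hX : Odd (Nat.card X)) (hY : Odd (Nat.card Y)) (lam : X →* ℂˣ)
    (mu : Y →* ℂˣ) :
    ((∑ χ, E.z hX lam χ * E.z hY mu χ : ℤ) : ℂ) * (Nat.card L : ℂ) =
      2 * ∑ l, conj (indLin X lam l) * indLin Y mu l := by
  have h := gorth E.sec_emb (lin_vanish hX lam) (lin_vanish hY mu)
  rw [card_C2L, sum_C2L] at h
  simp only [secLift, if_neg c2_ne.symm, map_zero, zero_mul, Finset.sum_const_zero, zero_add,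
    if_true, map_mul, map_ofNat] at h
  rw [Finset.mul_sum, Nat.card_eq_fintype_card]
  refine mul_left_cancel₀ (two_ne_zero (α := ℂ)) ?_
  calc (2 : ℂ) * (((∑ χ, E.z hX lam χ * E.z hY mu χ : ℤ) : ℂ) * (Fintype.card L : ℂ))
      = ((∑ χ, E.z hX lam χ * E.z hY mu χ : ℤ) : ℂ) * (2 * (Fintype.card L : ℂ)) := by ring
    _ = _ := h
    _ = _ := by
        rw [Finset.mul_sum]
        exact Finset.sum_congr rfl fun l _ => by ring

/-- The section functions vanish off the section. -/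
theorem z_vanish {X : Subgroup L} (hX : Odd (Nat.card X)) (lam : X →* ℂˣ) {y : G}
    (hy : ∀ l : L, Odd (orderOf l) → ¬ IsConj y (E.ι (c2, l))) :
    ∑ χ, (E.z hX lam χ : ℂ) * (χ : G → ℂ) y = 0 :=
  gvanish (ι := E.ι) (lin_vanish hX lam) fun m hm => by
    obtain ⟨a, l⟩ := m
    obtain ⟨ha, hl⟩ := hm
    obtain rfl : a = c2 := ha
    exact hy l hl

theorem sec_even {l : L} (hl : Odd (orderOf l)) : ¬ Odd (orderOf (E.ι (c2, l))) := fun h => by
  have h1 := E.sec_pow hl (dvd_mul_left (orderOf l) (orderOf (E.ι (c2, l)))) (h.mul hl)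
  rw [pow_mul, pow_orderOf_eq_one, one_pow] at h1
  exact E.τ_ne h1.symm

theorem z_deg {X : Subgroup L} (hX : Odd (Nat.card X)) (lam : X →* ℂˣ) :
    ∑ χ, (E.z hX lam χ : ℂ) * (χ : G → ℂ) 1 = 0 :=
  E.z_vanish hX lam fun l hl hc => E.sec_even hl (by
    obtain ⟨c, hc⟩ := isConj_iff.1 hc
    rw [mul_one, mul_inv_cancel] at hc
    rw [← hc, orderOf_one]
    exact odd_one)

open scoped Classical in
/-- The number of involutions of `L` inverting `l`. -/
noncomputable def invCount (l : L) : ℕ :=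
  Nat.card {a : L // a * a = 1 ∧ a ≠ 1 ∧ a * l * a⁻¹ = l⁻¹}

variable [IsSimpleGroup G]

theorem card_pairs {l : L} (hl : Odd (orderOf l)) :
    Nat.card {a : G // IsConj E.τ a ∧ IsConj E.τ (a⁻¹ * E.ι (c2, l))} = 2 * invCount l := by
  unfold invCount
  rw [show 2 * Nat.card {a : L // a * a = 1 ∧ a ≠ 1 ∧ a * l * a⁻¹ = l⁻¹} =
    Nat.card (C2 × {a : L // a * a = 1 ∧ a ≠ 1 ∧ a * l * a⁻¹ = l⁻¹}) by rw [Nat.card_prod, card_C2]]
  have hτinv : ∀ a : G, IsConj E.τ a → a * a = 1 ∧ a ≠ 1 := fun a ha => by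
    obtain ⟨c, rfl⟩ := isConj_iff.1 ha
    refine ⟨?_, fun h => E.τ_ne (conj_eq_one_iff.1 h)⟩
    rw [show c * E.τ * c⁻¹ * (c * E.τ * c⁻¹) = c * (E.τ * E.τ) * c⁻¹ by group, E.τ_sq, mul_one,
      mul_inv_cancel]
  have mem : ∀ (e : C2) (m : L), m * m = 1 → m ≠ 1 → m * l * m⁻¹ = l⁻¹ →
      IsConj E.τ (E.ι (e, m)) ∧ IsConj E.τ ((E.ι (e, m))⁻¹ * E.ι (c2, l)) := by
    intro e m hm hm1 hinv
    constructor
    · refine E.conj_t ?_ fun h => hm1 (congrArg Prod.snd (E.inj (h.trans (map_one E.ι).symm)))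
      rw [← map_mul, Prod.mk_mul_mk, C2_sq, hm, Prod.mk_one_one, map_one]
    · have hmi : m⁻¹ = m := inv_eq_of_mul_eq_one_right hm
      rw [← map_inv, ← map_mul, Prod.inv_mk, Prod.mk_mul_mk, hmi]
      refine E.conj_t ?_ fun h => ?_
      · rw [← map_mul, Prod.mk_mul_mk, C2_sq,
          show m * l * (m * l) = m * l * m⁻¹ * l by rw [hmi]; group, hinv, inv_mul_cancel,
          Prod.mk_one_one, map_one]
      · have h' := congrArg Prod.snd (E.inj (h.trans (map_one E.ι).symm))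
        have h'' : l = m := by
          rw [← hmi]; exact (inv_eq_of_mul_eq_one_right h').symm
        subst h''
        have ho : orderOf l = 2 := orderOf_eq_prime (by rw [pow_two, hm]) hm1
        rw [ho] at hl
        exact absurd hl (by decide)
  refine (Nat.card_eq_of_bijective (fun p : C2 × {a : L // a * a = 1 ∧ a ≠ 1 ∧ a * l * a⁻¹ = l⁻¹} =>
      (⟨E.ι (p.1, (p.2 : L)), mem p.1 p.2 p.2.2.1 p.2.2.2.1 p.2.2.2.2⟩ :
        {a : G // IsConj E.τ a ∧ IsConj E.τ (a⁻¹ * E.ι (c2, l))})) ⟨?_, ?_⟩).symm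
  · intro p p' h
    have h' := E.inj (congrArg Subtype.val h)
    simp only [Prod.mk.injEq] at h'
    exact Prod.ext h'.1 (Subtype.ext h'.2)
  · rintro ⟨a, ha, hb⟩
    obtain ⟨ha2, ha1⟩ := hτinv a ha
    obtain ⟨hb2, hb1⟩ := hτinv _ hb
    have hai : a⁻¹ = a := inv_eq_of_mul_eq_one_right ha2
    rw [hai] at hb2 hb1
    have e1 : a * E.ι (c2, l) * a⁻¹ = (E.ι (c2, l))⁻¹ := by
      rw [hai]
      exact eq_inv_of_mul_eq_one_left (by rw [← hb2]; group)
    have e2 : a * E.τ * a⁻¹ = E.τ := by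
      have h := congrArg (· ^ orderOf l) e1
      simp only [conj_pow, inv_pow] at h
      rwa [E.sec_pow hl dvd_rfl hl, inv_eq_of_mul_eq_one_right E.τ_sq] at h
    obtain ⟨⟨e, m⟩, rfl⟩ := E.cent a (mul_inv_eq_iff_eq_mul.1 e2)
    rw [← map_mul, ← map_mul] at hb2
    have hm2 : m * m = 1 := by
      rw [← map_mul] at ha2
      exact congrArg Prod.snd (E.inj (ha2.trans (map_one E.ι).symm))
    have hml : m * l * (m * l) = 1 := congrArg Prod.snd (E.inj (hb2.trans (map_one E.ι).symm))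
    have hinv : m * l * m⁻¹ = l⁻¹ := by
      rw [inv_eq_of_mul_eq_one_right hm2]
      exact eq_inv_of_mul_eq_one_left (by rw [← hml]; group)
    have hm1 : m ≠ 1 := by
      rintro rfl
      have hl2 : l * l = 1 := by simpa using hml
      have hl1 : l = 1 := by
        have hd : orderOf l ∣ 2 := orderOf_dvd_of_pow_eq_one (by rw [pow_two, hl2])
        exact orderOf_eq_one_iff.1 (Nat.eq_one_of_dvd_coprimes (Nat.coprime_two_right.2 hl) dvd_rfl hd)
      subst hl1
      rcases C2_cases e with rfl | rfl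
      · exact ha1 (by rw [Prod.mk_one_one, map_one])
      · exact hb1 (by rw [← map_mul, Prod.mk_mul_mk, c2_sq, one_mul, Prod.mk_one_one, map_one])
    exact ⟨(e, ⟨m, hm2, hm1, hinv⟩), rfl⟩

theorem card_cent_τ : Nat.card (Subgroup.centralizer ({E.τ} : Set G)) = 2 * Nat.card L := by
  rw [show 2 * Nat.card L = Nat.card (C2 × L) by rw [Nat.card_prod, card_C2]]
  refine (Nat.card_eq_of_bijective (fun m => (⟨E.ι m, Subgroup.mem_centralizer_singleton_iff.2
    (E.τ_comm m)⟩ : Subgroup.centralizer ({E.τ} : Set G))) ⟨fun a b h => E.inj (congrArg Subtype.val h),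
    fun g => ?_⟩).symm
  obtain ⟨m, hm⟩ := E.cent g.1 (Subgroup.mem_centralizer_singleton_iff.1 g.2)
  exact ⟨m, Subtype.ext hm⟩

/-- Class products in the section. -/
theorem z_pair {X : Subgroup L} [Fintype X] (hX : Odd (Nat.card X)) (lam : X →* ℂˣ) :
    (∑ χ, (E.z hX lam χ : ℂ) * ((χ : G → ℂ) E.τ ^ 2 / (χ : G → ℂ) 1)) * (Nat.card X : ℂ) *
        (Nat.card G : ℂ) =
      (2 * (Nat.card L : ℂ)) ^ 2 * ∑ x : X, conj (lam x : ℂ) * (2 * invCount (x : L) : ℕ) := by
  rw [mul_assoc, Finset.sum_mul]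
  have hk : ∀ x : X, ∑ χ : IrrCharacter G,
      (χ : G → ℂ) E.τ ^ 2 / (χ : G → ℂ) 1 * (χ : G → ℂ) (E.ι (c2, (x : L))) * (Nat.card G : ℂ) =
      (2 * (Nat.card L : ℂ)) ^ 2 * (2 * invCount (x : L) : ℕ) := by
    intro x
    have hxo : Odd (orderOf ((x : L)⁻¹)) := by
      rw [orderOf_inv]; exact hX.of_dvd_nat (Subgroup.orderOf_dvd_natCard X x.2)
    have h := ClassCount.pair_count E.τ E.τ (E.ι (c2, (x : L)⁻¹))
    rw [E.card_pairs hxo, E.card_cent_τ] at h
    have hic : invCount ((x : L)⁻¹) = invCount (x : L) := by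
      unfold invCount
      refine Nat.card_congr (Equiv.subtypeEquivRight fun a => and_congr_right fun _ => and_congr_right fun _ => ?_)
      constructor <;> intro h <;> have h' := congrArg (·⁻¹) h <;> simpa [mul_assoc] using h'
    have hinv : E.ι (c2, (x : L)⁻¹) = (E.ι (c2, (x : L)))⁻¹ := by
      rw [← map_inv, Prod.inv_mk]
      exact congrArg E.ι (Prod.ext (inv_eq_of_mul_eq_one_right c2_sq).symm rfl)
    rw [hic, hinv, Finset.mul_sum] at h
    push_cast at h ⊢
    refine Eq.trans ?_ (h.symm.trans (by ring))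
    refine Finset.sum_congr rfl fun χ _ => ?_
    rw [IsCharacter.inv (IsIrrCharacter.isCharacter χ.2), Complex.conj_conj]
    ring
  calc ∑ χ, (E.z hX lam χ : ℂ) * ((χ : G → ℂ) E.τ ^ 2 / (χ : G → ℂ) 1) *
        ((Nat.card X : ℂ) * (Nat.card G : ℂ))
      = ∑ χ : IrrCharacter G, ∑ x : X, conj (lam x : ℂ) *
          ((χ : G → ℂ) E.τ ^ 2 / (χ : G → ℂ) 1 * (χ : G → ℂ) (E.ι (c2, (x : L))) * (Nat.card G : ℂ)) := by
        refine Finset.sum_congr rfl fun χ _ => ?_
        rw [show (E.z hX lam χ : ℂ) * ((χ : G → ℂ) E.τ ^ 2 / (χ : G → ℂ) 1) *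
          ((Nat.card X : ℂ) * (Nat.card G : ℂ)) = ((E.z hX lam χ : ℂ) * (Nat.card X : ℂ)) *
          (((χ : G → ℂ) E.τ ^ 2 / (χ : G → ℂ) 1) * (Nat.card G : ℂ)) by ring, E.z_spec, Finset.sum_mul]
        exact Finset.sum_congr rfl fun x _ => by ring
    _ = _ := by
        rw [Finset.sum_comm, Finset.mul_sum]
        refine Finset.sum_congr rfl fun x _ => ?_
        rw [← Finset.mul_sum, hk x]
        ring

/-- The value at `τ` from the dual of `X`. -/
theorem z_sum {X : Subgroup L} [Fintype X] [Fintype (X →* ℂˣ)] (hX : Odd (Nat.card X))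
    (hc : ∀ a ∈ X, ∀ b ∈ X, a * b = b * a) (χ : IrrCharacter G) :
    ∑ lam : X →* ℂˣ, (E.z hX lam χ : ℂ) = (χ : G → ℂ) E.τ := by
  classical
  refine mul_right_cancel₀ (Nat.cast_ne_zero.2 (Nat.card_pos (α := X)).ne') ?_
  rw [Finset.sum_mul]
  simp only [E.z_spec]
  rw [Finset.sum_comm]
  simp only [← Finset.sum_mul, ← map_sum, sum_dual X hc]
  rw [Finset.sum_eq_single (1 : X) (fun x _ hx => by rw [if_neg hx, map_zero, zero_mul])
    (fun h => absurd (Finset.mem_univ _) h), if_pos rfl, map_natCast, Subgroup.coe_one, mul_comm]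

end Setup

end Cfsg.Agent.JanThom
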