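import Mathlib

/-!
Integer vectors with the Gram relations of the columns `e`, `b`, `w`: the two possible shapes and
the consequences for vectors of norm three.
-/

set_option autoImplicit false
set_option linter.unusedSectionVars false

namespace Cfsg.Agent.JanThom

open scoped Classical

/-- Three columns with their Gram relations and a permutation negating the third. -/
structure Cols (X : Type*) [Fintype X] where
  o : X
  e : X → ℤ
  b : X → ℤ
  w : X → ℤ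
  τ : Equiv.Perm X
  τe : ∀ i, e (τ i) = e i
  τb : ∀ i, b (τ i) = b i
  τw : ∀ i, w (τ i) = -w i
  τo : τ o = o
  ee : ∑ i, e i * e i = 8
  bb : ∑ i, b i * b i = 4
  ww : ∑ i, w i * w i = 4
  eb : ∑ i, e i * b i = 0
  ew : ∑ i, e i * w i = 0
  o_e : e o = 1
  o_b : b o = 1
  o_w : w o = 0
  par : ∀ i, Even (e i + b i + w i)

namespace Cols

variable {X : Type*} [Fintype X] (c : Cols X)

theorem sq_le (f : X → ℤ) (i : X) : f i * f i ≤ ∑ j, f j * f j :=
  Finset.single_le_sum (fun j _ => mul_self_nonneg (f j)) (Finset.mem_univ i)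

theorem sq_add_le (f : X → ℤ) {i j : X} (h : i ≠ j) :
    f i * f i + f j * f j ≤ ∑ l, f l * f l := by
  rw [← Finset.sum_pair (f := fun l => f l * f l) h]
  exact Finset.sum_le_univ_sum_of_nonneg fun l => mul_self_nonneg (f l)

theorem abs_b (i : X) : c.b i = 0 ∨ c.b i = 1 ∨ c.b i = -1 := by
  by_cases hi : i = c.o
  · exact Or.inr (Or.inl (hi ▸ c.o_b))
  have h := sq_add_le c.b hi
  rw [c.bb, c.o_b] at h
  have : -2 < c.b i ∧ c.b i < 2 := by constructor <;> nlinarith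
  omega

theorem τ_ne {i : X} (h : c.w i ≠ 0) : c.τ i ≠ i := fun e => h (by
  have := c.τw i
  rw [e] at this
  omega)

theorem abs_w (i : X) : c.w i = 0 ∨ c.w i = 1 ∨ c.w i = -1 := by
  by_cases h0 : c.w i = 0
  · exact Or.inl h0
  have h := sq_add_le c.w (c.τ_ne h0)
  rw [c.ww, c.τw] at h
  have : -2 < c.w i ∧ c.w i < 2 := by constructor <;> nlinarith
  omega

theorem abs_e (i : X) : -2 ≤ c.e i ∧ c.e i ≤ 2 := by
  have h := sq_le c.e i
  rw [c.ee] at h
  constructor <;> nlinarith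

theorem e_two_unique {i j : X} (hi : c.e i = 2 ∨ c.e i = -2) (hj : c.e j = 2 ∨ c.e j = -2) : i = j := by
  by_contra h
  have hio : c.o ≠ i := fun e => by rw [← e, c.o_e] at hi; omega
  have hjo : c.o ≠ j := fun e => by rw [← e, c.o_e] at hj; omega
  have h3 : ∑ l ∈ ({c.o, i, j} : Finset X), c.e l * c.e l ≤ ∑ l, c.e l * c.e l :=
    Finset.sum_le_univ_sum_of_nonneg fun l => mul_self_nonneg (c.e l)
  rw [Finset.sum_insert (by simp [hio, hjo]), Finset.sum_pair h, c.ee, c.o_e] at h3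
  rcases hi with hi | hi <;> rcases hj with hj | hj <;> rw [hi, hj] at h3 <;> omega

/-- Rows with non-zero `b`. -/
noncomputable def bS : Finset X := Finset.univ.filter fun i => c.b i ≠ 0

/-- Rows with non-zero `w`. -/
noncomputable def wS : Finset X := Finset.univ.filter fun i => c.w i ≠ 0

theorem mem_bS {i : X} : i ∈ c.bS ↔ c.b i ≠ 0 := by simp [bS]

theorem mem_wS {i : X} : i ∈ c.wS ↔ c.w i ≠ 0 := by simp [wS]

theorem card_supp {f : X → ℤ} (hf : ∀ i, f i = 0 ∨ f i = 1 ∨ f i = -1) :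
    ((Finset.univ.filter fun i => f i ≠ 0).card : ℤ) = ∑ i, f i * f i := by
  rw [Finset.card_filter, Nat.cast_sum]
  refine Finset.sum_congr rfl fun i _ => ?_
  rcases hf i with h | h | h <;> simp [h]

theorem card_bS : c.bS.card = 4 := by
  have h := card_supp c.abs_b
  rw [c.bb] at h
  exact_mod_cast h

theorem card_wS : c.wS.card = 4 := by
  have h := card_supp c.abs_w
  rw [c.ww] at h
  exact_mod_cast h

theorem o_mem : c.o ∈ c.bS := c.mem_bS.2 (by rw [c.o_b]; norm_num)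

theorem τ_wS {i : X} (h : i ∈ c.wS) : c.τ i ∈ c.wS := c.mem_wS.2 (by
  rw [c.τw]; exact neg_ne_zero.2 (c.mem_wS.1 h))

theorem τ_bS {i : X} (h : i ∈ c.bS) : c.τ i ∈ c.bS := c.mem_bS.2 (by
  rw [c.τb]; exact c.mem_bS.1 h)

theorem e_sq (i : X) : c.e i * c.e i =
    ((if i ∈ c.bS ∧ i ∉ c.wS then 1 else 0) + (if i ∈ c.wS ∧ i ∉ c.bS then 1 else 0)) +
      (if c.e i = 2 ∨ c.e i = -2 then 4 else 0) := by
  simp only [c.mem_bS, c.mem_wS]
  obtain ⟨m, hm⟩ := c.par i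
  obtain ⟨h1, h2⟩ := c.abs_e i
  rcases c.abs_b i with hb | hb | hb <;> rcases c.abs_w i with hw | hw | hw <;>
    (rw [hb, hw] at hm ⊢; obtain h | h | h | h | h : c.e i = -2 ∨ c.e i = -1 ∨ c.e i = 0 ∨
      c.e i = 1 ∨ c.e i = 2 := by omega) <;> rw [h] at hm ⊢ <;> first | omega | norm_num

theorem dichotomy :
    (Disjoint c.bS c.wS ∧ ∀ i, c.e i = 0 ∨ c.e i = 1 ∨ c.e i = -1) ∨
    ((c.bS ∩ c.wS).card = 2 ∧ ∃ i, c.e i = 2 ∨ c.e i = -2) := by
  have h := c.ee
  rw [Finset.sum_congr rfl fun i _ => c.e_sq i, Finset.sum_add_distrib, Finset.sum_add_distrib,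
    Finset.sum_boole, Finset.sum_boole] at h
  have e1 : (Finset.univ.filter fun i => i ∈ c.bS ∧ i ∉ c.wS) = c.bS \ c.wS := by
    ext i; simp
  have e2 : (Finset.univ.filter fun i => i ∈ c.wS ∧ i ∉ c.bS) = c.wS \ c.bS := by
    ext i; simp
  rw [e1, e2] at h
  have k1 := Finset.card_sdiff_add_card_inter c.bS c.wS
  have k2 := Finset.card_sdiff_add_card_inter c.wS c.bS
  rw [Finset.inter_comm c.wS] at k2
  rw [c.card_bS] at k1
  rw [c.card_wS] at k2
  by_cases hex : ∃ i, c.e i = 2 ∨ c.e i = -2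
  · right
    obtain ⟨x, hx⟩ := hex
    rw [Finset.sum_eq_single x (fun i _ hi => if_neg fun h' => hi (c.e_two_unique h' hx))
      (fun h' => absurd (Finset.mem_univ x) h'), if_pos hx] at h
    exact ⟨by omega, x, hx⟩
  · left
    push Not at hex
    rw [Finset.sum_eq_zero fun i _ => if_neg fun h' => h'.elim (hex i).1 (hex i).2] at h
    refine ⟨Finset.disjoint_iff_inter_eq_empty.2 (Finset.card_eq_zero.1 (by omega)), fun i => ?_⟩
    have := c.abs_e i
    have := hex i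
    omega

theorem e_even_of_not {i : X} (hb : c.b i = 0) (hw : c.w i = 0) : Even (c.e i) := by
  have := c.par i
  rwa [hb, hw, add_zero, add_zero] at this

/-- The shape with eight rows `e = ±1`. -/
structure Eight where
  A : X
  B : X
  C : X
  D : X
  E : X
  bS_eq : c.bS = {c.o, A, B, C}
  wS_eq : c.wS = {D, E, c.τ D, c.τ E}
  eb_A : c.e A * c.b A = 1
  eb_B : c.e B * c.b B = -1
  eb_C : c.e C * c.b C = -1
  ew_D : c.e D * c.w D = 1
  ew_E : c.e E * c.w E = 1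
  ne : c.o ≠ A ∧ c.o ≠ B ∧ c.o ≠ C ∧ A ≠ B ∧ A ≠ C ∧ B ≠ C ∧ D ≠ E
  disj : Disjoint c.bS c.wS
  e_small : ∀ i, c.e i = 0 ∨ c.e i = 1 ∨ c.e i = -1
  e_ne : ∀ i, c.e i ≠ 0 ↔ i ∈ c.bS ∪ c.wS

/-- The shape with one row `e = ±2`. -/
structure Four where
  P : X
  X₀ : X
  R : X
  D : X
  bS_eq : c.bS = {c.o, P, R, c.τ R}
  wS_eq : c.wS = {R, c.τ R, D, c.τ D}
  eb_P : c.e P * c.b P = -1
  e_X : c.e X₀ = 2 ∨ c.e X₀ = -2
  X_zero : c.b X₀ = 0 ∧ c.w X₀ = 0 ∧ c.τ X₀ = X₀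
  ne : c.o ≠ P ∧ c.w P = 0 ∧ c.b D = 0 ∧ c.b R ≠ 0 ∧ c.w R ≠ 0 ∧ c.w D ≠ 0
  e_ne : ∀ i, c.e i ≠ 0 ↔ (i = c.o ∨ i = P ∨ i = X₀ ∨ i = D ∨ i = c.τ D)

theorem unit_mul_cases {a b : ℤ} (ha : a = 0 ∨ a = 1 ∨ a = -1) (hb : b = 0 ∨ b = 1 ∨ b = -1)
    (ha0 : a ≠ 0) (hb0 : b ≠ 0) : a * b = 1 ∨ a * b = -1 := by
  rcases ha with rfl | rfl | rfl <;> rcases hb with rfl | rfl | rfl <;> simp at ha0 hb0 ⊢

theorem eight_of_disjoint (hd : Disjoint c.bS c.wS) (he : ∀ i, c.e i = 0 ∨ c.e i = 1 ∨ c.e i = -1) :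
    Nonempty c.Eight := by
  have hd' := Finset.disjoint_left.1 hd
  have e_ne : ∀ i, c.e i ≠ 0 ↔ i ∈ c.bS ∪ c.wS := by
    intro i
    have h := c.e_sq i
    have h2 : ¬ (c.e i = 2 ∨ c.e i = -2) := by have := he i; omega
    rw [if_neg h2, add_zero] at h
    rw [Finset.mem_union]
    by_cases hb : i ∈ c.bS <;> by_cases hw : i ∈ c.wS
    · exact absurd hw (hd' hb)
    · simp [hb, hw] at h ⊢
      rintro h0; rw [h0] at h; norm_num at h
    · simp [hb, hw] at h ⊢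
      rintro h0; rw [h0] at h; norm_num at h
    · simp [hb, hw] at h ⊢
      exact h
  -- the rows of `b`
  have hb3 : (c.bS.erase c.o).card = 3 := by rw [Finset.card_erase_of_mem c.o_mem, c.card_bS]
  obtain ⟨x, y, z, hxy, hxz, hyz, hxyz⟩ := Finset.card_eq_three.1 hb3
  have hbS : c.bS = {c.o, x, y, z} := by rw [← Finset.insert_erase c.o_mem, hxyz]
  have hm : ∀ i ∈ ({x, y, z} : Finset X), i ≠ c.o ∧ i ∈ c.bS := fun i hi => by
    rw [← hxyz] at hi; exact ⟨(Finset.mem_erase.1 hi).1, (Finset.mem_erase.1 hi).2⟩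
  obtain ⟨hxo, hxb⟩ := hm x (by simp)
  obtain ⟨hyo, hyb⟩ := hm y (by simp)
  obtain ⟨hzo, hzb⟩ := hm z (by simp)
  have hv : ∀ i ∈ c.bS, c.e i * c.b i = 1 ∨ c.e i * c.b i = -1 := fun i hi =>
    unit_mul_cases (he i) (c.abs_b i) ((e_ne i).2 (Finset.mem_union_left _ hi)) (c.mem_bS.1 hi)
  have hsum : c.e x * c.b x + c.e y * c.b y + c.e z * c.b z = -1 := by
    have h := c.eb
    rw [← Finset.sum_subset (Finset.subset_univ c.bS) fun i _ hi => by
      rw [c.mem_bS, not_not] at hi; rw [hi, mul_zero], ← Finset.add_sum_erase _ _ c.o_mem,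
      c.o_e, c.o_b, hxyz, Finset.sum_insert (by simp [hxy, hxz]), Finset.sum_pair hyz] at h
    linarith
  -- the rows of `w`
  let M : ℤ → Finset X := fun s => c.wS.filter fun i => c.e i * c.w i = s
  have hM : ∀ s : ℤ, ∀ i ∈ M s, c.τ i ∈ M (-s) := by
    intro s i hi
    obtain ⟨h1, h2⟩ := Finset.mem_filter.1 hi
    exact Finset.mem_filter.2 ⟨c.τ_wS h1, by rw [c.τe, c.τw, mul_neg, h2]⟩
  have hle : ∀ s : ℤ, (M s).card ≤ (M (-s)).card := fun s =>
    Finset.card_le_card_of_injOn c.τ (hM s) c.τ.injective.injOn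
  have hcard : (M 1).card + (M (-1)).card = 4 := by
    rw [← c.card_wS, ← Finset.card_union_of_disjoint]
    · refine congrArg _ (Finset.ext fun i => ?_)
      simp only [M, Finset.mem_union, Finset.mem_filter]
      refine ⟨fun h => h.elim And.left And.left, fun h => ?_⟩
      rcases unit_mul_cases (he i) (c.abs_w i) ((e_ne i).2 (Finset.mem_union_right _ h))
        (c.mem_wS.1 h) with h' | h'
      exacts [Or.inl ⟨h, h'⟩, Or.inr ⟨h, h'⟩]
    · exact Finset.disjoint_filter.2 fun i _ h1 h2 => by rw [h1] at h2; norm_num at h2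
  have hP2 : (M 1).card = 2 := by
    have h1 := hle 1
    have h2 := hle (-1)
    rw [neg_neg] at h2
    omega
  obtain ⟨D, E, hDE, hPE⟩ := Finset.card_eq_two.1 hP2
  have hN : M (-1) = {c.τ D, c.τ E} := by
    refine (Finset.eq_of_subset_of_card_le ?_ ?_).symm
    · intro i hi
      rcases Finset.mem_insert.1 hi with rfl | hi
      · exact hM 1 D (by rw [hPE]; simp)
      · rw [Finset.mem_singleton.1 hi]; exact hM 1 E (by rw [hPE]; simp)
    · rw [Finset.card_pair fun h => hDE (c.τ.injective h)]; omega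
  have hwS : c.wS = {D, E, c.τ D, c.τ E} := by
    ext i
    have : i ∈ c.wS ↔ i ∈ M 1 ∪ M (-1) := by
      simp only [M, Finset.mem_union, Finset.mem_filter]
      refine ⟨fun h => ?_, fun h => h.elim And.left And.left⟩
      rcases unit_mul_cases (he i) (c.abs_w i) ((e_ne i).2 (Finset.mem_union_right _ h))
        (c.mem_wS.1 h) with h' | h'
      exacts [Or.inl ⟨h, h'⟩, Or.inr ⟨h, h'⟩]
    rw [this, hPE, hN]
    simp; tauto
  have hD : c.e D * c.w D = 1 := (Finset.mem_filter.1 (show D ∈ M 1 by rw [hPE]; simp)).2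
  have hE : c.e E * c.w E = 1 := (Finset.mem_filter.1 (show E ∈ M 1 by rw [hPE]; simp)).2
  rcases hv x hxb with h1 | h1 <;> rcases hv y hyb with h2 | h2 <;> rcases hv z hzb with h3 | h3 <;>
    try omega
  · exact ⟨⟨x, y, z, D, E, hbS, hwS, h1, h2, h3, hD, hE,
      ⟨hxo.symm, hyo.symm, hzo.symm, hxy, hxz, hyz, hDE⟩, hd, he, e_ne⟩⟩
  · exact ⟨⟨y, x, z, D, E, by rw [hbS]; ext i; simp; tauto, hwS, h2, h1, h3, hD, hE,
      ⟨hyo.symm, hxo.symm, hzo.symm, hxy.symm, hyz, hxz, hDE⟩, hd, he, e_ne⟩⟩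
  · exact ⟨⟨z, x, y, D, E, by rw [hbS]; ext i; simp; tauto, hwS, h3, h1, h2,
      hD, hE, ⟨hzo.symm, hxo.symm, hyo.symm, hxz.symm, hyz.symm, hxy, hDE⟩, hd, he, e_ne⟩⟩

theorem four_of_inter (hc : (c.bS ∩ c.wS).card = 2) {X₀ : X} (hX : c.e X₀ = 2 ∨ c.e X₀ = -2) :
    Nonempty c.Four := by
  have hτX : c.τ X₀ = X₀ := c.e_two_unique (by rw [c.τe]; exact hX) hX
  have hwX : c.w X₀ = 0 := by
    by_contra h; exact c.τ_ne h hτX
  have hbX : c.b X₀ = 0 := by
    obtain ⟨m, hm⟩ := c.par X₀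
    rcases c.abs_b X₀ with h | h | h <;> omega
  obtain ⟨R, hR⟩ := Finset.card_pos.1 (hc ▸ two_pos : 0 < (c.bS ∩ c.wS).card)
  obtain ⟨hRb, hRw⟩ := Finset.mem_inter.1 hR
  have hO : c.bS ∩ c.wS = {R, c.τ R} := by
    refine (Finset.eq_of_subset_of_card_le ?_ ?_).symm
    · intro i hi
      rcases Finset.mem_insert.1 hi with rfl | hi
      · exact hR
      · rw [Finset.mem_singleton.1 hi]; exact Finset.mem_inter.2 ⟨c.τ_bS hRb, c.τ_wS hRw⟩
    · rw [Finset.card_pair (c.τ_ne (c.mem_wS.1 hRw)).symm, hc]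
  have hoO : c.o ∉ c.wS := by simp [c.mem_wS, c.o_w]
  have hb2 : (c.bS \ c.wS).card = 2 := by
    have := Finset.card_sdiff_add_card_inter c.bS c.wS
    rw [c.card_bS, hc] at this; omega
  have hw2 : (c.wS \ c.bS).card = 2 := by
    have := Finset.card_sdiff_add_card_inter c.wS c.bS
    rw [Finset.inter_comm, c.card_wS, hc] at this; omega
  have ho : c.o ∈ c.bS \ c.wS := Finset.mem_sdiff.2 ⟨c.o_mem, hoO⟩
  obtain ⟨P, hP⟩ := Finset.card_eq_one.1
    (show ((c.bS \ c.wS).erase c.o).card = 1 by rw [Finset.card_erase_of_mem ho, hb2])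
  have hPm : P ∈ (c.bS \ c.wS).erase c.o := by rw [hP]; simp
  obtain ⟨hPo, hPm⟩ := Finset.mem_erase.1 hPm
  obtain ⟨hPb, hPw⟩ := Finset.mem_sdiff.1 hPm
  obtain ⟨D, hD⟩ := Finset.card_pos.1 (hw2 ▸ two_pos : 0 < (c.wS \ c.bS).card)
  obtain ⟨hDw, hDb⟩ := Finset.mem_sdiff.1 hD
  have hDτ : c.wS \ c.bS = {D, c.τ D} := by
    refine (Finset.eq_of_subset_of_card_le ?_ ?_).symm
    · intro i hi
      rcases Finset.mem_insert.1 hi with rfl | hi
      · exact hD
      · rw [Finset.mem_singleton.1 hi]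
        exact Finset.mem_sdiff.2 ⟨c.τ_wS hDw, fun h => hDb (c.mem_bS.2 (by
          rw [← c.τb]; exact c.mem_bS.1 h))⟩
    · rw [Finset.card_pair (c.τ_ne (c.mem_wS.1 hDw)).symm, hw2]
  have hbd : c.bS \ c.wS = {c.o, P} := by rw [← Finset.insert_erase ho, hP]
  have hbS : c.bS = {c.o, P, R, c.τ R} := by
    rw [← Finset.sdiff_union_inter c.bS c.wS, hbd, hO]
    ext i; simp; tauto
  have hwS : c.wS = {R, c.τ R, D, c.τ D} := by
    rw [← Finset.sdiff_union_inter c.wS c.bS, hDτ, Finset.inter_comm, hO]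
    ext i; simp; tauto
  simp only [c.mem_bS, c.mem_wS, not_not] at hRb hRw hPb hPw hDb hDw
  have hRe : c.e R = 0 ∧ c.e (c.τ R) = 0 := by
    have h : c.e R = 0 := by
      have h1 := c.e_sq R
      rw [if_neg (fun h => h.2 (c.mem_wS.2 hRw)), if_neg (fun h => h.2 (c.mem_bS.2 hRb)),
        if_neg fun h => c.τ_ne hRw ?_] at h1
      · simpa using h1
      · rw [c.e_two_unique h hX]; exact hτX
    exact ⟨h, by rw [c.τe, h]⟩
  have e_ne : ∀ i, c.e i ≠ 0 ↔ (i = c.o ∨ i = P ∨ i = X₀ ∨ i = D ∨ i = c.τ D) := by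
    intro i
    have h := c.e_sq i
    constructor
    · intro hne
      by_cases h2 : c.e i = 2 ∨ c.e i = -2
      · exact Or.inr (Or.inr (Or.inl (c.e_two_unique h2 hX)))
      rw [if_neg h2, add_zero] at h
      by_cases hb : i ∈ c.bS \ c.wS
      · rw [hbd] at hb; simp at hb; tauto
      by_cases hw : i ∈ c.wS \ c.bS
      · rw [hDτ] at hw; simp at hw; tauto
      rw [Finset.mem_sdiff] at hb hw
      rw [if_neg hb, if_neg hw] at h
      exact absurd (mul_self_eq_zero.1 (by simpa using h)) hne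
    · intro hi hz
      rw [hz] at h
      rcases hi with hh | hh | hh | hh | hh <;> rw [hh] at hz h
      · rw [c.o_e] at hz; norm_num at hz
      · rw [if_pos ⟨c.mem_bS.2 hPb, by rw [c.mem_wS, hPw, ne_self_iff_false]; exact id⟩] at h
        split_ifs at h <;> norm_num at h
      · omega
      · rw [if_pos (show D ∈ c.wS ∧ D ∉ c.bS from ⟨c.mem_wS.2 hDw, by rw [c.mem_bS, hDb]; simp⟩)] at h
        split_ifs at h <;> norm_num at h
      · rw [c.τe] at hz
        have h' := c.e_sq D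
        rw [hz, if_pos (show D ∈ c.wS ∧ D ∉ c.bS from ⟨c.mem_wS.2 hDw, by rw [c.mem_bS, hDb]; simp⟩)] at h'
        split_ifs at h' <;> norm_num at h'
  have hebP : c.e P * c.b P = -1 := by
    have h := c.eb
    rw [← Finset.sum_subset (Finset.subset_univ c.bS) (fun i _ hi => by
      rw [c.mem_bS, not_not] at hi; rw [hi, mul_zero]), ← Finset.sdiff_union_inter c.bS c.wS, hbd, hO,
      Finset.sum_union (by rw [← hbd, ← hO]; exact Finset.disjoint_sdiff_inter _ _),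
      Finset.sum_pair hPo.symm, Finset.sum_pair (c.τ_ne hRw).symm, c.o_e, c.o_b, hRe.1, hRe.2] at h
    linarith
  exact ⟨⟨P, X₀, R, D, hbS, hwS, hebP, hX, ⟨hbX, hwX, hτX⟩,
    ⟨hPo.symm, hPw, hDb, hRb, hRw, hDw⟩, e_ne⟩⟩

theorem shape : Nonempty c.Eight ∨ Nonempty c.Four := by
  rcases c.dichotomy with ⟨h1, h2⟩ | ⟨h1, x, hx⟩
  exacts [Or.inl (c.eight_of_disjoint h1 h2), Or.inr (c.four_of_inter h1 hx)]

end Cols

end Cfsg.Agent.JanThom
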