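import Cfsg.Agent.Lib.JanThom.Cols2
import Cfsg.Agent.Lib.Char.OddIndexReal

/-!
The torus coefficient families used in the row analysis.
-/

set_option autoImplicit false
set_option linter.unusedSectionVars false

namespace Cfsg.Agent.JanThom

open Cfsg Cfsg.Agent.Char Cfsg.Agent.OddIndexReal
open scoped Classical

universe u v

variable {G : Type u} [Group G] {L : Type v} [Group L] {Q : ℤ}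

/-- The two families `a0`, `a1` of multiplicities of the torus functions. -/
structure Setup.TFam (E : Setup G L Q) [Fintype G] [Fintype L] [IsSimpleGroup G] where
  a0 : (E.D.Zh →* ℂˣ) → IrrCharacter G → ℤ
  a1 : (E.D.Zh →* ℂˣ) → IrrCharacter G → ℤ
  sh : Equiv.Perm (E.D.Zh →* ℂˣ)
  sh_one : sh 1 = 1
  h_mod : E.D.h % 6 = 1
  at_one : ∀ χ, a0 1 χ = 0 ∧ a1 1 χ = 0
  inv : ∀ l χ, a0 l⁻¹ χ = a0 l χ ∧ a1 l⁻¹ χ = a1 l χ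
  sh_a0 : ∀ l χ, a0 (sh l) χ = a0 l χ
  principal : ∀ l, l ≠ 1 → a0 l (principal G) = 1 ∧ a1 l (principal G) = 0
  norm : ∀ l, l ≠ 1 → ∑ χ, a0 l χ * a0 l χ = 7 ∧ ∑ χ, a1 l χ * a1 l χ = 3
  a1_a1 : ∀ l m, l ≠ 1 → m ≠ 1 → m ≠ l → m⁻¹ ≠ l → ∑ χ, a1 l χ * a1 m χ = 2
  a0_a1 : ∀ l m, ∑ χ, a0 l χ * a1 m χ = 0
  e0 : ∀ l, l ≠ 1 → ∑ χ, a0 l χ * E.ec χ = 6 ∧ ∑ χ, a1 l χ * E.ec χ = -2
  b0 : ∀ l, ∑ χ, a0 l χ * E.bc χ = 0 ∧ ∑ χ, a1 l χ * E.bc χ = 0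
  wsum0 : ∀ l, l ≠ 1 →
    E.wsum (a0 l) * (Nat.card G : ℂ) = cc (L := L) * (4 * (E.D.h : ℂ)) ∧ E.wsum (a1 l) = 0
  deg : ∀ l, dsum (a0 l) = 0 ∧ dsum (a1 l) = 0
  tau : ∀ l, ∑ χ, a0 l χ * E.tv χ = 0 ∧ ∑ χ, a1 l χ * E.tv χ = 0
  nu_sum : ∀ l, l ≠ 1 → ∑ χ : IrrCharacter G, (a0 l χ : ℂ) * nu (χ : G → ℂ) = 1 ∧
    ∑ χ : IrrCharacter G, (a1 l χ : ℂ) * nu (χ : G → ℂ) = 1
  galois : ∀ j : ℕ, j % (2 * E.D.h) = 1 → ∀ χ χ' : IrrCharacter G,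
    (∀ g, (χ' : G → ℂ) g = (χ : G → ℂ) (g ^ j)) → ∀ l, a0 l χ' = a0 l χ ∧ a1 l χ' = a1 l χ
  conj : ∀ χ χ' : IrrCharacter G, (∀ g, (χ' : G → ℂ) g = (χ : G → ℂ) g⁻¹) →
    ∀ l, a0 l χ' = a0 l χ ∧ a1 l χ' = a1 l χ
  gh_eq : ∀ l χ, E.gh l χ = -a0 l χ - a1 l χ + a1 (sh l) χ + a1 (sh (sh l)) χ
  col : ∀ l (g : G) (N : ℕ), g ^ N = 1 → N.Coprime E.D.h →
    ∑ χ, (a0 l χ : ℂ) * (χ : G → ℂ) g = 0 ∧ ∑ χ, (a1 l χ : ℂ) * (χ : G → ℂ) g = 0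
  congr0 : ∀ χ : IrrCharacter G, (4 * (E.D.h : ℤ)) ∣
    (charDegree (χ : G → ℂ) : ℤ) + 3 * E.tv χ + 4 * ∑ l, a0 l χ
  congr1 : ∀ χ : IrrCharacter G, (4 * (E.D.h : ℤ)) ∣
    (charDegree (χ : G → ℂ) : ℤ) - E.tv χ + 4 * ∑ l, a1 l χ

end Cfsg.Agent.JanThom
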