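import Cfsg.Agent.Lib.JanThom.Setup
import Cfsg.Agent.Lib.JanThom.LGram

/-!
The four-group `⟨τ, σ⟩`, the torus `T` centralising it, and the element of order three normalising both.
-/

set_option autoImplicit false
set_option linter.unusedSectionVars false
set_option linter.style.haveILetI false

namespace Cfsg.Agent.JanThom

open Subgroup

namespace LData

variable {L : Type*} [Group L] {Q : ℤ} (D : LData L Q)

theorem Zh_s {z : L} (hz : z ∈ D.Zh) : z * D.s = D.s * z :=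
  mem_centralizer_singleton_iff.1 (D.Zh_le hz)

theorem zpowers_s {x : L} (hx : x ∈ zpowers D.s) : x = 1 ∨ x = D.s := by
  obtain ⟨j, rfl⟩ := mem_zpowers_iff.1 hx
  rcases Int.even_or_odd' j with ⟨r, rfl | rfl⟩
  · left; rw [_root_.zpow_mul, zpow_two, D.s_sq, _root_.one_zpow]
  · right; rw [zpow_add, _root_.zpow_mul, zpow_two, D.s_sq, _root_.one_zpow, one_mul, zpow_one]

theorem mem_sup_s {l : L} (hl : l ∈ D.Zh ⊔ zpowers D.s) :
    ∃ z ∈ D.Zh, ∃ x, (x = 1 ∨ x = D.s) ∧ l = z * x := by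
  have hn : zpowers D.s ≤ normalizer (D.Zh : Set L) := by
    rw [zpowers_le]
    exact centralizer_le_normalizer _ (mem_centralizer_iff.2 fun z hz => D.Zh_s hz)
  rw [← SetLike.mem_coe, coe_mul_of_right_le_normalizer_left _ _ hn] at hl
  obtain ⟨z, hz, x, hx, rfl⟩ := Set.mem_mul.1 hl
  exact ⟨z, hz, x, D.zpowers_s hx, rfl⟩

end LData

namespace Setup

variable {G : Type*} [Group G] {L : Type*} [Group L] {Q : ℤ} (E : Setup G L Q)

/-- The involution of `L` inside `G`. -/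
abbrev σ : G := E.ι (1, E.D.s)

/-- The torus of `L` inside `G`. -/
def Zg : Subgroup G := E.D.Zh.map (E.ι.comp (MonoidHom.inr C2 L))

/-- The four-group `⟨τ, σ⟩`. -/
def E4 : Subgroup G := ((⊤ : Subgroup C2).prod (zpowers E.D.s)).map E.ι

/-- The torus `⟨τ, σ⟩ × Zg`. -/
def T : Subgroup G := ((⊤ : Subgroup C2).prod (E.D.Zh ⊔ zpowers E.D.s)).map E.ι

theorem mem_Zg {g : G} : g ∈ E.Zg ↔ ∃ z ∈ E.D.Zh, E.ι (1, z) = g := Iff.rfl

theorem ι_mem_Zg {z : L} (hz : z ∈ E.D.Zh) : E.ι (1, z) ∈ E.Zg := ⟨z, hz, rfl⟩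

theorem mem_T {g : G} : g ∈ E.T ↔ ∃ a, ∃ l ∈ E.D.Zh ⊔ zpowers E.D.s, E.ι (a, l) = g := by
  constructor
  · rintro ⟨⟨a, l⟩, h, rfl⟩
    exact ⟨a, l, (mem_prod.1 h).2, rfl⟩
  · rintro ⟨a, l, h, rfl⟩
    exact ⟨(a, l), mem_prod.2 ⟨mem_top a, h⟩, rfl⟩

theorem τ_mem_E4 : E.τ ∈ E.E4 := ⟨(c2, 1), mem_prod.2 ⟨mem_top _, one_mem _⟩, rfl⟩

theorem σ_mem_E4 : E.σ ∈ E.E4 := ⟨(1, E.D.s), mem_prod.2 ⟨mem_top _, mem_zpowers _⟩, rfl⟩

theorem σ_sq : E.σ * E.σ = 1 := by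
  rw [← map_mul, Prod.mk_mul_mk, E.D.s_sq, one_mul, Prod.mk_one_one, map_one]

theorem σ_ne : E.σ ≠ 1 := fun h =>
  E.D.s_ne (congrArg Prod.snd (E.inj (h.trans (map_one E.ι).symm)))

theorem τ_mul_σ : E.τ * E.σ = E.ι (c2, E.D.s) := by
  rw [← map_mul, Prod.mk_mul_mk, mul_one, one_mul]

theorem στ_ne : E.τ * E.σ ≠ 1 := fun h => by
  rw [τ_mul_σ] at h
  exact c2_ne (congrArg Prod.fst (E.inj (h.trans (map_one E.ι).symm)))

theorem τ_ne_σ : E.τ ≠ E.σ := fun h => c2_ne (congrArg Prod.fst (E.inj h))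

theorem mem_E4 {g : G} (hg : g ∈ E.E4) : g = 1 ∨ g = E.τ ∨ g = E.σ ∨ g = E.τ * E.σ := by
  obtain ⟨⟨a, l⟩, h, rfl⟩ := hg
  rcases E.D.zpowers_s (mem_prod.1 h).2 with e | e <;> rcases C2_cases a with e' | e' <;>
    simp only at e e' <;> subst e e'
  · exact Or.inl (by rw [Prod.mk_one_one, map_one])
  · exact Or.inr (Or.inl rfl)
  · exact Or.inr (Or.inr (Or.inl rfl))
  · exact Or.inr (Or.inr (Or.inr E.τ_mul_σ.symm))

theorem E4_le_T : E.E4 ≤ E.T := map_mono (prod_mono_right _ le_sup_right)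

theorem Zg_le_T : E.Zg ≤ E.T := by
  rintro _ ⟨z, hz, rfl⟩
  exact E.mem_T.2 ⟨1, z, mem_sup_left hz, rfl⟩

theorem E4_sq {g : G} (hg : g ∈ E.E4) : g * g = 1 := by
  obtain ⟨⟨a, l⟩, h, rfl⟩ := hg
  rw [← map_mul, ← map_one E.ι]
  refine congrArg E.ι (Prod.ext (C2_sq a) ?_)
  show l * l = 1
  rcases E.D.zpowers_s (mem_prod.1 h).2 with e | e <;> simp only at e <;> subst e
  · exact one_mul 1
  · exact E.D.s_sq

theorem T_comm {a b : G} (ha : a ∈ E.T) (hb : b ∈ E.T) : a * b = b * a := by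
  obtain ⟨u, l, hl, rfl⟩ := E.mem_T.1 ha
  obtain ⟨u', l', hl', rfl⟩ := E.mem_T.1 hb
  rw [← map_mul, ← map_mul]
  refine congrArg E.ι (Prod.ext (mul_comm u u') ?_)
  show l * l' = l' * l
  obtain ⟨z, hz, x, hx, rfl⟩ := E.D.mem_sup_s hl
  obtain ⟨z', hz', x', hx', rfl⟩ := E.D.mem_sup_s hl'
  have hc : ∀ z₀ ∈ E.D.Zh, ∀ x₀, (x₀ = 1 ∨ x₀ = E.D.s) → Commute z₀ x₀ := by
    rintro z₀ hz₀ x₀ (rfl | rfl)
    exacts [Commute.one_right _, E.D.Zh_s hz₀]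
  have hxx : Commute x x' := by
    rcases hx with rfl | rfl <;> rcases hx' with rfl | rfl <;>
      first | exact Commute.refl _ | exact Commute.one_left _ | exact Commute.one_right _
  exact (Commute.mul_left
    (Commute.mul_right (E.D.Zh_comm z hz z' hz') (hc z hz x' hx'))
    (Commute.mul_right (hc z' hz' x hx).symm hxx)).eq

theorem mem_T_split {g : G} (hg : g ∈ E.T) : ∃ e ∈ E.E4, ∃ z ∈ E.Zg, g = e * z := by
  obtain ⟨a, l, hl, rfl⟩ := E.mem_T.1 hg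
  obtain ⟨z, hz, x, hx, rfl⟩ := E.D.mem_sup_s hl
  refine ⟨E.ι (a, x), ⟨(a, x), mem_prod.2 ⟨mem_top _, ?_⟩, rfl⟩, E.ι (1, z), E.ι_mem_Zg hz, ?_⟩
  · rcases hx with rfl | rfl
    exacts [one_mem _, mem_zpowers _]
  · rw [← map_mul, Prod.mk_mul_mk, mul_one]
    refine congrArg (fun t => E.ι (a, t)) ?_
    rcases hx with rfl | rfl
    exacts [by rw [mul_one, one_mul], E.D.Zh_s hz]

variable [Finite G]

theorem card_Zg : Nat.card E.Zg = E.D.h := by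
  rw [Zg, card_map_of_injective, E.D.card_Zh]
  exact fun a b h => congrArg Prod.snd (E.inj h)

theorem Zg_odd {z : G} (hz : z ∈ E.Zg) : Odd (orderOf z) :=
  (E.D.h_odd).of_dvd_nat (E.card_Zg ▸ orderOf_dvd_natCard _ hz)

theorem eq_one_of_sq {z : G} (hz : z ∈ E.Zg) {k : ℕ} (h : z ^ 2 ^ k = 1) : z = 1 :=
  orderOf_eq_one_iff.1 (Nat.eq_one_of_dvd_coprimes
    ((Nat.coprime_two_right.2 (E.Zg_odd hz)).pow_right k) dvd_rfl (orderOf_dvd_of_pow_eq_one h))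

theorem Zg_inv_ne {z : G} (hz : z ∈ E.Zg) (hz1 : z ≠ 1) : z⁻¹ ≠ z := fun h =>
  hz1 (E.eq_one_of_sq hz (k := 1) (by rw [pow_one, pow_two]; exact mul_eq_one_iff_eq_inv.2 h.symm))

theorem E4_inf_Zg {g : G} (h1 : g ∈ E.E4) (h2 : g ∈ E.Zg) : g = 1 :=
  E.eq_one_of_sq h2 (k := 1) (by rw [pow_one, pow_two]; exact E.E4_sq h1)

theorem card_E4 : Nat.card E.E4 = 4 := by
  classical
  haveI := E.finite_L
  rw [E4, card_map_of_injective E.inj, Nat.card_congr (prodEquiv _ _).toEquiv, Nat.card_prod,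
    card_top, card_C2, Nat.card_zpowers, orderOf_eq_prime (by rw [pow_two]; exact E.D.s_sq) E.D.s_ne]

theorem two_mem_T {g : G} (hg : g ∈ E.T) {k : ℕ} (hk : g ^ 2 ^ k = 1) : g ∈ E.E4 := by
  obtain ⟨e, he, z, hz, rfl⟩ := E.mem_T_split hg
  rw [(show Commute e z from E.T_comm (E.E4_le_T he) (E.Zg_le_T hz)).mul_pow] at hk
  have h1 : z ^ 2 ^ k = 1 := by
    refine E.E4_inf_Zg ?_ (pow_mem hz _)
    rw [← inv_eq_of_mul_eq_one_right hk]
    exact inv_mem (pow_mem he _)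
  rw [E.eq_one_of_sq hz h1, mul_one]
  exact he

theorem odd_mem_T {g : G} (hg : g ∈ E.T) (ho : Odd (orderOf g)) : g ∈ E.Zg := by
  obtain ⟨e, he, z, hz, rfl⟩ := E.mem_T_split hg
  obtain ⟨j, hj⟩ := ho
  have h := pow_orderOf_eq_one (e * z)
  rw [(show Commute e z from E.T_comm (E.E4_le_T he) (E.Zg_le_T hz)).mul_pow, hj,
    show e ^ (2 * j + 1) = e by rw [pow_succ, pow_mul, pow_two, E.E4_sq he, one_pow, one_mul]] at h
  have h1 : e = 1 := E.E4_inf_Zg he (by rw [eq_inv_of_mul_eq_one_left h]; exact inv_mem (pow_mem hz _))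
  rw [h1, one_mul]
  exact hz

/-- The centraliser of `τ` and of an element of the torus. -/
theorem cent_τ {g x : G} (hg : g ∈ E.Zg) (hg1 : g ≠ 1) (hx : x * g = g * x)
    (hxτ : x * E.τ = E.τ * x) : x ∈ E.T := by
  obtain ⟨⟨a, l⟩, rfl⟩ := E.cent x hxτ
  obtain ⟨z, hz, rfl⟩ := E.mem_Zg.1 hg
  rw [← map_mul, ← map_mul] at hx
  refine E.mem_T.2 ⟨a, l, E.D.cent_h z hz (fun h => hg1 ?_) l (congrArg Prod.snd (E.inj hx)), rfl⟩
  rw [h, Prod.mk_one_one, map_one]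

/-- The centraliser of the four-group. -/
theorem cent_E4 {x : G} (hxτ : x * E.τ = E.τ * x) (hxσ : x * E.σ = E.σ * x) :
    x ∈ E.T ∨ ∀ z ∈ E.Zg, x * z * x⁻¹ = z⁻¹ := by
  obtain ⟨⟨a, l⟩, rfl⟩ := E.cent x hxτ
  rw [← map_mul, ← map_mul] at hxσ
  rcases E.D.Cs_cases l (mem_centralizer_singleton_iff.2 (congrArg Prod.snd (E.inj hxσ))) with h | h
  · exact Or.inl (E.mem_T.2 ⟨a, l, h, rfl⟩)
  · right
    intro g hg
    obtain ⟨z, hz, rfl⟩ := E.mem_Zg.1 hg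
    rw [← map_inv, ← map_inv, ← map_mul, ← map_mul]
    refine congrArg E.ι (Prod.ext ?_ (h.2.2 z hz))
    show a * 1 * a⁻¹ = 1⁻¹
    rw [mul_one, mul_inv_cancel, inv_one]

theorem exists_Zg_ne : ∃ z ∈ E.Zg, z ≠ 1 := by
  haveI := E.finite_L
  obtain ⟨z, hz, hz1⟩ := E.D.exists_Zh_ne
  exact ⟨_, E.ι_mem_Zg hz, fun h => hz1 (congrArg Prod.snd (E.inj (h.trans (map_one E.ι).symm)))⟩

theorem odd_cent_E4 {x : G} (ho : Odd (orderOf x)) (hxτ : x * E.τ = E.τ * x)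
    (hxσ : x * E.σ = E.σ * x) : x ∈ E.Zg := by
  refine (E.cent_E4 hxτ hxσ).elim (fun h => E.odd_mem_T h ho) fun h => ?_
  exfalso
  obtain ⟨z, hz, hz1⟩ := E.exists_Zg_ne
  have hpow : ∀ j : ℕ, x ^ (2 * j + 1) * z * (x ^ (2 * j + 1))⁻¹ = z⁻¹ := by
    intro j
    induction j with
    | zero => simpa using h z hz
    | succ j ih =>
      calc x ^ (2 * (j + 1) + 1) * z * (x ^ (2 * (j + 1) + 1))⁻¹
          = x * (x * (x ^ (2 * j + 1) * z * (x ^ (2 * j + 1))⁻¹) * x⁻¹) * x⁻¹ := by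
            rw [show 2 * (j + 1) + 1 = (2 * j + 1) + 1 + 1 by ring, pow_succ', pow_succ']
            group
        _ = z⁻¹ := by rw [ih, h _ (inv_mem hz), inv_inv, h _ hz]
  obtain ⟨j, hj⟩ := ho
  have h' := hpow j
  rw [← hj, pow_orderOf_eq_one, one_mul, inv_one, mul_one] at h'
  exact E.Zg_inv_ne hz hz1 h'.symm

/-- An element centralising `τ` and normalising the four-group centralises it. -/
theorem fix_σ {x : G} (hxτ : x * E.τ = E.τ * x) (hxσ : x * E.σ * x⁻¹ ∈ E.E4) :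
    x * E.σ = E.σ * x := by
  obtain ⟨⟨a, l⟩, rfl⟩ := E.cent x hxτ
  have e : E.ι (a, l) * E.σ * (E.ι (a, l))⁻¹ = E.ι (1, l * E.D.s * l⁻¹) := by
    rw [← map_inv, ← map_mul, ← map_mul]
    refine congrArg E.ι (Prod.ext ?_ rfl)
    show a * 1 * a⁻¹ = 1
    rw [mul_one, mul_inv_cancel]
  rcases E.mem_E4 hxσ with h | h | h | h
  · exact absurd (conj_eq_one_iff.1 h) E.σ_ne
  · rw [e] at h
    exact absurd (congrArg Prod.fst (E.inj h)).symm c2_ne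
  · exact mul_inv_eq_iff_eq_mul.1 h
  · rw [e, τ_mul_σ] at h
    exact absurd (congrArg Prod.fst (E.inj h)).symm c2_ne

/-- An element of order three permuting the involutions of the four-group. -/
structure IsY (y : G) : Prop where
  cube : y ^ 3 = 1
  tau : y * E.τ * y⁻¹ = E.σ
  sig : y * E.σ * y⁻¹ = E.τ * E.σ

/-- The element of order three together with the involution it centralises. -/
theorem exists_isY [IsSimpleGroup G] : ∃ y u : G, E.IsY y ∧ u * u = 1 ∧ u ≠ 1 ∧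
    u * E.τ = E.τ * u ∧ u * E.σ = E.σ * u ∧ (∀ z ∈ E.Zg, u * z * u⁻¹ = z⁻¹) ∧ y * u = u * y := by
  obtain ⟨y, a, l, h3, h1, h2, hl2, hl1, hinv, hls, hyu⟩ := E.exists_y
  refine ⟨y, E.ι (a, l), ⟨h3, h1, by rw [h2, τ_mul_σ]⟩, ?_, ?_, E.τ_comm _, ?_, ?_, hyu⟩
  · rw [← map_mul, Prod.mk_mul_mk, C2_sq, hl2, Prod.mk_one_one, map_one]
  · exact fun h => hl1 (congrArg Prod.snd (E.inj (h.trans (map_one E.ι).symm)))
  · rw [← map_mul, ← map_mul, Prod.mk_mul_mk, Prod.mk_mul_mk, hls, mul_comm]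
  · intro g hg
    obtain ⟨z, hz, rfl⟩ := E.mem_Zg.1 hg
    rw [← map_inv, ← map_inv, ← map_mul, ← map_mul]
    refine congrArg E.ι (Prod.ext ?_ (hinv z hz))
    show a * 1 * a⁻¹ = 1⁻¹
    rw [mul_one, mul_inv_cancel, inv_one]

variable {E} {y : G}

theorem IsY.third (hy : E.IsY y) : y * (E.τ * E.σ) * y⁻¹ = E.τ := by
  rw [show y * (E.τ * E.σ) * y⁻¹ = (y * E.τ * y⁻¹) * (y * E.σ * y⁻¹) by group, hy.tau, hy.sig,
    ← mul_assoc, E.T_comm (E.E4_le_T E.σ_mem_E4) (E.E4_le_T E.τ_mem_E4), mul_assoc, E.σ_sq, mul_one]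

theorem IsY.E4_conj (hy : E.IsY y) {g : G} (hg : g ∈ E.E4) : y * g * y⁻¹ ∈ E.E4 := by
  rcases E.mem_E4 hg with rfl | rfl | rfl | rfl
  · rw [mul_one, mul_inv_cancel]; exact one_mem _
  · rw [hy.tau]; exact E.σ_mem_E4
  · rw [hy.sig]; exact mul_mem E.τ_mem_E4 E.σ_mem_E4
  · rw [hy.third]; exact E.τ_mem_E4

theorem IsY.Zg_conj (hy : E.IsY y) {z : G} (hz : z ∈ E.Zg) : y * z * y⁻¹ ∈ E.Zg := by
  have key : ∀ e ∈ E.E4, z * e = e * z := fun e he => E.T_comm (E.Zg_le_T hz) (E.E4_le_T he)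
  have hc : ∀ e ∈ E.E4, y * z * y⁻¹ * (y * e * y⁻¹) = y * e * y⁻¹ * (y * z * y⁻¹) := fun e he => by
    calc y * z * y⁻¹ * (y * e * y⁻¹) = y * (z * e) * y⁻¹ := by group
      _ = y * (e * z) * y⁻¹ := by rw [key e he]
      _ = y * e * y⁻¹ * (y * z * y⁻¹) := by group
  refine E.odd_cent_E4 ?_ ?_ ?_
  · have h := MulEquiv.orderOf_eq (MulAut.conj y) z
    rw [MulAut.conj_apply] at h
    rw [h]; exact E.Zg_odd hz
  · have h := hc _ (mul_mem E.τ_mem_E4 E.σ_mem_E4)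
    rwa [hy.third] at h
  · have h := hc _ E.τ_mem_E4
    rwa [hy.tau] at h

theorem IsY.T_conj (hy : E.IsY y) {g : G} (hg : g ∈ E.T) : y * g * y⁻¹ ∈ E.T := by
  obtain ⟨e, he, z, hz, rfl⟩ := E.mem_T_split hg
  rw [show y * (e * z) * y⁻¹ = (y * e * y⁻¹) * (y * z * y⁻¹) by group]
  exact mul_mem (E.E4_le_T (hy.E4_conj he)) (E.Zg_le_T (hy.Zg_conj hz))

theorem IsY.inv_eq (hy : E.IsY y) : y⁻¹ = y * y := inv_eq_of_mul_eq_one_right (by
  rw [← mul_assoc, ← pow_two, ← pow_succ]; exact hy.cube)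

theorem IsY.conj_inv (hy : E.IsY y) (g : G) : y⁻¹ * g * y = y * (y * g * y⁻¹) * y⁻¹ := by
  calc y⁻¹ * g * y = y⁻¹ * g * (y⁻¹)⁻¹ := by rw [inv_inv]
    _ = y * y * g * (y * y)⁻¹ := by rw [hy.inv_eq]
    _ = y * (y * g * y⁻¹) * y⁻¹ := by group

theorem IsY.not_mem_T (hy : E.IsY y) : y ∉ E.T := fun h => E.τ_ne_σ (by
  rw [← hy.tau, E.T_comm h (E.E4_le_T E.τ_mem_E4), mul_inv_cancel_right])

/-- Centralisers of involutions of the four-group inside the centraliser of a torus element. -/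
theorem IsY.cent_inf (hy : E.IsY y) {g e x : G} (hg : g ∈ E.Zg) (hg1 : g ≠ 1) (he : e ∈ E.E4)
    (he1 : e ≠ 1) (hxg : x * g = g * x) (hxe : x * e = e * x) : x ∈ E.T := by
  have hmap : ∀ g e x : G, x * g = g * x →
      (y * x * y⁻¹) * (y * g * y⁻¹) = (y * g * y⁻¹) * (y * x * y⁻¹) := fun g e x h => by
    calc (y * x * y⁻¹) * (y * g * y⁻¹) = y * (x * g) * y⁻¹ := by group
      _ = y * (g * x) * y⁻¹ := by rw [h]
      _ = _ := by group
  have hne : ∀ g : G, g ≠ 1 → y * g * y⁻¹ ≠ 1 := fun g h h' => h (conj_eq_one_iff.1 h')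
  have step : ∀ g x : G, g ∈ E.Zg → g ≠ 1 → x * g = g * x →
      x * (E.τ * E.σ) = (E.τ * E.σ) * x → x ∈ E.T := by
    intro g x hg hg1 hxg hxe
    have h1 := hmap _ e _ hxe
    rw [hy.third] at h1
    have h2 := E.cent_τ (hy.Zg_conj hg) (hne g hg1) (hmap g e x hxg) h1
    have h3 := hy.T_conj (hy.T_conj h2)
    rwa [← hy.conj_inv, show y⁻¹ * (y * x * y⁻¹) * y = x by group] at h3
  rcases E.mem_E4 he with rfl | rfl | rfl | rfl
  · exact absurd rfl he1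
  · exact E.cent_τ hg hg1 hxg hxe
  · have h1 := hmap _ 1 _ hxe
    rw [hy.sig] at h1
    have h2 := step _ _ (hy.Zg_conj hg) (hne g hg1) (hmap g 1 x hxg) h1
    have h3 := hy.T_conj (hy.T_conj h2)
    rwa [← hy.conj_inv, show y⁻¹ * (y * x * y⁻¹) * y = x by group] at h3
  · exact step g x hg hg1 hxg hxe

/-- The normaliser of the four-group. -/
theorem IsY.norm_E4 (hy : E.IsY y) {x : G} (hτ : x * E.τ * x⁻¹ ∈ E.E4) (hσ : x * E.σ * x⁻¹ ∈ E.E4) :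
    ∃ i : ℕ, ∃ c : G, i < 3 ∧ c * E.τ = E.τ * c ∧ c * E.σ = E.σ * c ∧ x = y ^ i * c := by
  have hyi : ∀ (i : ℕ) (g : G), g ∈ E.E4 → y ^ i * g * (y ^ i)⁻¹ ∈ E.E4 := by
    intro i
    induction i with
    | zero => intro g hg; simpa using hg
    | succ i ih =>
      intro g hg
      rw [pow_succ, show y ^ i * y * g * (y ^ i * y)⁻¹ = y ^ i * (y * g * y⁻¹) * (y ^ i)⁻¹ by group]
      exact ih _ (hy.E4_conj hg)
  have done : ∀ i : ℕ, i < 3 → y ^ i * E.τ * (y ^ i)⁻¹ = x * E.τ * x⁻¹ →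
      ∃ i : ℕ, ∃ c : G, i < 3 ∧ c * E.τ = E.τ * c ∧ c * E.σ = E.σ * c ∧ x = y ^ i * c := by
    intro i hi he
    have h1 : (y ^ i)⁻¹ * x * E.τ = E.τ * ((y ^ i)⁻¹ * x) := by
      calc (y ^ i)⁻¹ * x * E.τ = (y ^ i)⁻¹ * (x * E.τ * x⁻¹) * x := by group
        _ = E.τ * ((y ^ i)⁻¹ * x) := by rw [← he]; group
    refine ⟨i, (y ^ i)⁻¹ * x, hi, h1, E.fix_σ h1 ?_, by group⟩
    have h3 : (y ^ i)⁻¹ = y ^ (2 * i) := inv_eq_of_mul_eq_one_right (by
      rw [← pow_add, show i + 2 * i = 3 * i by ring, pow_mul, hy.cube, one_pow])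
    have h4 := hyi (2 * i) _ hσ
    rw [← h3] at h4
    simpa [mul_assoc] using h4
  rcases E.mem_E4 hτ with h | h | h | h
  · exact absurd (conj_eq_one_iff.1 h) E.τ_ne
  · exact done 0 (by norm_num) (by rw [h]; simp)
  · exact done 1 (by norm_num) (by rw [h, pow_one, hy.tau])
  · refine done 2 (by norm_num) ?_
    rw [h, pow_two, show y * y * E.τ * (y * y)⁻¹ = y * (y * E.τ * y⁻¹) * y⁻¹ by group, hy.tau, hy.sig]

/-- If `y ^ i` carries an element of the torus to itself or to its inverse then `y` centralises it. -/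
theorem IsY.commute_of_pow (hy : E.IsY y) {g : G} (hg : g ∈ E.Zg) (hg1 : g ≠ 1) {i : ℕ}
    (hi : i = 1 ∨ i = 2) (h : y ^ i * g * (y ^ i)⁻¹ = g ∨ y ^ i * g * (y ^ i)⁻¹ = g⁻¹) :
    y * g = g * y := by
  set w := y ^ i with hw
  have hw3 : w * w * w = 1 := by
    rw [hw, ← pow_add, ← pow_add, show i + i + i = 3 * i by ring, pow_mul, hy.cube, one_pow]
  have hfix : w * g * w⁻¹ = g := by
    rcases h with h | h
    · exact h
    · exfalso
      refine E.Zg_inv_ne hg hg1 ?_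
      calc g⁻¹ = w * (w * (w * g * w⁻¹) * w⁻¹) * w⁻¹ := by
            rw [h, show w * g⁻¹ * w⁻¹ = (w * g * w⁻¹)⁻¹ by group, h, inv_inv, h]
        _ = (w * w * w) * g * (w * w * w)⁻¹ := by group
        _ = g := by rw [hw3]; group
  have hcomm : Commute w g := mul_inv_eq_iff_eq_mul.1 hfix
  rcases hi with rfl | rfl
  · rw [hw, pow_one] at hcomm; exact hcomm
  · have h2 := hcomm.pow_left 2
    rw [hw, ← pow_mul, show y ^ (2 * 2) = y by rw [show 2 * 2 = 3 + 1 from rfl, pow_succ, hy.cube, one_mul]] at h2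
    exact h2

end Setup

end Cfsg.Agent.JanThom
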