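import Cfsg.Agent.Lib.JanThom.Kernel
import Cfsg.Agent.Lib.Char.WielandtFrobenius
import Cfsg.Agent.S0205

/-!
An element of order `p ∈ {3, 5}` of `L` centralises no element of the torus inverted by `τ`:
`p ≠ 3` if `y` centralises a torus element, and `p ≠ 5` if some centraliser is `Zg × A₅`.
-/

set_option autoImplicit false
set_option linter.unusedSectionVars false
set_option linter.style.haveILetI false

namespace Cfsg.Agent.JanThom

open Subgroup
open scoped Pointwise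

universe u v

theorem pow_three_odd (j : ℕ) : 3 ^ (2 * j + 1) % 8 = 3 ∧ 3 ^ (2 * j + 1) % 3 = 0 ∧
    (3 ^ (2 * j + 1) % 5 = 3 ∨ 3 ^ (2 * j + 1) % 5 = 2) := by
  induction j with
  | zero => norm_num
  | succ j ih =>
    have e : 3 ^ (2 * (j + 1) + 1) = 9 * 3 ^ (2 * j + 1) := by ring
    omega

theorem pow_five_odd (j : ℕ) : 5 ^ (2 * j + 1) % 8 = 5 ∧ 5 ^ (2 * j + 1) % 3 = 2 ∧
    5 ^ (2 * j + 1) % 5 = 0 := by
  induction j with
  | zero => norm_num
  | succ j ih =>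
    have e : 5 ^ (2 * (j + 1) + 1) = 25 * 5 ^ (2 * j + 1) := by ring
    omega

namespace LData

variable {L : Type v} [Group L] {Q : ℤ} (D : LData L Q)

include D

theorem prime_dvd_h (hp : D.p = 3 ∨ D.p = 5) {l : ℕ} (hl : l.Prime) (hlh : l ∣ D.h) : 7 ≤ l := by
  have hodd := D.h_odd'
  have h4 := D.h_eq
  have hQ := D.Q_mod
  have hq := D.abs_Q
  obtain ⟨j, hj⟩ := D.n_odd
  rw [hj] at hq
  have key : D.h % 3 ≠ 0 ∧ D.h % 5 ≠ 0 := by
    rcases hp with hp | hp <;> rw [hp] at hq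
    · have := pow_three_odd j
      generalize 3 ^ (2 * j + 1) = q at hq this
      omega
    · have := pow_five_odd j
      generalize 5 ^ (2 * j + 1) = q at hq this
      omega
  by_contra h7
  push Not at h7
  have h2 : l ≠ 2 := by
    rintro rfl
    obtain ⟨r, hr⟩ := hodd
    omega
  interval_cases l
  all_goals first
    | exact h2 rfl
    | exact key.1 (Nat.mod_eq_zero_of_dvd hlh)
    | exact key.2 (Nat.mod_eq_zero_of_dvd hlh)
    | norm_num at hl

theorem p_coprime : Nat.Coprime D.h D.p ∧ Nat.Coprime D.k D.p := by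
  obtain ⟨-, h1, h2⟩ := D.coprime_orders
  rw [D.abs_Q] at h1 h2
  have hn : 0 < D.n := Nat.pos_of_ne_zero fun h => by have := D.n_odd; simp [h] at this
  exact ⟨h1.coprime_dvd_right (dvd_pow_self _ hn.ne'), h2.coprime_dvd_right (dvd_pow_self _ hn.ne')⟩

/-- An element of order `p` is conjugate into `U`. -/
theorem conj_U [Finite L] (hp2 : D.p ≠ 2) {b : L} (hb : orderOf b = D.p) :
    ∃ g : L, g * b * g⁻¹ ∈ D.U := by
  obtain ⟨g, h | h | h⟩ := D.odd_cases b (hb.symm ▸ D.prime_p.odd_of_ne_two hp2)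
  all_goals have ho : orderOf (g * b * g⁻¹) = D.p := (MulEquiv.orderOf_eq (MulAut.conj g) b).trans hb
  · exact absurd (Nat.eq_one_of_dvd_coprimes D.p_coprime.1
      (D.card_Zh ▸ ho ▸ orderOf_dvd_natCard _ h) dvd_rfl) D.prime_p.ne_one
  · exact absurd (Nat.eq_one_of_dvd_coprimes D.p_coprime.2
      (D.card_Zk ▸ ho ▸ orderOf_dvd_natCard _ h) dvd_rfl) D.prime_p.ne_one
  · exact ⟨g, h⟩

end LData

namespace Setup

variable {G : Type u} [Group G] [Finite G] {L : Type v} [Group L] {Q : ℤ} (E : Setup G L Q)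

/-- The unipotent subgroup inside `G`. -/
def Ug : Subgroup G := E.D.U.map (E.ι.comp (MonoidHom.inr C2 L))

theorem card_Ug : Nat.card E.Ug = E.D.p ^ E.D.n := by
  rw [Ug, card_map_of_injective, E.D.card_U, E.D.abs_Q]
  exact fun a b h => congrArg Prod.snd (E.inj h)

theorem cent_U {a : L} (ha : a ∈ E.D.U) (ha1 : a ≠ 1) {x : G}
    (hx : x * E.ι (1, a) = E.ι (1, a) * x) (hxτ : x * E.τ = E.τ * x) :
    ∃ e, ∃ b ∈ E.D.U, x = E.ι (e, b) := by
  obtain ⟨⟨e, l⟩, rfl⟩ := E.cent x hxτ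
  rw [← map_mul, ← map_mul] at hx
  exact ⟨e, l, E.D.cent_u a ha ha1 l (congrArg Prod.snd (E.inj hx)), rfl⟩

variable {E} {y : G}

/-- No element of order three or five of `U` centralises an element of the torus inverted by `τ`. -/
theorem no_cent (hy : E.IsY y) (hp35 : E.D.p = 3 ∨ E.D.p = 5) {a : L} (ha : a ∈ E.D.U)
    (ha1 : a ≠ 1) {c z w : G} {l : ℕ} (hl : l.Prime) (hz : z ∈ E.Zg) (hzl : orderOf z = l)
    (hw : w = c * z * c⁻¹) (hwg : w * E.ι (1, a) = E.ι (1, a) * w) (hinv : E.τ * w * E.τ⁻¹ = w⁻¹) :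
    False := by
  classical
  haveI := E.finite_L
  haveI : Fact (Nat.Prime 2) := ⟨Nat.prime_two⟩
  haveI : Fact l.Prime := ⟨hl⟩
  haveI : Fact E.D.p.Prime := ⟨E.D.prime_p⟩
  have hlh : l ∣ E.D.h := hzl ▸ E.card_Zg ▸ orderOf_dvd_natCard _ hz
  have hl7 := E.D.prime_dvd_h hp35 hl hlh
  have hl30 : l.Coprime 30 := (hl.coprime_iff_not_dvd).2 fun h => by
    have h30 : l ≤ 30 := Nat.le_of_dvd (by norm_num) h
    interval_cases l <;> first | omega | (revert hl h; norm_num)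
  have hz1 : z ≠ 1 := fun h => hl.ne_one (by rw [← hzl, h, orderOf_one])
  have hpodd : Odd E.D.p := by rcases hp35 with h | h <;> rw [h] <;> norm_num
  have hlp : l ≠ E.D.p := by rcases hp35 with h | h <;> rw [h] <;> omega
  have hwl : orderOf w = l := by rw [hw]; exact (MulEquiv.orderOf_eq (MulAut.conj c) z).trans hzl
  have hw1 : w ≠ 1 := fun h => hl.ne_one (by rw [← hwl, h, orderOf_one])
  have hwodd : Odd (orderOf w) := hwl ▸ hl.odd_of_ne_two (by omega)
  set g := E.ι (1, a) with hgdef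
  have hg1 : g ≠ 1 := fun h => ha1 (congrArg Prod.snd (E.inj (h.trans (map_one E.ι).symm)))
  have hgU : g ∈ E.Ug := ⟨a, ha, rfl⟩
  have hgp : orderOf g = E.D.p := orderOf_eq_prime (by
    rw [hgdef, ← map_pow, Prod.pow_mk, one_pow, E.D.U_exp a ha, Prod.mk_one_one, map_one]) hg1
  have hτord : orderOf E.τ = 2 := orderOf_eq_prime (by rw [pow_two]; exact E.τ_sq) E.τ_ne
  have hτg : E.τ * g = g * E.τ := (E.τ_comm (1, a)).symm
  set Cg := centralizer ({g} : Set G) with hCg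
  have hcent : ∀ {x : G}, x ∈ Cg ↔ x * g = g * x := mem_centralizer_singleton_iff
  have hback : ∀ x : G, x * w = w * x → (c⁻¹ * x * c) * z = z * (c⁻¹ * x * c) := fun x hx => by
    calc c⁻¹ * x * c * z = c⁻¹ * (x * (c * z * c⁻¹)) * c := by group
      _ = c⁻¹ * (c * z * c⁻¹ * x) * c := by rw [← hw, hx]
      _ = z * (c⁻¹ * x * c) := by group
  have hordc : ∀ x : G, orderOf (c⁻¹ * x * c) = orderOf x := fun x => by
    have h := MulEquiv.orderOf_eq (MulAut.conj c⁻¹) x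
    rwa [MulAut.conj_apply, inv_inv] at h
  have hfused : y * z = z * y := by
    rcases cent_cases hy hz hz1 with h | h
    · exfalso
      have h1 := E.odd_mem_T (h.2 _ (hback g hwg.symm)) (by rw [hordc, hgp]; exact hpodd)
      have h2 : E.D.p ∣ E.D.h := by
        rw [← hgp, ← hordc g, ← E.card_Zg]; exact orderOf_dvd_natCard _ h1
      exact E.D.prime_p.ne_one (Nat.eq_one_of_dvd_coprimes E.D.p_coprime.1 h2 dvd_rfl)
    · exact h.1
  obtain ⟨Mg, memM⟩ := exists_kernel hy (fun b hb => E.D.cent_u a ha ha1 b hb) E.D.odd_U hl hl30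
    hz hzl hw hwg hfused
  have hModd : Odd (Nat.card Mg) := by
    rw [← Nat.not_even_iff_odd, even_iff_two_dvd]
    intro h2
    obtain ⟨x, hx⟩ := exists_prime_orderOf_dvd_card' (G := Mg) 2 h2
    have ho := ((memM _).1 x.2).2.1
    rw [Subgroup.orderOf_coe, hx] at ho
    exact absurd ho (by decide)
  have hMl : (Nat.card Mg).Coprime l := by
    rw [Nat.coprime_comm, hl.coprime_iff_not_dvd]
    intro h2
    obtain ⟨x, hx⟩ := exists_prime_orderOf_dvd_card' (G := Mg) l h2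
    have ho := ((memM _).1 x.2).2.2
    rw [Subgroup.orderOf_coe, hx, Nat.coprime_self] at ho
    exact hl.ne_one ho
  have hnormM : ∀ q : G, q * g = g * q → ∀ x ∈ Mg, q * x * q⁻¹ ∈ Mg := by
    intro q hq x hx
    obtain ⟨h1, h2, h3⟩ := (memM x).1 hx
    have ho : orderOf (q * x * q⁻¹) = orderOf x := MulEquiv.orderOf_eq (MulAut.conj q) x
    refine (memM _).2 ⟨?_, ho ▸ h2, ho ▸ h3⟩
    exact (((show Commute q g from hq).mul_left h1).mul_left (show Commute q g from hq).inv_left).eq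
  have hUM : E.Ug ≤ Mg := by
    rintro _ ⟨b, hb, rfl⟩
    have hd : orderOf (E.ι (1, b)) ∣ E.D.p := orderOf_dvd_of_pow_eq_one (by
      rw [← map_pow, Prod.pow_mk, one_pow, E.D.U_exp b hb, Prod.mk_one_one, map_one])
    refine (memM _).2 ⟨?_, hpodd.of_dvd_nat hd,
      ((Nat.coprime_primes E.D.prime_p hl).2 hlp.symm).coprime_dvd_left hd⟩
    show E.ι (1, b) * g = g * E.ι (1, b)
    rw [hgdef, ← map_mul, ← map_mul]
    exact congrArg E.ι (Prod.ext rfl (E.D.U_comm b hb a ha))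
  have hMτ : ∀ x ∈ Mg, x * E.τ = E.τ * x → x ∈ E.Ug := by
    intro x hx hxτ
    obtain ⟨hxg, hxo, -⟩ := (memM x).1 hx
    obtain ⟨e, b, hb, rfl⟩ := E.cent_U ha ha1 hxg hxτ
    refine ⟨b, hb, ?_⟩
    rcases C2_cases e with rfl | rfl
    · rfl
    · exfalso
      obtain ⟨j, hj⟩ := hxo
      have h := pow_orderOf_eq_one (E.ι (c2, b))
      rw [hj, ← map_pow, Prod.pow_mk] at h
      have h' := congrArg Prod.fst (E.inj (h.trans (map_one E.ι).symm))
      simp only [pow_succ, pow_mul, pow_two, c2_sq, one_pow, one_mul] at h'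
      exact c2_ne h'
  -- the dihedral group
  set A := zpowers w ⊔ zpowers E.τ with hA
  have hAg : A ≤ Cg := sup_le (zpowers_le.2 (hcent.2 hwg)) (zpowers_le.2 (hcent.2 hτg))
  have hAM : A ≤ normalizer (Mg : Set G) := fun q hq => by
    refine mem_normalizer_iff.2 fun x => ⟨hnormM q (hcent.1 (hAg hq)) x, fun hx => ?_⟩
    have h := hnormM q⁻¹ (hcent.1 (inv_mem (hAg hq))) _ hx
    simpa [mul_assoc] using h
  obtain ⟨hinf, hUn, hfpf, hcardA⟩ := dihedral_facts E hl (by omega) hwl hinv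
  have hMsol : Group.IsSolvable Mg := S0205.result hModd
  have hcopA : (Nat.card A).Coprime (Nat.card Mg) := by
    rw [hcardA]
    exact hMl.symm.mul_left (Nat.coprime_two_left.2 hModd)
  obtain ⟨Rp, hRp⟩ := CoprimeAct.exists_invariant_sylow hAM hcopA (Or.inr hMsol) E.D.p
  have hτU : zpowers E.τ ≤ normalizer (E.Ug : Set G) := by
    rw [zpowers_le]
    refine centralizer_le_normalizer _ (mem_centralizer_iff.2 ?_)
    rintro _ ⟨b, -, rfl⟩
    exact E.τ_comm (1, b)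
  have hUp : IsPGroup E.D.p E.Ug := IsPGroup.of_card E.card_Ug
  have hτM : zpowers E.τ ≤ normalizer (Mg : Set G) := le_sup_right.trans hAM
  have hcopτ : (Nat.card (zpowers E.τ)).Coprime (Nat.card Mg) :=
    hcopA.coprime_dvd_left (card_dvd_of_le le_sup_right)
  obtain ⟨R', hUR', hR'⟩ := CoprimeAct.exists_invariant_sylow_ge hτM hcopτ (Or.inr hMsol) hUM hUp hτU
  obtain ⟨cm, hcm, hcmR⟩ := CoprimeAct.invariant_sylow_conj hτM hcopτ (Or.inr hMsol) R' Rp hR'
    (le_sup_right.trans hRp)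
  set H := (Rp : Subgroup Mg).map Mg.subtype with hH
  have hcmU : (cm : G) ∈ E.Ug :=
    hMτ _ cm.2 (mem_centralizer_iff.1 hcm E.τ (mem_zpowers _)).symm
  have hUH : E.Ug ≤ H := by
    intro x hx
    have h1 : (cm : G)⁻¹ * x * cm ∈ (R' : Subgroup Mg).map Mg.subtype :=
      hUR' (mul_mem (mul_mem (inv_mem hcmU) hx) hcmU)
    obtain ⟨m, hm, hme⟩ := h1
    refine ⟨cm * m * cm⁻¹, ?_, ?_⟩
    · rw [← hcmR]
      show _ ∈ MulAut.conj cm • (R' : Subgroup Mg)
      exact smul_mem_pointwise_smul m (MulAut.conj cm) _ hm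
    · simp only [Subgroup.coe_subtype] at hme
      simp only [Subgroup.coe_subtype, Subgroup.coe_mul, Subgroup.coe_inv, hme]
      group
  have hHle : H ≤ Mg := map_subtype_le _
  obtain ⟨m, hm⟩ := (IsPGroup.iff_card.1 (Rp.2.map Mg.subtype) : ∃ m, Nat.card H = E.D.p ^ m)
  -- the fixed points
  have hHτ : H ⊓ centralizer ((zpowers E.τ : Subgroup G) : Set G) = E.Ug := by
    refine le_antisymm (fun x hx => ?_) (fun x hx => ?_)
    · obtain ⟨h1, h2⟩ := mem_inf.1 hx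
      exact hMτ x (hHle h1) (mem_centralizer_iff.1 h2 E.τ (mem_zpowers _)).symm
    · refine mem_inf.2 ⟨hUH hx, ?_⟩
      rw [Signalizer.SFT.centralizer_zpowers_eq, mem_centralizer_singleton_iff]
      obtain ⟨b, -, rfl⟩ := hx
      exact E.τ_comm (1, b)
  have hHw : H ⊓ centralizer ((zpowers w : Subgroup G) : Set G) = zpowers g := by
    symm
    refine eq_of_le_of_card_ge (zpowers_le.2 (mem_inf.2 ⟨hUH hgU, ?_⟩)) ?_
    · rw [Signalizer.SFT.centralizer_zpowers_eq, mem_centralizer_singleton_iff]; exact hwg.symm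
    set K := H ⊓ centralizer ((zpowers w : Subgroup G) : Set G) with hK
    rw [Nat.card_zpowers, hgp]
    obtain ⟨i, -, hi⟩ := (Nat.dvd_prime_pow E.D.prime_p).1
      (hm ▸ card_dvd_of_le (inf_le_left : K ≤ H) : Nat.card K ∣ E.D.p ^ m)
    have hdvd : Nat.card K ∣ Nat.card (centralizer ({z} : Set G)) := by
      rw [← card_map_of_injective (K := K) (f := (MulAut.conj c⁻¹).toMonoidHom) (MulAut.conj c⁻¹).injective]
      refine card_dvd_of_le ?_
      rintro _ ⟨x, hx, rfl⟩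
      rw [mem_centralizer_singleton_iff]
      have h := hback x (mem_centralizer_iff.1 (mem_inf.1 hx).2 w (mem_zpowers _)).symm
      simpa using h
    have h60 : Nat.card K ∣ 60 := by
      have hco : (Nat.card K).Coprime E.D.h := by
        rw [hi]; exact E.D.p_coprime.1.symm.pow_left i
      rcases fused_card hy hz hz1 hfused with h | ⟨h, -⟩
      · exact (hco.dvd_of_dvd_mul_right (h ▸ hdvd)).trans (by norm_num)
      · exact hco.dvd_of_dvd_mul_right (h ▸ hdvd)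
    rw [hi] at h60 ⊢
    rcases i with - | - | i
    · simpa using E.D.prime_p.one_le
    · simp
    · exfalso
      have h2 := sq_dvd_sixty E.D.prime_p ((pow_dvd_pow _ (by omega)).trans h60)
      rw [h2] at hpodd
      exact absurd hpodd (by decide)
  have hHA : H ⊓ centralizer ((A : Subgroup G) : Set G) = zpowers g := by
    refine le_antisymm (hHw ▸ inf_le_inf_left H (centralizer_le ?_))
      (zpowers_le.2 (mem_inf.2 ⟨hUH hgU, ?_⟩))
    · exact mem_centralizer_iff.2 fun x hx => hcent.1 (hAg hx)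
    · exact fun x hx => (le_sup_left : zpowers w ≤ A) hx
  have hAH : ∀ x ∈ A, ∀ q ∈ H, x * q * x⁻¹ ∈ H := fun x hx q hq =>
    (mem_normalizer_iff.1 (hRp hx) q).1 hq
  have hform := Char.Wielandt.frobenius_formula (zpowers w) (zpowers E.τ) H hinf hUn hfpf hAH
    (S0205.result (hModd.of_dvd_nat (card_dvd_of_le hHle)))
    ((hcopA.coprime_dvd_right (card_dvd_of_le hHle)).symm)
  rw [← hA, hHA, hHτ, hHw, Nat.card_zpowers E.τ, hτord, E.card_Ug, Nat.card_zpowers g, hgp, hm] at hform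
  -- the congruence
  letI : MulAction (zpowers w) H :=
    { smul := fun x q => ⟨(x : G) * q * (x : G)⁻¹, hAH x (mem_sup_left x.2) q q.2⟩
      one_smul := fun q => Subtype.ext (by show (1 : G) * q * (1 : G)⁻¹ = q; simp)
      mul_smul := fun x x' q => Subtype.ext (by
        show (x : G) * x' * q * ((x : G) * x')⁻¹ = x * (x' * q * (x' : G)⁻¹) * (x : G)⁻¹
        group) }
  have hfix : Nat.card (MulAction.fixedPoints (zpowers w) H) = E.D.p := by
    rw [← hgp, ← Nat.card_zpowers, ← hHw]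
    refine Nat.card_congr
      { toFun := fun q => ⟨(q.1 : G), mem_inf.2 ⟨q.1.2, mem_centralizer_iff.2 fun x hx => ?_⟩⟩
        invFun := fun q => ⟨⟨q.1, (mem_inf.1 q.2).1⟩, fun x => Subtype.ext ?_⟩
        left_inv := fun q => rfl
        right_inv := fun q => rfl }
    · have h := congrArg Subtype.val (q.2 ⟨x, hx⟩)
      exact mul_inv_eq_iff_eq_mul.1 h
    · show (x : G) * q.1 * (x : G)⁻¹ = q.1
      rw [mem_centralizer_iff.1 (mem_inf.1 q.2).2 x x.2, mul_inv_cancel_right]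
  have hcong := (IsPGroup.of_card (n := 1) (G := zpowers w) (by
    rw [Nat.card_zpowers, hwl, pow_one]) : IsPGroup l (zpowers w)).card_modEq_card_fixedPoints H
  rw [hfix, hm] at hcong
  have h1 : ((E.D.p : ℕ) : ZMod l) ^ m = E.D.p := by
    have h := (ZMod.natCast_eq_natCast_iff _ _ _).2 hcong
    push_cast at h
    exact h
  have hQ2 : ((E.D.p : ℕ) : ZMod l) ^ (2 * E.D.n) = 1 := by
    have h2 : (l : ℤ) ∣ Q + 1 := Int.natCast_dvd.2 (E.D.h_eq ▸ hlh.mul_left 4)
    have h3 : (Q : ZMod l) = -1 := by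
      rw [eq_neg_iff_add_eq_zero, ← Int.cast_one, ← Int.cast_add,
        ZMod.intCast_zmod_eq_zero_iff_dvd]
      exact h2
    have h4 : (((Q.natAbs : ℕ) : ℤ) : ZMod l) ^ 2 = 1 := by
      rw [← Int.cast_pow, Int.natAbs_sq, Int.cast_pow, h3, neg_one_sq]
    rw [Int.cast_natCast, E.D.abs_Q, Nat.cast_pow, ← pow_mul, mul_comm] at h4
    exact h4
  have hP0 : ((E.D.p : ℕ) : ZMod l) ≠ 0 := by
    rw [Ne, ZMod.natCast_eq_zero_iff]
    exact fun h => hlp ((Nat.prime_dvd_prime_iff_eq hl E.D.prime_p).1 h)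
  have hform' : ((E.D.p : ℕ) : ZMod l) ^ 2 * E.D.p = E.D.p := by
    have h := congrArg (Nat.cast (R := ZMod l)) hform
    push_cast at h
    rw [h1, ← pow_mul, mul_comm E.D.n 2, hQ2, one_mul] at h
    exact h
  have hp2 : ((E.D.p : ℕ) : ZMod l) ^ 2 = 1 := mul_right_cancel₀ hP0 (hform'.trans (one_mul _).symm)
  rcases hp35 with hp | hp <;> rw [hp] at hp2
  · have h8 : ((8 : ℕ) : ZMod l) = 0 := by push_cast at hp2 ⊢; linear_combination hp2
    have h8' : l ∣ 2 ^ 3 := (ZMod.natCast_eq_zero_iff _ _).1 h8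
    have := (Nat.prime_dvd_prime_iff_eq hl Nat.prime_two).1 (hl.dvd_of_dvd_pow h8')
    omega
  · have h8 : ((24 : ℕ) : ZMod l) = 0 := by push_cast at hp2 ⊢; linear_combination hp2
    have h8' : l ∣ 2 ^ 3 * 3 := (ZMod.natCast_eq_zero_iff _ _).1 h8
    rcases hl.dvd_mul.1 h8' with h | h
    · have := (Nat.prime_dvd_prime_iff_eq hl Nat.prime_two).1 (hl.dvd_of_dvd_pow h)
      omega
    · have := (Nat.prime_dvd_prime_iff_eq hl Nat.prime_three).1 h
      omega

/-- The form used: a commuting involution inverting a torus element. -/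
theorem no_cent_invol [IsSimpleGroup G] (hy : E.IsY y) (hp35 : E.D.p = 3 ∨ E.D.p = 5) {u g z : G}
    (hu2 : u * u = 1) (hu1 : u ≠ 1) (hgp : orderOf g = E.D.p) (hgu : g * u = u * g)
    (hz : z ∈ E.Zg) (hz1 : z ≠ 1) (hgz : g * z = z * g) (hinv : u * z * u⁻¹ = z⁻¹) : False := by
  classical
  haveI := E.finite_L
  obtain ⟨l, hl, hdvd⟩ := Nat.exists_prime_and_dvd (n := orderOf z) (by rwa [Ne, orderOf_eq_one_iff])
  obtain ⟨r, hrl, hrz⟩ : ∃ r : G, orderOf r = l ∧ r ∈ zpowers z :=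
    ⟨z ^ (orderOf z / l), orderOf_pow_orderOf_div (orderOf_pos z).ne' hdvd, pow_mem (mem_zpowers z) _⟩
  obtain ⟨j, hj⟩ := mem_zpowers_iff.1 hrz
  obtain ⟨d, hd⟩ := isConj_iff.1 (E.conj_t hu2 hu1)
  have hcomm : d⁻¹ * g * d * E.τ = E.τ * (d⁻¹ * g * d) := by
    calc d⁻¹ * g * d * E.τ = d⁻¹ * (g * (d * E.τ * d⁻¹)) * d := by group
      _ = d⁻¹ * (d * E.τ * d⁻¹ * g) * d := by rw [hd, hgu]
      _ = E.τ * (d⁻¹ * g * d) := by group
  obtain ⟨⟨e, b⟩, heb⟩ := E.cent _ hcomm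
  have hp2 : E.D.p ≠ 2 := by rcases hp35 with h | h <;> rw [h] <;> norm_num
  have hord : orderOf (e, b) = E.D.p := by
    rw [← orderOf_injective E.ι E.inj, heb]
    have h := MulEquiv.orderOf_eq (MulAut.conj d⁻¹) g
    rw [MulAut.conj_apply, inv_inv] at h
    rw [h, hgp]
  have he : e = 1 := by
    have h1 := pow_orderOf_eq_one (e, b)
    rw [hord, Prod.pow_mk] at h1
    obtain ⟨i, hi⟩ := E.D.prime_p.odd_of_ne_two hp2
    have h2 : e ^ E.D.p = 1 := congrArg Prod.fst h1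
    rwa [hi, pow_succ, pow_mul, pow_two, C2_sq, one_pow, one_mul] at h2
  subst he
  have hb : orderOf b = E.D.p := by
    rw [← hord, Prod.orderOf_mk, orderOf_one, Nat.lcm_one_left]
  obtain ⟨gl, hgl⟩ := E.D.conj_U hp2 hb
  set c := E.ι (1, gl) * d⁻¹ with hc
  have hcg : c * g * c⁻¹ = E.ι (1, gl * b * gl⁻¹) := by
    calc c * g * c⁻¹ = E.ι (1, gl) * (d⁻¹ * g * d) * (E.ι (1, gl))⁻¹ := by rw [hc]; group
      _ = _ := by
        rw [← heb, ← map_inv, ← map_mul, ← map_mul]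
        exact congrArg E.ι (Prod.ext (by simp) rfl)
  have hcu : c * u * c⁻¹ = E.τ := by
    calc c * u * c⁻¹ = E.ι (1, gl) * (d⁻¹ * u * d) * (E.ι (1, gl))⁻¹ := by rw [hc]; group
      _ = E.ι (1, gl) * E.τ * (E.ι (1, gl))⁻¹ := by rw [← hd]; group
      _ = E.τ := by rw [E.τ_comm, mul_inv_cancel_right]
  refine E.no_cent hy hp35 hgl (fun h => ?_) hl (hj ▸ zpow_mem hz j) hrl (c := c) rfl ?_ ?_
  · rw [conj_eq_one_iff] at h
    rw [h, orderOf_one] at hb
    exact E.D.prime_p.ne_one hb.symm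
  · rw [← hcg]
    have hgr : g * r = r * g := hj ▸ (Commute.zpow_right hgz j).eq
    calc c * r * c⁻¹ * (c * g * c⁻¹) = c * (r * g) * c⁻¹ := by group
      _ = c * (g * r) * c⁻¹ := by rw [hgr]
      _ = c * g * c⁻¹ * (c * r * c⁻¹) := by group
  · have hur : u * r * u⁻¹ = r⁻¹ := by rw [← hj, ← conj_zpow, hinv, _root_.inv_zpow]
    calc E.τ * (c * r * c⁻¹) * E.τ⁻¹ = c * (u * r * u⁻¹) * c⁻¹ := by rw [← hcu]; group
      _ = (c * r * c⁻¹)⁻¹ := by rw [hur]; group

/-- If `y` centralises a torus element then `p ≠ 3`. -/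
theorem p_ne_three [IsSimpleGroup G] (hy : E.IsY y) {u : G} (hu2 : u * u = 1) (hu1 : u ≠ 1)
    (hinv : ∀ z ∈ E.Zg, u * z * u⁻¹ = z⁻¹) (hyu : y * u = u * y) {z : G} (hz : z ∈ E.Zg) (hz1 : z ≠ 1)
    (hyz : y * z = z * y) : E.D.p ≠ 3 := fun h3 => by
  haveI : Fact (Nat.Prime 3) := ⟨Nat.prime_three⟩
  exact no_cent_invol hy (Or.inl h3) hu2 hu1 (h3.symm ▸ orderOf_eq_prime hy.cube (fun h => hy.not_mem_T
    (h ▸ one_mem _))) hyu hz hz1 hyz (hinv z hz)

set_option synthInstance.maxSize 4000 in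
theorem s5_fix : ∀ y : Equiv.Perm (Fin 5), y ^ 3 = 1 → y ≠ 1 →
    ∀ p : Equiv.Perm (Fin 5), p * y = y * p → p ≠ 1 →
    ∀ a : Equiv.Perm (Fin 5), a * a = 1 → a ≠ 1 → Equiv.Perm.sign a = 1 →
      y * a * y⁻¹ * a = a * (y * a * y⁻¹) → y * a * y⁻¹ ≠ a → p * a ≠ a * p := by
  decide +kernel

theorem a5_two_invol : ∀ x : alternatingGroup (Fin 5), ∃ a : alternatingGroup (Fin 5), a * a = 1 ∧
    ∃ b : alternatingGroup (Fin 5), b * b = 1 ∧ x = a * b := by
  decide +kernel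

/-- If some centraliser is `Zg × A₅` then `p ≠ 5`. -/
theorem p_ne_five [IsSimpleGroup G] (hy : E.IsY y) {u : G} (hu2 : u * u = 1) (hu1 : u ≠ 1)
    (huτ : u * E.τ = E.τ * u) (hinv : ∀ z ∈ E.Zg, u * z * u⁻¹ = z⁻¹) (hyu : y * u = u * y) {z : G}
    (hz : z ∈ E.Zg) (hz1 : z ≠ 1) (hyz : y * z = z * y) (hA : E.IsA5Case z) : E.D.p ≠ 5 := by
  classical
  intro h5
  obtain ⟨X, ⟨e⟩, hEX, hXZ, hinf, hiff⟩ := hA
  have hu : u⁻¹ = u := inv_eq_of_mul_eq_one_right hu2
  have hinvol : ∀ x ∈ X, x * x = 1 → u * x * u⁻¹ ∈ X := by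
    intro x hx hx2
    have hxz : x * z⁻¹ = z⁻¹ * x := hXZ x hx _ (inv_mem hz)
    have hc : u * x * u⁻¹ * z = z * (u * x * u⁻¹) := by
      have hzu : z = u * z⁻¹ * u⁻¹ := by rw [hinv _ (inv_mem hz), inv_inv]
      calc u * x * u⁻¹ * z = u * x * u⁻¹ * (u * z⁻¹ * u⁻¹) := by rw [← hzu]
        _ = u * (x * z⁻¹) * u⁻¹ := by group
        _ = u * (z⁻¹ * x) * u⁻¹ := by rw [hxz]
        _ = u * z⁻¹ * u⁻¹ * (u * x * u⁻¹) := by group
        _ = z * (u * x * u⁻¹) := by rw [← hzu]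
    obtain ⟨v, hv, w, hw, he⟩ := (hiff _).1 hc
    have h2 : v * w * (v * w) = 1 := by
      rw [← he, show u * x * u⁻¹ * (u * x * u⁻¹) = u * (x * x) * u⁻¹ by group, hx2]; group
    have hvw : Commute v w := hXZ v hv w hw
    have hw2 : v * v = (w * w)⁻¹ := eq_inv_of_mul_eq_one_left (by
      rw [show v * v * (w * w) = v * (v * w) * w by group, hvw.eq]
      calc v * (w * v) * w = v * w * (v * w) := by group
        _ = 1 := h2)
    have hw0 : (w * w)⁻¹ = 1 := mem_bot.1 (hinf ▸ mem_inf.2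
      ⟨hw2 ▸ mul_mem hv hv, inv_mem (mul_mem hw hw)⟩)
    rw [he, E.eq_one_of_sq hw (k := 1) (by rw [pow_one, pow_two]; exact inv_eq_one.1 hw0), mul_one]
    exact hv
  have hX : ∀ x ∈ X, u * x * u⁻¹ ∈ X := by
    intro x hx
    obtain ⟨a, ha, b, hb, hab⟩ := a5_two_invol (e ⟨x, hx⟩)
    have hsq : ∀ q, q * q = 1 → ((e.symm q : X) : G) * (e.symm q : X) = 1 := fun q hq => by
      rw [← Subgroup.coe_mul, ← map_mul, hq, map_one]; rfl
    have he : x = ((e.symm a : X) : G) * (e.symm b : X) := by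
      rw [← Subgroup.coe_mul, ← map_mul, ← hab, e.symm_apply_apply]
    rw [he, show u * (((e.symm a : X) : G) * (e.symm b : X)) * u⁻¹ =
      (u * (e.symm a : X) * u⁻¹) * (u * (e.symm b : X) * u⁻¹) by group]
    exact mul_mem (hinvol _ (e.symm a).2 (hsq a ha)) (hinvol _ (e.symm b).2 (hsq b hb))
  -- `y` lies in `X`
  have hyX : y ∈ X := by
    obtain ⟨v, hv, w, hw, he⟩ := (hiff y).1 hyz
    have h3 : v ^ 3 * w ^ 3 = 1 := by
      rw [← (show Commute v w from hXZ v hv w hw).mul_pow, ← he, hy.cube]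
    have hw3 : w ^ 3 = 1 := mem_bot.1 (hinf ▸ mem_inf.2 ⟨by
      rw [← inv_eq_of_mul_eq_one_right h3]; exact inv_mem (pow_mem hv 3), pow_mem hw 3⟩)
    by_contra hnot
    have hw1 : w ≠ 1 := fun h => hnot (by rw [he, h, mul_one]; exact hv)
    haveI : Fact (Nat.Prime 3) := ⟨Nat.prime_three⟩
    have h3h : 3 ∣ E.D.h := by
      rw [← orderOf_eq_prime hw3 hw1, ← E.card_Zg]; exact orderOf_dvd_natCard _ hw
    exact absurd (E.D.prime_dvd_h (Or.inr h5) Nat.prime_three h3h) (by norm_num)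
  let θ0 : X → X := fun x => ⟨u * (x : G) * u⁻¹, hX x x.2⟩
  have hθ0 : ∀ x, θ0 (θ0 x) = x := fun x => Subtype.ext (by
    show u * (u * (x : G) * u⁻¹) * u⁻¹ = x
    calc u * (u * (x : G) * u⁻¹) * u⁻¹ = (u * u) * x * (u * u)⁻¹ := by group
      _ = x := by rw [hu2]; group)
  let θ : X ≃* X :=
    { toFun := θ0
      invFun := θ0
      left_inv := hθ0
      right_inv := hθ0
      map_mul' := fun x x' => Subtype.ext (by
        show u * ((x : G) * x') * u⁻¹ = u * x * u⁻¹ * (u * x' * u⁻¹)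
        group) }
  obtain ⟨π, hπ⟩ := (AutAlt.bijective_conjNormal (n := 5) (by norm_num) (by norm_num)).2
    (e.symm.trans (θ.trans e))
  have hcommπ : ∀ x : X, u * (x : G) = x * u → π * (e x : Equiv.Perm (Fin 5)) = e x * π := by
    intro x hx
    have h := congrArg Subtype.val (DFunLike.congr_fun hπ (e x))
    rw [MulAut.conjNormal_apply] at h
    have hθx : θ x = x := Subtype.ext (show u * (x : G) * u⁻¹ = x by rw [hx, mul_inv_cancel_right])
    simp only [MulEquiv.trans_apply, e.symm_apply_apply, hθx] at h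
    exact mul_inv_eq_iff_eq_mul.1 h
  let τX : X := ⟨E.τ, hEX E.τ_mem_E4⟩
  let yX : X := ⟨y, hyX⟩
  have hinj : ∀ x : X, x ≠ 1 → (e x : Equiv.Perm (Fin 5)) ≠ 1 := fun x hx h =>
    hx (e.injective (Subtype.ext (h.trans (by rw [map_one]; rfl))))
  have hπ1 : π = 1 := by
    by_contra hπ1
    refine s5_fix (e yX : Equiv.Perm (Fin 5)) ?_ (hinj _ fun h => hy.not_mem_T ?_) π
      (hcommπ yX hyu.symm) hπ1 (e τX : Equiv.Perm (Fin 5)) ?_ (hinj _ fun h =>
        E.τ_ne (congrArg Subtype.val h)) (Equiv.Perm.mem_alternatingGroup.1 (e τX).2) ?_ ?_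
      (hcommπ τX huτ)
    · rw [← Subgroup.coe_pow, ← map_pow, show yX ^ 3 = 1 from Subtype.ext hy.cube, map_one]; rfl
    · rw [show y = 1 from congrArg Subtype.val h]; exact one_mem _
    · rw [← Subgroup.coe_mul, ← map_mul, show τX * τX = 1 from Subtype.ext E.τ_sq, map_one]; rfl
    · simp only [← Subgroup.coe_inv, ← Subgroup.coe_mul, ← map_inv, ← map_mul]
      refine congrArg (fun q : X => ((e q : alternatingGroup (Fin 5)) : Equiv.Perm (Fin 5))) ?_
      refine Subtype.ext ?_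
      show y * E.τ * y⁻¹ * E.τ = E.τ * (y * E.τ * y⁻¹)
      rw [hy.tau]
      exact E.T_comm (E.E4_le_T E.σ_mem_E4) (E.E4_le_T E.τ_mem_E4)
    · simp only [← Subgroup.coe_inv, ← Subgroup.coe_mul, ← map_inv, ← map_mul]
      refine fun h => E.τ_ne_σ ?_
      have h' := congrArg Subtype.val (e.injective (Subtype.ext h))
      simp only [Subgroup.coe_mul, Subgroup.coe_inv, yX, τX] at h'
      rw [hy.tau] at h'
      exact h'.symm
  have hfix : ∀ x : X, u * (x : G) * u⁻¹ = x := by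
    intro x
    have h := DFunLike.congr_fun hπ (e x)
    rw [hπ1, map_one, MulAut.one_apply] at h
    simp only [MulEquiv.trans_apply, e.symm_apply_apply] at h
    exact (congrArg Subtype.val (e.injective h.symm) :)
  haveI : Fact (Nat.Prime 5) := ⟨Nat.prime_five⟩
  obtain ⟨g, hg⟩ := exists_prime_orderOf_dvd_card' (G := X) 5 (by
    rw [Nat.card_congr e.toEquiv, card_a5]; norm_num)
  refine no_cent_invol hy (Or.inr h5) hu2 hu1 (g := (g : G)) (z := z) ?_ ?_ hz hz1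
    (hXZ g g.2 z hz) (hinv z hz)
  · rw [Subgroup.orderOf_coe, hg, h5]
  · exact (mul_inv_eq_iff_eq_mul.1 (hfix g)).symm

end Setup

end Cfsg.Agent.JanThom
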